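import Cfsg.Agent.OddHalf.Orth.Face
import Cfsg.Agent.AutOrth.Final
import Cfsg.Agent.TitsThree.KSideO
import Cfsg.Prelude.Def_LieTypeChar

/-!
# ODD D7, `K = PΩ^-(V)` or `PΩ^+(V)`, characteristic 2: the situation `Face.Sit`

* `center_E` : `Z(E Q) = 1` in characteristic 2; `equivE` : `↥(E Q) ≃* POmega F Q`;
* `exists_sem` : every automorphism of `↥(E Q)` comes from a semilinear isometry;
* `sit_of` : `Face.Sit` from `K ⊴ C_G(t)`, `C_G(K) = ⟨t⟩`, `t ∉ K`, `K ≃* POmega F Q`; `sit_minus`, `sit_plus`.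
-/

set_option autoImplicit false

namespace Cfsg.Agent.OddHalf.Orth.SitOf

open QuadraticMap Cfsg.Agent.LieClassical.OrthCore Cfsg.Agent.LieClassical.OrthTrans
  Cfsg.Agent.LieClassical.OrthSimple Cfsg.Agent.LieClassical
  Cfsg.Agent.ClassicalGeometry.OrthAutBasic Cfsg.Agent.ClassicalGeometry.OrthAutRoot
  Cfsg.Agent.ClassicalGeometry.OrthSemi Cfsg.Agent.TitsThree.KSideO
  Cfsg.Agent.OddHalf.Orth Cfsg.Agent.OddHalf.Orth.Face

section General

variable {F V : Type*} [Field F] [AddCommGroup V] [Module F V] {Q : QuadraticForm F V}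

theorem exists_sqrt [Finite F] [CharP F 2] (c : F) : ∃ μ : F, μ * μ = c := by
  have hinj : Function.Injective (fun x : F => x * x) := by
    intro x y h
    simp only at h
    have h1 : (x - y) * (x - y) = 0 := by
      have h2 : (2 : F) = 0 := CharTwo.two_eq_zero
      linear_combination h - x * y * h2 + y * y * h2
    exact sub_eq_zero.1 (mul_self_eq_zero.1 h1)
  exact (Finite.injective_iff_surjective.1 hinj) c

theorem eq_top_of_tE (H : Subgroup ↥(E Q)) (h : ∀ u w, Q u = 0 → polar Q u w = 0 → tE Q u w ∈ H) : H = ⊤ := by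
  have h1 : E Q ≤ H.map (E Q).subtype := by
    refine (Subgroup.closure_le (H.map (E Q).subtype)).2 ?_
    rintro _ ⟨u, w, hu, hw, rfl⟩
    exact ⟨tE Q u w, h u w hu hw, T_eq hu hw⟩
  rw [eq_top_iff]
  intro x _
  obtain ⟨y, hy, e⟩ := h1 x.2
  have : y = x := Subtype.ext e
  rwa [← this]

/-- The centre of `E Q` is trivial in characteristic 2. -/
theorem center_E [CharP F 2] (hG : Good Q) {g : ↥(E Q)} (hg : g ∈ Subgroup.center ↥(E Q)) : g = 1 := by
  obtain ⟨c, hc⟩ := scalar_of_center hG hg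
  obtain ⟨x, y, h⟩ := hG.exists_hyp
  have h1 : polar Q (g.1 x) (g.1 y) = polar Q x y := polar_map (E_le_O g.2) x y
  rw [hc, hc, polar_smul_left, polar_smul_right, h.pair] at h1
  have h2 : (c - 1) * (c - 1) = 0 := by
    have h3 : (2 : F) = 0 := CharTwo.two_eq_zero
    simp only [smul_eq_mul, mul_one] at h1
    linear_combination h1 + (1 - c) * h3
  have h4 : c = 1 := sub_eq_zero.1 (mul_self_eq_zero.1 h2)
  apply Subtype.ext
  ext1 v
  rw [hc, h4, one_smul]
  rfl

/-- Every automorphism of `E Q` comes from a semilinear isometry. -/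
theorem exists_sem [Finite F] [CharP F 2] (hG : Good Q) (hs : Function.Surjective (Psi Q)) (α : MulAut ↥(E Q)) :
    ∃ (M : V ≃+ V) (σ : F ≃+* F), Sem Q M σ ∧
      ∀ u x, Q u = 0 → polar Q u x = 0 → α (tE Q u x) = tE Q (M u) (M x) := by
  obtain ⟨M0, hM0⟩ := hs (Cfsg.Agent.ClassicalGeometry.SympAutSemi.quotAut α)
  have hα : α = conjE Q M0 := by
    have h1 : Cfsg.Agent.ClassicalGeometry.SympAutSemi.quotAut (α * (conjE Q M0)⁻¹) = 1 := by
      rw [map_mul, map_inv, ← hM0]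
      show Psi Q M0 * (Psi Q M0)⁻¹ = 1
      rw [mul_inv_cancel]
    exact mul_inv_eq_one.1 (eq_one_of_quotAut (commutator_E hG) _ h1)
  obtain ⟨σ, c, hM⟩ := M0.2
  obtain ⟨μ, hμ⟩ := exists_sqrt (F := F) c⁻¹
  have hμ0 : μ ≠ 0 := by
    rintro rfl
    rw [mul_zero] at hμ
    exact inv_ne_zero hM.ne hμ.symm
  let M : V ≃+ V :=
    { toFun := fun v => μ • M0.1 v
      invFun := fun v => M0.1⁻¹ (μ⁻¹ • v)
      left_inv := fun v => by
        show M0.1⁻¹ (μ⁻¹ • μ • M0.1 v) = v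
        rw [smul_smul, inv_mul_cancel₀ hμ0, one_smul, inv_apply]
      right_inv := fun v => by
        show μ • M0.1 (M0.1⁻¹ (μ⁻¹ • v)) = v
        rw [apply_inv, smul_smul, mul_inv_cancel₀ hμ0, one_smul]
      map_add' := fun v w => by
        show μ • M0.1 (v + w) = μ • M0.1 v + μ • M0.1 w
        rw [hM.add, smul_add] }
  have hMa : ∀ v, M v = μ • M0.1 v := fun v => rfl
  refine ⟨M, σ, ⟨fun a v => ?_, fun v => ?_⟩, fun u x hu hx => ?_⟩
  · rw [hMa, hMa, hM.smul, smul_comm]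
  · rw [hMa, QuadraticMap.map_smul, hM.form, hμ, smul_eq_mul, inv_mul_cancel_left₀ hM.ne]
  · obtain ⟨hu', hx', e⟩ := conjLin_siegel M0 hM hu hx
    have h3 : polar Q (M0.1 u) (M0.1 x) = 0 := by
      rw [hM.polar, hx, map_zero, mul_zero]
    have h4 : polar Q (M0.1 u) (μ • M0.1 x) = 0 := by rw [polar_smul_right, h3, smul_zero]
    rw [hMa, hMa, tE_smul_left μ hu' h4, smul_smul, hμ, hα]
    apply Subtype.ext
    rw [coe_conjE, coe_tE, coe_tE, T_eq hu hx, e, T_eq hu' hx']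

end General

section Model

variable {ι : Type} [Fintype ι] [DecidableEq ι] {F : Type*} [Field F] [Finite F] [CharP F 2]
  {Q : QuadraticForm F (ι → F)}

/-- `E Q` is `POmega F Q` in characteristic 2. -/
noncomputable def equivE (hG : Good Q) : ↥(E Q) ≃* Cfsg.POmega F ⇑Q :=
  MulEquiv.ofBijective (toPOmega hG) ⟨(injective_iff_map_eq_one _).2 fun _ h =>
    center_E hG (center_of_toPOmega hG h), toPOmega_surjective hG⟩

variable {G : Type*} [Group G] {t : G} {K : Subgroup G}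

/-- The embedding. -/
noncomputable def emb (hG : Good Q) (e : ↥K ≃* Cfsg.POmega F ⇑Q) : ↥(E Q) →* G :=
  K.subtype.comp ((equivE hG).trans e.symm).toMonoidHom

omit [Finite F] in
theorem emb_mem (hG : Good Q) (e : ↥K ≃* Cfsg.POmega F ⇑Q) (k : ↥(E Q)) : emb hG e k ∈ K :=
  (((equivE hG).trans e.symm) k).2

omit [Finite F] in
theorem emb_injective (hG : Good Q) (e : ↥K ≃* Cfsg.POmega F ⇑Q) : Function.Injective (emb hG e) :=
  K.subtype_injective.comp ((equivE hG).trans e.symm).injective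

omit [Finite F] in
theorem exists_emb (hG : Good Q) (e : ↥K ≃* Cfsg.POmega F ⇑Q) {k : G} (hk : k ∈ K) : ∃ x, emb hG e x = k := by
  obtain ⟨x, hx⟩ := ((equivE hG).trans e.symm).surjective ⟨k, hk⟩
  exact ⟨x, congrArg Subtype.val hx⟩

omit [Finite F] in
theorem range_emb (hG : Good Q) (e : ↥K ≃* Cfsg.POmega F ⇑Q) : (emb hG e).range = K := by
  ext k
  constructor
  · rintro ⟨x, rfl⟩
    exact emb_mem hG e x
  · intro hk
    exact exists_emb hG e hk

/-- **The situation `Sit`.** -/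
theorem sit_of (hG : Good Q) (hs : Function.Surjective (Psi Q)) (e : ↥K ≃* Cfsg.POmega F ⇑Q) (htt : t * t = 1)
    (htK : t ∉ K) (hK : ∀ k ∈ K, t * k = k * t) (hn : ∀ g, g * t = t * g → ∀ k ∈ K, g * k * g⁻¹ ∈ K)
    (hc : ∀ g, g * t = t * g → (∀ k ∈ K, g * k = k * g) → g = 1 ∨ g = t) : Sit Q t (emb hG e) where
  inj := emb_injective hG e
  tt := htt
  tj k := hK _ (emb_mem hG e k)
  tK k h := htK (h ▸ emb_mem hG e k)
  act g hg := by
    have hg' : g⁻¹ * t = t * g⁻¹ := by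
      rw [inv_mul_eq_iff_eq_mul, ← mul_assoc, hg, mul_inv_cancel_right]
    let β : ↥K ≃* ↥K :=
      { toFun := fun k => ⟨g * k * g⁻¹, hn g hg k k.2⟩
        invFun := fun k => ⟨g⁻¹ * k * g, by simpa using hn g⁻¹ hg' k k.2⟩
        left_inv := fun k => Subtype.ext (by show g⁻¹ * (g * k * g⁻¹) * g = k; group)
        right_inv := fun k => Subtype.ext (by show g * (g⁻¹ * k * g) * g⁻¹ = k; group)
        map_mul' := fun k l => Subtype.ext (by show g * (k * l) * g⁻¹ = g * k * g⁻¹ * (g * l * g⁻¹); group) }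
    let α : MulAut ↥(E Q) := (((equivE hG).trans e.symm).trans β).trans ((equivE hG).trans e.symm).symm
    have hα : ∀ x, emb hG e (α x) = g * emb hG e x * g⁻¹ := by
      intro x
      show ((((equivE hG).trans e.symm) (((equivE hG).trans e.symm).symm (β (((equivE hG).trans e.symm) x))) : ↥K) : G) = _
      rw [MulEquiv.apply_symm_apply]
      rfl
    obtain ⟨M, σ, h1, h2⟩ := exists_sem hG hs α
    exact ⟨M, σ, h1, fun u x hu hx => by rw [← hα, h2 u x hu hx]⟩
  ker g hg h := by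
    refine hc g hg fun k hk => ?_
    obtain ⟨x, rfl⟩ := exists_emb hG e hk
    have h1 : (Subgroup.centralizer ({g} : Set G)).comap (emb hG e) = ⊤ := eq_top_of_tE _ fun u w hu hw =>
      Subgroup.mem_comap.2 (Subgroup.mem_centralizer_iff.2 fun y hy => by
        rw [Set.mem_singleton_iff] at hy
        subst hy
        exact h u w hu hw)
    have h2 : x ∈ (Subgroup.centralizer ({g} : Set G)).comap (emb hG e) := by rw [h1]; trivial
    exact Subgroup.mem_centralizer_iff.1 (Subgroup.mem_comap.1 h2) g (Set.mem_singleton g)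

end Model

section Minus

open Cfsg.Agent.LieClassical.OrthForms

variable {F : Type*} [Field F] [Finite F] {m : ℕ} {a b : F}

theorem good_minus (hm : 2 ≤ m) (hab : ∀ z₁ z₂ : F, z₁ ^ 2 + a * z₁ * z₂ + b * z₂ ^ 2 = 0 → z₁ = 0 ∧ z₂ = 0) :
    Good (minusForm m F a b) := by
  apply OrthFinite.good_of_finite (nondeg_minusForm m F a b hab)
  rw [Module.finrank_fintype_fun_eq_card, Fintype.card_sum, Fintype.card_sum, Fintype.card_fin,
    Fintype.card_fin]
  omega

theorem good_plus (hm : 3 ≤ m) : Good (plusForm m F) := by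
  apply OrthFinite.good_of_finite (nondeg_plusForm m F)
  rw [Module.finrank_fintype_fun_eq_card, Fintype.card_sum, Fintype.card_fin]
  omega

variable [CharP F 2] {G : Type*} [Group G] {t : G} {K : Subgroup G}

/-- **`Sit` for `PΩ^-_{2m+2}(q)`, `m ≥ 3`, `q` even.** -/
theorem sit_minus (hm : 3 ≤ m) (hab : ∀ z₁ z₂ : F, z₁ ^ 2 + a * z₁ * z₂ + b * z₂ ^ 2 = 0 → z₁ = 0 ∧ z₂ = 0)
    (e : ↥K ≃* Cfsg.POmega F (Cfsg.quadFormMinus m F a b)) (htt : t * t = 1)
    (htK : t ∉ K) (hK : ∀ k ∈ K, t * k = k * t) (hn : ∀ g, g * t = t * g → ∀ k ∈ K, g * k * g⁻¹ ∈ K)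
    (hc : ∀ g, g * t = t * g → (∀ k ∈ K, g * k = k * g) → g = 1 ∨ g = t) :
    ∃ j : ↥(E (minusForm m F a b)) →* G, j.range = K ∧ Sit (minusForm m F a b) t j := by
  rw [← coe_minusForm] at e
  exact ⟨_, range_emb (good_minus (by omega) hab) e,
    sit_of (good_minus (by omega) hab) (Cfsg.Agent.AutOrth.Final.surjective_minus hm hab) e htt htK hK hn hc⟩

/-- **`Sit` for `PΩ^+_{2m}(q)`, `m ≥ 5`, `q` even.** -/
theorem sit_plus (hm : 5 ≤ m)
    (e : ↥K ≃* Cfsg.POmega F (Cfsg.quadFormPlus m F)) (htt : t * t = 1)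
    (htK : t ∉ K) (hK : ∀ k ∈ K, t * k = k * t) (hn : ∀ g, g * t = t * g → ∀ k ∈ K, g * k * g⁻¹ ∈ K)
    (hc : ∀ g, g * t = t * g → (∀ k ∈ K, g * k = k * g) → g = 1 ∨ g = t) :
    ∃ j : ↥(E (plusForm m F)) →* G, j.range = K ∧ Sit (plusForm m F) t j := by
  rw [← coe_plusForm] at e
  exact ⟨_, range_emb (good_plus (by omega)) e,
    sit_of (good_plus (by omega)) (Cfsg.Agent.AutOrth.Final.surjective_plus hm) e htt htK hK hn hc⟩

end Minus

end Cfsg.Agent.OddHalf.Orth.SitOf
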