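import Cfsg.Agent.OddHalf.Orth.KBase

/-!
# ODD D7, `K = Ω(V)`: the interface between the `K`-side and the `G`-side

Text: `blueprints/ODD-D7-orth-helper625.md`.

`Ln3`, `Rel` = positions of totally singular lines; `Sem` = semilinear isometries; `KFacts Q` = the facts on
`K = ↥(E Q)` used by the `G`-side; `Sit` = `(G, t, K)` with `C_G(t)/⟨t⟩` acting on `V` by semilinear isometries;
`Dbl` = doubled long root groups `W u v`.
-/

set_option autoImplicit false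

namespace Cfsg.Agent.OddHalf.Orth.Face

open QuadraticMap Cfsg.Agent.LieClassical.OrthCore Cfsg.Agent.LieClassical.OrthTrans
  Cfsg.Agent.ClassicalGeometry.OrthAutBasic Cfsg.Agent.ClassicalGeometry.OrthAutRoot Cfsg.Agent.OddHalf.Orth

variable {F V : Type*} [Field F] [AddCommGroup V] [Module F V] {Q : QuadraticForm F V}

/-- `u, v, w` span a totally singular plane. -/
structure Ln3 (Q : QuadraticForm F V) (u v w : V) : Prop where
  uv : Ln Q u v
  uw : Ln Q u w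
  perp : polar Q v w = 0
  ind : w ∉ L F u v

/-- The lines `⟨u,v⟩`, `⟨a,b⟩` are disjoint, `u = l ∩ m^⊥`, `a = m ∩ l^⊥`, `(v,b) = 1`. -/
structure Rel (Q : QuadraticForm F V) (u v a b : V) : Prop where
  uv : Ln Q u v
  ab : Ln Q a b
  ua : Ln Q u a
  ub : polar Q u b = 0
  va : polar Q v a = 0
  vb : polar Q v b = 1

/-- Disjoint perpendicular totally singular lines. -/
structure Dis (Q : QuadraticForm F V) (u v a b : V) : Prop where
  uva : Ln3 Q u v a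
  ab : Ln Q a b
  ub : polar Q u b = 0
  vb : polar Q v b = 0
  ind : b ∉ Submodule.span F {u, v, a}

/-- Semilinear isometries. -/
structure Sem (Q : QuadraticForm F V) (M : V ≃+ V) (σ : F ≃+* F) : Prop where
  smul : ∀ (a : F) (v : V), M (a • v) = σ a • M v
  iso : ∀ v, Q (M v) = σ (Q v)

/-- The facts on `K = ↥(E Q)` used by the `G`-side (sections 2 and 3 of the text). -/
structure KFacts (Q : QuadraticForm F V) : Prop where
  nondeg : Nondeg Q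
  sing : ∃ u : V, Q u = 0 ∧ u ≠ 0
  exLn : ∀ {u : V}, Q u = 0 → u ≠ 0 → ∃ v, Ln Q u v
  exLn3 : ∀ {u v : V}, Ln Q u v → ∃ w, Ln3 Q u v w
  ex3 : ∀ {u v w : V}, Ln Q u v → Ln Q u w → polar Q v w ≠ 0 → ∃ s, Ln3 Q u v s ∧ polar Q w s = 0
  /-- the vectors perpendicular to a singular `u` are generated by `⟨u⟩` and singular vectors -/
  ind_perp : ∀ {u : V}, Q u = 0 → u ≠ 0 → ∀ {P : V → Prop}, (∀ c : F, P (c • u)) →
    (∀ x y, polar Q u x = 0 → polar Q u y = 0 → P x → P y → P (x + y)) → (∀ v, Ln Q u v → P v) →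
    ∀ x, polar Q u x = 0 → P x
  /-- `⟨u,v⟩^⊥` is spanned by the singular vectors outside `⟨u,v⟩` -/
  perp2 : ∀ {u v y : V}, Ln Q u v → (∀ w, Ln3 Q u v w → polar Q y w = 0) → ∃ a b : F, y = a • u + b • v
  /-- `⟨u,v,w⟩^⊥` is spanned by singular vectors (`(v,w) ≠ 0`) -/
  perp3 : ∀ {u v w y : V}, Ln Q u v → Ln Q u w → polar Q v w ≠ 0 →
    (∀ s, Ln3 Q u v s → polar Q w s = 0 → polar Q y s = 0) → ∃ a b c : F, y = a • u + b • v + c • w
  /-- torus elements -/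
  scal : ∀ {u u' : V}, Hyp Q u u' → ∀ {κ : F}, κ ≠ 0 → ∃ h : ↥(E Q), (h : V ≃ₗ[F] V) u = κ • u ∧
    (h : V ≃ₗ[F] V) u' = κ⁻¹ • u' ∧ ∀ x, polar Q u x = 0 → polar Q u' x = 0 → (h : V ≃ₗ[F] V) x = x
  /-- `C_{ΓO(V)}(R_u) = R_u` -/
  cent1 : ∀ {u : V} {M : V ≃+ V} {σ : F ≃+* F}, Sem Q M σ → Q u = 0 → u ≠ 0 →
    (∀ x, polar Q u x = 0 → tE Q (M u) (M x) = tE Q u x) → ∃ y, polar Q u y = 0 ∧ ∀ v, M v = T Q u y v
  /-- relation (c): the centraliser of `X_l, X_m` and of elements of `P_l ∩ P_m` is `X_{l+m}` -/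
  cent3 : ∀ {u v a b : V} {M : V ≃+ V} {σ : F ≃+* F}, Sem Q M σ → Rel Q u v a b →
    tE Q (M u) (M v) = tE Q u v → tE Q (M a) (M b) = tE Q a b → tE Q (M u) (M b) = tE Q u b →
    tE Q (M a) (M v) = tE Q a v →
    (∀ x, polar Q u x = 0 → polar Q v x = 0 → polar Q a x = 0 → polar Q b x = 0 →
      tE Q (M u) (M x) = tE Q u x ∧ tE Q (M a) (M x) = tE Q a x) →
    ∃ c : F, ∀ y, M y = T Q u (c • a) y
  /-- relation (b): the centraliser of `P_l ∩ P_m` is `X_l X_m` -/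
  cent4 : ∀ {u v a b : V} {M : V ≃+ V} {σ : F ≃+* F}, Sem Q M σ → Dis Q u v a b →
    (∀ x, polar Q u x = 0 → polar Q a x = 0 → polar Q b x = 0 → tE Q (M u) (M x) = tE Q u x) →
    (∀ x, polar Q v x = 0 → polar Q a x = 0 → polar Q b x = 0 → tE Q (M v) (M x) = tE Q v x) →
    (∀ x, polar Q a x = 0 → polar Q u x = 0 → polar Q v x = 0 → tE Q (M a) (M x) = tE Q a x) →
    (∀ x, polar Q b x = 0 → polar Q u x = 0 → polar Q v x = 0 → tE Q (M b) (M x) = tE Q b x) →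
    ∃ c d : F, ∀ y, M y = T Q u (c • v) (T Q a (d • b) y)
  /-- transitivity on (bases of) totally singular planes -/
  trans3 : ∀ {u v w u' v' w' : V}, Ln3 Q u v w → Ln3 Q u' v' w' → ∃ k : ↥(E Q), (k : V ≃ₗ[F] V) u = u' ∧
    (k : V ≃ₗ[F] V) v = v' ∧ (k : V ≃ₗ[F] V) w = w'

variable {G : Type*} [Group G]

/-- `K = ↥(E Q)` inside `C_G(t)`, which acts on `V` by semilinear isometries, with kernel `⟨t⟩`. -/
structure Sit (Q : QuadraticForm F V) (t : G) (j : ↥(E Q) →* G) : Prop where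
  inj : Function.Injective j
  tt : t * t = 1
  tj : ∀ k, t * j k = j k * t
  tK : ∀ k, j k ≠ t
  act : ∀ g : G, g * t = t * g → ∃ (M : V ≃+ V) (σ : F ≃+* F), Sem Q M σ ∧
    ∀ u x, Q u = 0 → polar Q u x = 0 → g * j (tE Q u x) * g⁻¹ = j (tE Q (M u) (M x))
  ker : ∀ g : G, g * t = t * g → (∀ u x, Q u = 0 → polar Q u x = 0 → g * j (tE Q u x) = j (tE Q u x) * g) →
    g = 1 ∨ g = t

/-- Doubled long root groups: `W u v` for the totally singular lines `⟨u,v⟩`. -/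
structure Dbl (Q : QuadraticForm F V) (t : G) (j : ↥(E Q) →* G) (W : V → V → Subgroup G) : Prop
    extends Sit Q t j where
  swap : ∀ {u v}, Ln Q u v → W u v = W v u
  add : ∀ {u v} (c : F), Ln Q u v → W u (v + c • u) = W u v
  smul : ∀ {u v} {c : F}, Ln Q u v → c ≠ 0 → W u (c • v) = W u v
  X_le : ∀ {u v} (c : F), Ln Q u v → j (tE Q u (c • v)) ∈ W u v
  com : ∀ {u v f g}, Ln Q u v → f ∈ W u v → g ∈ W u v → f * g = g * f
  phi : ∀ {u v w}, Ln Q u v → w ∈ W u v → ∃ c : F, w⁻¹ * (t * w * t) = j (tE Q u (c • v))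
  surj : ∀ {u v} (c : F), Ln Q u v → ∃ w ∈ W u v, w⁻¹ * (t * w * t) = j (tE Q u (c • v))
  fix : ∀ {u v w}, Ln Q u v → w ∈ W u v → w * t = t * w → ∃ c : F, w = j (tE Q u (c • v))
  cent : ∀ {u v w} {k : ↥(E Q)}, Ln Q u v → w ∈ W u v → k * tE Q u v = tE Q u v * k → j k * w = w * j k
  conj : ∀ {u v w} (k : ↥(E Q)), Ln Q u v → w ∈ W u v →
    j k * w * (j k)⁻¹ ∈ W ((k : V ≃ₗ[F] V) u) ((k : V ≃ₗ[F] V) v)
  /-- `q = 2`: `W` is a four-group -/
  sq : (∀ c : F, c = 0 ∨ c = 1) → ∀ {u v w}, Ln Q u v → w ∈ W u v → w * w = 1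

end Cfsg.Agent.OddHalf.Orth.Face
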