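import Mathlib
import Cfsg.Agent.ClassicalGeometry.OrthAutSylow

/-!
# `Ω(V)`, `V` a quadratic space over a finite field of characteristic 2 (ODD D7, K-side)

`K = ↥(E Q)` is the group generated by the Siegel transformations `T Q u w`. `tE Q u w : K`.
`R Q u` = all `T Q u w`; `X Q u v` = all `T Q u (c v)` (long root group of the line `u, v`);
`P0 Q u v` = centralizer of `X Q u v`; `P Q u v` = the subgroup of `P0` generated by the elements of odd order.
-/

set_option autoImplicit false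

namespace Cfsg.Agent.OddHalf.Orth

open QuadraticMap Cfsg.Agent.LieClassical.OrthCore Cfsg.Agent.LieClassical.OrthTrans
  Cfsg.Agent.LieClassical.OrthSimple Cfsg.Agent.ClassicalGeometry.OrthAutBasic
  Cfsg.Agent.ClassicalGeometry.OrthAutRoot Cfsg.Agent.ClassicalGeometry.OrthAutSylow

variable {F V : Type*} [Field F] [AddCommGroup V] [Module F V] {Q : QuadraticForm F V}

/-! ### Characteristic two -/

section two
variable [CharP F 2]

include F in
theorem neg_eq' (v : V) : -v = v := by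
  have h : ((-1 : F)) • v = (1 : F) • v := by rw [CharTwo.neg_eq]
  simpa using h

include F in
theorem add_self' (v : V) : v + v = 0 := by
  have := neg_eq' (F := F) v
  rw [← sub_neg_eq_add, this, sub_self]

include F in
theorem sub_eq' (v w : V) : v - w = v + w := by
  rw [sub_eq_add_neg, neg_eq' (F := F)]

/-- `T` in characteristic 2 -/
theorem T_apply2 {u w : V} (hu : Q u = 0) (hw : polar Q u w = 0) (v : V) :
    T Q u w v = v + polar Q u v • w + (polar Q w v + Q w * polar Q u v) • u := by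
  rw [T_apply hu hw, sub_eq' (F := F), sub_eq' (F := F)]
  module

theorem polar_self2 (v : V) : polar Q v v = 0 := by
  rw [polar_self', CharTwo.two_eq_zero, zero_mul]

end two

/-! ### The elements `tE Q u w` of `K` -/

/-- The Siegel transformation as an element of `K`. -/
noncomputable def tE (Q : QuadraticForm F V) (u w : V) : ↥(E Q) := ⟨T Q u w, T_mem_E u w⟩

theorem coe_tE (u w : V) : ((tE Q u w : ↥(E Q)) : V ≃ₗ[F] V) = T Q u w := rfl

theorem mem_O' (k : ↥(E Q)) : (k : V ≃ₗ[F] V) ∈ O Q := E_le_O k.2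

theorem Q_map (k : ↥(E Q)) (v : V) : Q ((k : V ≃ₗ[F] V) v) = Q v := mem_O.1 (mem_O' k) v

theorem polar_map' (k : ↥(E Q)) (v w : V) :
    polar Q ((k : V ≃ₗ[F] V) v) ((k : V ≃ₗ[F] V) w) = polar Q v w := polar_map (mem_O' k) v w

theorem tE_conj (k : ↥(E Q)) (u w : V) :
    k * tE Q u w * k⁻¹ = tE Q ((k : V ≃ₗ[F] V) u) ((k : V ≃ₗ[F] V) w) :=
  Subtype.ext (T_conj (mem_O' k) u w)

theorem tE_mul {u w w' : V} (hu : Q u = 0) (hw : polar Q u w = 0) (hw' : polar Q u w' = 0) :
    tE Q u w * tE Q u w' = tE Q u (w + w') := Subtype.ext (T_mul hu hw hw')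

theorem tE_zero_right (u : V) : tE Q u 0 = 1 := Subtype.ext (T_zero_right u)

theorem tE_zero_left (w : V) : tE Q 0 w = 1 := Subtype.ext (T_zero_left w)

theorem tE_smul_left {u w : V} (c : F) (hu : Q u = 0) (hw : polar Q u w = 0) :
    tE Q (c • u) w = tE Q u (c • w) := Subtype.ext (T_smul_left c hu hw)

theorem tE_add_smul {u w : V} (hu : Q u = 0) (hw : polar Q u w = 0) (c : F) :
    tE Q u (w + c • u) = tE Q u w := Subtype.ext (T_add_smul hu hw c)

theorem tE_eq_iff (hQ : Nondeg Q) {x w w' : V} (hx : Q x = 0) (hx0 : x ≠ 0)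
    (hw : polar Q x w = 0) (hw' : polar Q x w' = 0) :
    tE Q x w = tE Q x w' ↔ ∃ c : F, w' = w + c • x := by
  rw [← T_eq_T_iff hQ hx hx0 hw hw']
  exact ⟨fun h => congrArg Subtype.val h, fun h => Subtype.ext h⟩

section two
variable [CharP F 2]

theorem tE_swap {u w : V} (hu : Q u = 0) (hw : Q w = 0) (huw : polar Q u w = 0) :
    tE Q u w = tE Q w u := by
  apply Subtype.ext
  rw [coe_tE, coe_tE, T_swap hu hw huw, neg_eq' (F := F)]

theorem tE_mul_self {u w : V} (hu : Q u = 0) (hw : polar Q u w = 0) :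
    tE Q u w * tE Q u w = 1 := by
  rw [tE_mul hu hw hw, add_self' (F := F), tE_zero_right]

theorem tE_inv {u w : V} (hu : Q u = 0) (hw : polar Q u w = 0) :
    (tE Q u w)⁻¹ = tE Q u w := inv_eq_of_mul_eq_one_left (tE_mul_self hu hw)

end two

theorem tE_comm {u w w' : V} (hu : Q u = 0) (hw : polar Q u w = 0) (hw' : polar Q u w' = 0) :
    tE Q u w * tE Q u w' = tE Q u w' * tE Q u w := by
  rw [tE_mul hu hw hw', tE_mul hu hw' hw, add_comm]

/-- two Siegel elements commute if the first fixes the data of the second -/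
theorem tE_comm_of {u w a b : V} (h1 : T Q u w a = a) (h2 : T Q u w b = b) :
    tE Q u w * tE Q a b = tE Q a b * tE Q u w := by
  have h := tE_conj (tE Q u w) a b
  rw [coe_tE, h1, h2] at h
  exact mul_inv_eq_iff_eq_mul.1 h

/-! ### The subgroups -/

/-- All `T Q u w`: the unipotent radical of the stabiliser of the point `u`. -/
noncomputable def R (Q : QuadraticForm F V) (u : V) (hu : Q u = 0) : Subgroup ↥(E Q) :=
  TS Q u (perp1 Q u) hu (fun _ hz => mem_perp1.1 hz)

theorem mem_R {u : V} {hu : Q u = 0} {g : ↥(E Q)} :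
    g ∈ R Q u hu ↔ ∃ w, polar Q u w = 0 ∧ g = tE Q u w := by
  rw [R, mem_TS]
  constructor
  · rintro ⟨z, hz, e⟩
    exact ⟨z, mem_perp1.1 hz, Subtype.ext e⟩
  · rintro ⟨z, hz, e⟩
    exact ⟨z, mem_perp1.2 hz, congrArg Subtype.val e⟩

theorem tE_mem_R {u w : V} (hu : Q u = 0) (hw : polar Q u w = 0) : tE Q u w ∈ R Q u hu :=
  mem_R.2 ⟨w, hw, rfl⟩

/-- All `T Q u (c v)`: the long root group of the line `u, v`. -/
noncomputable def X (Q : QuadraticForm F V) (u v : V) (hu : Q u = 0) (huv : polar Q u v = 0) :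
    Subgroup ↥(E Q) :=
  TS Q u (Submodule.span F {v}) hu (by
    intro z hz
    obtain ⟨c, rfl⟩ := Submodule.mem_span_singleton.1 hz
    rw [polar_smul_right, huv, smul_zero])

theorem mem_X {u v : V} {hu : Q u = 0} {huv : polar Q u v = 0} {g : ↥(E Q)} :
    g ∈ X Q u v hu huv ↔ ∃ c : F, g = tE Q u (c • v) := by
  rw [X, mem_TS]
  constructor
  · rintro ⟨z, hz, e⟩
    obtain ⟨c, rfl⟩ := Submodule.mem_span_singleton.1 hz
    exact ⟨c, Subtype.ext e⟩
  · rintro ⟨c, e⟩
    exact ⟨c • v, Submodule.mem_span_singleton.2 ⟨c, rfl⟩, congrArg Subtype.val e⟩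

theorem X_le_R {u v : V} (hu : Q u = 0) (huv : polar Q u v = 0) : X Q u v hu huv ≤ R Q u hu := by
  intro g hg
  obtain ⟨c, rfl⟩ := mem_X.1 hg
  exact tE_mem_R hu (by rw [polar_smul_right, huv, smul_zero])

/-- `C_K(X_l)` -/
noncomputable def P0 (Q : QuadraticForm F V) (u v : V) (hu : Q u = 0) (huv : polar Q u v = 0) :
    Subgroup ↥(E Q) :=
  Subgroup.centralizer (X Q u v hu huv : Set ↥(E Q))

theorem mem_P0 {u v : V} {hu : Q u = 0} {huv : polar Q u v = 0} {g : ↥(E Q)} :
    g ∈ P0 Q u v hu huv ↔ ∀ c : F, g * tE Q u (c • v) = tE Q u (c • v) * g := by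
  rw [P0, Subgroup.mem_centralizer_iff]
  constructor
  · intro h c
    exact (h _ (mem_X.2 ⟨c, rfl⟩)).symm
  · intro h x hx
    obtain ⟨c, rfl⟩ := mem_X.1 hx
    exact (h c).symm

/-- The subgroup of `C_K(X_l)` generated by the elements of odd order. -/
noncomputable def P (Q : QuadraticForm F V) (u v : V) (hu : Q u = 0) (huv : polar Q u v = 0) :
    Subgroup ↥(E Q) :=
  Subgroup.closure {g | g ∈ P0 Q u v hu huv ∧ Odd (orderOf g)}

theorem P_le_P0 {u v : V} {hu : Q u = 0} {huv : polar Q u v = 0} :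
    P Q u v hu huv ≤ P0 Q u v hu huv := by
  rw [P, Subgroup.closure_le]
  exact fun g hg => hg.1

theorem mem_P_of_odd {u v : V} {hu : Q u = 0} {huv : polar Q u v = 0} {g : ↥(E Q)}
    (hg : g ∈ P0 Q u v hu huv) (ho : Odd (orderOf g)) : g ∈ P Q u v hu huv :=
  Subgroup.subset_closure ⟨hg, ho⟩

theorem orderOf_conj' {G : Type*} [Group G] (g x : G) : orderOf (g * x * g⁻¹) = orderOf x := by
  have : g * x * g⁻¹ = MulAut.conj g x := rfl
  rw [this]
  exact (MulAut.conj g).orderOf_eq x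

/-- `P` is normal in `P0`. -/
theorem P_conj {u v : V} {hu : Q u = 0} {huv : polar Q u v = 0} {g p : ↥(E Q)}
    (hg : g ∈ P0 Q u v hu huv) (hp : p ∈ P Q u v hu huv) : g * p * g⁻¹ ∈ P Q u v hu huv := by
  have h : P Q u v hu huv ≤ (P Q u v hu huv).comap (MulAut.conj g).toMonoidHom := by
    conv_lhs => rw [P]
    rw [Subgroup.closure_le]
    rintro x ⟨hx, hox⟩
    show g * x * g⁻¹ ∈ P Q u v hu huv
    exact mem_P_of_odd (mul_mem (mul_mem hg hx) (inv_mem hg)) (by rwa [orderOf_conj'])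
  exact h hp

/-- The commutator of an element of `P0` with an element of odd order of `P0` lies in `P`. -/
theorem comm_mem_P {u v : V} {hu : Q u = 0} {huv : polar Q u v = 0} {g h : ↥(E Q)}
    (hg : g ∈ P0 Q u v hu huv) (hh : h ∈ P Q u v hu huv) : g * h * g⁻¹ * h⁻¹ ∈ P Q u v hu huv :=
  mul_mem (P_conj hg hh) (inv_mem hh)

theorem comm_mem_P' {u v : V} {hu : Q u = 0} {huv : polar Q u v = 0} {g h : ↥(E Q)}
    (hg : g ∈ P0 Q u v hu huv) (hh : h ∈ P Q u v hu huv) : h * g * h⁻¹ * g⁻¹ ∈ P Q u v hu huv := by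
  have h1 := inv_mem (comm_mem_P hg hh)
  have e : (g * h * g⁻¹ * h⁻¹)⁻¹ = h * g * h⁻¹ * g⁻¹ := by group
  rwa [e] at h1

end Cfsg.Agent.OddHalf.Orth
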