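import Mathlib
import Cfsg.Agent.OddHalf.Orth.KBase

/-!
# The radical `QL` of the stabiliser of a totally singular line

Two orthogonal hyperbolic pairs `(u, u')`, `(v, v')`, `W = {u, v, u', v'}^⊥`. Every element of `QL` is
`T u x * T v y * T u (c v)` with `x, y ∈ W`.
-/

set_option autoImplicit false
set_option linter.unusedSectionVars false
set_option linter.unusedVariables false

namespace Cfsg.Agent.OddHalf.Orth

open QuadraticMap Cfsg.Agent.LieClassical.OrthCore Cfsg.Agent.LieClassical.OrthTrans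
  Cfsg.Agent.LieClassical.OrthSimple Cfsg.Agent.ClassicalGeometry.OrthAutBasic
  Cfsg.Agent.ClassicalGeometry.OrthAutRoot Cfsg.Agent.ClassicalGeometry.OrthAutSylow

variable {F V : Type*} [Field F] [AddCommGroup V] [Module F V] {Q : QuadraticForm F V}

/-- Two orthogonal hyperbolic pairs. -/
structure LF (Q : QuadraticForm F V) (u v u' v' : V) : Prop where
  h1 : Hyp Q u u'
  h2 : Hyp Q v v'
  uv : polar Q u v = 0
  uv' : polar Q u v' = 0
  u'v : polar Q u' v = 0
  u'v' : polar Q u' v' = 0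

namespace LF
variable {u v u' v' : V}

theorem vu (h : LF Q u v u' v') : polar Q v u = 0 := polar_zero_of_comm h.uv
theorem v'u (h : LF Q u v u' v') : polar Q v' u = 0 := polar_zero_of_comm h.uv'
theorem vu' (h : LF Q u v u' v') : polar Q v u' = 0 := polar_zero_of_comm h.u'v
theorem v'u' (h : LF Q u v u' v') : polar Q v' u' = 0 := polar_zero_of_comm h.u'v'
theorem qu (h : LF Q u v u' v') : Q u = 0 := h.h1.left
theorem qv (h : LF Q u v u' v') : Q v = 0 := h.h2.left
theorem qu' (h : LF Q u v u' v') : Q u' = 0 := h.h1.right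
theorem qv' (h : LF Q u v u' v') : Q v' = 0 := h.h2.right
theorem uu' (h : LF Q u v u' v') : polar Q u u' = 1 := h.h1.pair
theorem u'u (h : LF Q u v u' v') : polar Q u' u = 1 := h.h1.pair'
theorem vv' (h : LF Q u v u' v') : polar Q v v' = 1 := h.h2.pair
theorem v'v (h : LF Q u v u' v') : polar Q v' v = 1 := h.h2.pair'
theorem uu (h : LF Q u v u' v') : polar Q u u = 0 := polar_self_of_sing h.qu
theorem vv (h : LF Q u v u' v') : polar Q v v = 0 := polar_self_of_sing h.qv
theorem u'u' (h : LF Q u v u' v') : polar Q u' u' = 0 := polar_self_of_sing h.qu'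
theorem v'v' (h : LF Q u v u' v') : polar Q v' v' = 0 := polar_self_of_sing h.qv'

/-- exchange the two pairs -/
theorem swap (h : LF Q u v u' v') : LF Q v u v' u' := ⟨h.h2, h.h1, h.vu, h.vu', h.v'u, h.v'u'⟩

/-- opposite line -/
theorem opp (h : LF Q u v u' v') : LF Q u' v' u v :=
  ⟨h.h1.symm, h.h2.symm, h.u'v', h.u'v, h.uv', h.uv⟩

theorem ln (h : LF Q u v u' v') : Ln Q u v where
  qu := h.qu
  qw := h.qv
  perp := h.uv
  ne := h.h1.left_ne
  ind := by
    intro c hc
    have := h.vv'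
    rw [hc, polar_smul_left, h.uv', smul_zero] at this
    exact zero_ne_one this

theorem map (h : LF Q u v u' v') {g : V ≃ₗ[F] V} (hg : g ∈ O Q) : LF Q (g u) (g v) (g u') (g v') :=
  ⟨h.h1.map hg, h.h2.map hg, by rw [polar_map hg, h.uv], by rw [polar_map hg, h.uv'],
    by rw [polar_map hg, h.u'v], by rw [polar_map hg, h.u'v']⟩

end LF

/-- A totally singular line has a frame. -/
theorem exists_LF (hQ : Nondeg Q) {u v : V} (h : Ln Q u v) : ∃ u' v', LF Q u v u' v' := by
  obtain ⟨y0, hy1, hy2⟩ := exists_sep hQ (x := u) (z := v) (by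
    intro c hc
    exact h.symm.ind c hc)
  have hxy : Hyp Q u (y0 + (-Q y0) • u) := by
    refine ⟨h.qu, ?_, ?_⟩
    · rw [Q_add, QuadraticMap.map_smul, h.qu, polar_smul_right, polar_comm Q y0 u, hy2]
      simp
    · rw [polar_add_right, polar_smul_right, polar_self_of_sing h.qu, hy2]
      simp
  have huy : polar Q v (y0 + (-Q y0) • u) = 0 := by
    rw [polar_add_right, polar_smul_right, hy1, h.perp']
    simp
  set y := y0 + (-Q y0) • u with hy
  obtain ⟨w, huv, hxv, hyv⟩ := exists_hyp_perp hQ hxy h.qw h.ne' h.perp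
    (polar_zero_of_comm huy)
  exact ⟨y, w, hxy, huv, h.perp, hxv, polar_zero_of_comm huy, hyv⟩

/-! ### The space `W` -/

/-- `{u, v, u', v'}^⊥` -/
def W4 (Q : QuadraticForm F V) (u v u' v' : V) : Submodule F V := perp2 Q u u' ⊓ perp2 Q v v'

theorem mem_W4 {u v u' v' x : V} :
    x ∈ W4 Q u v u' v' ↔ (polar Q u x = 0 ∧ polar Q u' x = 0) ∧ polar Q v x = 0 ∧ polar Q v' x = 0 := by
  rw [W4, Submodule.mem_inf, mem_perp2, mem_perp2]

/-- Membership in `W`, as a structure. -/
structure In (Q : QuadraticForm F V) (u v u' v' x : V) : Prop where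
  u : polar Q u x = 0
  u' : polar Q u' x = 0
  v : polar Q v x = 0
  v' : polar Q v' x = 0

namespace In
variable {u v u' v' x y : V}

theorem iff_mem : In Q u v u' v' x ↔ x ∈ W4 Q u v u' v' := by
  rw [mem_W4]
  exact ⟨fun h => ⟨⟨h.u, h.u'⟩, h.v, h.v'⟩, fun h => ⟨h.1.1, h.1.2, h.2.1, h.2.2⟩⟩

theorem ru (h : In Q u v u' v' x) : polar Q x u = 0 := polar_zero_of_comm h.u
theorem ru' (h : In Q u v u' v' x) : polar Q x u' = 0 := polar_zero_of_comm h.u'
theorem rv (h : In Q u v u' v' x) : polar Q x v = 0 := polar_zero_of_comm h.v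
theorem rv' (h : In Q u v u' v' x) : polar Q x v' = 0 := polar_zero_of_comm h.v'

theorem add (h : In Q u v u' v' x) (h' : In Q u v u' v' y) : In Q u v u' v' (x + y) :=
  iff_mem.2 (add_mem (iff_mem.1 h) (iff_mem.1 h'))

theorem smul (c : F) (h : In Q u v u' v' x) : In Q u v u' v' (c • x) :=
  iff_mem.2 ((W4 Q u v u' v').smul_mem c (iff_mem.1 h))

theorem zero : In Q u v u' v' 0 := iff_mem.2 (zero_mem _)

theorem swap (h : In Q u v u' v' x) : In Q v u v' u' x := ⟨h.v, h.v', h.u, h.u'⟩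

theorem opp (h : In Q u v u' v' x) : In Q u' v' u v x := ⟨h.u', h.u, h.v', h.v⟩

end In

/-- The projection onto `W`. -/
def pW (Q : QuadraticForm F V) (u v u' v' : V) : V →ₗ[F] V :=
  LinearMap.id - (polarBilin Q u').smulRight u - (polarBilin Q u).smulRight u' -
    (polarBilin Q v').smulRight v - (polarBilin Q v).smulRight v'

theorem pW_apply (u v u' v' x : V) : pW Q u v u' v' x =
    x - polar Q u' x • u - polar Q u x • u' - polar Q v' x • v - polar Q v x • v' := by
  simp [pW]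

section
variable {u v u' v' : V}

theorem pW_in (h : LF Q u v u' v') (x : V) : In Q u v u' v' (pW Q u v u' v' x) := by
  rw [pW_apply]
  constructor <;>
  simp only [polar_sub_right, polar_smul_right, smul_eq_mul, h.uu, h.uu', h.uv, h.uv', h.u'u, h.u'u',
    h.u'v, h.u'v', h.vu, h.vu', h.vv, h.vv', h.v'u, h.v'u', h.v'v, h.v'v'] <;> ring

theorem pW_of_in {x : V} (hx : In Q u v u' v' x) : pW Q u v u' v' x = x := by
  rw [pW_apply, hx.u, hx.u', hx.v, hx.v']; simp

theorem pW_u (h : LF Q u v u' v') : pW Q u v u' v' u = 0 := by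
  rw [pW_apply, h.uu, h.u'u, h.vu, h.v'u]; simp
theorem pW_u' (h : LF Q u v u' v') : pW Q u v u' v' u' = 0 := by
  rw [pW_apply, h.uu', h.u'u', h.vu', h.v'u']; simp
theorem pW_v (h : LF Q u v u' v') : pW Q u v u' v' v = 0 := by
  rw [pW_apply, h.uv, h.u'v, h.vv, h.v'v]; simp
theorem pW_v' (h : LF Q u v u' v') : pW Q u v u' v' v' = 0 := by
  rw [pW_apply, h.uv', h.u'v', h.vv', h.v'v']; simp

theorem decomp (u v u' v' x : V) : x = pW Q u v u' v' x + polar Q u' x • u + polar Q u x • u' +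
    polar Q v' x • v + polar Q v x • v' := by
  rw [pW_apply]; module

theorem polar_pW {w : V} (hw : In Q u v u' v' w) (x : V) :
    polar Q w (pW Q u v u' v' x) = polar Q w x := by
  rw [pW_apply]
  simp only [polar_sub_right, polar_smul_right, hw.ru, hw.ru', hw.rv, hw.rv']
  simp

/-- `W` is nondegenerate -/
theorem exists_in_polar (hQ : Nondeg Q) (h : LF Q u v u' v') {w : V} (hw : In Q u v u' v' w)
    (hw0 : w ≠ 0) (c : F) : ∃ x, In Q u v u' v' x ∧ polar Q w x = c := by
  obtain ⟨y, hy⟩ := hQ.exists_polar_eq hw0 c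
  exact ⟨pW Q u v u' v' y, pW_in h y, by rw [polar_pW hw, hy]⟩

theorem eq_zero_of_in (hQ : Nondeg Q) (h : LF Q u v u' v') {w : V} (hw : In Q u v u' v' w)
    (H : ∀ x, In Q u v u' v' x → polar Q w x = 0) : w = 0 := by
  by_contra h0
  obtain ⟨x, hx, e⟩ := exists_in_polar hQ h hw h0 1
  rw [H x hx] at e
  exact zero_ne_one e

end

/-! ### The radical -/

/-- The elements trivial on the line `l = <u, v>` and on `l^⊥ / l`. -/
noncomputable def QL (Q : QuadraticForm F V) (u v : V) : Subgroup ↥(E Q) where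
  carrier := {g | (g : V ≃ₗ[F] V) u = u ∧ (g : V ≃ₗ[F] V) v = v ∧
    ∀ w, polar Q u w = 0 → polar Q v w = 0 → ∃ a b : F, (g : V ≃ₗ[F] V) w = w + a • u + b • v}
  one_mem' := ⟨rfl, rfl, fun w _ _ => ⟨0, 0, by simp⟩⟩
  mul_mem' := by
    rintro g h ⟨hg1, hg2, hg3⟩ ⟨hh1, hh2, hh3⟩
    refine ⟨?_, ?_, ?_⟩
    · show (g : V ≃ₗ[F] V) ((h : V ≃ₗ[F] V) u) = u
      rw [hh1, hg1]
    · show (g : V ≃ₗ[F] V) ((h : V ≃ₗ[F] V) v) = v
      rw [hh2, hg2]
    · intro w h1 h2
      obtain ⟨a, b, e⟩ := hh3 w h1 h2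
      obtain ⟨a', b', e'⟩ := hg3 w h1 h2
      refine ⟨a + a', b + b', ?_⟩
      show (g : V ≃ₗ[F] V) ((h : V ≃ₗ[F] V) w) = _
      rw [e, map_add, map_add, map_smul, map_smul, hg1, hg2, e']
      module
  inv_mem' := by
    rintro g ⟨hg1, hg2, hg3⟩
    have e1 : ((g⁻¹ : ↥(E Q)) : V ≃ₗ[F] V) u = u := by
      show (g : V ≃ₗ[F] V).symm u = u
      rw [LinearEquiv.symm_apply_eq, hg1]
    have e2 : ((g⁻¹ : ↥(E Q)) : V ≃ₗ[F] V) v = v := by
      show (g : V ≃ₗ[F] V).symm v = v
      rw [LinearEquiv.symm_apply_eq, hg2]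
    refine ⟨e1, e2, ?_⟩
    intro w h1 h2
    obtain ⟨a, b, e⟩ := hg3 w h1 h2
    refine ⟨-a, -b, ?_⟩
    show (g : V ≃ₗ[F] V).symm w = _
    rw [LinearEquiv.symm_apply_eq]
    simp only [map_add, map_smul, hg1, hg2, e]
    module

theorem mem_QL {u v : V} {g : ↥(E Q)} : g ∈ QL Q u v ↔ (g : V ≃ₗ[F] V) u = u ∧
    (g : V ≃ₗ[F] V) v = v ∧ ∀ w, polar Q u w = 0 → polar Q v w = 0 →
      ∃ a b : F, (g : V ≃ₗ[F] V) w = w + a • u + b • v := Iff.rfl

section two
variable [CharP F 2] {u v u' v' : V}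

theorem tE_mem_QL (h : Ln Q u v) {x : V} (hux : polar Q u x = 0) (hvx : polar Q v x = 0) :
    tE Q u x ∈ QL Q u v := by
  refine ⟨?_, ?_, ?_⟩
  · rw [coe_tE]; exact T_fix (polar_self_of_sing h.qu) (polar_zero_of_comm hux)
  · rw [coe_tE]; exact T_fix h.perp (polar_zero_of_comm hvx)
  · intro w h1 h2
    refine ⟨polar Q x w, 0, ?_⟩
    rw [coe_tE, T_apply2 h.qu hux, h1]
    simp

theorem tE_mem_QL' (h : Ln Q u v) {x : V} (hux : polar Q u x = 0) (hvx : polar Q v x = 0) :
    tE Q v x ∈ QL Q u v := by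
  refine ⟨?_, ?_, ?_⟩
  · rw [coe_tE]; exact T_fix h.perp' (polar_zero_of_comm hux)
  · rw [coe_tE]; exact T_fix (polar_self_of_sing h.qw) (polar_zero_of_comm hvx)
  · intro w h1 h2
    refine ⟨0, polar Q x w, ?_⟩
    rw [coe_tE, T_apply2 h.qw hvx, h2]
    simp

/-- The standard elements of `QL`. -/
noncomputable def q (Q : QuadraticForm F V) (u v x y : V) (c : F) : ↥(E Q) :=
  tE Q u x * tE Q v y * tE Q u (c • v)

theorem q_mem (h : LF Q u v u' v') {x y : V} (hx : In Q u v u' v' x) (hy : In Q u v u' v' y) (c : F) :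
    q Q u v x y c ∈ QL Q u v :=
  mul_mem (mul_mem (tE_mem_QL h.ln hx.u hx.v) (tE_mem_QL' h.ln hy.u hy.v))
    (tE_mem_QL h.ln (by rw [polar_smul_right, h.uv, smul_zero]) (by rw [polar_smul_right, h.vv, smul_zero]))

/-- the action of `T u x` on the frame -/
theorem T_u' (h : LF Q u v u' v') {x : V} (hx : In Q u v u' v' x) :
    T Q u x u' = u' + x + Q x • u := by
  rw [T_apply2 h.qu hx.u, h.uu', hx.ru']; simp

theorem T_W (h : LF Q u v u' v') {x w : V} (hx : In Q u v u' v' x) (hw : polar Q u w = 0) :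
    T Q u x w = w + polar Q x w • u := by
  rw [T_apply2 h.qu hx.u, hw]; simp

theorem q_v' (h : LF Q u v u' v') {x y : V} (hx : In Q u v u' v' x) (hy : In Q u v u' v' y) (c : F) :
    ((q Q u v x y c : ↥(E Q)) : V ≃ₗ[F] V) v' = v' + y + Q y • v + (c + polar Q x y) • u := by
  show T Q u x (T Q v y (T Q u (c • v) v')) = _
  have e1 : T Q u (c • v) v' = v' + c • u := by
    rw [T_apply2 h.qu (by rw [polar_smul_right, h.uv, smul_zero]), h.uv', polar_smul_left, h.vv']
    simp
  have e2 : T Q v y v' = v' + y + Q y • v := by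
    rw [T_apply2 h.qv hy.v, h.vv', hy.rv']; simp
  have e3 : T Q v y u = u := T_fix h.vu hy.ru
  rw [e1, map_add, map_smul, e2, e3]
  simp only [map_add, map_smul]
  rw [T_W h hx h.uv', T_W h hx hy.u, T_W h hx h.uv, T_W h hx h.uu, hx.rv', hx.rv, hx.ru]
  module

theorem q_u' (h : LF Q u v u' v') {x y : V} (hx : In Q u v u' v' x) (hy : In Q u v u' v' y) (c : F) :
    ((q Q u v x y c : ↥(E Q)) : V ≃ₗ[F] V) u' = u' + x + Q x • u + c • v := by
  show T Q u x (T Q v y (T Q u (c • v) u')) = _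
  have e1 : T Q u (c • v) u' = u' + c • v := by
    rw [T_apply2 h.qu (by rw [polar_smul_right, h.uv, smul_zero]), h.uu', polar_smul_left, h.vu',
      QuadraticMap.map_smul, h.qv]
    simp
  have e2 : T Q v y u' = u' := T_fix h.vu' hy.ru'
  have e3 : T Q v y v = v := T_fix h.vv hy.rv
  rw [e1, map_add, map_smul, e2, e3]
  simp only [map_add, map_smul]
  rw [T_u' h hx, T_W h hx h.uv, hx.rv]
  module

omit [CharP F 2] in
/-- An isometry fixing all of the frame and trivial modulo the line on `W` is trivial. -/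
theorem eq_one_of_frame (h : LF Q u v u' v') {g : V ≃ₗ[F] V} (hg : g ∈ O Q) (h1 : g u = u) (h2 : g v = v)
    (h3 : g u' = u') (h4 : g v' = v')
    (h5 : ∀ w, In Q u v u' v' w → ∃ a b : F, g w = w + a • u + b • v) : g = 1 := by
  ext x
  rw [LinearEquiv.coe_one, id_eq]
  have key : ∀ w, In Q u v u' v' w → g w = w := by
    intro w hw
    obtain ⟨a, b, e⟩ := h5 w hw
    have ha : polar Q u' (g w) = 0 := by
      have := polar_map hg u' w
      rw [h3] at this
      rw [this, hw.u']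
    have hb : polar Q v' (g w) = 0 := by
      have := polar_map hg v' w
      rw [h4] at this
      rw [this, hw.v']
    rw [e] at ha hb
    simp only [polar_add_right, polar_smul_right, hw.u', hw.v', h.u'u, h.u'v, h.v'u, h.v'v,
      smul_eq_mul, mul_one, mul_zero, add_zero, zero_add] at ha hb
    rw [e, ha, hb]; simp
  rw [decomp (Q := Q) u v u' v' x]
  simp only [map_add, map_smul, h1, h2, h3, h4]
  rw [key _ (pW_in h x)]

/-- An isometry trivial on the line and on `l^⊥ / l` is standard. -/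
theorem exists_q_O (h : LF Q u v u' v') {g : V ≃ₗ[F] V} (hg : g ∈ O Q) (hg1 : g u = u) (hg2 : g v = v)
    (hg3 : ∀ w, In Q u v u' v' w → ∃ a b : F, g w = w + a • u + b • v) :
    ∃ x y c, In Q u v u' v' x ∧ In Q u v u' v' y ∧ g = ((q Q u v x y c : ↥(E Q)) : V ≃ₗ[F] V) := by
  set y := pW Q u v u' v' (g v') with hy
  set x := pW Q u v u' v' (g u') with hx
  have hyi : In Q u v u' v' y := pW_in h _
  have hxi : In Q u v u' v' x := pW_in h _
  set c := polar Q v' (g u') with hc
  refine ⟨x, y, c, hxi, hyi, ?_⟩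
  -- the images of `u'`, `v'`
  have pu : ∀ w, polar Q u (g w) = polar Q u w := by
    intro w
    have := polar_map hg u w
    rwa [hg1] at this
  have pv : ∀ w, polar Q v (g w) = polar Q v w := by
    intro w
    have := polar_map hg v w
    rwa [hg2] at this
  have e1 : g u' = x + polar Q u' (g u') • u + u' + c • v := by
    have := decomp (Q := Q) u v u' v' (g u')
    rw [pu, pv, h.uu', h.vu', one_smul, zero_smul, add_zero] at this
    exact this
  have e2 : g v' = y + polar Q u' (g v') • u + polar Q v' (g v') • v + v' := by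
    have := decomp (Q := Q) u v u' v' (g v')
    rw [pu, pv, h.uv', h.vv', one_smul, zero_smul, add_zero] at this
    exact this
  set a := polar Q u' (g u') with ha
  set b := polar Q u' (g v') with hb
  set d := polar Q v' (g v') with hd
  -- norms
  have n1 : a = Q x := by
    have h1 : Q (g u') = 0 := by rw [mem_O.1 hg, h.qu']
    rw [e1, Q_add, Q_add, Q_add] at h1
    simp only [QuadraticMap.map_smul, polar_add_left, polar_smul_left, polar_smul_right, hxi.ru,
      hxi.ru', hxi.rv, h.qu, h.qu', h.qv, h.uu', h.uv, h.u'v, smul_eq_mul, mul_zero, mul_one, add_zero,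
      zero_add] at h1
    rw [add_eq_zero_iff_eq_neg, CharTwo.neg_eq] at h1
    exact h1.symm
  have n2 : d = Q y := by
    have h1 : Q (g v') = 0 := by rw [mem_O.1 hg, h.qv']
    rw [e2, Q_add, Q_add, Q_add] at h1
    simp only [QuadraticMap.map_smul, polar_add_left, polar_smul_left, polar_smul_right, hyi.ru,
      hyi.rv', hyi.rv, h.qu, h.qv', h.qv, h.uv', h.uv, h.vv', smul_eq_mul, mul_zero, mul_one, add_zero,
      zero_add] at h1
    rw [add_eq_zero_iff_eq_neg, CharTwo.neg_eq] at h1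
    exact h1.symm
  have n3 : b + c + polar Q x y = 0 := by
    have h1 : polar Q (g u') (g v') = 0 := by rw [polar_map hg, h.u'v']
    rw [e1, e2] at h1
    simp only [polar_add_left, polar_add_right, polar_smul_left, polar_smul_right, hyi.u, hyi.u',
      hyi.v, hxi.ru, hxi.rv, hxi.rv', h.uu, h.uv, h.uv', h.u'u, h.u'v, h.u'v', h.vu, h.vv, h.vv',
      smul_eq_mul, mul_zero, mul_one, add_zero, zero_add] at h1
    linear_combination h1
  have n3' : b = c + polar Q x y := by
    have : b = -(c + polar Q x y) := by linear_combination n3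
    rw [this, CharTwo.neg_eq]
  -- compare
  obtain ⟨m1, m2, m3⟩ := mem_QL.1 (q_mem h hxi hyi c)
  set k := ((q Q u v x y c : ↥(E Q)) : V ≃ₗ[F] V) with hk
  have hkO : k ∈ O Q := mem_O' _
  have i1 : k⁻¹ u = u := by
    show k.symm u = u
    rw [LinearEquiv.symm_apply_eq, m1]
  have i2 : k⁻¹ v = v := by
    show k.symm v = v
    rw [LinearEquiv.symm_apply_eq, m2]
  have hone : k⁻¹ * g = 1 := by
    refine eq_one_of_frame h (mul_mem (inv_mem hkO) hg) ?_ ?_ ?_ ?_ ?_
    · show k⁻¹ (g u) = u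
      rw [hg1, i1]
    · show k⁻¹ (g v) = v
      rw [hg2, i2]
    · show k.symm (g u') = u'
      rw [LinearEquiv.symm_apply_eq, hk, q_u' h hxi hyi, e1, n1]
      module
    · show k.symm (g v') = v'
      rw [LinearEquiv.symm_apply_eq, hk, q_v' h hxi hyi, e2, n2, n3']
      module
    · intro w hw
      obtain ⟨a1, b1, f1⟩ := hg3 w hw
      obtain ⟨a2, b2, f2⟩ := m3 w hw.u hw.v
      refine ⟨a1 - a2, b1 - b2, ?_⟩
      show k.symm (g w) = _
      rw [LinearEquiv.symm_apply_eq, f1]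
      simp only [map_add, map_smul, m1, m2, f2]
      module
  rw [inv_mul_eq_one] at hone
  exact hone.symm

/-- Every element of `QL` is standard. -/
theorem exists_q (h : LF Q u v u' v') {g : ↥(E Q)} (hg : g ∈ QL Q u v) :
    ∃ x y c, In Q u v u' v' x ∧ In Q u v u' v' y ∧ g = q Q u v x y c := by
  obtain ⟨hg1, hg2, hg3⟩ := mem_QL.1 hg
  obtain ⟨x, y, c, hx, hy, e⟩ := exists_q_O h (mem_O' g) hg1 hg2 (fun w hw => hg3 w hw.u hw.v)
  exact ⟨x, y, c, hx, hy, Subtype.ext e⟩

/-- the action on `W` -/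
theorem q_W (h : LF Q u v u' v') {x y : V} (hx : In Q u v u' v' x) (hy : In Q u v u' v' y) (c : F)
    {w : V} (hw : In Q u v u' v' w) :
    ((q Q u v x y c : ↥(E Q)) : V ≃ₗ[F] V) w = w + polar Q y w • v + polar Q x w • u := by
  show T Q u x (T Q v y (T Q u (c • v) w)) = _
  have e1 : T Q u (c • v) w = w := T_fix hw.u (by rw [polar_smul_left, hw.v, smul_zero])
  rw [e1, T_W h.swap hy.swap hw.v, map_add, map_smul, T_W h hx hw.u, T_W h hx h.uv, hx.rv]
  module

/-- an isometry fixing `l^⊥` pointwise is in the root group -/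
theorem exists_of_fix (hQ : Nondeg Q) (h : LF Q u v u' v') {g : V ≃ₗ[F] V} (hg : g ∈ O Q)
    (H : ∀ w, polar Q u w = 0 → polar Q v w = 0 → g w = w) : ∃ c : F, g = T Q u (c • v) := by
  obtain ⟨x, y, c, hx, hy, e⟩ := exists_q_O h hg (H u h.uu h.vu) (H v h.uv h.vv) (fun w hw =>
    ⟨0, 0, by rw [H w hw.u hw.v]; simp⟩)
  have key : ∀ w, In Q u v u' v' w → polar Q y w = 0 ∧ polar Q x w = 0 := by
    intro w hw
    have h1 := H w hw.u hw.v
    rw [e, q_W h hx hy c hw] at h1
    have h2 : polar Q x w • u + polar Q y w • v = 0 := by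
      have h3 : w + (polar Q x w • u + polar Q y w • v) = w + 0 := by
        rw [add_zero]
        refine Eq.trans ?_ h1
        module
      exact add_left_cancel h3
    exact ⟨(h.ln.coeff h2).2, (h.ln.coeff h2).1⟩
  have hx0 : x = 0 := eq_zero_of_in hQ h hx fun w hw => (key w hw).2
  have hy0 : y = 0 := eq_zero_of_in hQ h hy fun w hw => (key w hw).1
  refine ⟨c, ?_⟩
  rw [e, hx0, hy0]
  show T Q u 0 * T Q v 0 * T Q u (c • v) = _
  rw [T_zero_right, T_zero_right, one_mul, one_mul]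

/-! ### Multiplication -/

omit [CharP F 2] in
theorem perp_smul_v (h : LF Q u v u' v') (c : F) : polar Q u (c • v) = 0 := by
  rw [polar_smul_right, h.uv, smul_zero]

/-- the elements `T u (c v)` are central in `QL` and commute with everything fixing the line pointwise -/
theorem comm_central (h : LF Q u v u' v') {g : ↥(E Q)} (h1 : (g : V ≃ₗ[F] V) u = u)
    (h2 : (g : V ≃ₗ[F] V) v = v) (c : F) : g * tE Q u (c • v) = tE Q u (c • v) * g := by
  have e := tE_conj g u (c • v)
  rw [h1, map_smul, h2] at e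
  exact mul_inv_eq_iff_eq_mul.1 e

/-- the basic commutator -/
theorem tE_vu (h : LF Q u v u' v') {x y : V} (hx : In Q u v u' v' x) (hy : In Q u v u' v' y) :
    tE Q v y * tE Q u x = tE Q u x * tE Q v y * tE Q u (polar Q x y • v) := by
  have hyx : polar Q y x = polar Q x y := polar_comm Q y x
  have e := tE_conj (tE Q v y) u x
  rw [coe_tE, T_fix h.vu hy.ru, T_W h.swap hy.swap hx.v, hyx] at e
  rw [mul_inv_eq_iff_eq_mul] at e
  rw [e, ← tE_mul h.qu hx.u (perp_smul_v h _), mul_assoc, mul_assoc]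
  congr 1
  refine (comm_central h ?_ ?_ _).symm
  · exact T_fix h.vu hy.ru
  · exact T_fix h.vv hy.rv

theorem q_mul (h : LF Q u v u' v') {x y x' y' : V} (hx : In Q u v u' v' x) (hy : In Q u v u' v' y)
    (hx' : In Q u v u' v' x') (hy' : In Q u v u' v' y') (c c' : F) :
    q Q u v x y c * q Q u v x' y' c' = q Q u v (x + x') (y + y') (c + c' + polar Q x' y) := by
  have e1 : ∀ a : F, ∀ z, In Q u v u' v' z →
      tE Q u (a • v) * tE Q u z = tE Q u z * tE Q u (a • v) := fun a z hz =>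
    tE_comm h.qu (perp_smul_v h a) hz.u
  have e2 : ∀ a : F, ∀ z, In Q u v u' v' z →
      tE Q v z * tE Q u (a • v) = tE Q u (a • v) * tE Q v z := fun a z hz =>
    comm_central h (T_fix h.vu hz.ru) (T_fix h.vv hz.rv) a
  have e3 := tE_vu h hx' hy
  have e4 : tE Q u x * tE Q u x' = tE Q u (x + x') := tE_mul h.qu hx.u hx'.u
  have e5 : tE Q v y * tE Q v y' = tE Q v (y + y') := tE_mul h.qv hy.v hy'.v
  have e6 : ∀ a b : F, tE Q u (a • v) * tE Q u (b • v) = tE Q u ((a + b) • v) := fun a b => by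
    rw [tE_mul h.qu (perp_smul_v h a) (perp_smul_v h b), add_smul]
  unfold q
  calc tE Q u x * tE Q v y * tE Q u (c • v) * (tE Q u x' * tE Q v y' * tE Q u (c' • v))
      = tE Q u x * tE Q v y * (tE Q u (c • v) * tE Q u x') * tE Q v y' * tE Q u (c' • v) := by
        simp only [mul_assoc]
    _ = tE Q u x * (tE Q v y * tE Q u x') * (tE Q u (c • v) * tE Q v y') * tE Q u (c' • v) := by
        rw [e1 c x' hx']; simp only [mul_assoc]
    _ = tE Q u x * tE Q u x' * tE Q v y * (tE Q u (polar Q x' y • v) * tE Q v y') *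
          (tE Q u (c • v) * tE Q u (c' • v)) := by
        rw [e3, ← e2 c y' hy']; simp only [mul_assoc]
    _ = tE Q u x * tE Q u x' * (tE Q v y * tE Q v y') * (tE Q u (polar Q x' y • v) *
          (tE Q u (c • v) * tE Q u (c' • v))) := by
        rw [← e2 _ y' hy']; simp only [mul_assoc]
    _ = _ := by
        rw [e4, e5, e6, e6]
        congr 3
        ring

/-- `q` with trivial coordinates -/
theorem q_zero (c : F) : q Q u v 0 0 c = tE Q u (c • v) := by
  rw [q, tE_zero_right, tE_zero_right, one_mul, one_mul]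

/-- coordinates of an element of `QL` -/
def xc (Q : QuadraticForm F V) (u v u' v' : V) (g : ↥(E Q)) : V := pW Q u v u' v' ((g : V ≃ₗ[F] V) u')
/-- coordinates of an element of `QL` -/
def yc (Q : QuadraticForm F V) (u v u' v' : V) (g : ↥(E Q)) : V := pW Q u v u' v' ((g : V ≃ₗ[F] V) v')

omit [CharP F 2] in
theorem xc_in (h : LF Q u v u' v') (g : ↥(E Q)) : In Q u v u' v' (xc Q u v u' v' g) := pW_in h _
omit [CharP F 2] in
theorem yc_in (h : LF Q u v u' v') (g : ↥(E Q)) : In Q u v u' v' (yc Q u v u' v' g) := pW_in h _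

theorem xc_q (h : LF Q u v u' v') {x y : V} (hx : In Q u v u' v' x) (hy : In Q u v u' v' y) (c : F) :
    xc Q u v u' v' (q Q u v x y c) = x := by
  rw [xc, q_u' h hx hy]
  simp only [map_add, map_smul, pW_u' h, pW_u h, pW_v h, pW_of_in hx, smul_zero, add_zero, zero_add]

theorem yc_q (h : LF Q u v u' v') {x y : V} (hx : In Q u v u' v' x) (hy : In Q u v u' v' y) (c : F) :
    yc Q u v u' v' (q Q u v x y c) = y := by
  rw [yc, q_v' h hx hy]
  simp only [map_add, map_smul, pW_v' h, pW_u h, pW_v h, pW_of_in hy, smul_zero, add_zero, zero_add]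

/-- Every element of `QL` is the standard element with its coordinates. -/
theorem exists_q' (h : LF Q u v u' v') {g : ↥(E Q)} (hg : g ∈ QL Q u v) :
    ∃ c, g = q Q u v (xc Q u v u' v' g) (yc Q u v u' v' g) c := by
  obtain ⟨x, y, c, hx, hy, rfl⟩ := exists_q h hg
  exact ⟨c, by rw [xc_q h hx hy, yc_q h hx hy]⟩

theorem xc_mul (h : LF Q u v u' v') {g g' : ↥(E Q)} (hg : g ∈ QL Q u v) (hg' : g' ∈ QL Q u v) :
    xc Q u v u' v' (g * g') = xc Q u v u' v' g + xc Q u v u' v' g' := by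
  obtain ⟨x, y, c, hx, hy, rfl⟩ := exists_q h hg
  obtain ⟨x', y', c', hx', hy', rfl⟩ := exists_q h hg'
  rw [q_mul h hx hy hx' hy', xc_q h (hx.add hx') (hy.add hy'), xc_q h hx hy, xc_q h hx' hy']

theorem yc_mul (h : LF Q u v u' v') {g g' : ↥(E Q)} (hg : g ∈ QL Q u v) (hg' : g' ∈ QL Q u v) :
    yc Q u v u' v' (g * g') = yc Q u v u' v' g + yc Q u v u' v' g' := by
  obtain ⟨x, y, c, hx, hy, rfl⟩ := exists_q h hg
  obtain ⟨x', y', c', hx', hy', rfl⟩ := exists_q h hg'
  rw [q_mul h hx hy hx' hy', yc_q h (hx.add hx') (hy.add hy'), yc_q h hx hy, yc_q h hx' hy']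

theorem xc_one (h : LF Q u v u' v') : xc Q u v u' v' 1 = 0 := by
  have h1 := xc_mul h (one_mem (QL Q u v)) (one_mem (QL Q u v))
  rw [one_mul] at h1
  simpa using h1

theorem yc_one (h : LF Q u v u' v') : yc Q u v u' v' 1 = 0 := by
  have h1 := yc_mul h (one_mem (QL Q u v)) (one_mem (QL Q u v))
  rw [one_mul] at h1
  simpa using h1

theorem xc_inv (h : LF Q u v u' v') {g : ↥(E Q)} (hg : g ∈ QL Q u v) :
    xc Q u v u' v' g⁻¹ = xc Q u v u' v' g := by
  have h1 := xc_mul h hg (inv_mem hg)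
  rw [mul_inv_cancel, xc_one h] at h1
  rw [← neg_eq' (F := F) (xc Q u v u' v' g), eq_neg_iff_add_eq_zero, add_comm, ← h1]

theorem yc_inv (h : LF Q u v u' v') {g : ↥(E Q)} (hg : g ∈ QL Q u v) :
    yc Q u v u' v' g⁻¹ = yc Q u v u' v' g := by
  have h1 := yc_mul h hg (inv_mem hg)
  rw [mul_inv_cancel, yc_one h] at h1
  rw [← neg_eq' (F := F) (yc Q u v u' v' g), eq_neg_iff_add_eq_zero, add_comm, ← h1]

omit [CharP F 2] in
theorem X_le_QL [CharP F 2] (h : LF Q u v u' v') : X Q u v h.qu h.uv ≤ QL Q u v := by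
  intro g hg
  obtain ⟨c, rfl⟩ := mem_X.1 hg
  exact tE_mem_QL h.ln (perp_smul_v h c) (by rw [polar_smul_right, h.vv, smul_zero])

/-- an element of `QL` with trivial coordinates lies in `X` -/
theorem mem_X_iff (h : LF Q u v u' v') {g : ↥(E Q)} (hg : g ∈ QL Q u v) :
    g ∈ X Q u v h.qu h.uv ↔ xc Q u v u' v' g = 0 ∧ yc Q u v u' v' g = 0 := by
  constructor
  · intro hx
    obtain ⟨c, rfl⟩ := mem_X.1 hx
    rw [← q_zero c]
    exact ⟨xc_q h In.zero In.zero c, yc_q h In.zero In.zero c⟩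
  · rintro ⟨h1, h2⟩
    obtain ⟨c, e⟩ := exists_q' h hg
    rw [h1, h2, q_zero] at e
    exact mem_X.2 ⟨c, e⟩

/-- equality modulo `X` -/
theorem mul_inv_mem_X_iff (h : LF Q u v u' v') {g g' : ↥(E Q)} (hg : g ∈ QL Q u v)
    (hg' : g' ∈ QL Q u v) : g * g'⁻¹ ∈ X Q u v h.qu h.uv ↔
      xc Q u v u' v' g = xc Q u v u' v' g' ∧ yc Q u v u' v' g = yc Q u v u' v' g' := by
  rw [mem_X_iff h (mul_mem hg (inv_mem hg')), xc_mul h hg (inv_mem hg'), yc_mul h hg (inv_mem hg'),
    xc_inv h hg', yc_inv h hg']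
  have e : ∀ a b : V, a + b = 0 ↔ a = b := fun a b => by
    rw [← sub_eq' (F := F), sub_eq_zero]
  rw [e, e]

/-- `X` is central in `QL` -/
theorem X_central (h : LF Q u v u' v') {x g : ↥(E Q)} (hx : x ∈ X Q u v h.qu h.uv)
    (hg : g ∈ QL Q u v) : x * g = g * x := by
  obtain ⟨c, rfl⟩ := mem_X.1 hx
  obtain ⟨h1, h2, -⟩ := mem_QL.1 hg
  exact (comm_central h h1 h2 c).symm

/-- the commutator of two elements of `QL` -/
theorem comm_q (h : LF Q u v u' v') {g g' : ↥(E Q)} (hg : g ∈ QL Q u v) (hg' : g' ∈ QL Q u v) :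
    g * g' * g⁻¹ * g'⁻¹ = tE Q u ((polar Q (xc Q u v u' v' g) (yc Q u v u' v' g') +
      polar Q (xc Q u v u' v' g') (yc Q u v u' v' g)) • v) := by
  obtain ⟨x, y, c, hx, hy, rfl⟩ := exists_q h hg
  obtain ⟨x', y', c', hx', hy', rfl⟩ := exists_q h hg'
  rw [xc_q h hx hy, xc_q h hx' hy', yc_q h hx hy, yc_q h hx' hy']
  have e1 := q_mul h hx hy hx' hy' c c'
  have e2 := q_mul h hx' hy' hx hy c' c
  have e3 : q Q u v x y c * q Q u v x' y' c' = tE Q u ((polar Q x y' + polar Q x' y) • v) *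
      (q Q u v x' y' c' * q Q u v x y c) := by
    rw [e1, e2, ← q_zero (Q := Q) (u := u) (v := v),
      q_mul h In.zero In.zero (hx'.add hx) (hy'.add hy), zero_add, zero_add, add_comm x' x,
      add_comm y' y, polar_zero_right]
    congr 1
    have := CharTwo.add_self_eq_zero (polar Q x y')
    linear_combination (-1 : F) * this
  rw [mul_assoc (_ * _) (_)⁻¹ _, ← mul_inv_rev, e3, mul_inv_cancel_right]

end two

end Cfsg.Agent.OddHalf.Orth
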