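import Mathlib
import Cfsg.Agent.OddHalf.Orth.KLine

/-!
# Nondegenerate subspaces, torus elements, transitivity

`NS Q N`: `Q` is nondegenerate on the subspace `N`. Spanning by singular vectors, torus elements of a hyperbolic
pair in `E Q`, transitivity of (the part of `E Q` living on `N`) on the singular vectors of `N`.
-/

set_option autoImplicit false
set_option linter.unusedSectionVars false
set_option linter.unusedVariables false

namespace Cfsg.Agent.OddHalf.Orth

open QuadraticMap Cfsg.Agent.LieClassical.OrthCore Cfsg.Agent.LieClassical.OrthTrans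
  Cfsg.Agent.LieClassical.OrthSimple Cfsg.Agent.ClassicalGeometry.OrthAutBasic
  Cfsg.Agent.ClassicalGeometry.OrthAutRoot Cfsg.Agent.ClassicalGeometry.OrthAutSylow

variable {F V : Type*} [Field F] [AddCommGroup V] [Module F V] {Q : QuadraticForm F V}

/-- `Q` is nondegenerate on `N`. -/
structure NS (Q : QuadraticForm F V) (N : Submodule F V) : Prop where
  nd : ∀ x ∈ N, x ≠ 0 → ∃ y ∈ N, polar Q x y ≠ 0

namespace NS

theorem top (hQ : Nondeg Q) : NS Q ⊤ :=
  ⟨fun _ _ h0 => by obtain ⟨y, hy⟩ := hQ.exists_polar_ne h0; exact ⟨y, trivial, hy⟩⟩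

variable {N : Submodule F V}

theorem exists_eq (hN : NS Q N) {x : V} (hx : x ∈ N) (h0 : x ≠ 0) (c : F) : ∃ y ∈ N, polar Q x y = c := by
  obtain ⟨y, hy, hy0⟩ := hN.nd x hx h0
  refine ⟨(c * (polar Q x y)⁻¹) • y, N.smul_mem _ hy, ?_⟩
  rw [polar_smul_right, smul_eq_mul, mul_assoc, inv_mul_cancel₀ hy0, mul_one]

theorem exists_hyp (hN : NS Q N) {x : V} (hx : x ∈ N) (h0 : x ≠ 0) (hq : Q x = 0) :
    ∃ y ∈ N, Hyp Q x y := by
  obtain ⟨y, hy, e⟩ := hN.exists_eq hx h0 1
  refine ⟨y + (-Q y) • x, N.add_mem hy (N.smul_mem _ hx), hq, ?_, ?_⟩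
  · rw [Q_add, QuadraticMap.map_smul, hq, polar_smul_right, polar_comm Q y x, e]
    simp
  · rw [polar_add_right, polar_smul_right, polar_self_of_sing hq, e]
    simp

theorem perp2 (hN : NS Q N) {b b' : V} (h : Hyp Q b b') (hb : b ∈ N) (hb' : b' ∈ N) :
    NS Q (N ⊓ perp2 Q b b') := by
  refine ⟨fun x hx h0 => ?_⟩
  obtain ⟨hx1, hx2⟩ := Submodule.mem_inf.1 hx
  rw [mem_perp2] at hx2
  obtain ⟨y, hy, hy0⟩ := hN.nd x hx1 h0
  refine ⟨proj Q b b' y, Submodule.mem_inf.2 ⟨?_, proj_mem h y⟩, ?_⟩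
  · exact N.sub_mem (N.sub_mem hy (N.smul_mem _ hb)) (N.smul_mem _ hb')
  · rwa [polar_proj_of_perp hx2.1 hx2.2]

theorem finrank_perp2 [FiniteDimensional F V] (N : Submodule F V) (b b' : V) :
    Module.finrank F N ≤ Module.finrank F ↥(N ⊓ Cfsg.Agent.ClassicalGeometry.OrthAutBasic.perp2 Q b b') + 2 := by
  let f : N →ₗ[F] (Fin 2 → F) := (LinearMap.pi fun i => polarBilin Q (![b, b'] i)).domRestrict N
  have h1 := LinearMap.finrank_range_add_finrank_ker f
  have h2 : Module.finrank F (LinearMap.range f) ≤ 2 := by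
    have := Submodule.finrank_le (LinearMap.range f)
    rwa [Module.finrank_fin_fun] at this
  have h3 : (LinearMap.ker f).map N.subtype = N ⊓ Cfsg.Agent.ClassicalGeometry.OrthAutBasic.perp2 Q b b' := by
    ext v
    constructor
    · rintro ⟨w, hw, rfl⟩
      refine Submodule.mem_inf.2 ⟨w.2, mem_perp2.2 ?_⟩
      have h := LinearMap.mem_ker.1 hw
      exact ⟨by simpa [f] using congrFun h 0, by simpa [f] using congrFun h 1⟩
    · intro hv
      obtain ⟨hv1, hv2⟩ := Submodule.mem_inf.1 hv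
      rw [mem_perp2] at hv2
      refine ⟨⟨v, hv1⟩, ?_, rfl⟩
      apply LinearMap.mem_ker.2
      funext i
      fin_cases i
      · simpa [f] using hv2.1
      · simpa [f] using hv2.2
  have h4 : Module.finrank F ↥(N ⊓ Cfsg.Agent.ClassicalGeometry.OrthAutBasic.perp2 Q b b') = Module.finrank F (LinearMap.ker f) := by
    rw [← h3]
    exact (Submodule.equivSubtypeMap N (LinearMap.ker f)).symm.finrank_eq
  omega

/-- every vector of `N` is a sum of singular vectors of `N` -/
theorem sing_ind (hN : NS Q N) {b b' : V} (h : Hyp Q b b') (hb : b ∈ N) (hb' : b' ∈ N) {P : V → Prop}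
    (hadd : ∀ a c, a ∈ N → c ∈ N → P a → P c → P (a + c)) (hsing : ∀ a ∈ N, Q a = 0 → P a) (v : V)
    (hv : v ∈ N) : P v := by
  let P' : V → Prop := fun a => a ∈ N ∧ P a
  have hadd' : ∀ a c, P' a → P' c → P' (a + c) := fun a c h1 h2 =>
    ⟨N.add_mem h1.1 h2.1, hadd a c h1.1 h2.1 h1.2 h2.2⟩
  have hsing' : ∀ a, a ∈ N → Q a = 0 → P' a := fun a h1 h2 => ⟨h1, hsing a h1 h2⟩
  set v' := Cfsg.Agent.LieClassical.OrthTrans.proj Q b b' v with hv'
  have hv'N : v' ∈ N := N.sub_mem (N.sub_mem hv (N.smul_mem _ hb)) (N.smul_mem _ hb')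
  have e : v = (((polar Q b' v • b + polar Q b v • b') + (b + v' - Q v' • b')) + (Q v' • b')) +
      (-1 : F) • b := by
    rw [hv', Cfsg.Agent.LieClassical.OrthTrans.proj]; module
  have : P' v := by
    rw [e]
    apply hadd'
    · apply hadd'
      · apply hadd'
        · apply hadd'
          · exact hsing' _ (N.smul_mem _ hb) (by rw [QuadraticMap.map_smul, h.left, smul_zero])
          · exact hsing' _ (N.smul_mem _ hb') (by rw [QuadraticMap.map_smul, h.right, smul_zero])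
        · exact hsing' _ (N.sub_mem (N.add_mem hb hv'N) (N.smul_mem _ hb'))
            (sing_vec h (polar_proj_left h v) (polar_proj_right h v))
      · exact hsing' _ (N.smul_mem _ hb') (by rw [QuadraticMap.map_smul, h.right, smul_zero])
    · exact hsing' _ (N.smul_mem _ hb) (by rw [QuadraticMap.map_smul, h.left, smul_zero])
  exact this.2

/-- a hyperbolic pair in a subspace of dimension at least three -/
theorem exists_pair [Finite F] (hN : NS Q N) (h3 : 3 ≤ Module.finrank F N) :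
    ∃ b b', b ∈ N ∧ b' ∈ N ∧ Hyp Q b b' := by
  obtain ⟨w, hw, hw0, hwQ⟩ := exists_sing_of_three_le (Q := Q) N h3
  obtain ⟨y, hy, h⟩ := hN.exists_hyp hw hw0 hwQ
  exact ⟨w, y, hw, hy, h⟩

/-- a nonsingular vector -/
theorem exists_nonsing (hN : NS Q N) (h1 : 1 ≤ Module.finrank F N) : ∃ y ∈ N, Q y ≠ 0 := by
  have : Nontrivial N := Module.nontrivial_of_finrank_pos (R := F) (by omega)
  obtain ⟨⟨x, hx⟩, hx0⟩ := exists_ne (0 : N)
  have hx0' : x ≠ 0 := fun h => hx0 (Subtype.ext h)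
  obtain ⟨y, hy, e⟩ := hN.exists_eq hx hx0' 1
  rcases Cfsg.Agent.LieClassical.OrthTrans.exists_nonsing e with h | h | h
  · exact ⟨x, hx, h⟩
  · exact ⟨y, hy, h⟩
  · exact ⟨x + y, N.add_mem hx hy, h⟩

/-- two singular vectors have a common opposite -/
theorem exists_opposite [FiniteDimensional F V] (hN : NS Q N) (h3 : 3 ≤ Module.finrank F N) {w w' : V}
    (hw : w ∈ N) (hw' : w' ∈ N) (h0 : w ≠ 0) (h0' : w' ≠ 0) (hq : Q w = 0) (hq' : Q w' = 0) :
    ∃ b ∈ N, Q b = 0 ∧ polar Q b w ≠ 0 ∧ polar Q b w' ≠ 0 := by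
  by_cases hp : polar Q w w' = 0
  · obtain ⟨b0, hb0, k0⟩ := hN.exists_hyp hw h0 hq
    by_cases h1 : polar Q b0 w' = 0
    · obtain ⟨b1, hb1, k1⟩ := hN.exists_hyp hw' h0' hq'
      by_cases h2 : polar Q b1 w = 0
      · refine ⟨b0 + b1 + (-polar Q b0 b1) • w, N.add_mem (N.add_mem hb0 hb1) (N.smul_mem _ hw), ?_, ?_, ?_⟩
        · rw [Q_add, Q_add, QuadraticMap.map_smul, hq, k0.right, k1.right, polar_smul_right,
            polar_add_left, k0.pair', h2]
          simp
        · rw [polar_add_left, polar_add_left, polar_smul_left, k0.pair', h2, polar_self_of_sing hq]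
          simp
        · rw [polar_add_left, polar_add_left, polar_smul_left, k1.pair', h1, hp]
          simp
      · refine ⟨b1, hb1, k1.right, h2, ?_⟩
        rw [k1.pair']; exact one_ne_zero
    · refine ⟨b0, hb0, k0.right, ?_, h1⟩
      rw [k0.pair']; exact one_ne_zero
  · -- hyperbolic plane: add a nonsingular vector
    have hh : Hyp Q w ((polar Q w w')⁻¹ • w') :=
      ⟨hq, by rw [QuadraticMap.map_smul, hq', smul_zero], by
        rw [polar_smul_right, smul_eq_mul, inv_mul_cancel₀ hp]⟩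
    have hN2 := hN.perp2 hh hw (N.smul_mem _ hw')
    have hf := finrank_perp2 (Q := Q) N w ((polar Q w w')⁻¹ • w')
    obtain ⟨y, hy, hy0⟩ := hN2.exists_nonsing (by omega)
    obtain ⟨hy1, hy2⟩ := Submodule.mem_inf.1 hy
    rw [mem_perp2] at hy2
    have hy3 : polar Q y w = 0 := polar_zero_of_comm hy2.1
    have hy4 : polar Q y w' = 0 := by
      have h5 := hy2.2
      rw [polar_smul_left, smul_eq_mul] at h5
      exact polar_zero_of_comm ((mul_eq_zero.1 h5).resolve_left (inv_ne_zero hp))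
    refine ⟨w + y + (-(Q y * (polar Q w w')⁻¹)) • w', N.add_mem (N.add_mem hw hy1) (N.smul_mem _ hw'),
      ?_, ?_, ?_⟩
    · rw [Q_add, Q_add, QuadraticMap.map_smul, hq, hq', polar_smul_right, polar_add_left, hy4, hy2.1]
      simp only [smul_eq_mul, mul_zero, add_zero, zero_add]
      rw [neg_mul, mul_assoc, inv_mul_cancel₀ hp]; ring
    · rw [polar_add_left, polar_add_left, polar_smul_left, polar_self_of_sing hq, hy3, polar_comm Q w' w]
      simp only [smul_eq_mul, zero_add]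
      rw [neg_mul, mul_assoc, inv_mul_cancel₀ hp, mul_one]
      exact neg_ne_zero.2 hy0
    · rw [polar_add_left, polar_add_left, polar_smul_left, polar_self_of_sing hq', hy4]
      simpa using hp

end NS

/-! ### Torus elements -/

theorem scal [Finite F] [CharP F 2] (hG : Good Q) {u u' : V} (h : Hyp Q u u') {κ : F} (hκ : κ ≠ 0) :
    ∃ k : ↥(E Q), (k : V ≃ₗ[F] V) u = κ • u ∧ (k : V ≃ₗ[F] V) u' = κ⁻¹ • u' ∧
      ∀ x, polar Q u x = 0 → polar Q u' x = 0 → (k : V ≃ₗ[F] V) x = x := by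
  obtain ⟨d, hd⟩ : ∃ d : F, κ = d * d := by
    obtain ⟨d, hd⟩ := FiniteField.isSquare_of_char_two (ringChar.eq F 2) κ
    exact ⟨d, hd⟩
  have hd0 : d ≠ 0 := by
    rintro rfl
    exact hκ (by rw [hd, mul_zero])
  have q1 : Q (u + u') = 1 := by rw [Q_add, h.left, h.right, h.pair]; simp
  have q2 : Q (d • u + d⁻¹ • u') = 1 := by
    rw [Q_add, QuadraticMap.map_smul, QuadraticMap.map_smul, h.left, h.right, polar_smul_left,
      polar_smul_right, h.pair]
    simp [mul_inv_cancel₀ hd0]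
  have n1 : Q (u + u') ≠ 0 := by rw [q1]; exact one_ne_zero
  have n2 : Q (d • u + d⁻¹ • u') ≠ 0 := by rw [q2]; exact one_ne_zero
  refine ⟨⟨refl Q _ n2 * refl Q _ n1, hG.refl_mul_refl_mem n1 n2 (q1.trans q2.symm)⟩, ?_, ?_, ?_⟩
  · show refl Q _ n2 (refl Q _ n1 u) = κ • u
    have e1 : refl Q _ n1 u = -u' := by
      rw [refl_apply, q1, polar_add_left, polar_self_of_sing h.left, h.pair']
      simp
    rw [e1, map_neg, refl_apply, q2, polar_add_left, polar_smul_left, polar_smul_left, h.pair,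
      polar_self_of_sing h.right, hd]
    simp only [smul_eq_mul, mul_one, mul_zero, add_zero, inv_one, one_mul]
    rw [smul_add, smul_smul, smul_smul, mul_inv_cancel₀ hd0]
    module
  · show refl Q _ n2 (refl Q _ n1 u') = κ⁻¹ • u'
    have e1 : refl Q _ n1 u' = -u := by
      rw [refl_apply, q1, polar_add_left, polar_self_of_sing h.right, h.pair]
      simp
    rw [e1, map_neg, refl_apply, q2, polar_add_left, polar_smul_left, polar_smul_left, h.pair',
      polar_self_of_sing h.left, hd]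
    simp only [smul_eq_mul, mul_one, mul_zero, zero_add, inv_one, one_mul]
    rw [smul_add, smul_smul, smul_smul, inv_mul_cancel₀ hd0, mul_inv]
    module
  · intro x hx hx'
    show refl Q _ n2 (refl Q _ n1 x) = x
    have e1 : refl Q _ n1 x = x := by
      rw [refl_apply, polar_add_left, hx, hx']; simp
    rw [e1, refl_apply, polar_add_left, polar_smul_left, polar_smul_left, hx, hx']; simp

/-! ### Transitivity -/

theorem trans_in [Finite F] [FiniteDimensional F V] [CharP F 2] (hG : Good Q) {N : Submodule F V}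
    (hN : NS Q N) (h3 : 3 ≤ Module.finrank F N) {w w' : V} (hw : w ∈ N) (hw' : w' ∈ N) (h0 : w ≠ 0)
    (h0' : w' ≠ 0) (hq : Q w = 0) (hq' : Q w' = 0) :
    ∃ k : ↥(E Q), (k : V ≃ₗ[F] V) w = w' ∧
      ∀ x, (∀ y ∈ N, polar Q x y = 0) → (k : V ≃ₗ[F] V) x = x := by
  obtain ⟨b0, hb0, qb, hbw, hbw'⟩ := hN.exists_opposite h3 hw hw' h0 h0' hq hq'
  set b := (polar Q b0 w)⁻¹ • b0 with hb
  have hbN : b ∈ N := N.smul_mem _ hb0
  have hqb : Q b = 0 := by rw [hb, QuadraticMap.map_smul, qb, smul_zero]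
  have h1 : polar Q b w = 1 := by rw [hb, polar_smul_left, smul_eq_mul, inv_mul_cancel₀ hbw]
  have h2 : polar Q b w' ≠ 0 := by
    rw [hb, polar_smul_left, smul_eq_mul]
    exact mul_ne_zero (inv_ne_zero hbw) hbw'
  set μ := (polar Q b w')⁻¹ with hμ
  have hμ0 : μ ≠ 0 := inv_ne_zero h2
  have k1 : Hyp Q b w := ⟨hqb, hq, h1⟩
  have k2 : Hyp Q b (μ • w') := ⟨hqb, by rw [QuadraticMap.map_smul, hq', smul_zero], by
    rw [polar_smul_right, smul_eq_mul, hμ, inv_mul_cancel₀ h2]⟩
  have e1 := T_partner k1 k2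
  obtain ⟨w1, hw1, k3⟩ := hN.exists_hyp hw' h0' hq'
  obtain ⟨k, ka, kb, kc⟩ := scal hG k3 (inv_ne_zero hμ0)
  refine ⟨k * tE Q b (μ • w' - w), ?_, ?_⟩
  · show (k : V ≃ₗ[F] V) (T Q b (μ • w' - w) w) = w'
    rw [e1, map_smul, ka, smul_smul, mul_inv_cancel₀ hμ0, one_smul]
  · intro x hx
    show (k : V ≃ₗ[F] V) (T Q b (μ • w' - w) x) = x
    have e2 : T Q b (μ • w' - w) x = x :=
      T_fix (polar_zero_of_comm (hx _ hbN))
        (polar_zero_of_comm (hx _ (N.sub_mem (N.smul_mem _ hw') hw)))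
    rw [e2]
    exact kc x (polar_zero_of_comm (hx _ hw')) (polar_zero_of_comm (hx _ hw1))

end Cfsg.Agent.OddHalf.Orth
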