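import Mathlib
import Cfsg.Agent.OddHalf.Orth.KSub
import Cfsg.Agent.OddHalf.Orth.Face

/-!
# `KFacts Q` for every nondegenerate quadratic space of dimension at least 8 in characteristic 2
-/

set_option autoImplicit false
set_option linter.unusedSectionVars false
set_option linter.unusedVariables false

namespace Cfsg.Agent.OddHalf.Orth

open QuadraticMap Cfsg.Agent.LieClassical.OrthCore Cfsg.Agent.LieClassical.OrthTrans
  Cfsg.Agent.LieClassical.OrthSimple Cfsg.Agent.ClassicalGeometry.OrthAutBasic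
  Cfsg.Agent.ClassicalGeometry.OrthAutRoot Cfsg.Agent.ClassicalGeometry.OrthAutSylow Face

variable {F V : Type*} [Field F] [AddCommGroup V] [Module F V] {Q : QuadraticForm F V}

/-! ### `W` -/

section
variable {u v u' v' : V}

theorem W4_ns (hQ : Nondeg Q) (h : LF Q u v u' v') : NS Q (W4 Q u v u' v') := by
  have h1 := (NS.top hQ).perp2 h.h1 trivial trivial
  have h2 := h1.perp2 h.h2 (Submodule.mem_inf.2 ⟨trivial, mem_perp2.2 ⟨h.uv, h.u'v⟩⟩)
    (Submodule.mem_inf.2 ⟨trivial, mem_perp2.2 ⟨h.uv', h.u'v'⟩⟩)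
  rwa [top_inf_eq] at h2

theorem W4_dim [FiniteDimensional F V] (Q : QuadraticForm F V) (u v u' v' : V) :
    Module.finrank F V ≤ Module.finrank F ↥(W4 Q u v u' v') + 4 := by
  have h1 := NS.finrank_perp2 (Q := Q) (⊤ : Submodule F V) u u'
  have h2 := NS.finrank_perp2 (Q := Q) (⊤ ⊓ perp2 Q u u') v v'
  rw [top_inf_eq] at h1 h2
  rw [finrank_top] at h1
  have : W4 Q u v u' v' = perp2 Q u u' ⊓ perp2 Q v v' := rfl
  rw [this]
  omega

theorem ln3_of_in (h : LF Q u v u' v') {w : V} (hw : In Q u v u' v' w) (h0 : w ≠ 0) (hq : Q w = 0)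
    (a b : F) : Ln3 Q u v (w + a • u + b • v) := by
  have hne : w + a • u + b • v ∉ L F u v := by
    intro hm
    obtain ⟨c, d, e⟩ := mem_L.1 hm
    have e1 := congrArg (pW Q u v u' v') e
    simp only [map_add, map_smul, pW_u h, pW_v h, pW_of_in hw, smul_zero, add_zero] at e1
    exact h0 e1.symm
  refine ⟨h.ln, ⟨h.qu, ?_, ?_, h.ln.ne, ?_⟩, ?_, hne⟩
  · rw [Q_add, Q_add, QuadraticMap.map_smul, QuadraticMap.map_smul, hq, h.qu, h.qv, polar_smul_right,
      polar_smul_right, polar_add_left, polar_smul_left, hw.ru, hw.rv, h.uv]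
    simp
  · rw [polar_add_right, polar_add_right, polar_smul_right, polar_smul_right, hw.u, h.uu, h.uv]
    simp
  · intro c hc
    exact hne (by rw [hc]; exact Submodule.smul_mem _ _ (left_mem_L u v))
  · rw [polar_add_right, polar_add_right, polar_smul_right, polar_smul_right, hw.v, h.vu, h.vv]
    simp

theorem perp_W (hQ : Nondeg Q) [Finite F] [FiniteDimensional F V] (hd : 7 ≤ Module.finrank F V)
    (h : LF Q u v u' v') {y : V} (H : ∀ w, In Q u v u' v' w → Q w = 0 → w ≠ 0 → polar Q y w = 0) :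
    pW Q u v u' v' y = 0 := by
  have hN := W4_ns hQ h
  have hdim := W4_dim Q u v u' v'
  obtain ⟨b, b', hb, hb', hbb⟩ := hN.exists_pair (by omega)
  have key : ∀ w, In Q u v u' v' w → polar Q y w = 0 := by
    intro w hw
    refine hN.sing_ind hbb hb hb' (P := fun w => polar Q y w = 0) ?_ ?_ w (In.iff_mem.1 hw)
    · intro a c _ _ h1 h2
      rw [polar_add_right, h1, h2, add_zero]
    · intro a ha hqa
      by_cases h0 : a = 0
      · rw [h0, polar_zero_right]
      · exact H a (In.iff_mem.2 ha) hqa h0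
  refine eq_zero_of_in hQ h (pW_in h y) fun x hx => ?_
  rw [polar_comm, polar_pW hx, polar_comm, key x hx]

end

/-! ### Semilinear isometries -/

namespace Sem'

variable {M : V ≃+ V} {σ : F ≃+* F}

theorem polar' (S : Sem Q M σ) (x y : V) : polar Q (M x) (M y) = σ (polar Q x y) := by
  have h1 := S.iso (x + y)
  rw [map_add, Q_add, Q_add, S.iso, S.iso, map_add, map_add] at h1
  exact add_left_cancel h1

theorem ln (S : Sem Q M σ) {u v : V} (h : Ln Q u v) : Ln Q (M u) (M v) where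
  qu := by rw [S.iso, h.qu, map_zero]
  qw := by rw [S.iso, h.qw, map_zero]
  perp := by rw [polar' S, h.perp, map_zero]
  ne := by
    intro e
    exact h.ne (M.injective (by rw [e, map_zero]))
  ind := by
    intro c hc
    apply h.ind (σ.symm c)
    apply M.injective
    rw [S.smul, RingEquiv.apply_symm_apply, hc]

/-- a semilinear isometry commuting with `T u v` preserves the line -/
theorem mem_line (hQ : Nondeg Q) (S : Sem Q M σ) {u v : V} (h : Ln Q u v)
    (e : tE Q (M u) (M v) = tE Q u v) : M u ∈ L F u v ∧ M v ∈ L F u v := by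
  have e1 : D (T Q (M u) (M v)) = D (T Q u v) := by
    have := congrArg Subtype.val e
    rw [coe_tE, coe_tE] at this
    rw [this]
  rw [D_T hQ (ln S h), D_T hQ h] at e1
  rw [← e1]
  exact ⟨left_mem_L _ _, right_mem_L _ _⟩

/-- two lines through `u` -/
theorem eq_smul_of_lines (hQ : Nondeg Q) (S : Sem Q M σ) {u v w : V} (h : Ln Q u v) (h' : Ln Q u w)
    (hw : w ∉ L F u v) (e : tE Q (M u) (M v) = tE Q u v) (e' : tE Q (M u) (M w) = tE Q u w) :
    ∃ c : F, M u = c • u := by
  obtain ⟨a, b, h1⟩ := mem_L.1 (mem_line hQ S h e).1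
  obtain ⟨c, d, h2⟩ := mem_L.1 (mem_line hQ S h' e').1
  by_cases hd : d = 0
  · subst hd
    exact ⟨c, by rw [← h2]; simp⟩
  · exfalso
    apply hw
    have : w = d⁻¹ • ((a - c) • u + b • v) := by
      have h3 : d • w = (a - c) • u + b • v := by
        have : a • u + b • v = c • u + d • w := by rw [h1, h2]
        rw [sub_smul]
        have e2 : d • w = a • u + b • v - c • u := by rw [this]; abel
        rw [e2]; abel
      rw [← h3, smul_smul, inv_mul_cancel₀ hd, one_smul]
    rw [this]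
    exact Submodule.smul_mem _ _ (mem_L.2 ⟨a - c, b, rfl⟩)

/-- the basic computation -/
theorem of_tE (hQ : Nondeg Q) {u x : V} {lam : F} (hu : Q u = 0) (hu0 : u ≠ 0) (hx : polar Q u x = 0)
    (S : Sem Q M σ) (hM : M u = lam • u) (e : tE Q (M u) (M x) = tE Q u x) :
    ∃ c : F, lam • M x = x + c • u := by
  have hl : lam ≠ 0 := by
    rintro rfl
    rw [zero_smul] at hM
    exact hu0 (M.injective (by rw [hM, map_zero]))
  have h1 : polar Q u (M x) = 0 := by
    have h2 := polar' S u x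
    rw [hM, hx, map_zero, polar_smul_left, smul_eq_mul] at h2
    exact (mul_eq_zero.1 h2).resolve_left hl
  rw [hM, tE_smul_left lam hu h1] at e
  exact (tE_eq_iff hQ hu hu0 hx (by rw [polar_smul_right, h1, smul_zero])).1 e.symm

/-- the linear map of a semilinear isometry with trivial field automorphism -/
def toLin (S : Sem Q M σ) (h : ∀ a, σ a = a) : V ≃ₗ[F] V :=
  { M with
    map_smul' := fun a v => by
      have h1 := S.smul a v
      rw [h] at h1
      exact h1 }

theorem toLin_apply (S : Sem Q M σ) (h : ∀ a, σ a = a) (v : V) : toLin S h v = M v := rfl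

theorem toLin_mem (S : Sem Q M σ) (h : ∀ a, σ a = a) : toLin S h ∈ O Q := by
  intro v
  rw [toLin_apply, S.iso, h]

end Sem'

open Sem'

/-- `C_{ΓO(V)}(R_u) = R_u` -/
theorem cent1 (hQ : Nondeg Q) [Finite F] [CharP F 2] (hd : 8 ≤ Module.finrank F V) {u : V} {M : V ≃+ V}
    {σ : F ≃+* F} (S : Sem Q M σ) (hu : Q u = 0) (hu0 : u ≠ 0)
    (H : ∀ x, polar Q u x = 0 → tE Q (M u) (M x) = tE Q u x) :
    ∃ y, polar Q u y = 0 ∧ ∀ v, M v = T Q u y v := by
  have : FiniteDimensional F V := Module.finite_of_finrank_pos (by omega)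
  obtain ⟨u', hu'⟩ := exists_hyp hQ hu hu0
  have hN := (NS.top hQ).perp2 hu' trivial trivial
  have hdim := NS.finrank_perp2 (Q := Q) (⊤ : Submodule F V) u u'
  rw [finrank_top] at hdim
  obtain ⟨v, v', hv, hv', hvv⟩ := hN.exists_pair (by omega)
  have hv1 := mem_perp2.1 (Submodule.mem_inf.1 hv).2
  have hv1' := mem_perp2.1 (Submodule.mem_inf.1 hv').2
  have h : LF Q u v u' v' := ⟨hu', hvv, hv1.1, hv1'.1, hv1.2, hv1'.2⟩
  have h' : LF Q u v' u' v := ⟨hu', hvv.symm, hv1'.1, hv1.1, hv1'.2, hv1.2⟩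
  have hnot : v' ∉ L F u v := by
    intro hm
    have := h.ln.polar_mem (right_mem_L u v) hm
    rw [h.vv'] at this
    exact one_ne_zero this
  obtain ⟨lam, hlam⟩ := eq_smul_of_lines hQ S h.ln h'.ln hnot (H v h.uv) (H v' h.uv')
  have hl : lam ≠ 0 := by
    rintro rfl
    rw [zero_smul] at hlam
    exact hu0 (M.injective (by rw [hlam, map_zero]))
  have key : ∀ x, polar Q u x = 0 → lam * lam * σ (Q x) = Q x := by
    intro x hx
    obtain ⟨c, hc⟩ := of_tE hQ hu hu0 hx S hlam (H x hx)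
    have h1 := congrArg Q hc
    rw [QuadraticMap.map_smul, S.iso, Q_add, QuadraticMap.map_smul, hu, polar_smul_right,
      polar_comm Q x u, hx] at h1
    simpa using h1
  have hQv : ∀ a : F, Q (a • v + v') = a := by
    intro a
    rw [Q_add, QuadraticMap.map_smul, h.qv, h.qv', polar_smul_left, h.vv']
    simp
  have hpv : ∀ a : F, polar Q u (a • v + v') = 0 := by
    intro a
    rw [polar_add_right, polar_smul_right, h.uv, h.uv']; simp
  have hl1 : lam * lam = 1 := by
    have := key _ (hpv 1)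
    rwa [hQv, map_one, mul_one] at this
  have hσ : ∀ a, σ a = a := by
    intro a
    have := key _ (hpv a)
    rwa [hQv, hl1, one_mul] at this
  have hlam1 : lam = 1 := by
    have h2 : (lam - 1) * (lam - 1) = 0 := by
      have := CharTwo.two_eq_zero (R := F)
      linear_combination hl1 + (1 - lam) * this
    exact sub_eq_zero.1 (mul_self_eq_zero.1 h2)
  rw [hlam1, one_smul] at hlam
  obtain ⟨w0, hw0, e⟩ := eq_T_of_trivial hQ (toLin_mem S hσ) hu hu0 (by rw [toLin_apply, hlam]) (by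
    intro w hw
    obtain ⟨c, hc⟩ := of_tE hQ hu hu0 hw S (lam := 1) (by rw [one_smul, hlam]) (H w hw)
    exact ⟨c, by rw [toLin_apply, ← hc, one_smul]⟩)
  refine ⟨w0, hw0, fun x => ?_⟩
  rw [← toLin_apply S hσ, e]

/-- a scalar equal to its inverse is 1 in characteristic 2 -/
theorem eq_one_of_mul_self [CharP F 2] {c : F} (h : c * c = 1) : c = 1 := by
  have h2 : (c - 1) * (c - 1) = 0 := by
    have := CharTwo.two_eq_zero (R := F)
    linear_combination h + (1 - c) * this
  exact sub_eq_zero.1 (mul_self_eq_zero.1 h2)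

/-- **relation (c)** -/
theorem cent3 (hQ : Nondeg Q) [CharP F 2] {u v a b : V} {M : V ≃+ V} {σ : F ≃+* F} (S : Sem Q M σ)
    (R : Rel Q u v a b) (e1 : tE Q (M u) (M v) = tE Q u v) (e2 : tE Q (M a) (M b) = tE Q a b)
    (e3 : tE Q (M u) (M b) = tE Q u b) (e4 : tE Q (M a) (M v) = tE Q a v)
    (H : ∀ x, polar Q u x = 0 → polar Q v x = 0 → polar Q a x = 0 → polar Q b x = 0 →
      tE Q (M u) (M x) = tE Q u x ∧ tE Q (M a) (M x) = tE Q a x) :
    ∃ c : F, ∀ y, M y = T Q u (c • a) y := by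
  have hbu : polar Q b u = 0 := polar_zero_of_comm R.ub
  have hav : polar Q a v = 0 := polar_zero_of_comm R.va
  have hbv : polar Q b v = 1 := by rw [polar_comm]; exact R.vb
  have lub : Ln Q u b := ⟨R.uv.qu, R.ab.qw, R.ub, R.uv.ne, fun c hc => by
    have := R.vb
    rw [hc, polar_smul_right, R.uv.perp', smul_zero] at this
    exact zero_ne_one this⟩
  have lav : Ln Q a v := ⟨R.ab.qu, R.uv.qw, hav, R.ab.ne, fun c hc => by
    have := R.vb
    rw [hc, polar_smul_left, R.ab.perp, smul_zero] at this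
    exact zero_ne_one this⟩
  have nb : b ∉ L F u v := fun hm => by
    have := R.uv.polar_mem (right_mem_L u v) hm
    rw [R.vb] at this
    exact one_ne_zero this
  have nv : v ∉ L F a b := fun hm => by
    have := R.ab.polar_mem hm (right_mem_L a b)
    rw [R.vb] at this
    exact one_ne_zero this
  obtain ⟨lam, hlam⟩ := eq_smul_of_lines hQ S R.uv lub nb e1 e3
  obtain ⟨mu, hmu⟩ := eq_smul_of_lines hQ S R.ab lav nv e2 e4
  obtain ⟨c1, hc1⟩ := of_tE hQ R.uv.qu R.uv.ne R.uv.perp S hlam e1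
  obtain ⟨c2, hc2⟩ := of_tE hQ R.ab.qu R.ab.ne hav S hmu e4
  obtain ⟨c3, hc3⟩ := of_tE hQ R.uv.qu R.uv.ne R.ub S hlam e3
  obtain ⟨c4, hc4⟩ := of_tE hQ R.ab.qu R.ab.ne R.ab.perp S hmu e2
  have hlm : lam = mu := by
    have h1 : mu • (v + c1 • u) = lam • (v + c2 • a) := by rw [← hc1, ← hc2, smul_smul, smul_smul, mul_comm]
    have h2 := congrArg (fun z => polar Q b z) h1
    simp only [polar_smul_right, polar_add_right, hbv, hbu, R.ab.perp', smul_eq_mul, mul_zero, add_zero,
      mul_one] at h2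
    exact h2.symm
  have k1 : c1 = 0 ∧ c2 = 0 := by
    rw [← hlm, hc1] at hc2
    have h3 : c1 • u + (-c2) • a = 0 := by
      have := add_left_cancel hc2
      rw [this]; module
    have h4 := R.ua.coeff h3
    exact ⟨h4.1, neg_eq_zero.1 h4.2⟩
  have k2 : c3 = 0 := by
    rw [← hlm, hc3] at hc4
    have h3 : c3 • u + (-c4) • a = 0 := by
      have := add_left_cancel hc4
      rw [this]; module
    exact (R.ua.coeff h3).1
  rw [k1.1, zero_smul, add_zero] at hc1
  rw [k2, zero_smul, add_zero] at hc3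
  have hl1 : lam = 1 := by
    apply eq_one_of_mul_self
    have h1 : polar Q (lam • M v) (lam • M b) = 1 := by rw [hc1, hc3, R.vb]
    rw [polar_smul_left, polar_smul_right, polar' S, R.vb, map_one] at h1
    simpa using h1
  rw [← hlm] at hmu
  rw [hl1, one_smul] at hlam hmu hc1 hc3
  have hx : ∀ x, polar Q u x = 0 → polar Q v x = 0 → polar Q a x = 0 → polar Q b x = 0 → M x = x := by
    intro x h1 h2 h3 h4
    obtain ⟨f1, f2⟩ := H x h1 h2 h3 h4
    obtain ⟨d1, g1⟩ := of_tE hQ R.uv.qu R.uv.ne h1 S (lam := 1) (by rw [one_smul, hlam]) f1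
    obtain ⟨d2, g2⟩ := of_tE hQ R.ab.qu R.ab.ne h3 S (lam := 1) (by rw [one_smul, hmu]) f2
    rw [g1] at g2
    have h5 : d1 • u + (-d2) • a = 0 := by
      have := add_left_cancel g2
      rw [this]; module
    rw [(R.ua.coeff h5).1, zero_smul, add_zero, one_smul] at g1
    exact g1
  have hσ : ∀ s, σ s = s := by
    intro s
    have h1 := hx (s • u) (by rw [polar_smul_right, polar_self_of_sing R.uv.qu, smul_zero])
      (by rw [polar_smul_right, R.uv.perp', smul_zero]) (by rw [polar_smul_right, R.ua.perp', smul_zero])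
      (by rw [polar_smul_right, hbu, smul_zero])
    rw [S.smul, hlam] at h1
    have h2 : (σ s - s) • u = 0 := by rw [sub_smul, h1, sub_self]
    exact sub_eq_zero.1 ((smul_eq_zero.1 h2).resolve_right R.uv.ne)
  have hfix : ∀ w, polar Q u w = 0 → polar Q a w = 0 → toLin S hσ w = w := by
    intro w h1 h2
    rw [toLin_apply]
    have hvb : Hyp Q v b := ⟨R.uv.qw, R.ab.qw, R.vb⟩
    set p := Cfsg.Agent.LieClassical.OrthTrans.proj Q v b w with hp
    have e : w = polar Q b w • v + polar Q v w • b + p := by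
      rw [hp, Cfsg.Agent.LieClassical.OrthTrans.proj]; module
    have hpu : polar Q u p = 0 := by rw [hp, polar_proj_of_perp R.uv.perp' hbu, h1]
    have hpa : polar Q a p = 0 := by rw [hp, polar_proj_of_perp R.va R.ab.perp', h2]
    rw [e, map_add, map_add, S.smul, S.smul, hσ, hσ, hc1, hc3,
      hx p hpu (polar_proj_left hvb w) hpa (polar_proj_right hvb w)]
  obtain ⟨u1, a1, hf⟩ := exists_LF hQ R.ua
  obtain ⟨c, hc⟩ := exists_of_fix hQ hf (toLin_mem S hσ) hfix
  exact ⟨c, fun y => by rw [← toLin_apply S hσ, hc]⟩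

/-- **relation (b)** -/
theorem cent4 (hQ : Nondeg Q) [FiniteDimensional F V] [CharP F 2] {u v a b : V} {M : V ≃+ V} {σ : F ≃+* F}
    (S : Sem Q M σ) (R : Dis Q u v a b)
    (H1 : ∀ x, polar Q u x = 0 → polar Q a x = 0 → polar Q b x = 0 → tE Q (M u) (M x) = tE Q u x)
    (H2 : ∀ x, polar Q v x = 0 → polar Q a x = 0 → polar Q b x = 0 → tE Q (M v) (M x) = tE Q v x)
    (H3 : ∀ x, polar Q a x = 0 → polar Q u x = 0 → polar Q v x = 0 → tE Q (M a) (M x) = tE Q a x)
    (H4 : ∀ x, polar Q b x = 0 → polar Q u x = 0 → polar Q v x = 0 → tE Q (M b) (M x) = tE Q b x) :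
    ∃ c d : F, ∀ y, M y = T Q u (c • v) (T Q a (d • b) y) := by
  have luv := R.uva.uv
  have lua := R.uva.uw
  have hva := R.uva.perp
  have hav : polar Q a v = 0 := polar_zero_of_comm hva
  have hau := lua.perp'
  have hvu := luv.perp'
  have hbu : polar Q b u = 0 := polar_zero_of_comm R.ub
  have hbv : polar Q b v = 0 := polar_zero_of_comm R.vb
  have hab := R.ab.perp
  have hba := R.ab.perp'
  have quu : polar Q u u = 0 := polar_self_of_sing luv.qu
  have qvv : polar Q v v = 0 := polar_self_of_sing luv.qw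
  have qaa : polar Q a a = 0 := polar_self_of_sing R.ab.qu
  have qbb : polar Q b b = 0 := polar_self_of_sing R.ab.qw
  -- independence
  have i1 : ∀ α β γ δ : F, α • u + β • v + γ • a + δ • b = 0 → α = 0 ∧ β = 0 ∧ γ = 0 ∧ δ = 0 := by
    intro α β γ δ e
    have hδ : δ = 0 := by
      by_contra hδ
      apply R.ind
      have : b = δ⁻¹ • ((-α) • u + (-β) • v + (-γ) • a) := by
        have h1 : δ • b = (-α) • u + (-β) • v + (-γ) • a := by
          rw [← sub_eq_zero, ← e]; module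
        rw [← h1, smul_smul, inv_mul_cancel₀ hδ, one_smul]
      rw [this]
      refine Submodule.smul_mem _ _ (Submodule.add_mem _ (Submodule.add_mem _ ?_ ?_) ?_) <;>
        exact Submodule.smul_mem _ _ (Submodule.subset_span (by simp))
    rw [hδ, zero_smul, add_zero] at e
    have hγ : γ = 0 := by
      by_contra hγ
      apply R.uva.ind
      have : a = γ⁻¹ • ((-α) • u + (-β) • v) := by
        have h1 : γ • a = (-α) • u + (-β) • v := by
          rw [← sub_eq_zero, ← e]; module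
        rw [← h1, smul_smul, inv_mul_cancel₀ hγ, one_smul]
      rw [this]
      exact Submodule.smul_mem _ _ (mem_L.2 ⟨_, _, rfl⟩)
    rw [hγ, zero_smul, add_zero] at e
    exact ⟨(luv.coeff e).1, (luv.coeff e).2, hγ, hδ⟩
  have lva : Ln Q v a := ⟨luv.qw, R.ab.qu, hva, luv.ne', fun c hc => by
    have := (i1 0 (-c) 1 0 (by rw [hc]; module)).2.2.1
    exact one_ne_zero this⟩
  have nua : a ∉ L F v u := fun hm => by
    obtain ⟨c, d, e⟩ := mem_L.1 hm
    have := (i1 d c (-1) 0 (by rw [← e]; module)).2.2.1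
    exact one_ne_zero (neg_eq_zero.1 this)
  have nub : u ∉ L F a b := fun hm => by
    obtain ⟨c, d, e⟩ := mem_L.1 hm
    have := (i1 (-1) 0 c d (by rw [← e]; module)).1
    exact one_ne_zero (neg_eq_zero.1 this)
  have nub' : u ∉ L F b a := fun hm => by
    obtain ⟨c, d, e⟩ := mem_L.1 hm
    have := (i1 (-1) 0 d c (by rw [← e]; module)).1
    exact one_ne_zero (neg_eq_zero.1 this)
  have lbu : Ln Q b u := ⟨R.ab.qw, luv.qu, hbu, R.ab.ne', fun c hc => by
    have := (i1 1 0 0 (-c) (by rw [hc]; module)).1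
    exact one_ne_zero this⟩
  obtain ⟨l1, h1⟩ := eq_smul_of_lines hQ S luv lua R.uva.ind (H1 v luv.perp hav hbv) (H1 a lua.perp qaa hba)
  obtain ⟨l2, h2⟩ := eq_smul_of_lines hQ S luv.symm lva nua (H2 u hvu hau hbu) (H2 a hva qaa hba)
  obtain ⟨l3, h3⟩ := eq_smul_of_lines hQ S R.ab lua.symm nub (H3 b hab R.ub R.vb) (H3 u hau quu hvu)
  obtain ⟨l4, h4⟩ := eq_smul_of_lines hQ S R.ab.symm lbu nub' (H4 a hba lua.perp hva) (H4 u hbu quu hvu)
  -- the products of the scalars
  have m12 : l1 * l2 = 1 := by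
    obtain ⟨c, hc⟩ := of_tE hQ luv.qu luv.ne luv.perp S h1 (H1 v luv.perp hav hbv)
    rw [h2, smul_smul] at hc
    have := (i1 (-c) (l1 * l2 - 1) 0 0 (by rw [sub_smul, hc]; module)).2.1
    exact sub_eq_zero.1 this
  have m13 : l1 * l3 = 1 := by
    obtain ⟨c, hc⟩ := of_tE hQ luv.qu luv.ne lua.perp S h1 (H1 a lua.perp qaa hba)
    rw [h3, smul_smul] at hc
    have := (i1 (-c) 0 (l1 * l3 - 1) 0 (by rw [sub_smul, hc]; module)).2.2.1
    exact sub_eq_zero.1 this
  have m23 : l2 * l3 = 1 := by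
    obtain ⟨c, hc⟩ := of_tE hQ luv.qw luv.ne' hva S h2 (H2 a hva qaa hba)
    rw [h3, smul_smul] at hc
    have := (i1 0 (-c) (l2 * l3 - 1) 0 (by rw [sub_smul, hc]; module)).2.2.1
    exact sub_eq_zero.1 this
  have m34 : l3 * l4 = 1 := by
    obtain ⟨c, hc⟩ := of_tE hQ R.ab.qu R.ab.ne hab S h3 (H3 b hab R.ub R.vb)
    rw [h4, smul_smul] at hc
    have := (i1 0 0 (-c) (l3 * l4 - 1) (by rw [sub_smul, hc]; module)).2.2.2
    exact sub_eq_zero.1 this
  have z1 : l1 = 1 := by
    have e : l2 = l3 := by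
      have : l1 * l2 = l1 * l3 := by rw [m12, m13]
      exact mul_left_cancel₀ (left_ne_zero_of_mul (by rw [m12]; exact one_ne_zero)) this
    have h5 : l2 = 1 := eq_one_of_mul_self (by rw [← e] at m23; exact m23)
    rw [h5, mul_one] at m12
    exact m12
  rw [z1, one_mul] at m12 m13
  rw [m13, one_mul] at m34
  rw [z1, one_smul] at h1
  rw [m12, one_smul] at h2
  rw [m13, one_smul] at h3
  rw [m34, one_smul] at h4
  have f1 : ∀ x, polar Q u x = 0 → polar Q a x = 0 → polar Q b x = 0 → ∃ c : F, M x = x + c • u := by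
    intro x k1 k2 k3
    obtain ⟨c, hc⟩ := of_tE hQ luv.qu luv.ne k1 S (lam := 1) (by rw [one_smul, h1]) (H1 x k1 k2 k3)
    rw [one_smul] at hc
    exact ⟨c, hc⟩
  have f2 : ∀ x, polar Q v x = 0 → polar Q a x = 0 → polar Q b x = 0 → ∃ c : F, M x = x + c • v := by
    intro x k1 k2 k3
    obtain ⟨c, hc⟩ := of_tE hQ luv.qw luv.ne' k1 S (lam := 1) (by rw [one_smul, h2]) (H2 x k1 k2 k3)
    rw [one_smul] at hc
    exact ⟨c, hc⟩
  have f3 : ∀ x, polar Q a x = 0 → polar Q u x = 0 → polar Q v x = 0 → ∃ c : F, M x = x + c • a := by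
    intro x k1 k2 k3
    obtain ⟨c, hc⟩ := of_tE hQ R.ab.qu R.ab.ne k1 S (lam := 1) (by rw [one_smul, h3]) (H3 x k1 k2 k3)
    rw [one_smul] at hc
    exact ⟨c, hc⟩
  have f4 : ∀ x, polar Q b x = 0 → polar Q u x = 0 → polar Q v x = 0 → ∃ c : F, M x = x + c • b := by
    intro x k1 k2 k3
    obtain ⟨c, hc⟩ := of_tE hQ R.ab.qw R.ab.ne' k1 S (lam := 1) (by rw [one_smul, h4]) (H4 x k1 k2 k3)
    rw [one_smul] at hc
    exact ⟨c, hc⟩
  have f5 : ∀ x, polar Q u x = 0 → polar Q v x = 0 → polar Q a x = 0 → polar Q b x = 0 → M x = x := by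
    intro x k1 k2 k3 k4
    obtain ⟨c, hc⟩ := f1 x k1 k3 k4
    obtain ⟨d, hd⟩ := f2 x k2 k3 k4
    rw [hc] at hd
    have h5 : c • u + (-d) • v = 0 := by
      have := add_left_cancel hd
      rw [this]; module
    rw [hc, (luv.coeff h5).1, zero_smul, add_zero]
  have hσ : ∀ s, σ s = s := by
    intro s
    have h5 := f5 (s • u) (by rw [polar_smul_right, quu, smul_zero])
      (by rw [polar_smul_right, hvu, smul_zero]) (by rw [polar_smul_right, hau, smul_zero])
      (by rw [polar_smul_right, hbu, smul_zero])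
    rw [S.smul, h1] at h5
    have h6 : (σ s - s) • u = 0 := by rw [sub_smul, h5, sub_self]
    exact sub_eq_zero.1 ((smul_eq_zero.1 h6).resolve_right luv.ne)
  -- duals of `u`, `v` orthogonal to `a`, `b`
  obtain ⟨y0, hy0, hy0'⟩ := exists_sep_sub hQ (S := Submodule.span F {v, a, b}) (x := u) (by
    intro hm
    obtain ⟨c1, z, hz, e⟩ := Submodule.mem_span_insert.1 hm
    obtain ⟨c2, c3, rfl⟩ := Submodule.mem_span_pair.1 hz
    have := (i1 (-1) c1 c2 c3 (by rw [e]; module)).1
    exact one_ne_zero (neg_eq_zero.1 this))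
  have y0v : polar Q v y0 = 0 := hy0' v (Submodule.subset_span (by simp))
  have y0a : polar Q a y0 = 0 := hy0' a (Submodule.subset_span (by simp))
  have y0b : polar Q b y0 = 0 := hy0' b (Submodule.subset_span (by simp))
  set u1 := y0 + (-Q y0) • u with hu1
  have hh1 : Hyp Q u u1 := by
    refine ⟨luv.qu, ?_, ?_⟩
    · rw [hu1, Q_add, QuadraticMap.map_smul, luv.qu, polar_smul_right, polar_comm Q y0 u, hy0]
      simp
    · rw [hu1, polar_add_right, polar_smul_right, quu, hy0]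
      simp
  have u1v : polar Q v u1 = 0 := by rw [hu1, polar_add_right, polar_smul_right, y0v, hvu]; simp
  have u1a : polar Q a u1 = 0 := by rw [hu1, polar_add_right, polar_smul_right, y0a, hau]; simp
  have u1b : polar Q b u1 = 0 := by rw [hu1, polar_add_right, polar_smul_right, y0b, hbu]; simp
  obtain ⟨z0, hz0, hz0'⟩ := exists_sep_sub hQ (S := Submodule.span F {u1, u, a, b}) (x := v) (by
    intro hm
    obtain ⟨c1, z, hz, e⟩ := Submodule.mem_span_insert.1 hm
    obtain ⟨c2, z', hz', e'⟩ := Submodule.mem_span_insert.1 hz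
    obtain ⟨c3, c4, rfl⟩ := Submodule.mem_span_pair.1 hz'
    have h5 : c1 = 0 := by
      have h6 := congrArg (fun x => polar Q u x) e
      simp only [e', polar_add_right, polar_smul_right, luv.perp, hh1.pair, quu, lua.perp, R.ub,
        smul_eq_mul, mul_zero, mul_one, add_zero] at h6
      exact h6.symm
    rw [h5, zero_smul, zero_add, e'] at e
    have := (i1 c2 (-1) c3 c4 (by rw [e]; module)).2.1
    exact one_ne_zero (neg_eq_zero.1 this))
  have z0u1 : polar Q u1 z0 = 0 := hz0' u1 (Submodule.subset_span (by simp))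
  have z0u : polar Q u z0 = 0 := hz0' u (Submodule.subset_span (by simp))
  have z0a : polar Q a z0 = 0 := hz0' a (Submodule.subset_span (by simp))
  have z0b : polar Q b z0 = 0 := hz0' b (Submodule.subset_span (by simp))
  set v1 := z0 + (-Q z0) • v with hv1
  have hh2 : Hyp Q v v1 := by
    refine ⟨luv.qw, ?_, ?_⟩
    · rw [hv1, Q_add, QuadraticMap.map_smul, luv.qw, polar_smul_right, polar_comm Q z0 v, hz0]
      simp
    · rw [hv1, polar_add_right, polar_smul_right, qvv, hz0]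
      simp
  have v1u : polar Q u v1 = 0 := by rw [hv1, polar_add_right, polar_smul_right, z0u, luv.perp]; simp
  have v1u1 : polar Q u1 v1 = 0 := by
    rw [hv1, polar_add_right, polar_smul_right, z0u1, polar_zero_of_comm u1v]; simp
  have v1a : polar Q a v1 = 0 := by rw [hv1, polar_add_right, polar_smul_right, z0a, hav]; simp
  have v1b : polar Q b v1 = 0 := by rw [hv1, polar_add_right, polar_smul_right, z0b, hbv]; simp
  clear_value v1 u1
  have hf : LF Q u v u1 v1 := ⟨hh1, hh2, luv.perp, v1u, polar_zero_of_comm u1v, v1u1⟩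
  -- the first factor
  obtain ⟨c, hc⟩ := f1 v1 v1u v1a v1b
  obtain ⟨c', hc'⟩ := f2 u1 u1v u1a u1b
  have hcc : c' = c := by
    have h5 := polar' S u1 v1
    rw [hc, hc', v1u1, map_zero] at h5
    simp only [polar_add_right, polar_add_left, polar_smul_left,
      polar_smul_right, v1u1, hh2.pair, hh1.pair', luv.perp', smul_eq_mul, mul_one, mul_zero, add_zero,
      zero_add] at h5
    have h6 : c' = -c := by linear_combination h5
    rw [h6, CharTwo.neg_eq]
  set g := toLin S hσ with hg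
  set T1 := T Q u (c • v) with hT1
  have pcv : polar Q u (c • v) = 0 := perp_smul_v hf c
  have T1T1 : T1 * T1 = 1 := by
    rw [hT1, T_mul luv.qu pcv pcv, add_self' (F := F), T_zero_right]
  have T1u : T1 u = u := T_fix quu (by rw [polar_smul_left, hvu, smul_zero])
  have T1v : T1 v = v := T_fix luv.perp (by rw [polar_smul_left, qvv, smul_zero])
  have T1u1 : T1 u1 = u1 + c • v := by
    rw [hT1, T_apply2 luv.qu pcv, hh1.pair, polar_smul_left, u1v, QuadraticMap.map_smul, luv.qw]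
    simp
  have T1v1 : T1 v1 = v1 + c • u := by
    rw [hT1, T_apply2 luv.qu pcv, v1u, polar_smul_left, hh2.pair]
    simp
  have T1fix : ∀ x, polar Q u x = 0 → polar Q v x = 0 → T1 x = x := fun x k1 k2 =>
    T_fix k1 (by rw [polar_smul_left, k2, smul_zero])
  -- the remaining factor fixes everything orthogonal to `a`, `b`
  have hfix : ∀ w, polar Q a w = 0 → polar Q b w = 0 → (T1 * g) w = w := by
    intro w k1 k2
    set p := pW Q u v u1 v1 w with hp
    have hpi : In Q u v u1 v1 p := pW_in hf w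
    have e := decomp (Q := Q) u v u1 v1 w
    rw [← hp] at e
    have hpa : polar Q a p = 0 := by
      rw [hp, pW_apply]
      simp only [polar_sub_right, polar_smul_right, k1, hau, hav, u1a, v1a]; simp
    have hpb : polar Q b p = 0 := by
      rw [hp, pW_apply]
      simp only [polar_sub_right, polar_smul_right, k2, hbu, hbv, u1b, v1b]; simp
    have gp : g p = p := by rw [hg, toLin_apply]; exact f5 p hpi.u hpi.v hpa hpb
    have gu : g u = u := by rw [hg, toLin_apply, h1]
    have gv : g v = v := by rw [hg, toLin_apply, h2]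
    have gu1 : g u1 = u1 + c • v := by rw [hg, toLin_apply, hc', hcc]
    have gv1 : g v1 = v1 + c • u := by rw [hg, toLin_apply, hc]
    show T1 (g w) = w
    rw [e]
    simp only [map_add, map_smul, gp, gu, gv, gu1, gv1, T1u, T1v, T1u1, T1v1, T1fix p hpi.u hpi.v]
    have h5 : ∀ s : F, s * c + s * c = 0 := fun s => CharTwo.add_self_eq_zero _
    have h6 : ∀ (s : F) (z : V), s • c • z + s • c • z = 0 := fun s z => add_self' (F := F) _
    have e3 : p + polar Q u1 w • u + polar Q u w • (u1 + c • v + c • v) + polar Q v1 w • v +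
        polar Q v w • (v1 + c • u + c • u) = p + polar Q u1 w • u + polar Q u w • u1 +
        (polar Q u w • c • v + polar Q u w • c • v) + polar Q v1 w • v + polar Q v w • v1 +
        (polar Q v w • c • u + polar Q v w • c • u) := by module
    rw [e3, h6, h6, add_zero, add_zero]
  have hgO : T1 * g ∈ O Q := mul_mem (T_mem_O _ _) (toLin_mem S hσ)
  obtain ⟨a1, b1, hfa⟩ := exists_LF hQ R.ab
  obtain ⟨d, hd⟩ := exists_of_fix hQ hfa hgO hfix
  refine ⟨c, d, fun y => ?_⟩
  have e : g = T1 * T Q a (d • b) := by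
    rw [← hd, ← mul_assoc, T1T1, one_mul]
  rw [← toLin_apply S hσ, ← hg, e]
  rfl

/-! ### Spanning -/

/-- the vectors perpendicular to a singular `u` are generated by `⟨u⟩` and singular vectors -/
theorem ind_perp (hQ : Nondeg Q) [Finite F] (hd : 8 ≤ Module.finrank F V) {u : V} (hu : Q u = 0)
    (hu0 : u ≠ 0) {P : V → Prop} (h0 : ∀ c : F, P (c • u))
    (hadd : ∀ x y, polar Q u x = 0 → polar Q u y = 0 → P x → P y → P (x + y))
    (hs : ∀ v, Ln Q u v → P v) : ∀ x, polar Q u x = 0 → P x := by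
  intro x hx
  have : FiniteDimensional F V := Module.finite_of_finrank_pos (by omega)
  obtain ⟨u', hh⟩ := exists_hyp hQ hu hu0
  have hN := (NS.top hQ).perp2 hh trivial trivial
  have hdim := NS.finrank_perp2 (Q := Q) (⊤ : Submodule F V) u u'
  rw [finrank_top] at hdim
  obtain ⟨b, b', hb, hb', hbb⟩ := hN.exists_pair (by omega)
  have hmem : ∀ a, a ∈ ⊤ ⊓ perp2 Q u u' → polar Q u a = 0 ∧ polar Q u' a = 0 := fun a ha =>
    mem_perp2.1 (Submodule.mem_inf.1 ha).2
  set y := Cfsg.Agent.LieClassical.OrthTrans.proj Q u u' x with hy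
  have hyN : y ∈ ⊤ ⊓ perp2 Q u u' := Submodule.mem_inf.2 ⟨trivial, proj_mem hh x⟩
  have e : x = polar Q u' x • u + y := by
    rw [hy, Cfsg.Agent.LieClassical.OrthTrans.proj, hx]; module
  rw [e]
  refine hadd _ _ (by rw [polar_smul_right, polar_self_of_sing hu, smul_zero]) (hmem y hyN).1 (h0 _) ?_
  refine hN.sing_ind hbb hb hb' (P := P) ?_ ?_ y hyN
  · intro a c ha hc h1 h2
    exact hadd a c (hmem a ha).1 (hmem c hc).1 h1 h2
  · intro a ha hqa
    by_cases ha0 : a = 0
    · rw [ha0, ← zero_smul F u]; exact h0 0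
    · refine hs a ⟨hu, hqa, (hmem a ha).1, hu0, fun c hc => ?_⟩
      have h1 := (hmem a ha).2
      rw [hc, polar_smul_right, hh.pair', smul_eq_mul, mul_one] at h1
      exact ha0 (by rw [hc, h1, zero_smul])

theorem kperp2 (hQ : Nondeg Q) [Finite F] (hd : 8 ≤ Module.finrank F V) {u v y : V} (huv : Ln Q u v)
    (H : ∀ w, Ln3 Q u v w → polar Q y w = 0) : ∃ a b : F, y = a • u + b • v := by
  have : FiniteDimensional F V := Module.finite_of_finrank_pos (by omega)
  obtain ⟨u', v', h⟩ := exists_LF hQ huv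
  have h1 : pW Q u v u' v' y = 0 := perp_W hQ (by omega) h fun w hw hq h0 => by
    have h2 := H _ (ln3_of_in h hw h0 hq 0 0)
    rw [zero_smul, zero_smul, add_zero, add_zero] at h2
    exact h2
  obtain ⟨b, b', hb, hb', hbb⟩ := (W4_ns hQ h).exists_pair (by
    have := W4_dim Q u v u' v'; omega)
  have hbi := In.iff_mem.2 hb
  have g0 := H _ (ln3_of_in h hbi hbb.left_ne hbb.left 0 0)
  have g1 := H _ (ln3_of_in h hbi hbb.left_ne hbb.left 1 0)
  have g2 := H _ (ln3_of_in h hbi hbb.left_ne hbb.left 0 1)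
  simp only [zero_smul, one_smul, add_zero, polar_add_right] at g0 g1 g2
  rw [g0, zero_add] at g1 g2
  have e := decomp (Q := Q) u v u' v' y
  rw [h1, polar_comm Q u y, g1, polar_comm Q v y, g2, zero_smul, zero_smul, add_zero, add_zero,
    zero_add] at e
  exact ⟨_, _, e⟩

theorem kperp3 (hQ : Nondeg Q) [Finite F] (hd : 8 ≤ Module.finrank F V) {u v w y : V} (huv : Ln Q u v)
    (huw : Ln Q u w) (hvw : polar Q v w ≠ 0)
    (H : ∀ s, Ln3 Q u v s → polar Q w s = 0 → polar Q y s = 0) :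
    ∃ a b c : F, y = a • u + b • v + c • w := by
  have : FiniteDimensional F V := Module.finite_of_finrank_pos (by omega)
  set v' := (polar Q v w)⁻¹ • w with hv'
  have hvv : Hyp Q v v' := ⟨huv.qw, by rw [hv', QuadraticMap.map_smul, huw.qw, smul_zero], by
    rw [hv', polar_smul_right, smul_eq_mul, inv_mul_cancel₀ hvw]⟩
  have huv' : polar Q u v' = 0 := by rw [hv', polar_smul_right, huw.perp, smul_zero]
  have hN := (NS.top hQ).perp2 hvv trivial trivial
  have hu1 : u ∈ ⊤ ⊓ perp2 Q v v' := Submodule.mem_inf.2 ⟨trivial, mem_perp2.2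
    ⟨huv.perp', polar_zero_of_comm huv'⟩⟩
  obtain ⟨u', hu', huu⟩ := hN.exists_hyp hu1 huv.ne huv.qu
  have hu2 := mem_perp2.1 (Submodule.mem_inf.1 hu').2
  have h : LF Q u v u' v' := ⟨huu, hvv, huv.perp, huv', polar_zero_of_comm hu2.1,
    polar_zero_of_comm hu2.2⟩
  have hwin : ∀ s, In Q u v u' v' s → polar Q w s = 0 := by
    intro s hs
    have h1 := hs.v'
    rw [hv', polar_smul_left, smul_eq_mul] at h1
    exact (mul_eq_zero.1 h1).resolve_left (inv_ne_zero hvw)
  have h1 : pW Q u v u' v' y = 0 := perp_W hQ (by omega) h fun s hs hq h0 => by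
    have h2 := H _ (ln3_of_in h hs h0 hq 0 0) (by
      rw [zero_smul, zero_smul, add_zero, add_zero, hwin s hs])
    rw [zero_smul, zero_smul, add_zero, add_zero] at h2
    exact h2
  obtain ⟨b, b', hb, hb', hbb⟩ := (W4_ns hQ h).exists_pair (by
    have := W4_dim Q u v u' v'; omega)
  have hbi := In.iff_mem.2 hb
  have g0 := H _ (ln3_of_in h hbi hbb.left_ne hbb.left 0 0) (by
      rw [zero_smul, zero_smul, add_zero, add_zero, hwin b hbi])
  have g1 := H _ (ln3_of_in h hbi hbb.left_ne hbb.left 1 0) (by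
      rw [zero_smul, add_zero, polar_add_right, polar_smul_right, hwin b hbi, huw.perp']; simp)
  simp only [zero_smul, one_smul, add_zero, polar_add_right] at g0 g1
  rw [g0, zero_add] at g1
  have e := decomp (Q := Q) u v u' v' y
  rw [h1, polar_comm Q u y, g1, zero_smul, add_zero, zero_add] at e
  refine ⟨polar Q u' y, polar Q v' y, polar Q v y * (polar Q v w)⁻¹, ?_⟩
  rw [mul_smul, ← hv']
  exact e

theorem exLn (hQ : Nondeg Q) [Finite F] (hd : 8 ≤ Module.finrank F V) {u : V} (hu : Q u = 0)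
    (hu0 : u ≠ 0) : ∃ v, Ln Q u v := by
  have : FiniteDimensional F V := Module.finite_of_finrank_pos (by omega)
  obtain ⟨u', hh⟩ := exists_hyp hQ hu hu0
  have hN := (NS.top hQ).perp2 hh trivial trivial
  have hdim := NS.finrank_perp2 (Q := Q) (⊤ : Submodule F V) u u'
  rw [finrank_top] at hdim
  obtain ⟨b, b', hb, hb', hbb⟩ := hN.exists_pair (by omega)
  have hm := mem_perp2.1 (Submodule.mem_inf.1 hb).2
  refine ⟨b, ⟨hu, hbb.left, hm.1, hu0, fun c hc => ?_⟩⟩
  have h1 := hm.2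
  rw [hc, polar_smul_right, hh.pair', smul_eq_mul, mul_one] at h1
  exact hbb.left_ne (by rw [hc, h1, zero_smul])

theorem exSing [Finite F] (hd : 8 ≤ Module.finrank F V) : ∃ u : V, Q u = 0 ∧ u ≠ 0 := by
  have : FiniteDimensional F V := Module.finite_of_finrank_pos (by omega)
  obtain ⟨w, -, hw0, hwQ⟩ := exists_sing_of_three_le (Q := Q) ⊤ (by rw [finrank_top]; omega)
  exact ⟨w, hwQ, hw0⟩

theorem exLn3 (hQ : Nondeg Q) [Finite F] (hd : 8 ≤ Module.finrank F V) {u v : V} (huv : Ln Q u v) :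
    ∃ w, Ln3 Q u v w := by
  have : FiniteDimensional F V := Module.finite_of_finrank_pos (by omega)
  obtain ⟨u', v', h⟩ := exists_LF hQ huv
  obtain ⟨b, b', hb, hb', hbb⟩ := (W4_ns hQ h).exists_pair (by
    have := W4_dim Q u v u' v'; omega)
  exact ⟨_, ln3_of_in h (In.iff_mem.2 hb) hbb.left_ne hbb.left 0 0⟩

/-- a frame for `u, v, w` with `(v,w) ≠ 0` -/
theorem exists_LF3 (hQ : Nondeg Q) {u v w : V} (huv : Ln Q u v) (huw : Ln Q u w)
    (hvw : polar Q v w ≠ 0) : ∃ u', LF Q u v u' ((polar Q v w)⁻¹ • w) := by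
  set v' := (polar Q v w)⁻¹ • w with hv'
  have hvv : Hyp Q v v' := ⟨huv.qw, by rw [hv', QuadraticMap.map_smul, huw.qw, smul_zero], by
    rw [hv', polar_smul_right, smul_eq_mul, inv_mul_cancel₀ hvw]⟩
  have huv' : polar Q u v' = 0 := by rw [hv', polar_smul_right, huw.perp, smul_zero]
  have hN := (NS.top hQ).perp2 hvv trivial trivial
  have hu1 : u ∈ ⊤ ⊓ perp2 Q v v' := Submodule.mem_inf.2 ⟨trivial, mem_perp2.2
    ⟨huv.perp', polar_zero_of_comm huv'⟩⟩
  obtain ⟨u', hu', huu⟩ := hN.exists_hyp hu1 huv.ne huv.qu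
  have hu2 := mem_perp2.1 (Submodule.mem_inf.1 hu').2
  exact ⟨u', huu, hvv, huv.perp, huv', polar_zero_of_comm hu2.1, polar_zero_of_comm hu2.2⟩

theorem ex3 (hQ : Nondeg Q) [Finite F] (hd : 8 ≤ Module.finrank F V) {u v w : V} (huv : Ln Q u v)
    (huw : Ln Q u w) (hvw : polar Q v w ≠ 0) : ∃ s, Ln3 Q u v s ∧ polar Q w s = 0 := by
  have : FiniteDimensional F V := Module.finite_of_finrank_pos (by omega)
  obtain ⟨u', h⟩ := exists_LF3 hQ huv huw hvw
  obtain ⟨b, b', hb, hb', hbb⟩ := (W4_ns hQ h).exists_pair (by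
    have := W4_dim Q u v u' ((polar Q v w)⁻¹ • w); omega)
  have hbi := In.iff_mem.2 hb
  refine ⟨b + (0 : F) • u + (0 : F) • v, ln3_of_in h hbi hbb.left_ne hbb.left 0 0, ?_⟩
  rw [zero_smul, zero_smul, add_zero, add_zero]
  have h1 := hbi.v'
  rw [polar_smul_left, smul_eq_mul] at h1
  exact (mul_eq_zero.1 h1).resolve_left (inv_ne_zero hvw)

/-! ### Transitivity -/

theorem coe_mul' (k k' : ↥(E Q)) (x : V) :
    ((k * k' : ↥(E Q)) : V ≃ₗ[F] V) x = (k : V ≃ₗ[F] V) ((k' : V ≃ₗ[F] V) x) := rfl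

/-- moving a hyperbolic partner -/
theorem exists_move (hQ : Nondeg Q) {x y y' : V} (h : Hyp Q x y) (h' : Hyp Q x y') :
    ∃ k : ↥(E Q), (k : V ≃ₗ[F] V) x = x ∧ (k : V ≃ₗ[F] V) y = y' := by
  refine ⟨tE Q x (y' - y), ?_, T_partner h h'⟩
  have : polar Q x (y' - y) = 0 := by rw [polar_sub_right, h.pair, h'.pair, sub_self]
  exact T_apply_self h.left this

theorem ln3_map {u v w : V} (h : Ln3 Q u v w) (k : ↥(E Q)) :
    Ln3 Q ((k : V ≃ₗ[F] V) u) ((k : V ≃ₗ[F] V) v) ((k : V ≃ₗ[F] V) w) := by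
  refine ⟨h.uv.map (mem_O' k), h.uw.map (mem_O' k), by rw [polar_map', h.perp], ?_⟩
  intro hm
  apply h.ind
  obtain ⟨a, b, e⟩ := mem_L.1 hm
  refine mem_L.2 ⟨a, b, ?_⟩
  apply (k : V ≃ₗ[F] V).injective
  rw [map_add, map_smul, map_smul, e]

/-- a dual of `u` orthogonal to `v`, `w` -/
theorem exists_dual (hQ : Nondeg Q) [FiniteDimensional F V] {u v w : V} (h : Ln3 Q u v w) :
    ∃ u', Hyp Q u u' ∧ polar Q u' v = 0 ∧ polar Q u' w = 0 := by
  obtain ⟨y0, hy0, hy0'⟩ := exists_sep_sub hQ (S := L F v w) (x := u) (by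
    intro hm
    obtain ⟨c, d, e⟩ := mem_L.1 hm
    by_cases hd : d = 0
    · rw [hd, zero_smul, add_zero] at e
      exact h.uv.symm.ind c e.symm
    · apply h.ind
      have : w = d⁻¹ • ((1 : F) • u + (-c) • v) := by
        have h1 : d • w = (1 : F) • u + (-c) • v := by rw [← e]; module
        rw [← h1, smul_smul, inv_mul_cancel₀ hd, one_smul]
      rw [this]
      exact Submodule.smul_mem _ _ (mem_L.2 ⟨_, _, rfl⟩))
  have h1 := hy0' v (left_mem_L v w)
  have h2 := hy0' w (right_mem_L v w)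
  refine ⟨y0 + (-Q y0) • u, ⟨h.uv.qu, ?_, ?_⟩, ?_, ?_⟩
  · rw [Q_add, QuadraticMap.map_smul, h.uv.qu, polar_smul_right, polar_comm Q y0 u, hy0]
    simp
  · rw [polar_add_right, polar_smul_right, polar_self_of_sing h.uv.qu, hy0]
    simp
  · rw [polar_add_left, polar_smul_left, polar_comm Q y0 v, h1, h.uv.perp]; simp
  · rw [polar_add_left, polar_smul_left, polar_comm Q y0 w, h2, h.uw.perp]; simp

theorem trans3 (hQ : Nondeg Q) [Finite F] [CharP F 2] (hd : 8 ≤ Module.finrank F V) {u v w u' v' w' : V}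
    (h : Ln3 Q u v w) (h' : Ln3 Q u' v' w') : ∃ k : ↥(E Q), (k : V ≃ₗ[F] V) u = u' ∧
      (k : V ≃ₗ[F] V) v = v' ∧ (k : V ≃ₗ[F] V) w = w' := by
  have : FiniteDimensional F V := Module.finite_of_finrank_pos (by omega)
  have hB : Big Q := ⟨hQ, by omega⟩
  have hG := hB.good
  -- first vector
  obtain ⟨k1, hk1, -⟩ := trans_in hG (NS.top hQ) (by rw [finrank_top]; omega) trivial trivial
    h.uv.ne h'.uv.ne h.uv.qu h'.uv.qu
  have h1 := ln3_map h k1
  rw [hk1] at h1
  -- duals
  obtain ⟨d1, hd1, hd1v, hd1w⟩ := exists_dual hQ h1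
  obtain ⟨d2, hd2, hd2v, hd2w⟩ := exists_dual hQ h'
  obtain ⟨k2, hk2, hk2'⟩ := exists_move hQ hd1 hd2
  have h2 := ln3_map h1 k2
  rw [hk2] at h2
  set v1 := (k2 : V ≃ₗ[F] V) ((k1 : V ≃ₗ[F] V) v) with hv1
  set w1 := (k2 : V ≃ₗ[F] V) ((k1 : V ≃ₗ[F] V) w) with hw1
  have e1 : polar Q d2 v1 = 0 := by rw [← hk2', hv1, polar_map', hd1v]
  have e2 : polar Q d2 w1 = 0 := by rw [← hk2', hw1, polar_map', hd1w]
  -- second vector
  have hN := (NS.top hQ).perp2 hd2 trivial trivial
  have hdim := NS.finrank_perp2 (Q := Q) (⊤ : Submodule F V) u' d2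
  rw [finrank_top] at hdim
  have m1 : v1 ∈ ⊤ ⊓ perp2 Q u' d2 := Submodule.mem_inf.2 ⟨trivial, mem_perp2.2 ⟨h2.uv.perp, e1⟩⟩
  have m2 : v' ∈ ⊤ ⊓ perp2 Q u' d2 := Submodule.mem_inf.2 ⟨trivial, mem_perp2.2 ⟨h'.uv.perp, hd2v⟩⟩
  obtain ⟨k3, hk3, hk3'⟩ := trans_in hG hN (by omega) m1 m2 h2.uv.ne' h'.uv.ne' h2.uv.qw h'.uv.qw
  have hmem : ∀ y, y ∈ ⊤ ⊓ perp2 Q u' d2 → polar Q u' y = 0 ∧ polar Q d2 y = 0 := fun y hy =>
    mem_perp2.1 (Submodule.mem_inf.1 hy).2
  have k3u : (k3 : V ≃ₗ[F] V) u' = u' := hk3' _ fun y hy => (hmem y hy).1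
  have k3d : (k3 : V ≃ₗ[F] V) d2 = d2 := hk3' _ fun y hy => (hmem y hy).2
  have h3 := ln3_map h2 k3
  rw [k3u, hk3] at h3
  set w2 := (k3 : V ≃ₗ[F] V) w1 with hw2
  have e3 : polar Q d2 w2 = 0 := by
    have := polar_map' k3 d2 w1
    rw [k3d] at this
    rw [hw2, this, e2]
  -- a common dual of `v'` orthogonal to `u'`, `d2`: move `w2`
  have g3 : Ln3 Q v' w2 u' := ⟨⟨h3.uv.qw, h3.uw.qw, h3.perp, h3.uv.ne', fun c hc => h3.ind (by
      rw [hc]; exact Submodule.smul_mem _ _ (right_mem_L u' v'))⟩, h3.uv.symm, h3.uw.perp', fun hm => by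
      obtain ⟨c, d, e⟩ := mem_L.1 hm
      by_cases hd0 : d = 0
      · rw [hd0, zero_smul, add_zero] at e
        exact h3.uv.symm.ind c e.symm
      · apply h3.ind
        have : w2 = d⁻¹ • ((1 : F) • u' + (-c) • v') := by
          have h1 : d • w2 = (1 : F) • u' + (-c) • v' := by rw [← e]; module
          rw [← h1, smul_smul, inv_mul_cancel₀ hd0, one_smul]
        rw [this]
        exact Submodule.smul_mem _ _ (mem_L.2 ⟨_, _, rfl⟩)⟩
  -- duals of `v'` in `⟨u', d2⟩^⊥`
  have dual : ∀ {z : V}, Ln3 Q u' v' z → polar Q d2 z = 0 → ∃ f, Hyp Q v' f ∧ polar Q u' f = 0 ∧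
      polar Q d2 f = 0 ∧ polar Q z f = 0 := by
    intro z hz hdz
    obtain ⟨y0, hy0, hy0'⟩ := exists_sep_sub hQ (S := Submodule.span F {z, u', d2}) (x := v') (by
      intro hm
      obtain ⟨c1, x, hx, e⟩ := Submodule.mem_span_insert.1 hm
      obtain ⟨c2, c3, rfl⟩ := Submodule.mem_span_pair.1 hx
      have h5 : c3 = 0 := by
        have h6 := congrArg (fun x => polar Q u' x) e
        simp only [polar_add_right, polar_smul_right, hz.uv.perp, hz.uw.perp, hd2.pair,
          polar_self_of_sing hz.uv.qu, smul_eq_mul, mul_zero, mul_one, add_zero, zero_add] at h6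
        exact h6.symm
      have h6 : c2 = 0 := by
        have h7 := congrArg (fun x => polar Q d2 x) e
        simp only [polar_add_right, polar_smul_right, hd2v, hdz, hd2.pair', h5,
          polar_self_of_sing hd2.right, smul_eq_mul, mul_zero, mul_one, add_zero, zero_add] at h7
        exact h7.symm
      rw [h5, h6, zero_smul, zero_smul, add_zero, add_zero] at e
      by_cases hc1 : c1 = 0
      · rw [hc1, zero_smul] at e
        exact h'.uv.ne' e
      · apply hz.ind
        have : z = c1⁻¹ • v' := by rw [e, smul_smul, inv_mul_cancel₀ hc1, one_smul]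
        rw [this]
        exact Submodule.smul_mem _ _ (right_mem_L u' v'))
    have y1 := hy0' z (Submodule.subset_span (by simp))
    have y2 := hy0' u' (Submodule.subset_span (by simp))
    have y3 := hy0' d2 (Submodule.subset_span (by simp))
    refine ⟨y0 + (-Q y0) • v', ⟨h'.uv.qw, ?_, ?_⟩, ?_, ?_, ?_⟩
    · rw [Q_add, QuadraticMap.map_smul, h'.uv.qw, polar_smul_right, polar_comm Q y0 v', hy0]
      simp
    · rw [polar_add_right, polar_smul_right, polar_self_of_sing h'.uv.qw, hy0]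
      simp
    · rw [polar_add_right, polar_smul_right, y2, h'.uv.perp]; simp
    · rw [polar_add_right, polar_smul_right, y3, hd2v]; simp
    · rw [polar_add_right, polar_smul_right, y1, polar_zero_of_comm hz.perp]; simp
  obtain ⟨f1, hf1, hf1u, hf1d, hf1w⟩ := dual h3 e3
  obtain ⟨f2, hf2, hf2u, hf2d, hf2w⟩ := dual h' hd2w
  -- move `f1` to `f2`
  have hpf : polar Q v' (f2 - f1) = 0 := by rw [polar_sub_right, hf1.pair, hf2.pair, sub_self]
  set k4 := tE Q v' (f2 - f1) with hk4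
  have k4f : (k4 : V ≃ₗ[F] V) f1 = f2 := T_partner hf1 hf2
  have k4v : (k4 : V ≃ₗ[F] V) v' = v' := T_apply_self hf1.left hpf
  have k4u : (k4 : V ≃ₗ[F] V) u' = u' := T_fix h'.uv.perp' (by
    rw [polar_sub_left, polar_comm Q f2, polar_comm Q f1, hf1u, hf2u, sub_zero])
  have k4d : (k4 : V ≃ₗ[F] V) d2 = d2 := T_fix (polar_zero_of_comm hd2v) (by
    rw [polar_sub_left, polar_comm Q f2, polar_comm Q f1, hf1d, hf2d, sub_zero])
  have h4 := ln3_map h3 k4
  rw [k4u, k4v] at h4
  set w3 := (k4 : V ≃ₗ[F] V) w2 with hw3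
  have e4 : polar Q d2 w3 = 0 := by
    have := polar_map' k4 d2 w2
    rw [k4d] at this
    rw [hw3, this, e3]
  have e5 : polar Q w3 f2 = 0 := by
    have := polar_map' k4 w2 f1
    rw [k4f] at this
    rw [hw3, this, hf1w]
  have hLF : LF Q u' v' d2 f2 := ⟨hd2, hf2, h'.uv.perp, hf2u, hd2v, hf2d⟩
  obtain ⟨k5, hk5, hk5'⟩ := trans_in hG (W4_ns hQ hLF) (by
      have := W4_dim Q u' v' d2 f2; omega)
    (In.iff_mem.1 ⟨h4.uw.perp, e4, h4.perp, polar_zero_of_comm e5⟩)
    (In.iff_mem.1 ⟨h'.uw.perp, hd2w, h'.perp, polar_zero_of_comm hf2w⟩)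
    h4.uw.ne' h'.uw.ne' h4.uw.qw h'.uw.qw
  have k5u : (k5 : V ≃ₗ[F] V) u' = u' := hk5' _ fun y hy => (In.iff_mem.2 hy).u
  have k5v : (k5 : V ≃ₗ[F] V) v' = v' := hk5' _ fun y hy => (In.iff_mem.2 hy).v
  refine ⟨k5 * (k4 * (k3 * (k2 * k1))), ?_, ?_, ?_⟩
  · rw [coe_mul', coe_mul', coe_mul', coe_mul', hk1, hk2, k3u, k4u, k5u]
  · rw [coe_mul', coe_mul', coe_mul', coe_mul', ← hv1, hk3, k4v, k5v]
  · rw [coe_mul', coe_mul', coe_mul', coe_mul', ← hw1, ← hw2, ← hw3, hk5]

/-- **The K-facts.** -/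
theorem kfacts (hQ : Nondeg Q) [Finite F] [CharP F 2] (hd : 8 ≤ Module.finrank F V) : KFacts Q where
  nondeg := hQ
  sing := exSing hd
  exLn3 := fun h => exLn3 hQ hd h
  exLn := fun hu h0 => exLn hQ hd hu h0
  ex3 := fun h h' hvw => ex3 hQ hd h h' hvw
  ind_perp := by
    intro u hu hu0 P h0 hadd hs
    exact ind_perp hQ hd hu hu0 h0 hadd hs
  perp2 := fun h H => kperp2 hQ hd h H
  perp3 := fun h h' hvw H => kperp3 hQ hd h h' hvw H
  scal := by
    intro u u' h κ hκ
    exact scal (Big.good ⟨hQ, by omega⟩) h hκ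
  cent1 := fun S hu hu0 H => cent1 hQ hd S hu hu0 H
  cent3 := fun S R e1 e2 e3 e4 H => cent3 hQ S R e1 e2 e3 e4 H
  cent4 := fun S R H1 H2 H3 H4 => by
    have : FiniteDimensional F V := Module.finite_of_finrank_pos (by omega)
    exact cent4 hQ S R H1 H2 H3 H4
  trans3 := fun h h' => trans3 hQ hd h h'

end Cfsg.Agent.OddHalf.Orth
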