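import Mathlib
import Cfsg.Agent.OddHalf.Orth.KFace
import Cfsg.Agent.AutOrth.Main

/-!
# Automorphisms of `K = ↥(E Q)` in characteristic 2 are semilinear isometries; the situation `Sit`
-/

set_option autoImplicit false
set_option linter.unusedSectionVars false
set_option linter.unusedVariables false

namespace Cfsg.Agent.OddHalf.Orth

open QuadraticMap Cfsg.Agent.LieClassical.OrthCore Cfsg.Agent.LieClassical.OrthTrans
  Cfsg.Agent.LieClassical.OrthSimple Cfsg.Agent.ClassicalGeometry.OrthAutBasic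
  Cfsg.Agent.ClassicalGeometry.OrthAutRoot Face

variable {F V : Type*} [Field F] [AddCommGroup V] [Module F V] {Q : QuadraticForm F V}

theorem center_eq_bot (hG : Good Q) [CharP F 2] : Subgroup.center ↥(E Q) = ⊥ := by
  rw [eq_bot_iff]
  intro z hz
  rw [Subgroup.mem_bot]
  obtain ⟨c, hc⟩ := Cfsg.Agent.ClassicalGeometry.OrthAut1.center_scalar hG hz
  obtain ⟨x, y, h⟩ := hG.exists_hyp
  have h1 := polar_map' z x y
  rw [hc, hc, polar_smul_left, polar_smul_right, h.pair] at h1
  have h2 : c = 1 := eq_one_of_mul_self (by simpa using h1)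
  apply Subtype.ext
  ext v
  rw [hc, h2, one_smul]
  rfl

/-- There is no triality: dimension not 8, or no totally singular 4-space. -/
def NoFour (Q : QuadraticForm F V) : Prop :=
  ¬ (Module.finrank F V = 8 ∧ ∃ W : Submodule F V, Cfsg.Agent.ClassicalGeometry.OrthAut1.TS Q W ∧
    Module.finrank F W = 4)

/-- Every automorphism of `K` is a semilinear isometry. -/
theorem exists_sem (hQ : Nondeg Q) [Finite F] [CharP F 2] (hd : 8 ≤ Module.finrank F V) (h4 : NoFour Q)
    (α : MulAut ↥(E Q)) : ∃ (M : V ≃+ V) (σ : F ≃+* F), Sem Q M σ ∧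
      ∀ u x, Q u = 0 → polar Q u x = 0 → α (tE Q u x) = tE Q (M u) (M x) := by
  have hB : Big Q := ⟨hQ, by omega⟩
  have hG := hB.good
  have : FiniteDimensional F V := Module.finite_of_finrank_pos (by omega)
  obtain ⟨M, σ, c, hM, hα⟩ := Cfsg.Agent.ClassicalGeometry.OrthAut4.exists_semi
    (π := MonoidHom.id ↥(E Q)) hG (by omega) h4 Function.surjective_id (by
      rw [center_eq_bot hG, MonoidHom.ker_id]) α
  obtain ⟨d, hd'⟩ : ∃ d : F, c = d * d := by
    obtain ⟨d, hd⟩ := FiniteField.isSquare_of_char_two (ringChar.eq F 2) c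
    exact ⟨d, hd⟩
  have hd0 : d ≠ 0 := by
    rintro rfl
    exact hM.ne (by rw [hd', mul_zero])
  -- rescale
  let N : V ≃+ V :=
    { toFun := fun v => d⁻¹ • M v
      invFun := fun v => M.symm (d • v)
      left_inv := fun v => by
        show M.symm (d • d⁻¹ • M v) = v
        rw [smul_smul, mul_inv_cancel₀ hd0, one_smul, AddEquiv.symm_apply_apply]
      right_inv := fun v => by
        show d⁻¹ • M (M.symm (d • v)) = v
        rw [AddEquiv.apply_symm_apply, smul_smul, inv_mul_cancel₀ hd0, one_smul]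
      map_add' := fun v w => by rw [map_add, smul_add] }
  have hN : ∀ v, N v = d⁻¹ • M v := fun v => rfl
  refine ⟨N, σ, ⟨fun a v => ?_, fun v => ?_⟩, ?_⟩
  · rw [hN, hN, hM.smul, smul_smul, smul_smul, mul_comm]
  · rw [hN, QuadraticMap.map_smul, hM.form, hd', smul_eq_mul]
    field_simp
  · intro u x hu hx
    have hu' : Q (M u) = 0 := by rw [hM.form, hu, map_zero, mul_zero]
    have hx' : polar Q (M u) (M x) = 0 := by rw [hM.polar, hx, map_zero, mul_zero]
    have h1 := hα (tE Q u x)
    have e1 : tE Q u x = Cfsg.Agent.AutOrth.SemiSim.sg Q u x hu hx := Subtype.ext (T_eq hu hx)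
    have hx'' : polar Q (M u) (c⁻¹ • M x) = 0 := by rw [polar_smul_right, hx', smul_zero]
    rw [MonoidHom.id_apply, MonoidHom.id_apply] at h1
    rw [h1, e1, Cfsg.Agent.AutOrth.SemiSim.conjE_sg hM hu hx hu' hx'']
    have e2 : Cfsg.Agent.AutOrth.SemiSim.sg Q (M u) (c⁻¹ • M x) hu' hx'' = tE Q (M u) (c⁻¹ • M x) :=
      Subtype.ext (T_eq hu' hx'').symm
    rw [e2, hN, hN, tE_smul_left _ hu' (by rw [polar_smul_right, hx', smul_zero]), smul_smul, hd',
      mul_inv]

theorem closure_tE (Q : QuadraticForm F V) {H : Subgroup ↥(E Q)}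
    (h : ∀ u x, Q u = 0 → polar Q u x = 0 → tE Q u x ∈ H) : H = ⊤ := by
  rw [eq_top_iff]
  rintro ⟨g, hg⟩ -
  have h1 : E Q ≤ H.map (E Q).subtype := by
    show Subgroup.closure _ ≤ _
    rw [Subgroup.closure_le]
    rintro _ ⟨u, w, hu, hw, rfl⟩
    exact ⟨tE Q u w, h u w hu hw, T_eq hu hw⟩
  obtain ⟨k, hk, e⟩ := h1 hg
  have : k = ⟨g, hg⟩ := Subtype.ext e
  rwa [← this]

variable {G : Type*} [Group G]

/-- The situation of the `G`-side. -/
theorem sit_of (hQ : Nondeg Q) [Finite F] [CharP F 2] (hd : 8 ≤ Module.finrank F V) (h4 : NoFour Q)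
    {t : G} {j : ↥(E Q) →* G} (inj : Function.Injective j) (tt : t * t = 1) (t1 : t ≠ 1)
    (tj : ∀ k, t * j k = j k * t) (hN : ∀ g : G, g * t = t * g → ∀ k, ∃ k', g * j k * g⁻¹ = j k')
    (hC : ∀ g : G, g * t = t * g → (∀ k, g * j k = j k * g) → g = 1 ∨ g = t) : Sit Q t j where
  inj := inj
  tt := tt
  tj := tj
  tK := by
    intro k hk
    have h1 : k ∈ Subgroup.center ↥(E Q) := by
      rw [Subgroup.mem_center_iff]
      intro g
      apply inj
      rw [map_mul, map_mul, hk, tj]
    rw [center_eq_bot (Big.good ⟨hQ, by omega⟩), Subgroup.mem_bot] at h1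
    rw [h1, map_one] at hk
    exact t1 hk.symm
  act := by
    intro g hg
    have hg' : g⁻¹ * t = t * g⁻¹ := by
      rw [inv_mul_eq_iff_eq_mul, ← mul_assoc, hg, mul_inv_cancel_right]
    have hmap : j.range.map (MulAut.conj g).toMonoidHom = j.range := by
      apply le_antisymm
      · rintro _ ⟨_, ⟨k, rfl⟩, rfl⟩
        obtain ⟨k', e⟩ := hN g hg k
        exact ⟨k', e.symm⟩
      · rintro _ ⟨k, rfl⟩
        obtain ⟨k', e⟩ := hN g⁻¹ hg' k
        refine ⟨j k', ⟨k', rfl⟩, ?_⟩
        show g * j k' * g⁻¹ = j k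
        rw [← e]; group
    let e : ↥(E Q) ≃* ↥j.range := MonoidHom.ofInjective inj
    let β : ↥j.range ≃* ↥j.range :=
      ((MulAut.conj g).subgroupMap j.range).trans (MulEquiv.subgroupCongr hmap)
    let α : MulAut ↥(E Q) := (e.trans β).trans e.symm
    have hα : ∀ k, j (α k) = g * j k * g⁻¹ := by
      intro k
      have h1 : e (α k) = β (e k) := e.apply_symm_apply _
      have h2 := congrArg Subtype.val h1
      exact h2
    obtain ⟨M, σ, S, h⟩ := exists_sem hQ hd h4 α
    refine ⟨M, σ, S, fun u x hu hx => ?_⟩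
    rw [← hα, h u x hu hx]
  ker := by
    intro g hg h
    apply hC g hg
    have h1 : (Subgroup.centralizer ({g} : Set G)).comap j = ⊤ := by
      apply closure_tE Q
      intro u x hu hx
      rw [Subgroup.mem_comap, Subgroup.mem_centralizer_singleton_iff]
      exact (h u x hu hx).symm
    intro k
    have h2 : k ∈ (Subgroup.centralizer ({g} : Set G)).comap j := by rw [h1]; trivial
    rw [Subgroup.mem_comap, Subgroup.mem_centralizer_singleton_iff] at h2
    exact h2.symm

end Cfsg.Agent.OddHalf.Orth
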