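import Cfsg.Agent.OddHalf.Orth.End

/-!
# ODD D7, `K = Ω(V)`: the end, from odd index statements

`exists_hom_of` : `K⟨t⟩` of odd index in `C_G(t)`, `UK` of odd index in `K`.
-/

set_option autoImplicit false
set_option linter.unusedSectionVars false

namespace Cfsg.Agent.OddHalf.Orth.Clean


section General

variable {G : Type*} [Group G] {t : G} {A U K C : Subgroup G}

theorem mem_sup_zpowers (htt : t * t = 1) (hA : ∀ a ∈ A, t * a = a * t) {g : G} :
    g ∈ A ⊔ Subgroup.zpowers t ↔ g ∈ A ∨ t * g ∈ A := by
  constructor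
  · intro hg
    let S : Subgroup G :=
      { carrier := {g | g ∈ A ∨ t * g ∈ A}
        one_mem' := Or.inl (one_mem _)
        mul_mem' := by
          rintro a b (ha | ha) (hb | hb)
          · exact Or.inl (mul_mem ha hb)
          · right
            have e : t * (a * b) = a * (t * b) := by rw [← mul_assoc, hA a ha, mul_assoc]
            rw [e]; exact mul_mem ha hb
          · right
            rw [← mul_assoc]; exact mul_mem ha hb
          · left
            have h1 := mul_mem ha hb
            have e : t * a * (t * b) = a * b := by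
              have h2 : t * (t * a) = t * a * t := hA _ ha
              calc t * a * (t * b) = t * a * t * b := by group
                _ = t * (t * a) * b := by rw [h2]
                _ = t * t * a * b := by group
                _ = a * b := by rw [htt, one_mul]
            rwa [e] at h1
        inv_mem' := by
          rintro a (ha | ha)
          · exact Or.inl (inv_mem ha)
          · right
            have h1 := inv_mem ha
            have hti : t⁻¹ = t := inv_eq_of_mul_eq_one_left htt
            have h2 : t * (t * a)⁻¹ = (t * a)⁻¹ * t := hA _ h1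
            have e : t * a⁻¹ = (t * a)⁻¹ := by
              rw [mul_inv_rev, hti] at h2 ⊢
              have h3 : t * (a⁻¹ * t) = a⁻¹ := by rw [h2, mul_assoc, htt, mul_one]
              calc t * a⁻¹ = t * (t * (a⁻¹ * t)) := by rw [h3]
                _ = t * t * a⁻¹ * t := by group
                _ = a⁻¹ * t := by rw [htt, one_mul]
            rwa [e] }
    have h1 : A ⊔ Subgroup.zpowers t ≤ S := by
      refine sup_le (fun a ha => Or.inl ha) ?_
      rw [Subgroup.zpowers_le]
      right
      rw [htt]; exact one_mem _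
    exact h1 hg
  · rintro (h1 | h1)
    · exact (le_sup_left : A ≤ _) h1
    · have h2 : g = t * (t * g) := by rw [← mul_assoc, htt, one_mul]
      rw [h2]
      exact mul_mem ((le_sup_right : Subgroup.zpowers t ≤ A ⊔ _) (Subgroup.mem_zpowers t)) ((le_sup_left : A ≤ _) h1)

theorem relIndex_sup_zpowers (htt : t * t = 1) (hA : ∀ a ∈ A, t * a = a * t) (ht : t ∉ A) :
    A.relIndex (A ⊔ Subgroup.zpowers t) = 2 := by
  rw [Subgroup.relIndex_eq_two_iff]
  refine ⟨t, (le_sup_right : Subgroup.zpowers t ≤ A ⊔ _) (Subgroup.mem_zpowers t), fun b hb => ?_⟩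
  rcases (mem_sup_zpowers htt hA).1 hb with h1 | h1
  · right
    refine ⟨h1, fun h2 => ht ?_⟩
    have h3 := mul_mem (inv_mem h1) h2
    rwa [inv_mul_cancel_left] at h3
  · left
    have hbt : b * t ∈ A := by
      have h2 := hA _ h1
      have e : t * (t * b) * t = b * t := by rw [← mul_assoc, htt, one_mul]
      have h3 : t * b = b * t := by
        have h4 : t * (t * b) = b := by rw [← mul_assoc, htt, one_mul]
        rw [h4] at h2
        calc t * b = t * (t * b * t) := by rw [← h2]
          _ = t * t * (b * t) := by group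
          _ = b * t := by rw [htt, one_mul]
      rwa [← h3]
    refine ⟨hbt, fun h2 => ht ?_⟩
    have h3 := mul_mem (inv_mem h2) hbt
    rwa [inv_mul_cancel_left] at h3

theorem odd_relIndex_sup (htt : t * t = 1) (htK : ∀ k ∈ K, t * k = k * t) (ht : t ∉ K) (hUK : U ≤ K)
    (hU : Odd (U.relIndex K)) (hC : K ⊔ Subgroup.zpowers t ≤ C) (hK : Odd ((K ⊔ Subgroup.zpowers t).relIndex C)) :
    Odd ((U ⊔ Subgroup.zpowers t).relIndex C) := by
  have h1 : U ⊔ Subgroup.zpowers t ≤ K ⊔ Subgroup.zpowers t := sup_le_sup_right hUK _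
  rw [← Subgroup.relIndex_mul_relIndex _ _ _ h1 hC]
  refine Odd.mul ?_ hK
  have h2 := Subgroup.relIndex_mul_relIndex U (U ⊔ Subgroup.zpowers t) _ le_sup_left h1
  have h3 := Subgroup.relIndex_mul_relIndex U K (K ⊔ Subgroup.zpowers t) hUK le_sup_left
  rw [relIndex_sup_zpowers htt (fun a ha => htK a (hUK ha)) (fun h => ht (hUK h))] at h2
  rw [relIndex_sup_zpowers htt htK ht] at h3
  have h4 : (U ⊔ Subgroup.zpowers t).relIndex (K ⊔ Subgroup.zpowers t) = U.relIndex K := by omega
  rw [h4]; exact hU


end General

open QuadraticMap Cfsg.Agent.LieClassical.OrthCore Cfsg.Agent.LieClassical.OrthTrans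
  Cfsg.Agent.ClassicalGeometry.OrthAutBasic Cfsg.Agent.OddHalf.Orth
  Cfsg.Agent.OddHalf.Orth.Face Cfsg.Agent.OddHalf.Orth.Lay Cfsg.Agent.OddHalf.Orth.FlagDef

variable {F V : Type*} [Field F] [AddCommGroup V] [Module F V] {Q : QuadraticForm F V}
variable {G : Type*} [Group G] {t : G} {j : ↥(E Q) →* G} {W : V → V → Subgroup G}
variable {n : ℕ} {e f : ℕ → V}

/-- **The end, clean case**: `K⟨t⟩` has odd index in `C_G(t)`, the flag unipotent group has odd index in `K`. -/
theorem exists_hom_of [Finite G] [Finite F] [CharP F 2] (hB : Big Q) (hK : KFacts Q) (D : Dbl Q t j W)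
    (hG : Grow Q t W) (hF : Flag Q n e f) (hn : 3 ≤ n) (hd : HasDelta Q n e f) (hU : Odd (UK Q e f n).index)
    (hodd : Odd ((j.range ⊔ Subgroup.zpowers t).relIndex (Subgroup.centralizer ({t} : Set G)))) :
    ∃ m : G →* ℤˣ, m t = -1 := by
  refine End.exists_hom D hB hK hG hF hn hd ?_
  refine odd_relIndex_sup D.tt ?_ ?_ (U := (UK Q e f n).map j) (K := j.range) ?_ ?_ ?_ hodd
  · rintro _ ⟨k, rfl⟩
    exact D.tj k
  · rintro ⟨k, hk⟩
    exact D.tK k hk
  · show _ ≤ _
    exact Subgroup.map_le_range _ _
  · have h1 : ((UK Q e f n).map j).relIndex j.range = (UK Q e f n).index := by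
      rw [MonoidHom.range_eq_map, Subgroup.relIndex_map_map_of_injective _ _ D.inj, Subgroup.relIndex_top_right]
    rw [h1]
    exact hU
  · refine sup_le ?_ ?_
    · rintro _ ⟨k, rfl⟩
      rw [Subgroup.mem_centralizer_singleton_iff]
      exact (D.tj k).symm
    · rw [Subgroup.zpowers_le, Subgroup.mem_centralizer_singleton_iff]

end Cfsg.Agent.OddHalf.Orth.Clean
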