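import Cfsg.Agent.OddHalf.Orth.KBase

/-!
# ODD D7, `K = Ω(V)`: a flag of `V` and the unipotent group `UK`

`e i, f i` (`i < n`) are mutually perpendicular hyperbolic pairs. `Yv i` is the set of vectors perpendicular to
`e k, f k` (`k ≤ i`), `RK i = {T (e i) y : y ∈ Yv i}`, `UK n` is generated by the `RK i`, `i < n`.
-/

set_option autoImplicit false

namespace Cfsg.Agent.OddHalf.Orth.FlagDef

open QuadraticMap Cfsg.Agent.LieClassical.OrthCore Cfsg.Agent.LieClassical.OrthTrans Cfsg.Agent.OddHalf.Orth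

variable {F V : Type*} [Field F] [AddCommGroup V] [Module F V] {Q : QuadraticForm F V}

/-- mutually perpendicular hyperbolic pairs `e i, f i`, `i < n` -/
structure Flag (Q : QuadraticForm F V) (n : ℕ) (e f : ℕ → V) : Prop where
  hyp : ∀ i < n, Hyp Q (e i) (f i)
  ee : ∀ i k, i < n → k < n → i ≠ k → polar Q (e i) (e k) = 0
  ef : ∀ i k, i < n → k < n → i ≠ k → polar Q (e i) (f k) = 0
  ff : ∀ i k, i < n → k < n → i ≠ k → polar Q (f i) (f k) = 0

/-- `V^(i+1)`: the vectors perpendicular to `e k, f k` (`k ≤ i`) -/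
def Yv (Q : QuadraticForm F V) (e f : ℕ → V) (i : ℕ) : Set V :=
  {y | ∀ k ≤ i, polar Q (e k) y = 0 ∧ polar Q (f k) y = 0}

/-- the root groups `T (e i) y`, `y ∈ Yv i` -/
noncomputable def RK (Q : QuadraticForm F V) (e f : ℕ → V) (i : ℕ) : Subgroup ↥(E Q) :=
  Subgroup.closure {g | ∃ y ∈ Yv Q e f i, g = tE Q (e i) y}

/-- the unipotent group of the flag -/
noncomputable def UK (Q : QuadraticForm F V) (e f : ℕ → V) (n : ℕ) : Subgroup ↥(E Q) :=
  ⨆ i : ℕ, ⨆ _ : i < n, RK Q e f i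

/-- fixed point free element on the anisotropic part -/
def HasDelta (Q : QuadraticForm F V) (n : ℕ) (e f : ℕ → V) : Prop :=
  ∃ d : ↥(E Q), (∀ i < n, (d : V ≃ₗ[F] V) (e i) = e i ∧ (d : V ≃ₗ[F] V) (f i) = f i) ∧
    ∀ y ∈ Yv Q e f (n - 1), ∃ z ∈ Yv Q e f (n - 1), (d : V ≃ₗ[F] V) z - z = y

end Cfsg.Agent.OddHalf.Orth.FlagDef
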