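import Mathlib
import Cfsg.Agent.OddHalf.Orth.FlagDef

/-!
# ODD D7, `K = Ω⁻(V)`: the element `δ` (section 4 of `blueprints/ODD-D7-orth-helper625.md`)

`V₀ = ⟨a, b⟩` an anisotropic plane perpendicular to a hyperbolic pair, characteristic 2, finite field:
there is `δ ∈ E Q` of odd order, trivial on `V₀^⊥`, fixed point free on `V₀`, mapping `V₀` to itself
(`exists_delta`). `hasDelta`: `FlagDef.HasDelta` for a flag whose perpendicular space is anisotropic.
-/

set_option autoImplicit false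

namespace Cfsg.Agent.OddHalf.Orth.Delta

open QuadraticMap Cfsg.Agent.LieClassical.OrthCore Cfsg.Agent.LieClassical.OrthTrans
  Cfsg.Agent.ClassicalGeometry.OrthAutBasic Cfsg.Agent.OddHalf.Orth

variable {F V : Type*} [Field F] [AddCommGroup V] [Module F V] {Q : QuadraticForm F V}

/-- `⟨a, b⟩` is an anisotropic nondegenerate plane. -/
structure Pl (Q : QuadraticForm F V) (a b : V) : Prop where
  ne : polar Q a b ≠ 0
  an : ∀ α β : F, Q (α • a + β • b) = 0 → α = 0 ∧ β = 0

namespace Pl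

variable {a b : V}

theorem qa (h : Pl Q a b) : Q a ≠ 0 := by
  intro h0
  have := h.an 1 0 (by simpa using h0)
  exact one_ne_zero this.1

theorem qb (h : Pl Q a b) : Q b ≠ 0 := by
  intro h0
  have := h.an 0 1 (by simpa using h0)
  exact one_ne_zero this.2

theorem smul (h : Pl Q a b) {c : F} (hc : c ≠ 0) : Pl Q a (c • b) where
  ne := by rw [polar_smul_right, smul_eq_mul]; exact mul_ne_zero hc h.ne
  an := by
    intro α β h0
    rw [smul_smul] at h0
    obtain ⟨h1, h2⟩ := h.an α (β * c) h0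
    exact ⟨h1, (mul_eq_zero.1 h2).resolve_right hc⟩

end Pl

/-- The element `δ` for the plane `⟨a, b⟩`. -/
structure Del (Q : QuadraticForm F V) (a b : V) (δ : ↥(E Q)) : Prop where
  odd : Odd (orderOf δ)
  /-- trivial on the perpendicular space -/
  perp : ∀ x, polar Q a x = 0 → polar Q b x = 0 → (δ : V ≃ₗ[F] V) x = x
  /-- the fixed points are perpendicular to the plane -/
  fix : ∀ x, (δ : V ≃ₗ[F] V) x = x → polar Q a x = 0 ∧ polar Q b x = 0
  /-- `δ x - x` is in the plane -/
  comm : ∀ x, ∃ α β : F, (δ : V ≃ₗ[F] V) x = x + (α • a + β • b)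

section two
variable [CharP F 2] {a b e f : V}

/-- the map `a ↦ b` in `E Q` -/
theorem exists_move_refl (he : Hyp Q e f) (hea : polar Q e a = 0) (heb : polar Q e b = 0)
    (hfa : polar Q f a = 0) (hfb : polar Q f b = 0) (h : polar Q a b ≠ 0) (hab : Q a = Q b) :
    ∃ k : ↥(E Q), (k : V ≃ₗ[F] V) a = b := by
  have hba : polar Q b a ≠ 0 := by rw [polar_comm]; exact h
  -- the three steps
  have hw : polar Q e ((polar Q b a)⁻¹ • b) = 0 := by rw [polar_smul_right, heb, smul_zero]
  have hw' : polar Q e ((polar Q a b)⁻¹ • a) = 0 := by rw [polar_smul_right, hea, smul_zero]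
  have hf : polar Q f (a + b) = 0 := by rw [polar_add_right, hfa, hfb, add_zero]
  have h1 : T Q e ((polar Q b a)⁻¹ • b) a = a + e := by
    rw [T_apply2 he.left hw, hea, polar_smul_left, smul_eq_mul, inv_mul_cancel₀ hba]
    simp
  have h2 : T Q f (a + b) (a + e) = b + e := by
    have e1 : polar Q f (a + e) = 1 := by rw [polar_add_right, hfa, he.pair', zero_add]
    have e2 : polar Q (a + b) (a + e) = polar Q a b := by
      rw [polar_add_left, polar_add_right, polar_add_right, polar_self2, polar_comm Q a e, hea,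
        polar_comm Q b e, heb, polar_comm Q b a]
      ring
    have e3 : Q (a + b) = polar Q a b := by
      rw [Q_add, hab, CharTwo.add_self_eq_zero, zero_add]
    rw [T_apply2 he.right hf, e1, e2, e3, mul_one, CharTwo.add_self_eq_zero, zero_smul, add_zero,
      one_smul]
    have e4 : a + a = 0 := add_self' (F := F) a
    calc a + e + (a + b) = (a + a) + (b + e) := by abel
      _ = b + e := by rw [e4, zero_add]
  have h3 : T Q e ((polar Q a b)⁻¹ • a) (b + e) = b := by
    have e1 : polar Q e (b + e) = 0 := by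
      rw [polar_add_right, heb, polar_self2, add_zero]
    have e2 : polar Q ((polar Q a b)⁻¹ • a) (b + e) = 1 := by
      rw [polar_smul_left, polar_add_right, polar_comm Q a e, hea, add_zero, smul_eq_mul,
        inv_mul_cancel₀ h]
    rw [T_apply2 he.left hw', e1, e2, mul_zero, add_zero, one_smul, zero_smul, add_zero, add_assoc,
      add_self' (F := F), add_zero]
  refine ⟨⟨T Q e ((polar Q a b)⁻¹ • a) * (T Q f (a + b) * T Q e ((polar Q b a)⁻¹ • b)),
    mul_mem (T_mem_E _ _) (mul_mem (T_mem_E _ _) (T_mem_E _ _))⟩, ?_⟩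
  show T Q e ((polar Q a b)⁻¹ • a) (T Q f (a + b) (T Q e ((polar Q b a)⁻¹ • b) a)) = b
  rw [h1, h2, h3]

theorem refl_mul_mem (he : Hyp Q e f) (hea : polar Q e a = 0) (heb : polar Q e b = 0)
    (hfa : polar Q f a = 0) (hfb : polar Q f b = 0) (h : polar Q a b ≠ 0) (hab : Q a = Q b)
    (ha : Q a ≠ 0) (hb : Q b ≠ 0) : refl Q a ha * refl Q b hb ∈ E Q := by
  obtain ⟨k, hk⟩ := exists_move_refl he hea heb hfa hfb h hab
  subst hk
  have h1 : refl Q ((k : V ≃ₗ[F] V) a) hb = (k : V ≃ₗ[F] V) * refl Q a ha * (k : V ≃ₗ[F] V)⁻¹ :=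
    (refl_conj (mem_O' k) ha hb).symm
  have h2 : refl Q a ha * ((k : V ≃ₗ[F] V) * refl Q a ha * (k : V ≃ₗ[F] V)⁻¹) =
      (refl Q a ha * (k : V ≃ₗ[F] V) * (refl Q a ha)⁻¹) * (k : V ≃ₗ[F] V)⁻¹ := by
    rw [refl_inv ha]; group
  rw [h1, h2]
  exact mul_mem (conj_mem_E (refl_mem_O ha) k.2) (inv_mem k.2)

theorem odd_of {δ : ↥(E Q)} (hp : Pl Q a b) (hfin : IsOfFinOrder δ)
    (perp : ∀ x, polar Q a x = 0 → polar Q b x = 0 → (δ : V ≃ₗ[F] V) x = x)
    (fix : ∀ x, (δ : V ≃ₗ[F] V) x = x → polar Q a x = 0 ∧ polar Q b x = 0)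
    (comm : ∀ x, ∃ α β : F, (δ : V ≃ₗ[F] V) x = x + (α • a + β • b)) : Odd (orderOf δ) := by
  have haa : polar Q a a = 0 := polar_self2 a
  have hbb : polar Q b b = 0 := polar_self2 b
  have hba : polar Q b a = polar Q a b := polar_comm Q b a
  have pa : ∀ α β : F, polar Q a (α • a + β • b) = β * polar Q a b := by
    intro α β
    rw [polar_add_right, polar_smul_right, polar_smul_right, haa, smul_zero, zero_add, smul_eq_mul]
  have pb : ∀ α β : F, polar Q b (α • a + β • b) = α * polar Q a b := by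
    intro α β
    rw [polar_add_right, polar_smul_right, polar_smul_right, hbb, smul_zero, add_zero, smul_eq_mul,
      hba]
  -- a vector of the plane perpendicular to `a` and `b` is zero
  have pl0 : ∀ α β : F, polar Q a (α • a + β • b) = 0 → polar Q b (α • a + β • b) = 0 →
      α = 0 ∧ β = 0 := by
    intro α β h1 h2
    rw [pa] at h1
    rw [pb] at h2
    exact ⟨(mul_eq_zero.1 h2).resolve_right hp.ne, (mul_eq_zero.1 h1).resolve_right hp.ne⟩
  -- a fixed line in the plane is impossible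
  have noline : ∀ (α β c : F), (δ : V ≃ₗ[F] V) (α • a + β • b) = c • (α • a + β • b) →
      α = 0 ∧ β = 0 := by
    intro α β c h
    by_contra h0
    have hq : Q (α • a + β • b) ≠ 0 := fun h1 => h0 (hp.an α β h1)
    have h1 : Q (α • a + β • b) = c * c * Q (α • a + β • b) := by
      conv_lhs => rw [← Q_map δ, h, QuadraticMap.map_smul, smul_eq_mul]
    have h2 : c * c = 1 := by
      have : (c * c - 1) * Q (α • a + β • b) = 0 := by rw [sub_mul, one_mul, ← h1, sub_self]
      exact sub_eq_zero.1 ((mul_eq_zero.1 this).resolve_right hq)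
    have h3 : c = 1 := by
      have : (c - 1) * (c - 1) = 0 := by
        have e : (c - 1) * (c - 1) = c * c - 1 - 2 * (c - 1) := by ring
        rw [e, h2, CharTwo.two_eq_zero]; ring
      exact sub_eq_zero.1 (mul_self_eq_zero.1 this)
    rw [h3, one_smul] at h
    obtain ⟨h4, h5⟩ := fix _ h
    exact h0 (pl0 α β h4 h5)
  by_contra hodd
  rw [Nat.not_odd_iff_even] at hodd
  obtain ⟨m, hm⟩ := hodd
  have hpos : 0 < orderOf δ := hfin.orderOf_pos
  set τ : ↥(E Q) := δ ^ m with hτ
  have hτ1 : τ ≠ 1 := by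
    intro h
    have := orderOf_dvd_of_pow_eq_one h
    have := Nat.le_of_dvd (by omega) this
    omega
  have hτ2 : τ * τ = 1 := by rw [hτ, ← pow_add, ← hm, pow_orderOf_eq_one]
  have hcm : δ * τ = τ * δ := by rw [hτ]; exact (pow_succ' δ m).symm.trans (pow_succ δ m)
  have τperp : ∀ x, polar Q a x = 0 → polar Q b x = 0 → (τ : V ≃ₗ[F] V) x = x := by
    intro x h1 h2
    have : ∀ n : ℕ, ((δ ^ n : ↥(E Q)) : V ≃ₗ[F] V) x = x := by
      intro n
      induction n with
      | zero => rfl
      | succ n ih =>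
        have : ((δ ^ (n + 1) : ↥(E Q)) : V ≃ₗ[F] V) x =
            ((δ ^ n : ↥(E Q)) : V ≃ₗ[F] V) ((δ : V ≃ₗ[F] V) x) := by rw [pow_succ]; rfl
        rw [this, perp x h1 h2, ih]
    exact this m
  have τcomm : ∀ x, ∃ α β : F, (τ : V ≃ₗ[F] V) x = x + (α • a + β • b) := by
    intro x
    have : ∀ n : ℕ, ∃ α β : F, ((δ ^ n : ↥(E Q)) : V ≃ₗ[F] V) x = x + (α • a + β • b) := by
      intro n
      induction n with
      | zero => exact ⟨0, 0, by simp⟩
      | succ n ih =>
        obtain ⟨α, β, h⟩ := ih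
        obtain ⟨α', β', h'⟩ := comm (((δ ^ n : ↥(E Q)) : V ≃ₗ[F] V) x)
        have e : ((δ ^ (n + 1) : ↥(E Q)) : V ≃ₗ[F] V) x =
            (δ : V ≃ₗ[F] V) (((δ ^ n : ↥(E Q)) : V ≃ₗ[F] V) x) := by rw [pow_succ']; rfl
        refine ⟨α + α', β + β', ?_⟩
        rw [e, h', h]
        module
    exact this m
  -- a moved vector
  obtain ⟨v, hv⟩ : ∃ v, (τ : V ≃ₗ[F] V) v ≠ v := by
    by_contra h
    push Not at h
    exact hτ1 (Subtype.ext (LinearEquiv.ext h))
  obtain ⟨α, β, hαβ⟩ := τcomm v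
  have hττ : ∀ x, (τ : V ≃ₗ[F] V) ((τ : V ≃ₗ[F] V) x) = x := by
    intro x
    have : (τ : V ≃ₗ[F] V) ((τ : V ≃ₗ[F] V) x) = ((τ * τ : ↥(E Q)) : V ≃ₗ[F] V) x := rfl
    rw [this, hτ2]; rfl
  set w : V := α • a + β • b with hw
  have hwτ : (τ : V ≃ₗ[F] V) w = w := by
    have h1 : w = (τ : V ≃ₗ[F] V) v - v := by rw [hαβ, add_sub_cancel_left]
    have h2 : (τ : V ≃ₗ[F] V) w = v - (τ : V ≃ₗ[F] V) v := by
      rw [h1, map_sub, hττ]
    have h3 : v - (τ : V ≃ₗ[F] V) v = (τ : V ≃ₗ[F] V) v - v := by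
      rw [sub_eq' (F := F), sub_eq' (F := F), add_comm]
    rw [h2, h3, ← h1]
  have hw0 : ¬ (α = 0 ∧ β = 0) := by
    rintro ⟨h1, h2⟩
    apply hv
    rw [hαβ, hw, h1, h2]; simp
  -- `δ w` is in the plane
  obtain ⟨α', β', h'⟩ := comm w
  set γ : F := α + α' with hγ
  set ε : F := β + β' with hε
  have hδw : (δ : V ≃ₗ[F] V) w = γ • a + ε • b := by
    rw [h', hw, hγ, hε]; module
  have hδτ : (τ : V ≃ₗ[F] V) (γ • a + ε • b) = γ • a + ε • b := by
    have e1 : (τ : V ≃ₗ[F] V) ((δ : V ≃ₗ[F] V) w) = (δ : V ≃ₗ[F] V) ((τ : V ≃ₗ[F] V) w) := by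
      have : ((τ * δ : ↥(E Q)) : V ≃ₗ[F] V) w = ((δ * τ : ↥(E Q)) : V ≃ₗ[F] V) w := by rw [hcm]
      exact this
    rw [← hδw, e1, hwτ]
  by_cases hdet : α * ε + β * γ = 0
  · -- dependent: fixed line
    by_cases hα : α = 0
    · have hβ : β ≠ 0 := fun h => hw0 ⟨hα, h⟩
      have hγ0 : γ = 0 := by
        rw [hα, zero_mul, zero_add] at hdet
        exact (mul_eq_zero.1 hdet).resolve_left hβ
      have := noline α β (ε * β⁻¹) (by
        rw [← hw, hδw, hw, hγ0, hα]
        simp only [zero_smul, zero_add, smul_smul]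
        rw [mul_assoc, inv_mul_cancel₀ hβ, mul_one])
      exact hβ this.2
    · have hε0 : ε = γ * α⁻¹ * β := by
        have : α * ε = β * γ := by
          have := hdet
          rw [← sub_eq_zero]
          rw [CharTwo.sub_eq_add]; exact this
        field_simp
        linear_combination this
      have := noline α β (γ * α⁻¹) (by
        rw [← hw, hδw, hw, hε0, smul_add, smul_smul, smul_smul, inv_mul_cancel_right₀ hα])
      exact hα this.1
  · -- independent: `τ = 1`
    apply hτ1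
    apply Subtype.ext
    apply LinearEquiv.ext
    intro y
    obtain ⟨ζ, η, hy⟩ := τcomm y
    have key : ∀ x : V, (τ : V ≃ₗ[F] V) x = x → polar Q (ζ • a + η • b) x = 0 := by
      intro x hx
      have h1 : polar Q ((τ : V ≃ₗ[F] V) y) ((τ : V ≃ₗ[F] V) x) = polar Q y x := polar_map' τ y x
      rw [hx, hy, polar_add_left] at h1
      exact left_eq_add.1 h1.symm
    have k1 := key w hwτ
    have k2 := key (γ • a + ε • b) hδτ
    have ev : ∀ s r : F, polar Q (ζ • a + η • b) (s • a + r • b) = (ζ * r + η * s) * polar Q a b := by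
      intro s r
      rw [polar_add_left, polar_smul_left, polar_smul_left, pa, pb]
      simp only [smul_eq_mul]; ring
    rw [hw, ev] at k1
    rw [ev] at k2
    have k1' := (mul_eq_zero.1 k1).resolve_right hp.ne
    have k2' := (mul_eq_zero.1 k2).resolve_right hp.ne
    have two0 : (2 : F) = 0 := CharTwo.two_eq_zero
    -- ζ β + η α = 0, ζ ε + η γ = 0
    have hζ : ζ * (α * ε + β * γ) = 0 := by
      linear_combination α * k2' + γ * k1' - η * α * γ * two0
    have hη : η * (α * ε + β * γ) = 0 := by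
      linear_combination β * k2' + ε * k1' - ζ * β * ε * two0
    have z1 : ζ = 0 := (mul_eq_zero.1 hζ).resolve_right hdet
    have z2 : η = 0 := (mul_eq_zero.1 hη).resolve_right hdet
    rw [hy, z1, z2]
    simp

/-- **The element `δ`** when `Q a = Q b`. -/
theorem exists_delta_eq [Finite F] [FiniteDimensional F V] (he : Hyp Q e f) (hea : polar Q e a = 0)
    (heb : polar Q e b = 0) (hfa : polar Q f a = 0) (hfb : polar Q f b = 0) (hp : Pl Q a b)
    (hab : Q a = Q b) : ∃ δ : ↥(E Q), Del Q a b δ := by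
  have hF : Finite V := Module.finite_of_finite F
  have hE : Finite (V ≃ₗ[F] V) := Finite.of_injective (fun g => (g : V → V)) DFunLike.coe_injective
  have hba : polar Q b a = polar Q a b := polar_comm Q b a
  let δ : ↥(E Q) := ⟨refl Q a hp.qa * refl Q b hp.qb,
    refl_mul_mem he hea heb hfa hfb hp.ne hab hp.qa hp.qb⟩
  have hδ : ∀ x, (δ : V ≃ₗ[F] V) x = refl Q a hp.qa (refl Q b hp.qb x) := fun x => rfl
  have perp : ∀ x, polar Q a x = 0 → polar Q b x = 0 → (δ : V ≃ₗ[F] V) x = x := by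
    intro x h1 h2
    rw [hδ, refl_apply hp.qb, h2, mul_zero, zero_smul, sub_zero, refl_apply hp.qa, h1, mul_zero,
      zero_smul, sub_zero]
  have fix : ∀ x, (δ : V ≃ₗ[F] V) x = x → polar Q a x = 0 ∧ polar Q b x = 0 := by
    intro x h
    have h1 : refl Q b hp.qb x = refl Q a hp.qa x := by
      have := congrArg (refl Q a hp.qa) h
      rw [hδ] at this
      have h2 : ∀ z, refl Q a hp.qa (refl Q a hp.qa z) = z := fun z => reflLin_reflLin hp.qa z
      rwa [h2] at this
    rw [refl_apply, refl_apply] at h1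
    have h2 : ((Q b)⁻¹ * polar Q b x) • b = ((Q a)⁻¹ * polar Q a x) • a := sub_right_injective h1
    have h3 := congrArg (polar Q a) h2
    rw [polar_smul_right, polar_smul_right, polar_self2, smul_zero, smul_eq_mul] at h3
    have h4 := congrArg (polar Q b) h2
    rw [polar_smul_right, polar_smul_right, polar_self2, smul_zero, smul_eq_mul, hba] at h4
    refine ⟨?_, ?_⟩
    · have := (mul_eq_zero.1 h4.symm).resolve_right hp.ne
      exact (mul_eq_zero.1 this).resolve_left (inv_ne_zero hp.qa)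
    · have := (mul_eq_zero.1 h3).resolve_right hp.ne
      exact (mul_eq_zero.1 this).resolve_left (inv_ne_zero hp.qb)
  have comm : ∀ x, ∃ α β : F, (δ : V ≃ₗ[F] V) x = x + (α • a + β • b) := by
    intro x
    rw [hδ, refl_apply, refl_apply]
    exact ⟨-((Q a)⁻¹ * polar Q a (x - ((Q b)⁻¹ * polar Q b x) • b)), -((Q b)⁻¹ * polar Q b x),
      by module⟩
  exact ⟨δ, odd_of hp (isOfFinOrder_of_finite δ) perp fix comm, perp, fix, comm⟩

theorem exists_sq [Finite F] (c : F) : ∃ d : F, d * d = c := by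
  have h : Function.Surjective (fun x : F => x * x) := by
    apply Finite.injective_iff_surjective.1
    intro x y hxy
    have : (x - y) * (x - y) = 0 := by
      have e : (x - y) * (x - y) = x * x - y * y + 2 * (y * (y - x)) := by ring
      have hxy' : x * x = y * y := hxy
      rw [e, hxy', CharTwo.two_eq_zero]; ring
    exact sub_eq_zero.1 (mul_self_eq_zero.1 this)
  exact h c

/-- **The element `δ`** for an anisotropic plane perpendicular to a hyperbolic pair. -/
theorem exists_delta [Finite F] [FiniteDimensional F V] (he : Hyp Q e f) (hea : polar Q e a = 0)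
    (heb : polar Q e b = 0) (hfa : polar Q f a = 0) (hfb : polar Q f b = 0) (hp : Pl Q a b) :
    ∃ δ : ↥(E Q), Del Q a b δ := by
  obtain ⟨c, hc⟩ := exists_sq (Q a * (Q b)⁻¹)
  have hc0 : c ≠ 0 := by
    rintro rfl
    rw [zero_mul] at hc
    exact mul_ne_zero hp.qa (inv_ne_zero hp.qb) hc.symm
  have hq : Q a = Q (c • b) := by
    rw [QuadraticMap.map_smul, hc, smul_eq_mul, mul_assoc, inv_mul_cancel₀ hp.qb, mul_one]
  obtain ⟨δ, h⟩ := exists_delta_eq he hea (b := c • b) (by rw [polar_smul_right, heb, smul_zero]) hfa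
    (by rw [polar_smul_right, hfb, smul_zero]) (hp.smul hc0) hq
  refine ⟨δ, h.odd, ?_, ?_, ?_⟩
  · intro x h1 h2
    exact h.perp x h1 (by rw [polar_smul_left, h2, smul_zero])
  · intro x hx
    obtain ⟨h1, h2⟩ := h.fix x hx
    rw [polar_smul_left, smul_eq_mul] at h2
    exact ⟨h1, (mul_eq_zero.1 h2).resolve_left hc0⟩
  · intro x
    obtain ⟨α, β, h1⟩ := h.comm x
    exact ⟨α, β * c, by rw [h1, smul_smul]⟩

end two

open Cfsg.Agent.OddHalf.Orth.FlagDef

section flag
variable {n : ℕ} {e f : ℕ → V}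

theorem mem_Yv {i : ℕ} {y : V} :
    y ∈ Yv Q e f i ↔ ∀ k ≤ i, polar Q (e k) y = 0 ∧ polar Q (f k) y = 0 := Iff.rfl

theorem Yv_add {i : ℕ} {x y : V} (hx : x ∈ Yv Q e f i) (hy : y ∈ Yv Q e f i) : x + y ∈ Yv Q e f i := by
  intro k hk
  rw [polar_add_right, polar_add_right, (hx k hk).1, (hx k hk).2, (hy k hk).1, (hy k hk).2]
  simp

theorem Yv_smul {i : ℕ} {x : V} (c : F) (hx : x ∈ Yv Q e f i) : c • x ∈ Yv Q e f i := by
  intro k hk
  rw [polar_smul_right, polar_smul_right, (hx k hk).1, (hx k hk).2]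
  simp

theorem Yv_sub {i : ℕ} {x y : V} (hx : x ∈ Yv Q e f i) (hy : y ∈ Yv Q e f i) : x - y ∈ Yv Q e f i := by
  have := Yv_add hx (Yv_smul (-1 : F) hy)
  rwa [neg_one_smul, ← sub_eq_add_neg] at this

/-- projection to the vectors perpendicular to the flag -/
theorem exists_proj (h : Flag Q n e f) : ∀ m ≤ n, ∀ v : V, ∃ y : V,
    (∀ k < m, polar Q (e k) y = 0 ∧ polar Q (f k) y = 0) ∧
    ∀ a : V, (∀ k < m, polar Q (e k) a = 0 ∧ polar Q (f k) a = 0) → polar Q a y = polar Q a v := by
  intro m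
  induction m with
  | zero => intro _ v; exact ⟨v, fun k hk => absurd hk (Nat.not_lt_zero k), fun a _ => rfl⟩
  | succ m ih =>
    intro hm v
    obtain ⟨y, hy, hy'⟩ := ih (by omega) v
    have hh := h.hyp m (by omega)
    have hee : polar Q (e m) (e m) = 0 := polar_self_of_sing hh.left
    have hff : polar Q (f m) (f m) = 0 := polar_self_of_sing hh.right
    refine ⟨y - polar Q (f m) y • e m - polar Q (e m) y • f m, ?_, ?_⟩
    · intro k hk
      rcases Nat.lt_succ_iff_lt_or_eq.1 hk with hk | rfl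
      · have h1 : polar Q (f k) (e m) = 0 := by
          rw [polar_comm]; exact h.ef m k (by omega) (by omega) (by omega)
        simp only [polar_sub_right, polar_smul_right, (hy k hk).1, (hy k hk).2,
          h.ee k m (by omega) (by omega) (by omega), h.ef k m (by omega) (by omega) (by omega), h1,
          h.ff k m (by omega) (by omega) (by omega), smul_zero, sub_zero, and_self]
      · simp only [polar_sub_right, polar_smul_right, hee, hff, hh.pair, hh.pair', smul_eq_mul, mul_one,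
          mul_zero, sub_zero, sub_self, and_self]
    · intro a ha
      have h1 := ha m (Nat.lt_succ_self m)
      have h2 : polar Q a (e m) = 0 := by rw [polar_comm]; exact h1.1
      have h3 : polar Q a (f m) = 0 := by rw [polar_comm]; exact h1.2
      rw [polar_sub_right, polar_sub_right, polar_smul_right, polar_smul_right, h2, h3, smul_zero,
        smul_zero, sub_zero, sub_zero]
      exact hy' a fun k hk => ha k (by omega)

/-- **(F3)** the element `δ` of a flag whose perpendicular space is anisotropic (or zero). -/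
theorem hasDelta (hQ : Nondeg Q) [Finite F] [CharP F 2] [FiniteDimensional F V] (hn : 1 ≤ n)
    (h : Flag Q n e f) (han : ∀ y ∈ Yv Q e f (n - 1), Q y = 0 → y = 0) : HasDelta Q n e f := by
  by_cases h0 : ∀ y ∈ Yv Q e f (n - 1), y = 0
  · refine ⟨1, fun i _ => ⟨rfl, rfl⟩, fun y hy => ⟨0, ?_, ?_⟩⟩
    · intro k _; simp
    · rw [h0 y hy]; simp
  push Not at h0
  obtain ⟨a, ha, ha0⟩ := h0
  obtain ⟨v, hv⟩ := hQ.exists_polar_ne ha0
  obtain ⟨b, hb, hb'⟩ := exists_proj h n le_rfl v
  have hb1 : b ∈ Yv Q e f (n - 1) := fun k hk => hb k (by omega)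
  have hab : polar Q a b ≠ 0 := by rw [hb' a fun k hk => ha k (by omega)]; exact hv
  have hba : polar Q b a ≠ 0 := by rw [polar_comm]; exact hab
  have haa : polar Q a a = 0 := polar_self2 a
  have hbb : polar Q b b = 0 := polar_self2 b
  have hp : Pl Q a b := by
    refine ⟨hab, fun α β hq => ?_⟩
    have h1 := han _ (Yv_add (Yv_smul α ha) (Yv_smul β hb1)) hq
    have h2 := congrArg (polar Q a) h1
    rw [polar_add_right, polar_smul_right, polar_smul_right, haa, smul_zero, zero_add,
      polar_zero_right, smul_eq_mul] at h2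
    have hβ : β = 0 := (mul_eq_zero.1 h2).resolve_right hab
    rw [hβ, zero_smul, add_zero] at h1
    exact ⟨(smul_eq_zero.1 h1).resolve_right ha0, hβ⟩
  -- the plane is everything
  have hspan : ∀ y ∈ Yv Q e f (n - 1), polar Q a y = 0 → polar Q b y = 0 → y = 0 := by
    intro y hy h1 h2
    obtain ⟨c, hc⟩ := exists_sq (Q y * (Q a)⁻¹)
    have h3 : Q (y + c • a) = 0 := by
      rw [Q_add, QuadraticMap.map_smul, polar_smul_right, polar_comm Q y a, h1, smul_zero, add_zero, hc,
        smul_eq_mul, mul_assoc, inv_mul_cancel₀ hp.qa, mul_one, CharTwo.add_self_eq_zero]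
    have h4 := han _ (Yv_add hy (Yv_smul c ha)) h3
    have h5 := congrArg (polar Q b) h4
    rw [polar_add_right, h2, zero_add, polar_smul_right, polar_zero_right, smul_eq_mul] at h5
    have hc0 : c = 0 := (mul_eq_zero.1 h5).resolve_right hba
    rwa [hc0, zero_smul, add_zero] at h4
  have he := h.hyp 0 (by omega)
  obtain ⟨d, hd⟩ := exists_delta he (ha 0 (by omega)).1 (hb1 0 (by omega)).1 (ha 0 (by omega)).2
    (hb1 0 (by omega)).2 hp
  refine ⟨d, fun i hi => ⟨hd.perp _ ?_ ?_, hd.perp _ ?_ ?_⟩, ?_⟩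
  · rw [polar_comm]; exact (ha i (by omega)).1
  · rw [polar_comm]; exact (hb1 i (by omega)).1
  · rw [polar_comm]; exact (ha i (by omega)).2
  · rw [polar_comm]; exact (hb1 i (by omega)).2
  have hfin : Finite V := Module.finite_of_finite F
  let D : ↥(Yv Q e f (n - 1)) → ↥(Yv Q e f (n - 1)) := fun z => ⟨(d : V ≃ₗ[F] V) z - z, by
    obtain ⟨α, β, hz⟩ := hd.comm (z : V)
    rw [hz, add_sub_cancel_left]
    exact Yv_add (Yv_smul α ha) (Yv_smul β hb1)⟩
  have hinj : Function.Injective D := by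
    intro z z' hzz
    have h1 : (d : V ≃ₗ[F] V) (z : V) - z = (d : V ≃ₗ[F] V) (z' : V) - z' := congrArg Subtype.val hzz
    have h2 : (d : V ≃ₗ[F] V) ((z : V) - z') = (z : V) - z' := by
      rw [map_sub]
      have : (d : V ≃ₗ[F] V) (z : V) = (d : V ≃ₗ[F] V) (z' : V) - z' + z := by rw [← h1]; abel
      rw [this]; abel
    obtain ⟨h3, h4⟩ := hd.fix _ h2
    have h5 := hspan _ (Yv_sub z.2 z'.2) h3 h4
    exact Subtype.ext (sub_eq_zero.1 h5)
  intro y hy
  obtain ⟨z, hz⟩ := (Finite.injective_iff_surjective.1 hinj) ⟨y, hy⟩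
  exact ⟨z, z.2, congrArg Subtype.val hz⟩

end flag

end Cfsg.Agent.OddHalf.Orth.Delta
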