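import Cfsg.Agent.OddHalf.Orth.KFlag
import Cfsg.Agent.OddHalf.Orth.Delta
import Cfsg.Agent.OddHalf.Orth.KFace
import Cfsg.Agent.OddHalf.Orth.Clean

/-!
# ODD D7, `K = Ω^±(2n, q)`, `q` even: all K-facts of sections 4 and 5 for the two models, and the clean end

`delta_minus`, `delta_plus`: (F3); `big_minus`, `big_plus`; `kfacts_minus`, `kfacts_plus`; `end_minus`,
`end_plus`: from `Dbl` and `Grow` (sections 2, 3) to the homomorphism, if `K⟨t⟩` has odd index in `C_G(t)`;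
`end_minus'`, `end_plus'`: the same if `UK⟨t⟩` has odd index in `C_G(t)`.
-/

set_option autoImplicit false

namespace Cfsg.Agent.OddHalf.Orth.KFlagMain

open QuadraticMap Cfsg.Agent.LieClassical.OrthCore Cfsg.Agent.LieClassical.OrthTrans
  Cfsg.Agent.LieClassical Cfsg.Agent.LieClassical.OrthForms
  Cfsg.Agent.ClassicalGeometry.OrthAutBasic Cfsg.Agent.TitsThree.KSideO
  Cfsg.Agent.OddHalf.Orth Cfsg.Agent.OddHalf.Orth.Face Cfsg.Agent.OddHalf.Orth.Lay
  Cfsg.Agent.OddHalf.Orth.FlagDef Cfsg.Agent.OddHalf.Orth.KFlag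

variable {F : Type*} [Field F] [Finite F] [CharP F 2] {m : ℕ}

omit [Finite F] [CharP F 2] in
theorem finrank_minus : Module.finrank F ((Fin m ⊕ Fin m) ⊕ Fin 2 → F) = 2 * m + 2 := by
  rw [Module.finrank_fintype_fun_eq_card, Fintype.card_sum, Fintype.card_sum, Fintype.card_fin,
    Fintype.card_fin]
  omega

omit [Finite F] [CharP F 2] in
theorem finrank_plus : Module.finrank F (Fin m ⊕ Fin m → F) = 2 * m := by
  rw [Module.finrank_fintype_fun_eq_card, Fintype.card_sum, Fintype.card_fin]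
  omega

section Minus

variable (m) (a b : F) (hab : ∀ z₁ z₂ : F, z₁ ^ 2 + a * z₁ * z₂ + b * z₂ ^ 2 = 0 → z₁ = 0 ∧ z₂ = 0)

/-- the sequence `e_i` for `quadFormMinus` -/
noncomputable abbrev em : ℕ → (Fin m ⊕ Fin m) ⊕ Fin 2 → F := eN (wminus m F a b hab)

/-- the sequence `f_i` for `quadFormMinus` -/
noncomputable abbrev fm : ℕ → (Fin m ⊕ Fin m) ⊕ Fin 2 → F := fN (wminus m F a b hab)

omit [Finite F] [CharP F 2] in
theorem aniso_minus (hm : 1 ≤ m) {y : (Fin m ⊕ Fin m) ⊕ Fin 2 → F}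
    (hy : y ∈ Yv (minusForm m F a b) (em m a b hab) (fm m a b hab) (m - 1)) (hQ : minusForm m F a b y = 0) :
    y = 0 := by
  rw [mem_Yv _ (by omega)] at hy
  have h1 : ∀ i : Fin m, y (Sum.inl (Sum.inl i)) = 0 ∧ y (Sum.inl (Sum.inr i)) = 0 := by
    intro i
    obtain ⟨h1, h2⟩ := hy i (by omega)
    constructor
    · have h3 : polar (minusForm m F a b) (Pi.single (Sum.inl (Sum.inr i)) 1) y = 0 := h2
      rw [polar_minusForm] at h3
      simpa [Pi.single_apply] using h3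
    · have h3 : polar (minusForm m F a b) (Pi.single (Sum.inl (Sum.inl i)) 1) y = 0 := h1
      rw [polar_minusForm] at h3
      simpa [Pi.single_apply] using h3
  rw [coe_minusForm, quadFormMinus_apply] at hQ
  simp only [(h1 _).1, (h1 _).2, mul_zero, Finset.sum_const_zero, zero_add] at hQ
  obtain ⟨h2, h3⟩ := hab _ _ hQ
  funext i
  rcases i with (i | i) | i
  · exact (h1 i).1
  · exact (h1 i).2
  · fin_cases i
    · exact h2
    · exact h3

theorem delta_minus (hm : 1 ≤ m) : HasDelta (minusForm m F a b) m (em m a b hab) (fm m a b hab) :=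
  Delta.hasDelta (nondeg_minusForm m F a b hab) hm (flag _) fun _ hy => aniso_minus m a b hab hm hy

include hab in
theorem big_minus (hm : 3 ≤ m) : Big (minusForm m F a b) :=
  ⟨nondeg_minusForm m F a b hab, by rw [finrank_minus]; omega⟩

include hab in
theorem kfacts_minus (hm : 3 ≤ m) : KFacts (minusForm m F a b) :=
  kfacts (nondeg_minusForm m F a b hab) (by rw [finrank_minus]; omega)

end Minus

section Plus

/-- the sequence `e_i` for `quadFormPlus` -/
noncomputable abbrev ep (m : ℕ) (F : Type*) [Field F] : ℕ → Fin m ⊕ Fin m → F :=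
  eN (Cfsg.Agent.Nodes.RGDOrth.wplus m F)

/-- the sequence `f_i` for `quadFormPlus` -/
noncomputable abbrev fp (m : ℕ) (F : Type*) [Field F] : ℕ → Fin m ⊕ Fin m → F :=
  fN (Cfsg.Agent.Nodes.RGDOrth.wplus m F)

omit [Finite F] [CharP F 2] in
theorem zero_plus (hm : 1 ≤ m) {y : Fin m ⊕ Fin m → F}
    (hy : y ∈ Yv (plusForm m F) (ep m F) (fp m F) (m - 1)) : y = 0 := by
  rw [mem_Yv _ (by omega)] at hy
  funext i
  rcases i with i | i
  · obtain ⟨h1, h2⟩ := hy i (by omega)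
    have h3 : polar (plusForm m F) (Pi.single (Sum.inr i) 1) y = 0 := h2
    rw [polar_plusForm] at h3
    simpa [Pi.single_apply] using h3
  · obtain ⟨h1, h2⟩ := hy i (by omega)
    have h3 : polar (plusForm m F) (Pi.single (Sum.inl i) 1) y = 0 := h1
    rw [polar_plusForm] at h3
    simpa [Pi.single_apply] using h3

theorem delta_plus (hm : 1 ≤ m) : HasDelta (plusForm m F) m (ep m F) (fp m F) :=
  Delta.hasDelta (nondeg_plusForm m F) hm (flag _) fun _ hy _ => zero_plus hm hy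

theorem big_plus (hm : 4 ≤ m) : Big (plusForm m F) :=
  ⟨nondeg_plusForm m F, by rw [finrank_plus]; omega⟩

theorem kfacts_plus (hm : 4 ≤ m) : KFacts (plusForm m F) :=
  kfacts (nondeg_plusForm m F) (by rw [finrank_plus]; omega)

end Plus

/-! ### The ends -/

variable {G : Type*} [Group G] [Finite G] {t : G}

/-- **`Ω^-(2m+2, q)`, clean case.** -/
theorem end_minus (hm : 3 ≤ m) {a b : F}
    (hab : ∀ z₁ z₂ : F, z₁ ^ 2 + a * z₁ * z₂ + b * z₂ ^ 2 = 0 → z₁ = 0 ∧ z₂ = 0)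
    {j : ↥(E (minusForm m F a b)) →* G} {W : ((Fin m ⊕ Fin m) ⊕ Fin 2 → F) → ((Fin m ⊕ Fin m) ⊕ Fin 2 → F) → Subgroup G}
    (D : Dbl (minusForm m F a b) t j W) (hG : Grow (minusForm m F a b) t W)
    (hodd : Odd ((j.range ⊔ Subgroup.zpowers t).relIndex (Subgroup.centralizer ({t} : Set G)))) :
    ∃ μ : G →* ℤˣ, μ t = -1 :=
  Clean.exists_hom_of (big_minus m a b hab hm) (kfacts_minus m a b hab hm) D hG (flag_minus hm a b hab).1 hm
    (delta_minus m a b hab (by omega)) (flag_minus hm a b hab).2.1 hodd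

/-- **`Ω^+(2m, q)`, clean case.** -/
theorem end_plus (hm : 4 ≤ m) {j : ↥(E (plusForm m F)) →* G} {W : (Fin m ⊕ Fin m → F) → (Fin m ⊕ Fin m → F) → Subgroup G}
    (D : Dbl (plusForm m F) t j W) (hG : Grow (plusForm m F) t W)
    (hodd : Odd ((j.range ⊔ Subgroup.zpowers t).relIndex (Subgroup.centralizer ({t} : Set G)))) :
    ∃ μ : G →* ℤˣ, μ t = -1 :=
  Clean.exists_hom_of (big_plus hm) (kfacts_plus hm) D hG (flag_plus hm).1 (by omega)
    (delta_plus (by omega)) (flag_plus hm).2.1 hodd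

/-- `Ω^-(2m+2, q)`, if a Sylow 2-subgroup of `C_G(t)` is `⟨t⟩ × UK`. -/
theorem end_minus' (hm : 3 ≤ m) {a b : F}
    (hab : ∀ z₁ z₂ : F, z₁ ^ 2 + a * z₁ * z₂ + b * z₂ ^ 2 = 0 → z₁ = 0 ∧ z₂ = 0)
    {j : ↥(E (minusForm m F a b)) →* G} {W : ((Fin m ⊕ Fin m) ⊕ Fin 2 → F) → ((Fin m ⊕ Fin m) ⊕ Fin 2 → F) → Subgroup G}
    (D : Dbl (minusForm m F a b) t j W) (hG : Grow (minusForm m F a b) t W)
    (hodd : Odd (((UK (minusForm m F a b) (em m a b hab) (fm m a b hab) m).map j ⊔ Subgroup.zpowers t).relIndex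
      (Subgroup.centralizer ({t} : Set G)))) :
    ∃ μ : G →* ℤˣ, μ t = -1 :=
  End.exists_hom D (big_minus m a b hab hm) (kfacts_minus m a b hab hm) hG (flag_minus hm a b hab).1 hm
    (delta_minus m a b hab (by omega)) hodd

/-- `Ω^+(2m, q)`, if a Sylow 2-subgroup of `C_G(t)` is `⟨t⟩ × UK`. -/
theorem end_plus' (hm : 4 ≤ m) {j : ↥(E (plusForm m F)) →* G} {W : (Fin m ⊕ Fin m → F) → (Fin m ⊕ Fin m → F) → Subgroup G}
    (D : Dbl (plusForm m F) t j W) (hG : Grow (plusForm m F) t W)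
    (hodd : Odd (((UK (plusForm m F) (ep m F) (fp m F) m).map j ⊔ Subgroup.zpowers t).relIndex
      (Subgroup.centralizer ({t} : Set G)))) :
    ∃ μ : G →* ℤˣ, μ t = -1 :=
  End.exists_hom D (big_plus hm) (kfacts_plus hm) hG (flag_plus hm).1 (by omega) (delta_plus (by omega)) hodd

end Cfsg.Agent.OddHalf.Orth.KFlagMain
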