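import Mathlib
import Cfsg.Agent.OddHalf.Orth.KFace

/-!
# The group `P` of a totally singular line: reflections, elements of odd order

* `odd_refl_mul` : `r_a r_b` has odd order if `(a, b) ≠ 0` (characteristic 2);
* `rot` : the element `r_a r_b` of `E Q` (`Q a = Q b`);
* `Spn Q N` : every nonzero vector of `N` has a nonsingular nonperpendicular vector in `N`;
-/

set_option autoImplicit false
set_option linter.unusedSectionVars false
set_option linter.unusedVariables false

namespace Cfsg.Agent.OddHalf.Orth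

open QuadraticMap Cfsg.Agent.LieClassical.OrthCore Cfsg.Agent.LieClassical.OrthTrans
  Cfsg.Agent.LieClassical.OrthSimple Cfsg.Agent.ClassicalGeometry.OrthAutBasic
  Cfsg.Agent.ClassicalGeometry.OrthAutRoot Face

variable {F V : Type*} [Field F] [AddCommGroup V] [Module F V] {Q : QuadraticForm F V}

/-! ### Products of two reflections -/

section refl
variable [CharP F 2]

theorem refl_apply2 {v : V} (hv : Q v ≠ 0) (x : V) :
    refl Q v hv x = x + ((Q v)⁻¹ * polar Q v x) • v := by
  rw [refl_apply, sub_eq' (F := F)]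

theorem refl_self2 {v : V} (hv : Q v ≠ 0) : refl Q v hv v = v := by
  rw [refl_apply2, polar_self2]; simp

theorem refl_fix {v x : V} (hv : Q v ≠ 0) (h : polar Q v x = 0) : refl Q v hv x = x := by
  rw [refl_apply2, h]; simp

/-- an isometry commuting with `r_a` fixes `a` -/
theorem fix_of_comm {g : V ≃ₗ[F] V} (hg : g ∈ O Q) {a x : V} (ha : Q a ≠ 0) (hx : polar Q a x ≠ 0)
    (hc : g * refl Q a ha = refl Q a ha * g) : g a = a := by
  have ha' : Q (g a) ≠ 0 := by rw [mem_O.1 hg]; exact ha
  have h1 := refl_conj hg ha ha'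
  rw [hc, mul_assoc, mul_inv_cancel, mul_one] at h1
  have h2 := congrArg (fun f : V ≃ₗ[F] V => f x) h1
  simp only [refl_apply2, mem_O.1 hg] at h2
  have h3 := add_left_cancel h2
  set c := polar Q a x with hcdef
  set d := polar Q (g a) x with hddef
  have h4 : a = (c⁻¹ * d) • g a := by
    have h5 : c • a = d • g a := by
      have := congrArg (fun y => Q a • y) h3
      simpa [smul_smul, mul_inv_cancel_left₀ ha] using this
    rw [mul_smul, ← h5, smul_smul, inv_mul_cancel₀ hx, one_smul]
  have h6 : (c⁻¹ * d) * (c⁻¹ * d) = 1 := by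
    have h7 := congrArg Q h4
    rw [QuadraticMap.map_smul, mem_O.1 hg, smul_eq_mul] at h7
    exact mul_right_cancel₀ ha (by rw [one_mul]; exact h7.symm)
  rw [eq_one_of_mul_self h6, one_smul] at h4
  exact h4.symm

theorem odd_refl_mul [Finite F] [FiniteDimensional F V] {a b : V} (ha : Q a ≠ 0) (hb : Q b ≠ 0)
    (h : polar Q a b ≠ 0) : Odd (orderOf (refl Q a ha * refl Q b hb)) := by
  have : Finite V := Module.finite_of_finite F
  have : Finite (V ≃ₗ[F] V) := Finite.of_injective (fun f : V ≃ₗ[F] V => (f : V → V))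
    (fun f g h => LinearEquiv.ext fun x => congrFun h x)
  by_contra hcon
  rw [Nat.not_odd_iff_even] at hcon
  obtain ⟨m, hm⟩ := hcon
  set δ := refl Q a ha * refl Q b hb with hδ
  have hpos : 0 < orderOf δ := orderOf_pos δ
  have h1 : δ ^ m * δ ^ m = 1 := by rw [← pow_add, ← hm, pow_orderOf_eq_one]
  have h2 : δ ^ m ≠ 1 := by
    intro h3
    have h4 := Nat.le_of_dvd (by omega) (orderOf_dvd_of_pow_eq_one h3)
    omega
  have h3 : (δ ^ m)⁻¹ = δ ^ m := inv_eq_of_mul_eq_one_left h1
  have ea : refl Q a ha * δ * (refl Q a ha)⁻¹ = δ⁻¹ := by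
    rw [hδ, mul_inv_rev, refl_inv, refl_inv, ← mul_assoc, refl_mul_self, one_mul]
  have eb : refl Q b hb * δ * (refl Q b hb)⁻¹ = δ⁻¹ := by
    rw [hδ, mul_inv_rev, refl_inv, refl_inv, mul_assoc, mul_assoc, refl_mul_self, mul_one]
  have ca : δ ^ m * refl Q a ha = refl Q a ha * δ ^ m := by
    have h5 : refl Q a ha * δ ^ m * (refl Q a ha)⁻¹ = δ ^ m := by
      rw [← conj_pow, ea, inv_pow, h3]
    nth_rewrite 1 [← h5]
    rw [inv_mul_cancel_right]
  have cb : δ ^ m * refl Q b hb = refl Q b hb * δ ^ m := by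
    have h5 : refl Q b hb * δ ^ m * (refl Q b hb)⁻¹ = δ ^ m := by
      rw [← conj_pow, eb, inv_pow, h3]
    nth_rewrite 1 [← h5]
    rw [inv_mul_cancel_right]
  have hO : δ ∈ O Q := (O Q).mul_mem (refl_mem_O ha) (refl_mem_O hb)
  have hOm : δ ^ m ∈ O Q := (O Q).pow_mem hO m
  have fa := fix_of_comm hOm ha h ca
  have fb := fix_of_comm hOm hb (polar_comm Q a b ▸ h) cb
  apply h2
  ext x
  set α := (polar Q a b)⁻¹ * polar Q x b with hα
  set β := (polar Q a b)⁻¹ * polar Q x a with hβ
  set y := x + α • a + β • b with hy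
  have hya : polar Q a y = 0 := by
    rw [hy, polar_add_right, polar_add_right, polar_smul_right, polar_smul_right, polar_self2, hβ,
      smul_eq_mul, smul_eq_mul, mul_zero, add_zero, mul_comm _ (polar Q x a), mul_assoc,
      inv_mul_cancel₀ h, mul_one, polar_comm Q a x, CharTwo.add_self_eq_zero]
  have hyb : polar Q b y = 0 := by
    rw [hy, polar_add_right, polar_add_right, polar_smul_right, polar_smul_right, polar_self2, hα,
      smul_eq_mul, smul_eq_mul, mul_zero, add_zero, mul_comm _ (polar Q x b), mul_assoc, polar_comm Q b a,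
      inv_mul_cancel₀ h, mul_one, polar_comm Q b x, CharTwo.add_self_eq_zero]
  have hfix : δ y = y := by
    show refl Q a ha (refl Q b hb y) = y
    rw [refl_fix hb hyb, refl_fix ha hya]
  have hfixm : (δ ^ m) y = y := by
    clear_value y
    clear h1 h2 h3 ca cb hOm fa fb hm
    induction m with
    | zero => rfl
    | succ m ih =>
      rw [pow_succ]
      show (δ ^ m) (δ y) = y
      rw [hfix, ih]
  have ex : x = y + α • a + β • b := by
    have e1 : y + α • a + β • b = x + (α • a + α • a) + (β • b + β • b) := by rw [hy]; module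
    rw [e1, add_self' (F := F), add_self' (F := F), add_zero, add_zero]
  show (δ ^ m) x = x
  rw [ex, map_add, map_add, map_smul, map_smul, hfixm, fa, fb]

end refl

end Cfsg.Agent.OddHalf.Orth
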