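import Cfsg.Agent.OddHalf.Orth.KFlagMain
import Cfsg.Agent.OddHalf.Orth.SitOf
import Cfsg.Agent.OddHalf.Orth.Delta
import Cfsg.Agent.OddHalf.D7Out.FrGen

/-!
# ODD D7, `K = Ω⁻(2n+2, q)`, `n ≥ 3`, `q` even: the frame data `FrGen.KF` (helper554)

`U = UK Q e f n` (the unipotent group of the flag), `Z = X Q (e 0) (e 1)` (the root group of the first line).

* `PL Q S a b` : generated by all `tE x y`, `x ∈ S`, `y ∈ ⟨a, b⟩`; `PL_perfect`: it is perfect if `S` contains a
  hyperbolic pair, `S ⊥ ⟨a, b⟩`, `Q a = Q b`;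
* `kf` : `FrGen.KF U Z` from the facts on `K`; `kf_minus` : for `quadFormMinus`.
-/

set_option autoImplicit false

namespace Cfsg.Agent.OddHalf.Orth.KFr

open QuadraticMap Cfsg.Agent.LieClassical.OrthCore Cfsg.Agent.LieClassical.OrthTrans
  Cfsg.Agent.ClassicalGeometry.OrthAutBasic Cfsg.Agent.ClassicalGeometry.OrthAutRoot
  Cfsg.Agent.OddHalf.Orth Cfsg.Agent.OddHalf.Orth.Face Cfsg.Agent.OddHalf.Orth.FlagDef
  Cfsg.Agent.OddHalf.D7Out
open scoped commutatorElement

variable {F V : Type*} [Field F] [AddCommGroup V] [Module F V] {Q : QuadraticForm F V}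

/-! ### A perfect subgroup -/

/-- generated by all `tE x y`, `x ∈ S`, `y ∈ ⟨a, b⟩` -/
noncomputable def PL (Q : QuadraticForm F V) (S : Set V) (a b : V) : Subgroup ↥(E Q) :=
  Subgroup.closure {g | ∃ x ∈ S, ∃ α β : F, g = tE Q x (α • a + β • b)}

theorem mem_PL {S : Set V} {a b x : V} (hx : x ∈ S) (α β : F) : tE Q x (α • a + β • b) ∈ PL Q S a b :=
  Subgroup.subset_closure ⟨x, hx, α, β, rfl⟩

theorem mem_PL_a {S : Set V} {a b x : V} (hx : x ∈ S) (α : F) : tE Q x (α • a) ∈ PL Q S a b := by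
  have h := mem_PL (Q := Q) (a := a) (b := b) hx α 0
  rwa [zero_smul, add_zero] at h

theorem mem_PL_b {S : Set V} {a b x : V} (hx : x ∈ S) (β : F) : tE Q x (β • b) ∈ PL Q S a b := by
  have h := mem_PL (Q := Q) (a := a) (b := b) hx 0 β
  rwa [zero_smul, zero_add] at h

section two

variable [CharP F 2] {S : Set V} {a b e f : V}

/-- the map `a ↦ b` in `PL` -/
theorem exists_move (he : Hyp Q e f) (heS : e ∈ S) (hfS : f ∈ S) (hea : polar Q e a = 0) (heb : polar Q e b = 0)
    (hfa : polar Q f a = 0) (hfb : polar Q f b = 0) (h : polar Q a b ≠ 0) (hab : Q a = Q b) :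
    ∃ k ∈ PL Q S a b, (k : V ≃ₗ[F] V) a = b := by
  have hba : polar Q b a ≠ 0 := by rw [polar_comm]; exact h
  have hw : polar Q e ((polar Q b a)⁻¹ • b) = 0 := by rw [polar_smul_right, heb, smul_zero]
  have hw' : polar Q e ((polar Q a b)⁻¹ • a) = 0 := by rw [polar_smul_right, hea, smul_zero]
  have hf : polar Q f (a + b) = 0 := by rw [polar_add_right, hfa, hfb, add_zero]
  have h1 : T Q e ((polar Q b a)⁻¹ • b) a = a + e := by
    rw [T_apply2 he.left hw, hea, polar_smul_left, smul_eq_mul, inv_mul_cancel₀ hba]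
    simp
  have h2 : T Q f (a + b) (a + e) = b + e := by
    have e1 : polar Q f (a + e) = 1 := by rw [polar_add_right, hfa, he.pair', zero_add]
    have e2 : polar Q (a + b) (a + e) = polar Q a b := by
      rw [polar_add_left, polar_add_right, polar_add_right, polar_self2, polar_comm Q a e, hea,
        polar_comm Q b e, heb, polar_comm Q b a]
      ring
    have e3 : Q (a + b) = polar Q a b := by
      rw [Q_add, hab, CharTwo.add_self_eq_zero, zero_add]
    rw [T_apply2 he.right hf, e1, e2, e3, mul_one, CharTwo.add_self_eq_zero, zero_smul, add_zero,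
      one_smul]
    have e4 : a + a = 0 := add_self' (F := F) a
    calc a + e + (a + b) = (a + a) + (b + e) := by abel
      _ = b + e := by rw [e4, zero_add]
  have h3 : T Q e ((polar Q a b)⁻¹ • a) (b + e) = b := by
    have e1 : polar Q e (b + e) = 0 := by
      rw [polar_add_right, heb, polar_self2, add_zero]
    have e2 : polar Q ((polar Q a b)⁻¹ • a) (b + e) = 1 := by
      rw [polar_smul_left, polar_add_right, polar_comm Q a e, hea, add_zero, smul_eq_mul,
        inv_mul_cancel₀ h]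
    rw [T_apply2 he.left hw', e1, e2, mul_zero, add_zero, one_smul, zero_smul, add_zero, add_assoc,
      add_self' (F := F), add_zero]
  refine ⟨tE Q e ((polar Q a b)⁻¹ • a) * (tE Q f (a + b) * tE Q e ((polar Q b a)⁻¹ • b)),
    mul_mem (mem_PL_a heS _) (mul_mem ?_ (mem_PL_b heS _)), ?_⟩
  · have h := mem_PL (Q := Q) (a := a) (b := b) hfS 1 1
    rwa [one_smul, one_smul] at h
  · show T Q e ((polar Q a b)⁻¹ • a) (T Q f (a + b) (T Q e ((polar Q b a)⁻¹ • b) a)) = b
    rw [h1, h2, h3]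

omit [CharP F 2] in
/-- conjugation by the reflection in `a` fixes `PL` -/
theorem conj_refl_mem (hS : ∀ x ∈ S, polar Q x a = 0) (ha : Q a ≠ 0) {g : ↥(E Q)} (hg : g ∈ PL Q S a b) :
    ∃ g' ∈ PL Q S a b, (g' : V ≃ₗ[F] V) = refl Q a ha * (g : V ≃ₗ[F] V) * (refl Q a ha)⁻¹ := by
  induction hg using Subgroup.closure_induction with
  | mem g hg =>
    obtain ⟨x, hx, α, β, rfl⟩ := hg
    have h1 : refl Q a ha x = x := by
      rw [refl_apply, polar_comm, hS x hx, mul_zero, zero_smul, sub_zero]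
    obtain ⟨c, hc⟩ : ∃ c : F, refl Q a ha (α • a + β • b) = c • a + β • b := by
      refine ⟨α - (Q a)⁻¹ * polar Q a (α • a + β • b), ?_⟩
      rw [refl_apply]
      module
    refine ⟨tE Q x (c • a + β • b), mem_PL hx _ _, ?_⟩
    rw [coe_tE, coe_tE, T_conj (refl_mem_O ha), h1, hc]
  | one => exact ⟨1, one_mem _, by rw [Subgroup.coe_one, mul_one, mul_inv_cancel]⟩
  | mul g h _ _ ihg ihh =>
    obtain ⟨g', hg', e1⟩ := ihg
    obtain ⟨h', hh', e2⟩ := ihh
    refine ⟨g' * h', mul_mem hg' hh', ?_⟩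
    rw [Subgroup.coe_mul, Subgroup.coe_mul, e1, e2]
    group
  | inv g _ ihg =>
    obtain ⟨g', hg', e1⟩ := ihg
    refine ⟨g'⁻¹, inv_mem hg', ?_⟩
    rw [Subgroup.coe_inv, Subgroup.coe_inv, e1]
    group

/-- the product of the reflections in `a` and `b` lies in `PL` -/
theorem exists_delta (he : Hyp Q e f) (heS : e ∈ S) (hfS : f ∈ S) (hSa : ∀ x ∈ S, polar Q x a = 0)
    (hSb : ∀ x ∈ S, polar Q x b = 0) (h : polar Q a b ≠ 0) (hab : Q a = Q b) (ha : Q a ≠ 0) (hb : Q b ≠ 0) :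
    ∃ δ ∈ PL Q S a b, ∀ v, (δ : V ≃ₗ[F] V) v = refl Q a ha (refl Q b hb v) := by
  obtain ⟨k, hk, hkab⟩ := exists_move he heS hfS (hSa e heS) (hSb e heS) (hSa f hfS) (hSb f hfS) h hab
  obtain ⟨k', hk', e1⟩ := conj_refl_mem hSa ha hk
  have h0 : Q ((k : V ≃ₗ[F] V) a) ≠ 0 := by rw [hkab]; exact hb
  have h1 : refl Q ((k : V ≃ₗ[F] V) a) h0 = (k : V ≃ₗ[F] V) * refl Q a ha * (k : V ≃ₗ[F] V)⁻¹ :=
    (refl_conj (mem_O' k) ha h0).symm
  have h2 : refl Q ((k : V ≃ₗ[F] V) a) h0 = refl Q b hb := by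
    congr 1
  refine ⟨k' * k⁻¹, mul_mem hk' (inv_mem hk), fun v => ?_⟩
  have h3 : ((k' * k⁻¹ : ↥(E Q)) : V ≃ₗ[F] V) = refl Q a ha * refl Q b hb := by
    rw [Subgroup.coe_mul, Subgroup.coe_inv, e1, ← h2, h1, refl_inv ha]
    group
  rw [h3]
  rfl

/-- **`PL` is perfect.** -/
theorem PL_perfect (he : Hyp Q e f) (heS : e ∈ S) (hfS : f ∈ S) (hS : ∀ x ∈ S, Q x = 0)
    (hSa : ∀ x ∈ S, polar Q x a = 0) (hSb : ∀ x ∈ S, polar Q x b = 0) (h : polar Q a b ≠ 0) (hab : Q a = Q b)
    (ha : Q a ≠ 0) : ⁅PL Q S a b, PL Q S a b⁆ = PL Q S a b := by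
  have hb : Q b ≠ 0 := by rw [← hab]; exact ha
  obtain ⟨δ, hδ, hδv⟩ := exists_delta he heS hfS hSa hSb h hab ha hb
  apply le_antisymm
  · rw [Subgroup.commutator_le]
    intro x hx y hy
    rw [commutatorElement_def]
    exact mul_mem (mul_mem (mul_mem hx hy) (inv_mem hx)) (inv_mem hy)
  conv_lhs => rw [PL]
  rw [Subgroup.closure_le]
  rintro _ ⟨x, hx, α, β, rfl⟩
  have hba : polar Q b a = polar Q a b := polar_comm Q b a
  obtain ⟨τ, hτ⟩ : ∃ τ, τ = (Q a)⁻¹ * polar Q a b := ⟨_, rfl⟩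
  have hτ0 : τ ≠ 0 := by rw [hτ]; exact mul_ne_zero (inv_ne_zero ha) h
  have hτ' : τ * τ⁻¹ = 1 := mul_inv_cancel₀ hτ0
  -- `δ` on the plane
  have ra : ∀ A B : F, refl Q a ha (A • a + B • b) = (A + B * τ) • a + B • b := by
    intro A B
    rw [refl_apply, sub_eq' (F := F), polar_add_right, polar_smul_right, polar_smul_right, polar_self2,
      smul_zero, zero_add, smul_eq_mul]
    have e1 : (Q a)⁻¹ * (B * polar Q a b) = B * τ := by rw [hτ]; ring
    rw [e1]
    module
  have rb : ∀ A B : F, refl Q b hb (A • a + B • b) = A • a + (B + A * τ) • b := by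
    intro A B
    rw [refl_apply, sub_eq' (F := F), polar_add_right, polar_smul_right, polar_smul_right, polar_self2,
      smul_zero, add_zero, smul_eq_mul, hba, ← hab]
    have e1 : (Q a)⁻¹ * (A * polar Q a b) = A * τ := by rw [hτ]; ring
    rw [e1]
    module
  obtain ⟨v, hv⟩ : ∃ v, v = (β * τ⁻¹) • a + (α * τ⁻¹ + β) • b := ⟨_, rfl⟩
  have h1 : (δ : V ≃ₗ[F] V) v + v = α • a + β • b := by
    rw [hδv, hv, rb, ra]
    have two0 : (2 : F) = 0 := CharTwo.two_eq_zero
    have c1 : β * τ⁻¹ + (α * τ⁻¹ + β + β * τ⁻¹ * τ) * τ + β * τ⁻¹ = α := by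
      linear_combination (α + β * τ) * hτ' + (β * τ⁻¹ + β * τ) * two0
    have c2 : α * τ⁻¹ + β + β * τ⁻¹ * τ + (α * τ⁻¹ + β) = β := by
      linear_combination β * hτ' + (α * τ⁻¹ + β) * two0
    calc (β * τ⁻¹ + (α * τ⁻¹ + β + β * τ⁻¹ * τ) * τ) • a + (α * τ⁻¹ + β + β * τ⁻¹ * τ) • b +
          ((β * τ⁻¹) • a + (α * τ⁻¹ + β) • b)
        = (β * τ⁻¹ + (α * τ⁻¹ + β + β * τ⁻¹ * τ) * τ + β * τ⁻¹) • a +
          (α * τ⁻¹ + β + β * τ⁻¹ * τ + (α * τ⁻¹ + β)) • b := by module
      _ = α • a + β • b := by rw [c1, c2]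
  have hxv : polar Q x v = 0 := by
    rw [hv, polar_add_right, polar_smul_right, polar_smul_right, hSa x hx, hSb x hx, smul_zero, smul_zero,
      add_zero]
  have hδx : (δ : V ≃ₗ[F] V) x = x := by
    rw [hδv, refl_apply hb, polar_comm Q b x, hSb x hx, mul_zero, zero_smul, sub_zero, refl_apply ha,
      polar_comm Q a x, hSa x hx, mul_zero, zero_smul, sub_zero]
  have hxv' : polar Q x ((δ : V ≃ₗ[F] V) v) = 0 := by
    have h3 := polar_map' (Q := Q) δ x v
    rwa [hδx, hxv] at h3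
  have h2 : tE Q x (α • a + β • b) = ⁅δ, tE Q x v⁆ := by
    rw [commutatorElement_def, tE_conj, hδx, tE_inv (hS x hx) hxv, tE_mul (hS x hx) hxv' hxv, h1]
  rw [h2]
  refine Subgroup.commutator_mem_commutator hδ ?_
  rw [hv]
  exact mem_PL hx _ _

omit [CharP F 2] in
/-- `PL` fixes the vectors perpendicular to `S`, `a`, `b` -/
theorem PL_comm {z w : V} (hS : ∀ x ∈ S, Q x = 0) (hSa : ∀ x ∈ S, polar Q x a = 0)
    (hSb : ∀ x ∈ S, polar Q x b = 0) (hSz : ∀ x ∈ S, polar Q x z = 0) (hSw : ∀ x ∈ S, polar Q x w = 0)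
    (haz : polar Q a z = 0) (hbz : polar Q b z = 0) (haw : polar Q a w = 0) (hbw : polar Q b w = 0)
    {g : ↥(E Q)} (hg : g ∈ PL Q S a b) : g * tE Q z w = tE Q z w * g := by
  have h1 : PL Q S a b ≤ Subgroup.centralizer ({tE Q z w} : Set ↥(E Q)) := by
    conv_lhs => rw [PL]
    rw [Subgroup.closure_le]
    rintro _ ⟨x, hx, α, β, rfl⟩
    rw [SetLike.mem_coe, Subgroup.mem_centralizer_singleton_iff]
    have h0 : polar Q x (α • a + β • b) = 0 := by
      rw [polar_add_right, polar_smul_right, polar_smul_right, hSa x hx, hSb x hx, smul_zero, smul_zero,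
        add_zero]
    apply tE_comm_of
    · refine T_apply_fix (hS x hx) h0 (hSz x hx) ?_
      rw [polar_add_left, polar_smul_left, polar_smul_left, haz, hbz, smul_zero, smul_zero, add_zero]
    · refine T_apply_fix (hS x hx) h0 (hSw x hx) ?_
      rw [polar_add_left, polar_smul_left, polar_smul_left, haw, hbw, smul_zero, smul_zero, add_zero]
  exact Subgroup.mem_centralizer_singleton_iff.1 (h1 hg)

/-- `tE e0 e1` is a commutator of elements of `PL` -/
theorem tE_mem_PL {z w : V} (hz : Q z = 0) (hw : Q w = 0) (hzw : polar Q z w = 0) (hzS : z ∈ S) (hwS : w ∈ S)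
    (hza : polar Q z a = 0) (hzb : polar Q z b = 0) (hwa : polar Q w a = 0) (hwb : polar Q w b = 0)
    (h : polar Q a b ≠ 0) : tE Q z w ∈ PL Q S a b := by
  obtain ⟨c, hc⟩ : ∃ c : F, c = (polar Q a b)⁻¹ := ⟨_, rfl⟩
  have hwz : polar Q w z = 0 := by rw [polar_comm]; exact hzw
  have hwb' : polar Q w (c • b) = 0 := by rw [polar_smul_right, hwb, smul_zero]
  have hzb' : polar Q z (c • b) = 0 := by rw [polar_smul_right, hzb, smul_zero]
  have h1 : T Q z a w = w := T_apply_fix hz hza hzw (by rw [polar_comm]; exact hwa)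
  have h2 : T Q z a (c • b) = c • b + z := by
    rw [T_apply2 hz hza, hzb', zero_smul, add_zero, mul_zero, add_zero, polar_smul_right, hc, smul_eq_mul,
      inv_mul_cancel₀ h, one_smul]
  have h3 : tE Q z a * tE Q w (c • b) * (tE Q z a)⁻¹ * (tE Q w (c • b))⁻¹ = tE Q z w := by
    rw [tE_conj, coe_tE, h1, h2, tE_inv hw hwb', tE_mul hw (by rw [polar_add_right, hwb', hwz, add_zero]) hwb']
    have e1 : c • b + z + c • b = z := by
      have e2 : c • b + c • b = 0 := add_self' (F := F) _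
      calc c • b + z + c • b = (c • b + c • b) + z := by abel
        _ = z := by rw [e2, zero_add]
    rw [e1, tE_swap hw hz hwz]
  rw [← h3]
  have h4 : tE Q z a ∈ PL Q S a b := by
    have h5 := mem_PL_a (Q := Q) (a := a) (b := b) hzS 1
    rwa [one_smul] at h5
  have h5 : tE Q w (c • b) ∈ PL Q S a b := mem_PL_b hwS c
  exact mul_mem (mul_mem (mul_mem h4 h5) (inv_mem h4)) (inv_mem h5)

end two

/-! ### The frame data -/

section main

variable {n : ℕ} {e f : ℕ → V}

theorem hee (hF : Flag Q n e f) {i k : ℕ} (hi : i < n) (hk : k < n) : polar Q (e i) (e k) = 0 := by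
  by_cases h : i = k
  · subst h; exact (hF.hyp i hi).polar_left
  · exact hF.ee i k hi hk h

theorem hff (hF : Flag Q n e f) {i k : ℕ} (hi : i < n) (hk : k < n) : polar Q (f i) (f k) = 0 := by
  by_cases h : i = k
  · subst h; exact (hF.hyp i hi).polar_right
  · exact hF.ff i k hi hk h

theorem hfe (hF : Flag Q n e f) {i k : ℕ} (hi : i < n) (hk : k < n) (h : i ≠ k) : polar Q (f i) (e k) = 0 := by
  rw [polar_comm]; exact hF.ef k i hk hi (Ne.symm h)

theorem e_mem_Yv (hF : Flag Q n e f) {i k : ℕ} (hk : k < n) (h : i < k) : e k ∈ Yv Q e f i := by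
  intro l hl
  exact ⟨hee hF (by omega) hk, hfe hF (by omega) hk (by omega)⟩

theorem RK_le_UK {i : ℕ} (hi : i < n) : RK Q e f i ≤ UK Q e f n := le_iSup₂_of_le i hi le_rfl

theorem tE_mem_UK {i : ℕ} (hi : i < n) {y : V} (hy : y ∈ Yv Q e f i) : tE Q (e i) y ∈ UK Q e f n :=
  RK_le_UK hi (Subgroup.subset_closure ⟨y, hy, rfl⟩)

/-- all `tE (e 0) x` lie in `U` -/
theorem tE_zero_mem_UK (hF : Flag Q n e f) (hn : 1 ≤ n) {x : V} (hx : polar Q (e 0) x = 0) :
    tE Q (e 0) x ∈ UK Q e f n := by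
  have h0 := hF.hyp 0 (by omega)
  have h1 : tE Q (e 0) x = tE Q (e 0) (x + (-(polar Q (f 0) x)) • e 0) := (tE_add_smul h0.left hx _).symm
  rw [h1]
  refine tE_mem_UK (by omega) fun k hk => ?_
  obtain rfl : k = 0 := by omega
  rw [polar_add_right, polar_add_right, polar_smul_right, polar_smul_right, hx, h0.polar_left, h0.pair',
    smul_zero, smul_eq_mul, mul_one]
  exact ⟨by simp, by simp⟩

/-- maximality of a 2-subgroup of odd index -/
theorem max_of_odd {Y : Type*} [Group Y] {U : Subgroup Y} (hodd : Odd U.index) {P : Subgroup Y}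
    (hP : IsPGroup 2 ↥P) (hUP : U ≤ P) : P ≤ U := by
  have hfin : U.FiniteIndex := ⟨fun h => by rw [h] at hodd; exact absurd hodd (by decide)⟩
  have h1 : (U.subgroupOf P).FiniteIndex := inferInstance
  obtain ⟨k, hk⟩ := hP.index (U.subgroupOf P)
  have h2 : U.relIndex P ∣ U.index := Subgroup.relIndex_dvd_index_of_le hUP
  have h3 : Odd (U.relIndex P) := Odd.of_dvd_nat hodd h2
  have h4 : U.relIndex P = 2 ^ k := hk
  rw [h4] at h3
  have h5 : k = 0 := by
    by_contra h
    exact (Nat.not_odd_iff_even.2 ((Nat.even_pow.2 ⟨even_two, h⟩))) h3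
  rw [h5, pow_zero] at h4
  exact Subgroup.relIndex_eq_one.1 h4

section two

variable [CharP F 2]

omit [CharP F 2] in
/-- the whole space is spanned by `e 0, f 0, e 1, f 1` and `Yv 1` -/
theorem eq_of_perp (hQ : Nondeg Q) (hF : Flag Q n e f) (hn : 2 ≤ n) {y : V} (h0 : polar Q (e 0) y = 0)
    (h1 : polar Q (e 1) y = 0) (hY : ∀ x ∈ Yv Q e f 1, polar Q x y = 0) :
    y = polar Q (f 0) y • e 0 + polar Q (f 1) y • e 1 := by
  have H0 := hF.hyp 0 (by omega)
  have H1 := hF.hyp 1 (by omega)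
  have e01 : polar Q (e 0) (e 1) = 0 := hee hF (by omega) (by omega)
  have e10 : polar Q (e 1) (e 0) = 0 := hee hF (by omega) (by omega)
  have ef01 : polar Q (e 0) (f 1) = 0 := hF.ef 0 1 (by omega) (by omega) (by omega)
  have ef10 : polar Q (e 1) (f 0) = 0 := hF.ef 1 0 (by omega) (by omega) (by omega)
  have fe01 : polar Q (f 0) (e 1) = 0 := hfe hF (by omega) (by omega) (by omega)
  have fe10 : polar Q (f 1) (e 0) = 0 := hfe hF (by omega) (by omega) (by omega)
  have ff01 : polar Q (f 0) (f 1) = 0 := hff hF (by omega) (by omega)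
  have ff10 : polar Q (f 1) (f 0) = 0 := hff hF (by omega) (by omega)
  rw [← sub_eq_zero]
  apply hQ
  intro v
  -- the component of `v` in `Yv 1`
  obtain ⟨x, hx⟩ : ∃ x, x = v - polar Q (f 0) v • e 0 - polar Q (e 0) v • f 0 - polar Q (f 1) v • e 1 -
      polar Q (e 1) v • f 1 := ⟨_, rfl⟩
  have hxY : x ∈ Yv Q e f 1 := by
    intro k hk
    rcases (by omega : k = 0 ∨ k = 1) with rfl | rfl
    · rw [hx]
      simp only [polar_sub_right, polar_smul_right, H0.polar_left, H0.polar_right, H0.pair, H0.pair', e01, ef01,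
        fe01, ff01, smul_eq_mul, mul_zero, mul_one, sub_zero, sub_self, and_self]
    · rw [hx]
      simp only [polar_sub_right, polar_smul_right, H1.polar_left, H1.polar_right, H1.pair, H1.pair', e10, ef10,
        fe10, ff10, smul_eq_mul, mul_zero, mul_one, sub_zero, sub_self, and_self]
  have hv : v = x + polar Q (f 0) v • e 0 + polar Q (e 0) v • f 0 + polar Q (f 1) v • e 1 +
      polar Q (e 1) v • f 1 := by rw [hx]; abel
  have hyx : polar Q y x = 0 := by rw [polar_comm]; exact hY x hxY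
  have h0' : polar Q y (e 0) = 0 := by rw [polar_comm]; exact h0
  have h1' : polar Q y (e 1) = 0 := by rw [polar_comm]; exact h1
  have k0 := hxY 0 (by omega)
  have k1 := hxY 1 (by omega)
  rw [hv]
  simp only [polar_sub_left, polar_add_left, polar_smul_left, polar_add_right, polar_smul_right, hyx, h0', h1',
    k0.1, k1.1, H0.polar_left, H0.pair, H1.polar_left, H1.pair, e01, e10, ef01, ef10, smul_eq_mul, mul_zero,
    mul_one, add_zero, zero_add]
  rw [polar_comm Q y (f 0), polar_comm Q y (f 1)]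
  ring

variable {a b : V}

/-- **(T1s)** -/
theorem aut (hK : KFacts Q) (hF : Flag Q n e f) (hn : 3 ≤ n)
    (hsem : ∀ α : MulAut ↥(E Q), ∃ (M : V ≃+ V) (σ : F ≃+* F), Sem Q M σ ∧
      ∀ u x, Q u = 0 → polar Q u x = 0 → α (tE Q u x) = tE Q (M u) (M x))
    {α : MulAut ↥(E Q)} (hα : ∀ u ∈ UK Q e f n, α u = u) :
    ∃ c : F, ∀ x, α x = tE Q (e 0) (c • e 1) * x * (tE Q (e 0) (c • e 1))⁻¹ := by
  have H0 := hF.hyp 0 (by omega)
  have H1 := hF.hyp 1 (by omega)
  have H2 := hF.hyp 2 (by omega)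
  obtain ⟨M, σ, hM, hMα⟩ := hsem α
  obtain ⟨y, hy0, hMy⟩ := hK.cent1 hM H0.left H0.left_ne (fun x hx => by
    rw [← hMα _ _ H0.left hx, hα _ (tE_zero_mem_UK hF (by omega) hx)])
  -- `α` is conjugation by `tE (e 0) y`
  have hconj : ∀ x, α x = tE Q (e 0) y * x * (tE Q (e 0) y)⁻¹ := by
    let H : Subgroup ↥(E Q) :=
      { carrier := {x | α x = tE Q (e 0) y * x * (tE Q (e 0) y)⁻¹}
        one_mem' := by
          show α 1 = _
          rw [map_one]; group
        mul_mem' := by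
          intro p q hp hq
          show α (p * q) = _
          have hp' : α p = tE Q (e 0) y * p * (tE Q (e 0) y)⁻¹ := hp
          have hq' : α q = tE Q (e 0) y * q * (tE Q (e 0) y)⁻¹ := hq
          rw [map_mul, hp', hq']; group
        inv_mem' := by
          intro p hp
          show α p⁻¹ = _
          have hp' : α p = tE Q (e 0) y * p * (tE Q (e 0) y)⁻¹ := hp
          rw [map_inv, hp']; group }
    have hH : H = ⊤ := SitOf.eq_top_of_tE H fun u w hu hw => by
      show α (tE Q u w) = _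
      rw [hMα u w hu hw, tE_conj, coe_tE, hMy, hMy]
    intro x
    have : x ∈ H := by rw [hH]; trivial
    exact this
  -- it commutes with `tE (e 1) x`
  have hcom : ∀ x ∈ Yv Q e f 1, ∃ c : F, polar Q (e 1) y • x + (polar Q x y + Q x * polar Q (e 1) y) • e 1 =
      c • e 0 := by
    intro x hx
    have hx0 := hx 0 (by omega)
    have hx1 := hx 1 (by omega)
    have e10 : polar Q (e 1) (e 0) = 0 := hee hF (by omega) (by omega)
    have h1 := hconj (tE Q (e 1) x)
    rw [hα _ (tE_mem_UK (by omega) hx)] at h1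
    have h2 : tE Q (e 1) x * tE Q (e 0) y * (tE Q (e 1) x)⁻¹ = tE Q (e 0) y := by
      rw [mul_inv_eq_iff_eq_mul, ← eq_mul_inv_iff_mul_eq]
      exact h1
    rw [tE_conj, coe_tE, T_apply_fix H1.left hx1.1 e10 (by rw [polar_comm]; exact hx0.1)] at h2
    have h3 : polar Q (e 0) (T Q (e 1) x y) = 0 := by
      have h4 := polar_map' (tE Q (e 1) x) (e 0) y
      rw [coe_tE, T_apply_fix H1.left hx1.1 e10 (by rw [polar_comm]; exact hx0.1)] at h4
      rw [h4, hy0]
    obtain ⟨c, hc⟩ := (tE_eq_iff hK.nondeg H0.left H0.left_ne hy0 h3).1 h2.symm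
    refine ⟨c, ?_⟩
    rw [T_apply2 H1.left hx1.1, add_assoc] at hc
    exact add_left_cancel hc
  have f10 : polar Q (f 1) (e 0) = 0 := hfe hF (by omega) (by omega) (by omega)
  have f20 : polar Q (f 2) (e 0) = 0 := hfe hF (by omega) (by omega) (by omega)
  have f21 : polar Q (f 2) (e 1) = 0 := hfe hF (by omega) (by omega) (by omega)
  have h5 : ∀ x ∈ Yv Q e f 1, polar Q x y + Q x * polar Q (e 1) y = 0 := by
    intro x hx
    obtain ⟨c, hc⟩ := hcom x hx
    have h6 := congrArg (polar Q (f 1)) hc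
    rw [polar_add_right, polar_smul_right, polar_smul_right, polar_smul_right, (hx 1 le_rfl).2, H1.pair', f10,
      smul_zero, smul_zero, zero_add, smul_eq_mul, mul_one] at h6
    exact h6
  have h6 : polar Q (e 1) y = 0 := by
    obtain ⟨c, hc⟩ := hcom (e 2) (e_mem_Yv hF (by omega) (by omega))
    rw [h5 (e 2) (e_mem_Yv hF (by omega) (by omega)), zero_smul, add_zero] at hc
    have h7 := congrArg (polar Q (f 2)) hc
    rwa [polar_smul_right, polar_smul_right, H2.pair', f20, smul_zero, smul_eq_mul, mul_one] at h7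
  have h7 : ∀ x ∈ Yv Q e f 1, polar Q x y = 0 := by
    intro x hx
    have h8 := h5 x hx
    rwa [h6, mul_zero, add_zero] at h8
  have h8 := eq_of_perp hK.nondeg hF (by omega) hy0 h6 h7
  refine ⟨polar Q (f 1) y, ?_⟩
  have h9 : tE Q (e 0) y = tE Q (e 0) (polar Q (f 1) y • e 1) := by
    conv_lhs => rw [h8, add_comm]
    exact tE_add_smul H0.left (by rw [polar_smul_right, hee hF (by omega) (by omega), smul_zero]) _
  rw [← h9]
  exact hconj

/-- **The frame data.** -/
theorem kf [Finite F] (hK : KFacts Q) (hF : Flag Q n e f) (hn : 3 ≤ n) (hodd : Odd (UK Q e f n).index)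
    (h2 : IsPGroup 2 ↥(UK Q e f n))
    (hsem : ∀ α : MulAut ↥(E Q), ∃ (M : V ≃+ V) (σ : F ≃+* F), Sem Q M σ ∧
      ∀ u x, Q u = 0 → polar Q u x = 0 → α (tE Q u x) = tE Q (M u) (M x))
    (hp : Delta.Pl Q a b) (ha : a ∈ Yv Q e f (n - 1)) (hb : b ∈ Yv Q e f (n - 1))
    (hu : Q (e 0) = 0) (huv : polar Q (e 0) (e 1) = 0) :
    FrGen.KF (UK Q e f n) (X Q (e 0) (e 1) hu huv) := by
  have H0 := hF.hyp 0 (by omega)
  have H1 := hF.hyp 1 (by omega)
  have f10 : polar Q (f 1) (e 0) = 0 := hfe hF (by omega) (by omega) (by omega)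
  have huv' : ∀ c : F, polar Q (e 0) (c • e 1) = 0 := fun c => by rw [polar_smul_right, huv, smul_zero]
  have trans : ∀ z ∈ X Q (e 0) (e 1) hu huv, ∀ z' ∈ X Q (e 0) (e 1) hu huv, z ≠ 1 → z' ≠ 1 →
      ∃ k : ↥(E Q), k * z * k⁻¹ = z' := by
    intro z hz z' hz' h1 h1'
    obtain ⟨c, rfl⟩ := mem_X.1 hz
    obtain ⟨c', rfl⟩ := mem_X.1 hz'
    have hc : c ≠ 0 := by
      rintro rfl
      exact h1 (by rw [zero_smul, tE_zero_right])
    have hc' : c' ≠ 0 := by
      rintro rfl
      exact h1' (by rw [zero_smul, tE_zero_right])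
    obtain ⟨h, h3, -, h4⟩ := hK.scal H0 (κ := c' * c⁻¹) (mul_ne_zero hc' (inv_ne_zero hc))
    have h5 : (h : V ≃ₗ[F] V) (e 1) = e 1 := h4 _ huv (hfe hF (by omega) (by omega) (by omega))
    refine ⟨h, ?_⟩
    rw [tE_conj, h3, map_smul, h5, tE_smul_left _ hu (huv' c), smul_smul, inv_mul_cancel_right₀ hc]
  refine { pU := h2, maxU := fun P hP hle => max_of_odd hodd hP hle, ZU := ?_, Zc := ?_, Zsq := ?_, Z1 := ?_,
           aut := ?_, P2' := ?_, trans := trans }
  · intro z hz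
    obtain ⟨c, rfl⟩ := mem_X.1 hz
    exact tE_zero_mem_UK hF (by omega) (huv' c)
  · intro z hz u hu'
    obtain ⟨c, rfl⟩ := mem_X.1 hz
    have h1 : UK Q e f n ≤ Subgroup.centralizer ({tE Q (e 0) (c • e 1)} : Set ↥(E Q)) := by
      refine iSup_le fun i => iSup_le fun hi => ?_
      rw [RK, Subgroup.closure_le]
      rintro _ ⟨y, hy, rfl⟩
      rw [SetLike.mem_coe, Subgroup.mem_centralizer_singleton_iff]
      have hyi := (hy i le_rfl).1
      rcases Nat.eq_zero_or_pos i with rfl | hi0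
      · exact tE_comm hu hyi (huv' c)
      · apply tE_comm_of
        · exact T_apply_fix (hF.hyp i hi).left hyi (hee hF hi (by omega))
            (by rw [polar_comm]; exact (hy 0 (by omega)).1)
        · refine T_apply_fix (hF.hyp i hi).left hyi ?_ ?_
          · rw [polar_smul_right, hee hF hi (by omega), smul_zero]
          · rw [polar_smul_right, polar_comm, (hy 1 (by omega)).1, smul_zero]
    exact Subgroup.mem_centralizer_singleton_iff.1 (h1 hu')
  · intro z hz
    obtain ⟨c, rfl⟩ := mem_X.1 hz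
    exact tE_mul_self hu (huv' c)
  · intro h0
    have h1 : tE Q (e 0) ((1 : F) • e 1) ∈ X Q (e 0) (e 1) hu huv := mem_X.2 ⟨1, rfl⟩
    rw [h0, Subgroup.mem_bot, one_smul, ← tE_zero_right (Q := Q) (e 0)] at h1
    obtain ⟨c, hc⟩ := (tE_eq_iff hK.nondeg hu H0.left_ne huv (polar_zero_right _ _)).1 h1
    have h3 := congrArg (polar Q (f 1)) hc
    rw [polar_zero_right, polar_add_right, H1.pair', polar_smul_right, f10, smul_zero, add_zero] at h3
    exact zero_ne_one h3
  · intro α _ hα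
    obtain ⟨c, hc⟩ := aut hK hF hn hsem hα
    exact ⟨_, mem_X.2 ⟨c, rfl⟩, hc⟩
  · apply FrGen.P2_of_trans trans
    -- scale `b`
    obtain ⟨c, hc⟩ := Delta.exists_sq (Q a * (Q b)⁻¹)
    have hc0 : c ≠ 0 := by
      rintro rfl
      rw [zero_mul] at hc
      exact mul_ne_zero hp.qa (inv_ne_zero hp.qb) hc.symm
    have hq : Q a = Q (c • b) := by
      rw [QuadraticMap.map_smul, hc, smul_eq_mul, mul_assoc, inv_mul_cancel₀ hp.qb, mul_one]
    have hp' := hp.smul hc0
    have hb' : c • b ∈ Yv Q e f (n - 1) := Delta.Yv_smul c hb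
    obtain ⟨b', hb''⟩ : ∃ b', b' = c • b := ⟨_, rfl⟩
    rw [← hb''] at hq hp' hb'
    obtain ⟨S, hS⟩ : ∃ S : Set V, S = {e 0, e 1, e (n - 1), f (n - 1)} := ⟨_, rfl⟩
    have Hn := hF.hyp (n - 1) (by omega)
    have hS0 : ∀ x ∈ S, Q x = 0 := by
      intro x hx
      rw [hS] at hx
      rcases hx with rfl | rfl | rfl | rfl
      · exact hu
      · exact H1.left
      · exact Hn.left
      · exact Hn.right
    have hSp : ∀ y ∈ Yv Q e f (n - 1), ∀ x ∈ S, polar Q x y = 0 := by
      intro y hy x hx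
      rw [hS] at hx
      rcases hx with rfl | rfl | rfl | rfl
      · exact (hy 0 (by omega)).1
      · exact (hy 1 (by omega)).1
      · exact (hy (n - 1) le_rfl).1
      · exact (hy (n - 1) le_rfl).2
    have hSe0 : ∀ x ∈ S, polar Q x (e 0) = 0 := by
      intro x hx
      rw [hS] at hx
      rcases hx with rfl | rfl | rfl | rfl
      · exact hee hF (by omega) (by omega)
      · exact hee hF (by omega) (by omega)
      · exact hee hF (by omega) (by omega)
      · exact hfe hF (by omega) (by omega) (by omega)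
    have hSe1 : ∀ x ∈ S, polar Q x (e 1) = 0 := by
      intro x hx
      rw [hS] at hx
      rcases hx with rfl | rfl | rfl | rfl
      · exact hee hF (by omega) (by omega)
      · exact hee hF (by omega) (by omega)
      · exact hee hF (by omega) (by omega)
      · exact hfe hF (by omega) (by omega) (by omega)
    have m0 : e 0 ∈ S := by rw [hS]; simp
    have m1 : e 1 ∈ S := by rw [hS]; simp
    have m2 : e (n - 1) ∈ S := by rw [hS]; simp
    have m3 : f (n - 1) ∈ S := by rw [hS]; simp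
    refine ⟨tE Q (e 0) ((1 : F) • e 1), mem_X.2 ⟨1, rfl⟩, ?_, PL Q S a b', ?_, ?_, ?_⟩
    · intro h1
      rw [one_smul, ← tE_zero_right (Q := Q) (e 0)] at h1
      obtain ⟨c, hc⟩ := (tE_eq_iff hK.nondeg hu H0.left_ne huv (polar_zero_right _ _)).1 h1
      have h3 := congrArg (polar Q (f 1)) hc
      rw [polar_zero_right, polar_add_right, H1.pair', polar_smul_right, f10, smul_zero, add_zero] at h3
      exact zero_ne_one h3
    · exact PL_perfect Hn m2 m3 hS0 (hSp a ha) (hSp b' hb') hp'.ne hq hp'.qa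
    · rw [one_smul]
      exact tE_mem_PL hu H1.left huv m0 m1 (hSp a ha _ m0) (hSp b' hb' _ m0) (hSp a ha _ m1) (hSp b' hb' _ m1)
        hp'.ne
    · intro y hy
      rw [one_smul]
      exact PL_comm hS0 (hSp a ha) (hSp b' hb') hSe0 hSe1 (by rw [polar_comm]; exact hSp a ha _ m0)
        (by rw [polar_comm]; exact hSp b' hb' _ m0) (by rw [polar_comm]; exact hSp a ha _ m1)
        (by rw [polar_comm]; exact hSp b' hb' _ m1) hy

end two

end main

/-! ### The instance -/

section Minus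

open Cfsg.Agent.LieClassical Cfsg.Agent.LieClassical.OrthForms Cfsg.Agent.TitsThree.KSideO
  Cfsg.Agent.OddHalf.Orth.KFlag Cfsg.Agent.OddHalf.Orth.KFlagMain

variable {F : Type*} [Field F] [Finite F] [CharP F 2]

omit [Finite F] [CharP F 2] in
theorem mem_Yv_minus {m : ℕ} (hm : 1 ≤ m) (a b : F)
    (hab : ∀ z₁ z₂ : F, z₁ ^ 2 + a * z₁ * z₂ + b * z₂ ^ 2 = 0 → z₁ = 0 ∧ z₂ = 0) (i : Fin 2) :
    (Pi.single (Sum.inr i) 1 : (Fin m ⊕ Fin m) ⊕ Fin 2 → F) ∈
      Yv (minusForm m F a b) (em m a b hab) (fm m a b hab) (m - 1) := by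
  rw [KFlag.mem_Yv _ (by omega)]
  intro j _
  constructor
  · have h : polar (minusForm m F a b) (Pi.single (Sum.inl (Sum.inl j)) 1) (Pi.single (Sum.inr i) 1) = 0 := by
      rw [polar_minusForm]
      simp [Pi.single_apply]
    exact h
  · have h : polar (minusForm m F a b) (Pi.single (Sum.inl (Sum.inr j)) 1) (Pi.single (Sum.inr i) 1) = 0 := by
      rw [polar_minusForm]
      simp [Pi.single_apply]
    exact h

theorem pl_minus {m : ℕ} (a b : F)
    (hab : ∀ z₁ z₂ : F, z₁ ^ 2 + a * z₁ * z₂ + b * z₂ ^ 2 = 0 → z₁ = 0 ∧ z₂ = 0) :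
    Delta.Pl (minusForm m F a b) (Pi.single (Sum.inr 0) 1) (Pi.single (Sum.inr 1) 1) where
  ne := by
    have h : a ≠ 0 := by
      rintro rfl
      have h1 := binary_nondeg F 0 b hab (z := 0) (w := 1) (by simp) (by rw [CharTwo.two_eq_zero]; simp)
      exact one_ne_zero h1.2
    rw [polar_minusForm]
    simpa [Pi.single_apply] using h
  an := by
    intro α β h
    rw [coe_minusForm, quadFormMinus_apply] at h
    apply hab
    simpa [Pi.single_apply] using h

/-- **The frame data for `Ω^-(2m+2, q)`, `m ≥ 3`, `q` even.** -/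
theorem kf_minus {m : ℕ} (hm : 3 ≤ m) (a b : F)
    (hab : ∀ z₁ z₂ : F, z₁ ^ 2 + a * z₁ * z₂ + b * z₂ ^ 2 = 0 → z₁ = 0 ∧ z₂ = 0)
    (hu : minusForm m F a b (em m a b hab 0) = 0)
    (huv : polar (minusForm m F a b) (em m a b hab 0) (em m a b hab 1) = 0) :
    FrGen.KF (UK (minusForm m F a b) (em m a b hab) (fm m a b hab) m)
      (X (minusForm m F a b) (em m a b hab 0) (em m a b hab 1) hu huv) := by
  have hfl := flag_minus hm a b hab
  exact kf (kfacts_minus m a b hab hm) hfl.1 hm hfl.2.1 hfl.2.2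
    (SitOf.exists_sem (SitOf.good_minus (by omega) hab) (Cfsg.Agent.AutOrth.Final.surjective_minus hm hab))
    (pl_minus a b hab) (mem_Yv_minus (by omega) a b hab 0) (mem_Yv_minus (by omega) a b hab 1) hu huv

end Minus

end Cfsg.Agent.OddHalf.Orth.KFr
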