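import Mathlib
import Cfsg.Agent.OddHalf.Orth.KPar
import Cfsg.Agent.OddHalf.Orth.KAut

/-!
# Rich subspaces, elements of `P`

* `Rich Q N`, `NS.spn`, `NS.two` : nonsingular vectors of `N`;
* `Par Q` : the standing hypotheses on `V`;
* `rich_N` : `W ∩ ⟨w, w'⟩^⊥` is rich;
* `T_mem_P` : Siegel elements of `P`.
-/

set_option autoImplicit false
set_option linter.unusedSectionVars false
set_option linter.unusedVariables false

namespace Cfsg.Agent.OddHalf.Orth

open QuadraticMap Cfsg.Agent.LieClassical.OrthCore Cfsg.Agent.LieClassical.OrthTrans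
  Cfsg.Agent.LieClassical.OrthSimple Cfsg.Agent.ClassicalGeometry.OrthAutBasic
  Cfsg.Agent.ClassicalGeometry.OrthAutRoot Face

variable {F V : Type*} [Field F] [AddCommGroup V] [Module F V] {Q : QuadraticForm F V}

/-- dimension at least 3, or anisotropic, or `q ≥ 3` -/
def Rich (Q : QuadraticForm F V) (N : Submodule F V) : Prop :=
  3 ≤ Module.finrank F N ∨ (∀ s ∈ N, Q s = 0 → s = 0) ∨ ∃ θ : F, θ ≠ 0 ∧ θ ≠ 1

section two
variable [CharP F 2] {N : Submodule F V}

theorem NS.spn [FiniteDimensional F V] (hN : NS Q N) (hR : Rich Q N) {z : V} (hz : z ∈ N) (h0 : z ≠ 0) :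
    ∃ b ∈ N, Q b ≠ 0 ∧ polar Q z b ≠ 0 := by
  by_cases hq : Q z = 0
  · obtain ⟨z', hz', h⟩ := hN.exists_hyp hz h0 hq
    refine ⟨z + z', N.add_mem hz hz', ?_, ?_⟩
    · rw [Q_add, hq, h.right, h.pair]; simp
    · rw [polar_add_right, polar_self2, h.pair]; simp
  · obtain ⟨y, hy, e⟩ := hN.exists_eq hz h0 1
    by_cases hqy : Q y = 0
    · rcases hR with h3 | ha | ⟨θ, hθ, hθ'⟩
      · set c := (Q z)⁻¹ with hc
        have hc0 : c ≠ 0 := inv_ne_zero hq
        have hh : Hyp Q y (z + Q z • y) := by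
          refine ⟨hqy, ?_, ?_⟩
          · rw [Q_add, QuadraticMap.map_smul, hqy, polar_smul_right, e]
            simp [CharTwo.add_self_eq_zero]
          · rw [polar_add_right, polar_smul_right, polar_self2, polar_comm Q y z, e]; simp
        have hyy := N.add_mem hz (N.smul_mem (Q z) hy)
        have hN2 := hN.perp2 hh hy hyy
        have hf := NS.finrank_perp2 (Q := Q) N y (z + Q z • y)
        obtain ⟨m, hm, hm0⟩ := hN2.exists_nonsing (by omega)
        obtain ⟨hm1, hm2⟩ := Submodule.mem_inf.1 hm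
        rw [mem_perp2] at hm2
        refine ⟨y + m, N.add_mem hy hm1, ?_, ?_⟩
        · rw [Q_add, hqy, hm2.1]; simpa using hm0
        · have h1 := hm2.2
          rw [polar_add_left, polar_smul_left, hm2.1, smul_zero, add_zero] at h1
          rw [polar_add_right, e, h1]; simp
      · exfalso
        rw [ha y hy hqy, polar_zero_right] at e
        exact zero_ne_one e
      · refine ⟨y + (θ * (Q z)⁻¹) • z, N.add_mem hy (N.smul_mem _ hz), ?_, ?_⟩
        · rw [Q_add, QuadraticMap.map_smul, hqy, polar_smul_right, polar_comm Q y z, e]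
          simp only [smul_eq_mul]
          have h1 : (0 : F) + θ * (Q z)⁻¹ * (θ * (Q z)⁻¹) * Q z + θ * (Q z)⁻¹ * 1 =
              θ * (Q z)⁻¹ * (θ + 1) := by
            field_simp; ring
          rw [h1]
          refine mul_ne_zero (mul_ne_zero hθ (inv_ne_zero hq)) fun h2 => hθ' ?_
          have h3 : θ = -1 := eq_neg_of_add_eq_zero_left h2
          rw [h3, CharTwo.neg_eq]
        · rw [polar_add_right, polar_smul_right, polar_self2, e]; simp
    · exact ⟨y, hy, hqy, by rw [e]; exact one_ne_zero⟩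

theorem NS.two [FiniteDimensional F V] (hN : NS Q N) (hR : Rich Q N) {z : V} (hz : z ∈ N) (h0 : z ≠ 0) :
    Q z ≠ 0 ∨ ∃ a ∈ N, ∃ b ∈ N, Q a ≠ 0 ∧ Q b ≠ 0 ∧ z = a + b := by
  by_cases hq : Q z = 0
  · right
    obtain ⟨z', hz', h⟩ := hN.exists_hyp hz h0 hq
    rcases hR with h3 | ha | ⟨θ, hθ, hθ'⟩
    · have hN2 := hN.perp2 h hz hz'
      have hf := NS.finrank_perp2 (Q := Q) N z z'
      obtain ⟨m, hm, hm0⟩ := hN2.exists_nonsing (by omega)
      obtain ⟨hm1, hm2⟩ := Submodule.mem_inf.1 hm
      rw [mem_perp2] at hm2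
      refine ⟨m, hm1, z + m, N.add_mem hz hm1, hm0, ?_, ?_⟩
      · rw [Q_add, hq, hm2.1]; simpa using hm0
      · rw [← add_assoc, add_comm m z, add_assoc, add_self' (F := F), add_zero]
    · exact absurd (ha z hz hq) h0
    · refine ⟨θ • (z + z'), N.smul_mem _ (N.add_mem hz hz'), z + θ • (z + z'),
        N.add_mem hz (N.smul_mem _ (N.add_mem hz hz')), ?_, ?_, ?_⟩
      · rw [QuadraticMap.map_smul, Q_add, hq, h.right, h.pair]
        simpa using hθ
      · rw [Q_add, QuadraticMap.map_smul, Q_add, hq, h.right, h.pair, polar_smul_right, polar_add_right,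
          polar_self2, h.pair]
        simp only [smul_eq_mul, zero_add, mul_one]
        have h1 : θ * θ + θ = θ * (θ + 1) := by ring
        rw [h1]
        refine mul_ne_zero hθ fun h2 => hθ' ?_
        have h3 : θ = -1 := eq_neg_of_add_eq_zero_left h2
        rw [h3, CharTwo.neg_eq]
      · rw [← add_assoc, add_comm (θ • (z + z')) z, add_assoc, add_self' (F := F), add_zero]
  · exact Or.inl hq

end two

/-- The standing hypotheses on `V`. -/
structure Par (Q : QuadraticForm F V) : Prop where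
  nd : Nondeg Q
  d8 : 8 ≤ Module.finrank F V
  rich : (∃ θ : F, θ ≠ 0 ∧ θ ≠ 1) ∨ NoFour Q

theorem Par.fd (hP : Par Q) : FiniteDimensional F V :=
  Module.finite_of_finrank_pos (by have := hP.d8; omega)

theorem Par.good (hP : Par Q) [Finite F] : Good Q := Big.good ⟨hP.nd, by have := hP.d8; omega⟩

section W
variable [CharP F 2] {u v u' v' : V}

theorem W4_rich (hP : Par Q) : Rich Q (W4 Q u v u' v') := by
  have := hP.fd
  left
  have h1 := W4_dim Q u v u' v'
  have := hP.d8
  omega

theorem Par.exists_pair [Finite F] (hP : Par Q) (h : LF Q u v u' v') :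
    ∃ b b', In Q u v u' v' b ∧ In Q u v u' v' b' ∧ Hyp Q b b' := by
  have := hP.fd
  obtain ⟨b, b', hb, hb', hbb⟩ := (W4_ns hP.nd h).exists_pair (by
    have := W4_dim Q u v u' v'; have := hP.d8; omega)
  exact ⟨b, b', In.iff_mem.2 hb, In.iff_mem.2 hb', hbb⟩

/-- the vectors of `W` perpendicular to the hyperbolic pair `w, w'` -/
def N6 (Q : QuadraticForm F V) (u v u' v' w w' : V) : Submodule F V := W4 Q u v u' v' ⊓ perp2 Q w w'

theorem mem_N6 {w w' x : V} : x ∈ N6 Q u v u' v' w w' ↔ In Q u v u' v' x ∧ polar Q w x = 0 ∧ polar Q w' x = 0 := by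
  rw [N6, Submodule.mem_inf, In.iff_mem, mem_perp2]

theorem N6_ns (hQ : Nondeg Q) (h : LF Q u v u' v') {w w' : V} (hw : In Q u v u' v' w)
    (hw' : In Q u v u' v' w') (hh : Hyp Q w w') : NS Q (N6 Q u v u' v' w w') :=
  (W4_ns hQ h).perp2 hh (In.iff_mem.1 hw) (In.iff_mem.1 hw')

theorem N6_dim (hP : Par Q) (w w' : V) : 2 ≤ Module.finrank F ↥(N6 Q u v u' v' w w') := by
  have := hP.fd
  have h1 := W4_dim Q u v u' v'
  have h2 := NS.finrank_perp2 (Q := Q) (W4 Q u v u' v') w w'
  have h3 := hP.d8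
  have h4 : N6 Q u v u' v' w w' = W4 Q u v u' v' ⊓ perp2 Q w w' := rfl
  rw [h4]
  omega

theorem span_TS {S : Set V} (hS : ∀ x ∈ S, Q x = 0) (hS2 : ∀ x ∈ S, ∀ y ∈ S, polar Q x y = 0) {x : V}
    (hx : x ∈ Submodule.span F S) : Q x = 0 := by
  have h1 : ∀ s ∈ S, ∀ x ∈ Submodule.span F S, polar Q s x = 0 := by
    intro s hs x hx
    induction hx using Submodule.span_induction with
    | mem y hy => exact hS2 s hs y hy
    | zero => exact QuadraticMap.polar_zero_right Q s
    | add a b _ _ ha hb => rw [polar_add_right, ha, hb, add_zero]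
    | smul c a _ ha => rw [polar_smul_right, ha, smul_zero]
  have h2 : ∀ x ∈ Submodule.span F S, ∀ y ∈ Submodule.span F S, polar Q x y = 0 := by
    intro x hx y hy
    induction hx using Submodule.span_induction with
    | mem z hz => exact h1 z hz y hy
    | zero => exact QuadraticMap.polar_zero_left Q y
    | add a b _ _ ha hb => rw [polar_add_left, ha, hb, add_zero]
    | smul c a _ ha => rw [polar_smul_left, ha, smul_zero]
  induction hx using Submodule.span_induction with
  | mem y hy => exact hS y hy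
  | zero => exact QuadraticMap.map_zero Q
  | add a b ha hb iha ihb => rw [Q_add, iha, ihb, h2 a ha b hb]; simp
  | smul c a _ ha => rw [QuadraticMap.map_smul, ha, smul_zero]

theorem N6_rich [Finite F] (hP : Par Q) (h : LF Q u v u' v') {w w' : V} (hw : In Q u v u' v' w)
    (hw' : In Q u v u' v' w') (hh : Hyp Q w w') : Rich Q (N6 Q u v u' v' w w') := by
  have := hP.fd
  have h1 := W4_dim Q u v u' v'
  have h2 := NS.finrank_perp2 (Q := Q) (W4 Q u v u' v') w w'
  have h3 := hP.d8
  have h4 : N6 Q u v u' v' w w' = W4 Q u v u' v' ⊓ perp2 Q w w' := rfl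
  by_cases h9 : 9 ≤ Module.finrank F V
  · left; rw [h4]; omega
  · rcases hP.rich with hθ | hno
    · exact Or.inr (Or.inr hθ)
    · right; left
      intro s hs hqs
      by_contra hs0
      rw [mem_N6] at hs
      obtain ⟨hs1, hs2, hs3⟩ := hs
      apply hno
      refine ⟨by omega, Submodule.span F (Set.range ![u, v, w, s]), ?_, ?_⟩
      · intro x hx
        apply span_TS (S := Set.range ![u, v, w, s]) _ _ hx
        · rintro _ ⟨i, rfl⟩
          fin_cases i
          · exact h.qu
          · exact h.qv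
          · exact hh.left
          · exact hqs
        · rintro _ ⟨i, rfl⟩ _ ⟨j, rfl⟩
          fin_cases i <;> fin_cases j
          · exact h.uu
          · exact h.uv
          · exact hw.u
          · exact hs1.u
          · exact h.vu
          · exact h.vv
          · exact hw.v
          · exact hs1.v
          · exact hw.ru
          · exact hw.rv
          · exact polar_self2 w
          · exact hs2
          · exact hs1.ru
          · exact hs1.rv
          · exact polar_zero_of_comm hs2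
          · exact polar_self2 s
      · have hli : LinearIndependent F ![u, v, w, s] := by
          rw [Fintype.linearIndependent_iff]
          intro g hg
          rw [Fin.sum_univ_four] at hg
          have hg' : g 0 • u + g 1 • v + g 2 • w + g 3 • s = 0 := hg
          have a0 : g 0 = 0 := by
            have := congrArg (polar Q u') hg'
            rw [polar_add_right, polar_add_right, polar_add_right, polar_smul_right, polar_smul_right,
              polar_smul_right, polar_smul_right, h.u'u, h.u'v, hw.u', hs1.u', polar_zero_right] at this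
            simpa using this
          have a1 : g 1 = 0 := by
            have := congrArg (polar Q v') hg'
            rw [polar_add_right, polar_add_right, polar_add_right, polar_smul_right, polar_smul_right,
              polar_smul_right, polar_smul_right, h.v'u, h.v'v, hw.v', hs1.v', polar_zero_right] at this
            simpa using this
          have a2 : g 2 = 0 := by
            have := congrArg (polar Q w') hg'
            rw [polar_add_right, polar_add_right, polar_add_right, polar_smul_right, polar_smul_right,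
              polar_smul_right, polar_smul_right, hw'.ru, hw'.rv, hh.pair', hs3, polar_zero_right] at this
            simpa using this
          have a3 : g 3 = 0 := by
            rw [a0, a1, a2, zero_smul, zero_smul, zero_smul, zero_add, zero_add, zero_add] at hg'
            exact (smul_eq_zero.1 hg').resolve_right hs0
          intro i
          fin_cases i <;> assumption
        rw [finrank_span_eq_card hli]; rfl

end W

/-! ### Rotations -/

section rot
variable [CharP F 2] [Finite F]

theorem exists_sqrt' (c : F) : ∃ d : F, c = d * d := by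
  obtain ⟨d, hd⟩ := FiniteField.isSquare_of_char_two (ringChar.eq F 2) c
  exact ⟨d, hd⟩

/-- a nonsingular `z ∈ N` is `δ y + y`, `δ` of odd order, supported on `N` -/
theorem exists_rot (hG : Good Q) [FiniteDimensional F V] {N : Submodule F V} (hN : NS Q N) (hR : Rich Q N)
    {z : V} (hz : z ∈ N) (hq : Q z ≠ 0) : ∃ y ∈ N, ∃ δ : ↥(E Q), Odd (orderOf δ) ∧
      (δ : V ≃ₗ[F] V) y = y + z ∧ ∀ x, (∀ w ∈ N, polar Q x w = 0) → (δ : V ≃ₗ[F] V) x = x := by
  have h0 : z ≠ 0 := by rintro rfl; exact hq (QuadraticMap.map_zero Q)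
  obtain ⟨b0, hb0, hqb0, hzb0⟩ := hN.spn hR hz h0
  obtain ⟨d, hd⟩ := exists_sqrt' (Q z * (Q b0)⁻¹)
  have hd0 : d ≠ 0 := by
    rintro rfl
    rw [mul_zero] at hd
    exact mul_ne_zero hq (inv_ne_zero hqb0) hd
  set b := d • b0 with hb
  have hbN : b ∈ N := N.smul_mem _ hb0
  have hqb : Q b = Q z := by
    rw [hb, QuadraticMap.map_smul, ← hd, smul_eq_mul, mul_assoc, inv_mul_cancel₀ hqb0, mul_one]
  have hqb1 : Q b ≠ 0 := by rw [hqb]; exact hq
  have hzb : polar Q z b ≠ 0 := by
    rw [hb, polar_smul_right]; exact mul_ne_zero hd0 hzb0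
  have hmem := hG.refl_mul_refl_mem hqb1 hq hqb
  set κ := Q z * (polar Q z b)⁻¹ with hκ
  refine ⟨κ • b, N.smul_mem _ hbN, ⟨refl Q z hq * refl Q b hqb1, hmem⟩, ?_, ?_, ?_⟩
  · have h1 := odd_refl_mul hq hqb1 hzb
    rwa [← Subgroup.orderOf_mk _ hmem] at h1
  · show refl Q z hq (refl Q b hqb1 (κ • b)) = κ • b + z
    have h5 : κ * ((Q z)⁻¹ * polar Q z b) = 1 := by rw [hκ]; field_simp
    clear_value b κ
    rw [map_smul, refl_self2, map_smul, refl_apply2, smul_add, smul_smul, h5, one_smul]
  · intro x hx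
    show refl Q z hq (refl Q b hqb1 x) = x
    rw [refl_fix hqb1 (polar_zero_of_comm (hx b hbN)), refl_fix hq (polar_zero_of_comm (hx z hz))]

end rot

/-! ### Elements of `P` -/

section P
variable [CharP F 2] [Finite F] {u v u' v' : V}

theorem mem_P0_of_fix (hu : Q u = 0) (huv : polar Q u v = 0) {g : ↥(E Q)} (h1 : (g : V ≃ₗ[F] V) u = u)
    (h2 : (g : V ≃ₗ[F] V) v = v) : g ∈ P0 Q u v hu huv := by
  rw [mem_P0]
  intro c
  have h3 := tE_conj g u (c • v)
  rw [h1, map_smul, h2] at h3
  exact mul_inv_eq_iff_eq_mul.1 h3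

theorem T_mem_P (hP : Par Q) (h : LF Q u v u' v') {N : Submodule F V} (hN : NS Q N) (hR : Rich Q N)
    (hNu : ∀ x ∈ N, polar Q u x = 0) (hNv : ∀ x ∈ N, polar Q v x = 0) {w : V} (hw : Q w = 0)
    (hwN : ∀ x ∈ N, polar Q w x = 0) (hwu : polar Q w u = 0) (hwv : polar Q w v = 0) {z : V} (hz : z ∈ N) :
    tE Q w z ∈ P Q u v h.qu h.uv := by
  have := hP.fd
  have key : ∀ z ∈ N, Q z ≠ 0 → tE Q w z ∈ P Q u v h.qu h.uv := by
    intro z hz hq
    obtain ⟨y, hy, δ, ho, e, hf⟩ := exists_rot hP.good hN hR hz hq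
    have du := hf u hNu
    have dv := hf v hNv
    have dw := hf w hwN
    have hδ : δ ∈ P Q u v h.qu h.uv := mem_P_of_odd (mem_P0_of_fix h.qu h.uv du dv) ho
    have hT : tE Q w y ∈ P0 Q u v h.qu h.uv := mem_P0_of_fix h.qu h.uv
      (T_fix hwu (polar_zero_of_comm (hNu y hy))) (T_fix hwv (polar_zero_of_comm (hNv y hy)))
    have h1 := comm_mem_P' hT hδ
    rw [tE_conj, dw, e, tE_inv hw (hwN y hy), tE_mul hw (hwN _ (N.add_mem hy hz)) (hwN y hy)] at h1
    have h2 : y + z + y = z := by
      have : y + z + y = z + (y + y) := by abel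
      rw [this, add_self' (F := F), add_zero]
    rwa [h2] at h1
  by_cases h0 : z = 0
  · rw [h0, tE_zero_right]; exact one_mem _
  · rcases hN.two hR hz h0 with h1 | ⟨a, ha, b, hb, ha0, hb0, rfl⟩
    · exact key z hz h1
    · rw [← tE_mul hw (hwN a ha) (hwN b hb)]
      exact mul_mem (key a ha ha0) (key b hb hb0)

/-- `T w z ∈ P` for `w, z ∈ W` -/
theorem TW_mem_P (hP : Par Q) (h : LF Q u v u' v') {w z : V} (hw : In Q u v u' v' w)
    (hz : In Q u v u' v' z) (hq : Q w = 0) (hwz : polar Q w z = 0) : tE Q w z ∈ P Q u v h.qu h.uv := by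
  have := hP.fd
  by_cases h0 : w = 0
  · rw [h0, tE_zero_left]; exact one_mem _
  obtain ⟨w', hw', hh⟩ := (W4_ns hP.nd h).exists_hyp (In.iff_mem.1 hw) h0 hq
  have hw'' := In.iff_mem.2 hw'
  have hN := N6_ns hP.nd h hw hw'' hh
  have hR := N6_rich hP h hw hw'' hh
  set y := z + polar Q w' z • w with hy
  have hyN : y ∈ N6 Q u v u' v' w w' := by
    rw [mem_N6]
    refine ⟨hz.add (hw.smul _), ?_, ?_⟩
    · rw [hy, polar_add_right, hwz, polar_smul_right, polar_self2]; simp
    · rw [hy, polar_add_right, polar_smul_right, hh.pair', smul_eq_mul, mul_one, CharTwo.add_self_eq_zero]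
  have h1 := T_mem_P hP h hN hR (fun x hx => (mem_N6.1 hx).1.u) (fun x hx => (mem_N6.1 hx).1.v) hq
    (fun x hx => (mem_N6.1 hx).2.1) hw.ru hw.rv hyN
  rwa [hy, tE_add_smul hq hwz] at h1

/-- `T u x ∈ P` for `x ∈ W` -/
theorem Tu_mem_P (hP : Par Q) (h : LF Q u v u' v') {x : V} (hx : In Q u v u' v' x) :
    tE Q u x ∈ P Q u v h.qu h.uv :=
  T_mem_P hP h (W4_ns hP.nd h) (W4_rich hP) (fun x hx => (In.iff_mem.2 hx).u)
    (fun x hx => (In.iff_mem.2 hx).v) h.qu (fun x hx => (In.iff_mem.2 hx).u) h.uu h.uv (In.iff_mem.1 hx)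

theorem Tv_mem_P (hP : Par Q) (h : LF Q u v u' v') {x : V} (hx : In Q u v u' v' x) :
    tE Q v x ∈ P Q u v h.qu h.uv :=
  T_mem_P hP h (W4_ns hP.nd h) (W4_rich hP) (fun x hx => (In.iff_mem.2 hx).u)
    (fun x hx => (In.iff_mem.2 hx).v) h.qv (fun x hx => (In.iff_mem.2 hx).v) h.vu h.vv (In.iff_mem.1 hx)

end P

end Cfsg.Agent.OddHalf.Orth
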