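import Mathlib
import Cfsg.Agent.OddHalf.Orth.KRich

/-!
# The parabolic of a totally singular line

* `QL_le_P`; `NL` : the stabiliser of the line; `P0_le_NL`; `QL_conj`, `X_conj`, `P_conj_NL`;
* `rho` : the element of order 3; `tau` : transvections on the line (`q ≥ 4`).
-/

set_option autoImplicit false
set_option linter.unusedSectionVars false
set_option linter.unusedVariables false

namespace Cfsg.Agent.OddHalf.Orth

open QuadraticMap Cfsg.Agent.LieClassical.OrthCore Cfsg.Agent.LieClassical.OrthTrans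
  Cfsg.Agent.LieClassical.OrthSimple Cfsg.Agent.ClassicalGeometry.OrthAutBasic
  Cfsg.Agent.ClassicalGeometry.OrthAutRoot Face

variable {F V : Type*} [Field F] [AddCommGroup V] [Module F V] {Q : QuadraticForm F V}

/-! ### The stabiliser of the line -/

/-- The stabiliser of the line `⟨u, v⟩`. -/
def NL (Q : QuadraticForm F V) (u v : V) : Subgroup ↥(E Q) where
  carrier := {g | ∀ x, (g : V ≃ₗ[F] V) x ∈ L F u v ↔ x ∈ L F u v}
  one_mem' := fun x => Iff.rfl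
  mul_mem' := by
    intro g h hg hh x
    show (g : V ≃ₗ[F] V) ((h : V ≃ₗ[F] V) x) ∈ L F u v ↔ x ∈ L F u v
    rw [hg, hh]
  inv_mem' := by
    intro g hg x
    show (g : V ≃ₗ[F] V).symm x ∈ L F u v ↔ x ∈ L F u v
    rw [← hg, LinearEquiv.apply_symm_apply]

theorem mem_NL {u v : V} {g : ↥(E Q)} : g ∈ NL Q u v ↔ ∀ x, (g : V ≃ₗ[F] V) x ∈ L F u v ↔ x ∈ L F u v :=
  Iff.rfl

theorem L_eq_of_mem {u v a b : V} (hab : a ∈ L F u v) (hb : b ∈ L F u v) (h : Ln Q a b) (h' : Ln Q u v) :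
    L F a b = L F u v := by
  obtain ⟨α, β, ea⟩ := mem_L.1 hab
  obtain ⟨γ, δ, eb⟩ := mem_L.1 hb
  have hdet : α * δ - β * γ ≠ 0 := by
    intro hd
    -- `δ a - β b = (αδ - βγ) u = 0`, `γ a - α b = -(αδ-βγ) v`
    have h1 : δ • a + (-β) • b = 0 := by
      rw [← ea, ← eb]
      have : δ • (α • u + β • v) + (-β) • (γ • u + δ • v) = (α * δ - β * γ) • u := by module
      rw [this, hd, zero_smul]
    have h2 : γ • a + (-α) • b = 0 := by
      rw [← ea, ← eb]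
      have : γ • (α • u + β • v) + (-α) • (γ • u + δ • v) = -((α * δ - β * γ) • v) := by module
      rw [this, hd, zero_smul, neg_zero]
    have h3 := h.coeff h1
    have h4 := h.coeff h2
    have hα : α = 0 := by simpa using h4.2
    have hβ : β = 0 := by simpa using h3.2
    apply h.ne
    rw [← ea, hα, hβ, zero_smul, zero_smul, add_zero]
  apply le_antisymm
  · rw [L, Submodule.span_le]
    rintro x (rfl | rfl)
    · exact hab
    · exact hb
  · rw [L, Submodule.span_le]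
    rintro x (rfl | rfl)
    · rw [SetLike.mem_coe, mem_L]
      refine ⟨(α * δ - β * γ)⁻¹ * δ, -((α * δ - β * γ)⁻¹ * β), ?_⟩
      have : ((α * δ - β * γ)⁻¹ * δ) • a + (-((α * δ - β * γ)⁻¹ * β)) • b =
          ((α * δ - β * γ)⁻¹ * (α * δ - β * γ)) • x := by
        rw [← ea, ← eb]; module
      rw [this, inv_mul_cancel₀ hdet, one_smul]
    · rw [SetLike.mem_coe, mem_L]
      refine ⟨-((α * δ - β * γ)⁻¹ * γ), (α * δ - β * γ)⁻¹ * α, ?_⟩
      have : (-((α * δ - β * γ)⁻¹ * γ)) • a + ((α * δ - β * γ)⁻¹ * α) • b =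
          ((α * δ - β * γ)⁻¹ * (α * δ - β * γ)) • x := by
        rw [← ea, ← eb]; module
      rw [this, inv_mul_cancel₀ hdet, one_smul]

theorem mem_NL_of {u v : V} (huv : Ln Q u v) {g : ↥(E Q)} (h1 : (g : V ≃ₗ[F] V) u ∈ L F u v)
    (h2 : (g : V ≃ₗ[F] V) v ∈ L F u v) : g ∈ NL Q u v := by
  have e := L_eq_of_mem h1 h2 (huv.map (mem_O' g)) huv
  intro x
  constructor
  · intro hx
    rw [← e] at hx
    obtain ⟨a, b, e'⟩ := mem_L.1 hx
    have : x = a • u + b • v := (g : V ≃ₗ[F] V).injective (by rw [map_add, map_smul, map_smul, e'])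
    rw [this]
    exact mem_L.2 ⟨a, b, rfl⟩
  · intro hx
    obtain ⟨a, b, e'⟩ := mem_L.1 hx
    rw [← e', map_add, map_smul, map_smul, ← e]
    exact mem_L.2 ⟨a, b, rfl⟩

section two
variable [CharP F 2] {u v u' v' : V}

theorem P0_le_NL (hQ : Nondeg Q) (h : LF Q u v u' v') : P0 Q u v h.qu h.uv ≤ NL Q u v := by
  intro g hg
  have h1 := mem_P0.1 hg 1
  rw [one_smul] at h1
  have h2 : tE Q ((g : V ≃ₗ[F] V) u) ((g : V ≃ₗ[F] V) v) = tE Q u v := by
    rw [← tE_conj, h1, mul_inv_cancel_right]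
  have e1 : D (T Q ((g : V ≃ₗ[F] V) u) ((g : V ≃ₗ[F] V) v)) = D (T Q u v) := by
    have := congrArg Subtype.val h2
    rw [coe_tE, coe_tE] at this
    rw [this]
  rw [D_T hQ (h.ln.map (mem_O' g)), D_T hQ h.ln] at e1
  apply mem_NL_of h.ln
  · rw [← e1]; exact left_mem_L _ _
  · rw [← e1]; exact right_mem_L _ _

/-- the line and its perp -/
theorem perp_L {x : V} (hu : polar Q u x = 0) (hv : polar Q v x = 0) {y : V} (hy : y ∈ L F u v) :
    polar Q y x = 0 := by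
  obtain ⟨a, b, rfl⟩ := mem_L.1 hy
  rw [polar_add_left, polar_smul_left, polar_smul_left, hu, hv]; simp

theorem NL_perp {g : ↥(E Q)} (hg : g ∈ NL Q u v) {x : V} (hu : polar Q u x = 0) (hv : polar Q v x = 0) :
    polar Q u ((g : V ≃ₗ[F] V) x) = 0 ∧ polar Q v ((g : V ≃ₗ[F] V) x) = 0 := by
  have key : ∀ y ∈ L F u v, polar Q y ((g : V ≃ₗ[F] V) x) = 0 := by
    intro y hy
    have h1 : (g : V ≃ₗ[F] V) ((g : V ≃ₗ[F] V).symm y) = y := LinearEquiv.apply_symm_apply _ _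
    have h2 : (g : V ≃ₗ[F] V).symm y ∈ L F u v := (mem_NL.1 hg _).1 (by rw [h1]; exact hy)
    rw [← h1, polar_map']
    exact perp_L hu hv h2
  exact ⟨key u (left_mem_L _ _), key v (right_mem_L _ _)⟩

theorem QL_fix {g : ↥(E Q)} (hg : g ∈ QL Q u v) {x : V} (hx : x ∈ L F u v) : (g : V ≃ₗ[F] V) x = x := by
  obtain ⟨a, b, rfl⟩ := mem_L.1 hx
  obtain ⟨h1, h2, -⟩ := mem_QL.1 hg
  rw [map_add, map_smul, map_smul, h1, h2]

theorem QL_conj {g k : ↥(E Q)} (hg : g ∈ NL Q u v) (hk : k ∈ QL Q u v) : g * k * g⁻¹ ∈ QL Q u v := by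
  have hg' := inv_mem hg
  have hco : ∀ x : V, (g : V ≃ₗ[F] V) (((g⁻¹ : ↥(E Q)) : V ≃ₗ[F] V) x) = x := fun x =>
    LinearEquiv.apply_symm_apply _ _
  have key : ∀ x ∈ L F u v, ((g * k * g⁻¹ : ↥(E Q)) : V ≃ₗ[F] V) x = x := by
    intro x hx
    show (g : V ≃ₗ[F] V) ((k : V ≃ₗ[F] V) (((g⁻¹ : ↥(E Q)) : V ≃ₗ[F] V) x)) = x
    rw [QL_fix hk ((mem_NL.1 hg' x).2 hx), hco]
  refine ⟨key u (left_mem_L _ _), key v (right_mem_L _ _), fun w h1 h2 => ?_⟩
  obtain ⟨h3, h4⟩ := NL_perp hg' h1 h2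
  obtain ⟨-, -, h5⟩ := mem_QL.1 hk
  obtain ⟨a, b, e⟩ := h5 _ h3 h4
  have h6 : (g : V ≃ₗ[F] V) (a • u + b • v) ∈ L F u v := (mem_NL.1 hg _).2 (mem_L.2 ⟨a, b, rfl⟩)
  obtain ⟨c, d, e2⟩ := mem_L.1 h6
  refine ⟨c, d, ?_⟩
  show (g : V ≃ₗ[F] V) ((k : V ≃ₗ[F] V) (((g⁻¹ : ↥(E Q)) : V ≃ₗ[F] V) w)) = _
  rw [e, add_assoc, map_add, hco, ← e2, add_assoc]

/-- the determinant on the line -/
theorem NL_X (h : LF Q u v u' v') {g : ↥(E Q)} (hg : g ∈ NL Q u v) : ∃ d : F, d ≠ 0 ∧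
    ∀ c : F, g * tE Q u (c • v) * g⁻¹ = tE Q u ((d * c) • v) := by
  obtain ⟨a, b, ea⟩ := mem_L.1 ((mem_NL.1 hg u).2 (left_mem_L _ _))
  obtain ⟨a', b', eb⟩ := mem_L.1 ((mem_NL.1 hg v).2 (right_mem_L _ _))
  have key : ∀ c : F, g * tE Q u (c • v) * g⁻¹ = tE Q u (((a * b' - b * a') * c) • v) := by
    intro c
    rw [tE_conj, map_smul, ← ea, ← eb]
    apply Subtype.ext
    rw [coe_tE, coe_tE]
    have := T_det h.ln a b (c * a') (c * b')
    rw [show c • (a' • u + b' • v) = (c * a') • u + (c * b') • v by module, this]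
    congr 2
    ring
  refine ⟨a * b' - b * a', ?_, key⟩
  intro hd
  have h1 := h.ln.map (mem_O' g)
  have h2 : b' • (g : V ≃ₗ[F] V) u + (-b) • (g : V ≃ₗ[F] V) v = 0 := by
    rw [← ea, ← eb]
    have : b' • (a • u + b • v) + (-b) • (a' • u + b' • v) = (a * b' - b * a') • u := by module
    rw [this, hd, zero_smul]
  have h3 : a' • (g : V ≃ₗ[F] V) u + (-a) • (g : V ≃ₗ[F] V) v = 0 := by
    rw [← ea, ← eb]
    have : a' • (a • u + b • v) + (-a) • (a' • u + b' • v) = -((a * b' - b * a') • v) := by module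
    rw [this, hd, zero_smul, neg_zero]
  have h4 := h1.coeff h2
  have h5 := h1.coeff h3
  apply h1.ne
  rw [← ea, show a = 0 by simpa using h5.2, show b = 0 by simpa using h4.2, zero_smul, zero_smul, add_zero]

theorem X_conj (h : LF Q u v u' v') {g k : ↥(E Q)} (hg : g ∈ NL Q u v) (hk : k ∈ X Q u v h.qu h.uv) :
    g * k * g⁻¹ ∈ X Q u v h.qu h.uv := by
  obtain ⟨c, rfl⟩ := mem_X.1 hk
  obtain ⟨d, -, e⟩ := NL_X h hg
  exact mem_X.2 ⟨d * c, e c⟩

theorem P0_conj (h : LF Q u v u' v') {g k : ↥(E Q)} (hg : g ∈ NL Q u v) (hk : k ∈ P0 Q u v h.qu h.uv) :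
    g * k * g⁻¹ ∈ P0 Q u v h.qu h.uv := by
  rw [P0, Subgroup.mem_centralizer_iff] at hk ⊢
  intro x hx
  have h1 := X_conj h (inv_mem hg) hx
  have h2 := hk _ h1
  rw [inv_inv] at h2
  calc x * (g * k * g⁻¹) = g * ((g⁻¹ * x * g) * k) * g⁻¹ := by group
    _ = g * (k * (g⁻¹ * x * g)) * g⁻¹ := by rw [h2]
    _ = _ := by group

theorem P_conj_NL (h : LF Q u v u' v') {g p : ↥(E Q)} (hg : g ∈ NL Q u v) (hp : p ∈ P Q u v h.qu h.uv) :
    g * p * g⁻¹ ∈ P Q u v h.qu h.uv := by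
  have h1 : P Q u v h.qu h.uv ≤ (P Q u v h.qu h.uv).comap (MulAut.conj g).toMonoidHom := by
    conv_lhs => rw [P]
    rw [Subgroup.closure_le]
    rintro x ⟨hx, hox⟩
    show g * x * g⁻¹ ∈ P Q u v h.qu h.uv
    exact mem_P_of_odd (P0_conj h hg hx) (by rwa [orderOf_conj'])
  exact h1 hp

theorem P_le_NL (hQ : Nondeg Q) (h : LF Q u v u' v') : P Q u v h.qu h.uv ≤ NL Q u v :=
  P_le_P0.trans (P0_le_NL hQ h)

/-- an element of `K` fixing the line pointwise -/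
theorem NL_of_fix {g : ↥(E Q)} (h : Ln Q u v) (h1 : (g : V ≃ₗ[F] V) u = u) (h2 : (g : V ≃ₗ[F] V) v = v) :
    g ∈ NL Q u v := mem_NL_of h (by rw [h1]; exact left_mem_L _ _) (by rw [h2]; exact right_mem_L _ _)

/-! ### `QL ≤ P` -/

theorem exists_polar_W [Finite F] (hP : Par Q) (h : LF Q u v u' v') (c : F) :
    ∃ x y, In Q u v u' v' x ∧ In Q u v u' v' y ∧ polar Q x y = c := by
  obtain ⟨b, b', hb, hb', hbb⟩ := hP.exists_pair h
  exact ⟨c • b, b', hb.smul c, hb', by rw [polar_smul_left, hbb.pair]; simp⟩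

theorem tE_eq_q {x : V} : tE Q u x = q Q u v x 0 0 := by
  rw [q, tE_zero_right, zero_smul, tE_zero_right, mul_one, mul_one]

theorem tE_eq_q' {y : V} : tE Q v y = q Q u v 0 y 0 := by
  rw [q, tE_zero_right, zero_smul, tE_zero_right, mul_one, one_mul]

theorem xc_tE (h : LF Q u v u' v') {x : V} (hx : In Q u v u' v' x) : xc Q u v u' v' (tE Q u x) = x := by
  rw [tE_eq_q (v := v)]; exact xc_q h hx In.zero 0

theorem yc_tE (h : LF Q u v u' v') {x : V} (hx : In Q u v u' v' x) : yc Q u v u' v' (tE Q u x) = 0 := by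
  rw [tE_eq_q (v := v)]; exact yc_q h hx In.zero 0

theorem xc_tE' (h : LF Q u v u' v') {x : V} (hx : In Q u v u' v' x) : xc Q u v u' v' (tE Q v x) = 0 := by
  rw [tE_eq_q' (u := u)]; exact xc_q h In.zero hx 0

theorem yc_tE' (h : LF Q u v u' v') {x : V} (hx : In Q u v u' v' x) : yc Q u v u' v' (tE Q v x) = x := by
  rw [tE_eq_q' (u := u)]; exact yc_q h In.zero hx 0

theorem tE_QL (h : LF Q u v u' v') {x : V} (hx : In Q u v u' v' x) : tE Q u x ∈ QL Q u v :=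
  tE_mem_QL h.ln hx.u hx.v

theorem tE_QL' (h : LF Q u v u' v') {x : V} (hx : In Q u v u' v' x) : tE Q v x ∈ QL Q u v :=
  tE_mem_QL' h.ln hx.u hx.v

/-- the commutator of `T u x` and `T v y` -/
theorem comm_xy (h : LF Q u v u' v') {x y : V} (hx : In Q u v u' v' x) (hy : In Q u v u' v' y) :
    tE Q u x * tE Q v y * (tE Q u x)⁻¹ * (tE Q v y)⁻¹ = tE Q u (polar Q x y • v) := by
  rw [comm_q h (tE_QL h hx) (tE_QL' h hy), xc_tE h hx, yc_tE' h hy, xc_tE' h hy, yc_tE h hx,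
    polar_zero_left, add_zero]

theorem X_le_P [Finite F] (hP : Par Q) (h : LF Q u v u' v') : X Q u v h.qu h.uv ≤ P Q u v h.qu h.uv := by
  intro g hg
  obtain ⟨c, rfl⟩ := mem_X.1 hg
  obtain ⟨x, y, hx, hy, rfl⟩ := exists_polar_W hP h c
  rw [← comm_xy h hx hy]
  exact mul_mem (mul_mem (mul_mem (Tu_mem_P hP h hx) (Tv_mem_P hP h hy)) (inv_mem (Tu_mem_P hP h hx)))
    (inv_mem (Tv_mem_P hP h hy))

theorem QL_le_P [Finite F] (hP : Par Q) (h : LF Q u v u' v') : QL Q u v ≤ P Q u v h.qu h.uv := by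
  intro g hg
  obtain ⟨x, y, c, hx, hy, rfl⟩ := exists_q h hg
  exact mul_mem (mul_mem (Tu_mem_P hP h hx) (Tv_mem_P hP h hy)) (X_le_P hP h (mem_X.2 ⟨c, rfl⟩))

theorem X_le_comm [Finite F] (hP : Par Q) (h : LF Q u v u' v') : X Q u v h.qu h.uv ≤ ⁅QL Q u v, QL Q u v⁆ := by
  intro g hg
  obtain ⟨c, rfl⟩ := mem_X.1 hg
  obtain ⟨x, y, hx, hy, rfl⟩ := exists_polar_W hP h c
  rw [← comm_xy h hx hy]
  exact Subgroup.commutator_mem_commutator (tE_QL h hx) (tE_QL' h hy)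

theorem comm_QL (h : LF Q u v u' v') {g g' : ↥(E Q)} (hg : g ∈ QL Q u v) (hg' : g' ∈ QL Q u v) :
    g * g' * g⁻¹ * g'⁻¹ ∈ X Q u v h.qu h.uv := by
  rw [comm_q h hg hg']
  exact mem_X.2 ⟨_, rfl⟩

theorem tE_smul_eq_one_iff (h : LF Q u v u' v') (hQ : Nondeg Q) {c : F} : tE Q u (c • v) = 1 ↔ c = 0 := by
  constructor
  · intro e
    rw [← tE_zero_right (Q := Q) u, tE_eq_iff hQ h.qu h.h1.left_ne (perp_smul_v h c) (by rw [polar_zero_right])] at e
    obtain ⟨d, e⟩ := e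
    have h1 : d • u + c • v = 0 := by rw [add_comm]; exact e.symm
    exact (h.ln.coeff h1).2
  · rintro rfl
    rw [zero_smul, tE_zero_right]

theorem ZQL (hQ : Nondeg Q) (h : LF Q u v u' v') {g : ↥(E Q)} (hg : g ∈ QL Q u v)
    (hc : ∀ k ∈ QL Q u v, g * k = k * g) : g ∈ X Q u v h.qu h.uv := by
  rw [mem_X_iff h hg]
  have key : ∀ k ∈ QL Q u v, polar Q (xc Q u v u' v' g) (yc Q u v u' v' k) +
      polar Q (xc Q u v u' v' k) (yc Q u v u' v' g) = 0 := by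
    intro k hk
    have h1 := comm_q h hg hk
    rw [hc k hk, mul_inv_cancel_right, mul_inv_cancel] at h1
    exact (tE_smul_eq_one_iff h hQ).1 h1.symm
  constructor
  · apply eq_zero_of_in hQ h (xc_in h g)
    intro y hy
    have := key _ (tE_QL' h hy)
    rwa [yc_tE' h hy, xc_tE' h hy, polar_zero_left, add_zero] at this
  · apply eq_zero_of_in hQ h (yc_in h g)
    intro x hx
    have := key _ (tE_QL h hx)
    rw [yc_tE h hx, xc_tE h hx, polar_zero_right, zero_add] at this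
    exact polar_zero_of_comm this

end two

end Cfsg.Agent.OddHalf.Orth
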