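import Cfsg.Agent.OddHalf.D7Out.ConstOInst
import Cfsg.Agent.OddHalf.Orth.Delta
import Cfsg.Agent.OddHalf.Orth.KFace

/-!
# ODD D7, outer part, `K = Ω⁻(V)`: the field `c01` of `TwGlue.Inp`

`exists_artin`: `z² + z = δ` is solvable for `δ` fixed by an involutory automorphism of a finite field of
characteristic 2. `sigma_eq_one`: an involutory semilinear isometry of an anisotropic plane is linear.
`c01`: an involution `g ∈ C_G(t)` fixing the points of the frame: `g` or `t g` centralises `W (e 0) (e 1)`.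
-/

set_option autoImplicit false

namespace Cfsg.Agent.OddHalf.Orth.C01

open QuadraticMap Cfsg.Agent.LieClassical.OrthCore Cfsg.Agent.LieClassical.OrthTrans
  Cfsg.Agent.ClassicalGeometry.OrthAutBasic Cfsg.Agent.ClassicalGeometry.OrthAutRoot Cfsg.Agent.OddHalf.Orth
  Cfsg.Agent.OddHalf.Orth.Face Cfsg.Agent.OddHalf.Orth.Lines Cfsg.Agent.OddHalf.Orth.FlagDef
  Cfsg.Agent.OddHalf.Orth.Delta

section field
variable {F : Type*} [Field F] [CharP F 2]

/-- `z ↦ z² + z` -/
def wp (F : Type*) [Field F] [CharP F 2] : F →+ F where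
  toFun z := z * z + z
  map_zero' := by simp
  map_add' x y := by
    have h : (x + y) * (x + y) = x * x + y * y + 2 * (x * y) := by ring
    rw [h, CharTwo.two_eq_zero]; ring

theorem wp_apply (z : F) : wp F z = z * z + z := rfl

theorem mem_ker_wp {z : F} : z ∈ (wp F).ker ↔ z = 0 ∨ z = 1 := by
  rw [AddMonoidHom.mem_ker, wp_apply]
  constructor
  · intro h
    have h1 : z * (z + 1) = 0 := by rw [mul_add, mul_one]; exact h
    rcases mul_eq_zero.1 h1 with h2 | h2
    · exact Or.inl h2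
    · right
      rwa [add_eq_zero_iff_eq_neg, CharTwo.neg_eq] at h2
  · rintro (rfl | rfl)
    · simp
    · rw [mul_one]; exact CharTwo.add_self_eq_zero _

theorem card_ker_wp : Nat.card (wp F).ker = 2 := by
  rw [Nat.card_eq_two_iff]
  refine ⟨0, ⟨1, mem_ker_wp.2 (Or.inr rfl)⟩, ?_, ?_⟩
  · intro h
    exact zero_ne_one (congrArg Subtype.val h)
  · ext x
    simp only [Set.mem_insert_iff, Set.mem_singleton_iff, Set.mem_univ, iff_true]
    rcases mem_ker_wp.1 x.2 with h | h
    · exact Or.inl (Subtype.ext h)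
    · exact Or.inr (Subtype.ext h)

/-- `z² + z = δ` is solvable for `δ` in the fixed field of an involution. -/
theorem exists_artin [Finite F] {σ : F ≃+* F} (h2 : ∀ x, σ (σ x) = x) {θ : F} (hθ : σ θ ≠ θ) {δ : F}
    (hδ : σ δ = δ) : ∃ z : F, z * z + z = δ := by
  by_contra hcon
  have hnot : δ ∉ (wp F).range := fun ⟨z, hz⟩ => hcon ⟨z, hz⟩
  have hidx : (wp F).range.index = 2 := by
    rw [AddSubgroup.index_range, card_ker_wp]
  let T : F →+ F :=
    { toFun := fun x => x + σ x
      map_zero' := by simp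
      map_add' := fun x y => by rw [map_add]; ring }
  have hT : ∀ x, T x = x + σ x := fun x => rfl
  have hTw : ∀ y, T (wp F y) = wp F (T y) := by
    intro y
    rw [hT, hT, wp_apply, wp_apply, map_add, map_mul]
    have : (y + σ y) * (y + σ y) = y * y + σ y * σ y + 2 * (y * σ y) := by ring
    rw [this, CharTwo.two_eq_zero]; ring
  have key : ∀ x, ∃ y, T x = wp F (T y) := by
    intro x
    by_cases hx : x ∈ (wp F).range
    · obtain ⟨y, rfl⟩ := hx
      exact ⟨y, hTw y⟩
    · have h1 : x + δ ∈ (wp F).range := by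
        rw [AddSubgroup.add_mem_iff_of_index_two hidx]
        exact ⟨fun h => absurd h hx, fun h => absurd h hnot⟩
      obtain ⟨y, hy⟩ := h1
      refine ⟨y, ?_⟩
      rw [← hTw, hy, map_add]
      have : T δ = 0 := by rw [hT, hδ]; exact CharTwo.add_self_eq_zero _
      rw [this, add_zero]
  let f : ↥T.range → ↥T.range := fun x => ⟨wp F x, by
    obtain ⟨y, hy⟩ := x.2
    exact ⟨wp F y, by rw [hTw, hy]⟩⟩
  have hsurj : Function.Surjective f := by
    rintro ⟨_, x, rfl⟩
    obtain ⟨y, hy⟩ := key x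
    exact ⟨⟨T y, y, rfl⟩, Subtype.ext hy.symm⟩
  have hinj : Function.Injective f := Finite.injective_iff_surjective.2 hsurj
  set c := T θ with hc
  have hc0 : c ≠ 0 := by
    rw [hc, hT]
    intro h
    apply hθ
    rw [add_eq_zero_iff_eq_neg, CharTwo.neg_eq] at h
    exact h.symm
  have hσc : σ c = c := by rw [hc, hT, map_add, h2, add_comm]
  have h1 : (1 : F) ∈ T.range := by
    refine ⟨θ * c⁻¹, ?_⟩
    rw [hT, map_mul, map_inv₀, hσc, ← add_mul, ← hT, ← hc, mul_inv_cancel₀ hc0]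
  have h0 : (⟨1, h1⟩ : ↥T.range) = 0 := by
    apply hinj
    apply Subtype.ext
    show wp F 1 = wp F 0
    rw [wp_apply, wp_apply, mul_one, mul_zero, add_zero]
    exact CharTwo.add_self_eq_zero _
  exact one_ne_zero (congrArg Subtype.val h0)

end field

variable {F V : Type*} [Field F] [AddCommGroup V] [Module F V] {Q : QuadraticForm F V}

/-- an involutory semilinear isometry of an anisotropic space is linear -/
theorem sigma_eq_one [Finite F] [CharP F 2] {M : V ≃+ V} {σ : F ≃+* F} (S : Sem Q M σ) {N : Set V}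
    (hadd : ∀ x ∈ N, ∀ y ∈ N, x + y ∈ N) (hsmul : ∀ (c : F), ∀ x ∈ N, c • x ∈ N)
    (hMN : ∀ x ∈ N, M x ∈ N) (hM2 : ∀ x, M (M x) = x) (han : ∀ x ∈ N, Q x = 0 → x = 0) {a b : V}
    (ha : a ∈ N) (hb : b ∈ N) (hab : polar Q a b ≠ 0) (θ : F) : σ θ = θ := by
  have ha0 : a ≠ 0 := by rintro rfl; exact hab (polar_zero_left _ _)
  have h2 : ∀ x, σ (σ x) = x := by
    intro x
    have h1 := hM2 (x • a)
    rw [S.smul, S.smul, hM2] at h1
    have h3 : (σ (σ x) - x) • a = 0 := by rw [sub_smul, h1, sub_self]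
    exact sub_eq_zero.1 ((smul_eq_zero.1 h3).resolve_right ha0)
  by_contra hθ
  set c := θ + σ θ with hc
  have hc0 : c ≠ 0 := by
    rw [hc]
    intro h
    apply hθ
    rw [add_eq_zero_iff_eq_neg, CharTwo.neg_eq] at h
    exact h.symm
  have two0 : (2 : F) = 0 := CharTwo.two_eq_zero
  -- fixed vectors
  have fixv : ∀ v, M (v + M v) = v + M v := by
    intro v; rw [map_add, hM2, add_comm]
  have dec : ∀ v : V, v = (c⁻¹ * σ θ) • (v + M v) + c⁻¹ • (θ • v + M (θ • v)) := by
    intro v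
    rw [S.smul]
    have : (c⁻¹ * σ θ) • (v + M v) + c⁻¹ • (θ • v + σ θ • M v) =
        (c⁻¹ * (θ + σ θ)) • v + (2 * (c⁻¹ * σ θ)) • M v := by module
    rw [this, ← hc, inv_mul_cancel₀ hc0, two0, zero_mul, zero_smul, add_zero, one_smul]
  obtain ⟨d1, d2, hd1, hd2, hf1, hf2, hd⟩ : ∃ d1 d2 : V, d1 ∈ N ∧ d2 ∈ N ∧ M d1 = d1 ∧ M d2 = d2 ∧
      polar Q d1 d2 ≠ 0 := by
    by_contra hcon
    push Not at hcon
    apply hab
    have z : ∀ x ∈ N, ∀ y ∈ N, polar Q (x + M x) (y + M y) = 0 := fun x hx y hy =>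
      hcon _ _ (hadd _ hx _ (hMN _ hx)) (hadd _ hy _ (hMN _ hy)) (fixv x) (fixv y)
    rw [dec a, dec b]
    simp only [polar_add_left, polar_add_right, polar_smul_left, polar_smul_right]
    have z1 := z a ha b hb
    have z2 := z a ha (θ • b) (hsmul θ b hb)
    have z3 := z (θ • a) (hsmul θ a ha) b hb
    have z4 := z (θ • a) (hsmul θ a ha) (θ • b) (hsmul θ b hb)
    simp only [polar_add_left, polar_add_right, polar_smul_left, polar_smul_right] at z1 z2 z3 z4
    simp only [smul_eq_mul] at z1 z2 z3 z4 ⊢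
    linear_combination (c⁻¹ * σ θ) * (c⁻¹ * σ θ) * z1 + (c⁻¹ * σ θ) * c⁻¹ * z2 +
      c⁻¹ * (c⁻¹ * σ θ) * z3 + c⁻¹ * c⁻¹ * z4
  have sα : σ (Q d1) = Q d1 := by rw [← S.iso, hf1]
  have sγ : σ (Q d2) = Q d2 := by rw [← S.iso, hf2]
  have sβ : σ (polar Q d1 d2) = polar Q d1 d2 := by
    rw [← Sem'.polar' S, hf1, hf2]
  have hd10 : d1 ≠ 0 := by rintro rfl; exact hd (polar_zero_left _ _)
  have hα : Q d1 ≠ 0 := fun h => hd10 (han _ hd1 h)
  obtain ⟨z, hz⟩ := exists_artin h2 hθ (δ := Q d1 * Q d2 * (polar Q d1 d2)⁻¹ * (polar Q d1 d2)⁻¹) (by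
    rw [map_mul, map_mul, map_mul, map_inv₀, sα, sβ, sγ])
  set α := Q d1 with hαd
  set β := polar Q d1 d2 with hβd
  set γ := Q d2 with hγd
  set x := β * α⁻¹ * z with hx
  have hq : Q (x • d1 + d2) = 0 := by
    rw [Q_add, QuadraticMap.map_smul, polar_smul_left, smul_eq_mul, smul_eq_mul, ← hαd, ← hβd, ← hγd]
    have e1 : x * x * α + x * β = β * β * α⁻¹ * (z * z + z) := by
      rw [hx]
      field_simp
    have e2 : β * β * α⁻¹ * (α * γ * β⁻¹ * β⁻¹) = γ := by field_simp
    have e3 : x * x * α + γ + x * β = (x * x * α + x * β) + γ := by ring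
    rw [e3, e1, hz, e2]
    exact CharTwo.add_self_eq_zero _
  have h0 := han _ (hadd _ (hsmul x _ hd1) _ hd2) hq
  have h1 := congrArg (polar Q d1) h0
  rw [polar_add_right, polar_smul_right, polar_self2, smul_zero, zero_add, polar_zero_right] at h1
  exact hd h1

/-- a semilinear isometry with trivial action on `K` is trivial -/
theorem sem_eq_id [CharP F 2] (hK : KFacts Q) {M : V ≃+ V} {σ : F ≃+* F} (S : Sem Q M σ)
    (H : ∀ u x, Q u = 0 → polar Q u x = 0 → tE Q (M u) (M x) = tE Q u x) {e f : V} (he : Hyp Q e f)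
    (v : V) : M v = v := by
  have he0 : e ≠ 0 := by
    rintro rfl
    have := he.pair
    rw [polar_zero_left] at this
    exact zero_ne_one this
  have hf0 : f ≠ 0 := by
    rintro rfl
    have := he.pair
    rw [polar_zero_right] at this
    exact zero_ne_one this
  obtain ⟨y, hy, h1⟩ := hK.cent1 S he.left he0 fun x hx => H e x he.left hx
  obtain ⟨y', hy', h2⟩ := hK.cent1 S he.right hf0 fun x hx => H f x he.right hx
  have h3 : M f = f := by rw [h2, T_apply_self he.right hy']
  rw [h1, T_apply2 he.left hy, he.pair, one_smul, mul_one] at h3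
  have h4 : y = (polar Q y f + Q y) • e := by
    have h5 : y + (polar Q y f + Q y) • e = 0 := by
      have : f + (y + (polar Q y f + Q y) • e) = f + 0 := by rw [← add_assoc, h3, add_zero]
      exact add_left_cancel this
    rw [add_eq_zero_iff_eq_neg, neg_eq' (F := F)] at h5
    exact h5
  have h6 : T Q e y = 1 := by
    rw [h4]
    have := T_add_smul (Q := Q) he.left (polar_zero_right _ e) (polar Q y f + Q y)
    rw [zero_add] at this
    rw [this, T_zero_right]
  rw [h1, h6]; rfl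

variable {G : Type*} [Group G] {t : G} {j : ↥(E Q) →* G} {W : V → V → Subgroup G} {n : ℕ} {e f : ℕ → V}

theorem flag_ln (Fl : Flag Q n e f) {i k : ℕ} (hi : i < n) (hk : k < n) (h : i ≠ k) : Ln Q (e i) (e k) where
  qu := (Fl.hyp i hi).left
  qw := (Fl.hyp k hk).left
  perp := Fl.ee i k hi hk h
  ne := by
    intro h0
    have := (Fl.hyp i hi).pair
    rw [h0, polar_zero_left] at this
    exact zero_ne_one this
  ind := by
    intro c hc
    have := (Fl.hyp k hk).pair
    rw [hc, polar_smul_left, Fl.ef i k hi hk h, smul_zero] at this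
    exact zero_ne_one this

theorem flag_ln' (Fl : Flag Q n e f) {i k : ℕ} (hi : i < n) (hk : k < n) (h : i ≠ k) : Ln Q (e i) (f k) where
  qu := (Fl.hyp i hi).left
  qw := (Fl.hyp k hk).right
  perp := Fl.ef i k hi hk h
  ne := by
    intro h0
    have := (Fl.hyp i hi).pair
    rw [h0, polar_zero_left] at this
    exact zero_ne_one this
  ind := by
    intro c hc
    have := (Fl.hyp k hk).pair
    rw [hc, polar_smul_right, Fl.ee k i hk hi (Ne.symm h), smul_zero] at this
    exact zero_ne_one this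

/-- the lines `⟨e 0, e 2⟩`, `⟨e 1, f 2⟩` are in relation (c) -/
theorem flag_rel (Fl : Flag Q n e f) (hn : 3 ≤ n) : Face.Rel Q (e 0) (e 2) (e 1) (f 2) where
  uv := flag_ln Fl (by omega) (by omega) (by omega)
  ab := flag_ln' Fl (by omega) (by omega) (by omega)
  ua := flag_ln Fl (by omega) (by omega) (by omega)
  ub := Fl.ef 0 2 (by omega) (by omega) (by omega)
  va := Fl.ee 2 1 (by omega) (by omega) (by omega)
  vb := (Fl.hyp 2 (by omega)).pair

section main
variable [CharP F 2] [Finite F] [FiniteDimensional F V]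

/-- an involution of `C_G(t)` fixing the points of the frame acts linearly and fixes the frame -/
theorem fix_frame (D : Full Q t j W) (Fl : Flag Q n e f) (hn : 1 ≤ n)
    (hne : ∃ a ∈ Yv Q e f (n - 1), a ≠ 0) (han : ∀ y ∈ Yv Q e f (n - 1), Q y = 0 → y = 0) {g : G}
    (hgg : g * g = 1) {M : V ≃+ V} {σ : F ≃+* F} (S : Sem Q M σ)
    (hact : ∀ u x, Q u = 0 → polar Q u x = 0 → g * j (tE Q u x) * g⁻¹ = j (tE Q (M u) (M x)))
    (he : ∀ i < n, ∃ c : F, M (e i) = c • e i) (hf : ∀ i < n, ∃ c : F, M (f i) = c • f i) :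
    (∀ c, σ c = c) ∧ (∀ x, M (M x) = x) ∧ (∀ i < n, M (e i) = e i) ∧ ∀ i < n, M (f i) = f i := by
  -- `M² = 1`
  have S2 : Sem Q (M.trans M) (σ.trans σ) :=
    ⟨fun a v => by
      show M (M (a • v)) = σ (σ a) • M (M v)
      rw [S.smul, S.smul], fun v => by
      show Q (M (M v)) = σ (σ (Q v))
      rw [S.iso, S.iso]⟩
  have hM2 : ∀ x, M (M x) = x := by
    refine sem_eq_id D.kf S2 (fun u x hu hx => ?_) (Fl.hyp 0 (by omega))
    show tE Q (M (M u)) (M (M x)) = tE Q u x
    apply D.inj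
    have h1 : Q (M u) = 0 := by rw [S.iso, hu, map_zero]
    have h2 : polar Q (M u) (M x) = 0 := by rw [Sem'.polar' S, hx, map_zero]
    have gi : g⁻¹ = g := inv_eq_of_mul_eq_one_left hgg
    rw [← hact _ _ h1 h2, ← hact _ _ hu hx, gi]
    calc g * (g * j (tE Q u x) * g) * g = (g * g) * j (tE Q u x) * (g * g) := by group
      _ = j (tE Q u x) := by rw [hgg, one_mul, mul_one]
  -- `M` preserves `V_0`
  have hMN : ∀ y ∈ Yv Q e f (n - 1), M y ∈ Yv Q e f (n - 1) := by
    intro y hy k hk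
    obtain ⟨h1, h2⟩ := hy k hk
    obtain ⟨c, hc⟩ := he k (by omega)
    obtain ⟨d, hd⟩ := hf k (by omega)
    have hek := Fl.hyp k (by omega)
    constructor
    · have h3 := Sem'.polar' S (e k) y
      rw [h1, map_zero, hc, polar_smul_left, smul_eq_mul] at h3
      refine (mul_eq_zero.1 h3).resolve_left ?_
      rintro rfl
      rw [zero_smul] at hc
      have h4 : e k = 0 := M.injective (by rw [hc, map_zero])
      have h5 := hek.pair
      rw [h4, polar_zero_left] at h5
      exact zero_ne_one h5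
    · have h3 := Sem'.polar' S (f k) y
      rw [h2, map_zero, hd, polar_smul_left, smul_eq_mul] at h3
      refine (mul_eq_zero.1 h3).resolve_left ?_
      rintro rfl
      rw [zero_smul] at hd
      have h4 : f k = 0 := M.injective (by rw [hd, map_zero])
      have h5 := hek.pair
      rw [h4, polar_zero_right] at h5
      exact zero_ne_one h5
  obtain ⟨a, ha, ha0⟩ := hne
  obtain ⟨v, hv⟩ := D.kf.nondeg.exists_polar_ne ha0
  obtain ⟨b, hb, hb'⟩ := exists_proj Fl n le_rfl v
  have hb1 : b ∈ Yv Q e f (n - 1) := fun k hk => hb k (by omega)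
  have hab : polar Q a b ≠ 0 := by rw [hb' a fun k hk => ha k (by omega)]; exact hv
  have hσ : ∀ c, σ c = c := fun c =>
    sigma_eq_one S (fun x hx y hy => Yv_add hx hy) (fun c x hx => Yv_smul c hx) hMN hM2 han ha hb1 hab c
  have fixc : ∀ {x y : V}, polar Q x y = 1 → (∃ c : F, M x = c • x) → M x = x := by
    rintro x y hxy ⟨c, hc⟩
    have h1 := hM2 x
    rw [hc, S.smul, hσ, hc, smul_smul] at h1
    have h2 := congrArg (fun z => polar Q z y) h1
    simp only [polar_smul_left, hxy, smul_eq_mul, mul_one] at h2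
    rw [eq_one_of_mul_self h2, one_smul] at hc
    exact hc
  exact ⟨hσ, hM2, fun i hi => fixc (Fl.hyp i hi).pair (he i hi), fun i hi => fixc (Fl.hyp i hi).pair' (hf i hi)⟩

/-- **The field `c01` of `TwGlue.Inp`.** -/
theorem c01 (D : Full Q t j W) (Fl : Flag Q n e f) (hn : 3 ≤ n)
    (hne : ∃ a ∈ Yv Q e f (n - 1), a ≠ 0) (han : ∀ y ∈ Yv Q e f (n - 1), Q y = 0 → y = 0) {g : G}
    (hgt : g * t = t * g) (hgg : g * g = 1) {M : V ≃+ V} {σ : F ≃+* F} (S : Sem Q M σ)
    (hact : ∀ u x, Q u = 0 → polar Q u x = 0 → g * j (tE Q u x) * g⁻¹ = j (tE Q (M u) (M x)))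
    (he : ∀ i < n, ∃ c : F, M (e i) = c • e i) (hf : ∀ i < n, ∃ c : F, M (f i) = c • f i)
    (hW : ∀ {x y : V}, Ln Q x y → ∀ w ∈ W x y, g * w * g⁻¹ ∈ W (M x) (M y)) :
    (∀ w ∈ W (e 0) (e 1), g * w = w * g) ∨ ∀ w ∈ W (e 0) (e 1), t * g * w = w * (t * g) := by
  obtain ⟨hσ, -, h1, h2⟩ := fix_frame D Fl (by omega) hne han hgg S hact he hf
  have key := Cfsg.Agent.OddHalf.D7Out.ConstOInst.cent_or_sem D (flag_rel Fl hn) hgt
    (fun c x => by rw [S.smul, hσ]) hact (h1 0 (by omega)) (h1 2 (by omega)) (h1 1 (by omega)) (h2 2 (by omega))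
    (fun {x y} hxy hx hy w hw => by
      have := hW hxy w hw
      rwa [hx, hy] at this)
  rw [D.swap (flag_ln Fl (i := 0) (k := 1) (by omega) (by omega) (by omega))]
  rcases key with key | key
  · exact Or.inl fun w hw => key w (Or.inl hw)
  · exact Or.inr fun w hw => key w (Or.inl hw)

end main

end Cfsg.Agent.OddHalf.Orth.C01
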