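import Cfsg.Agent.OddHalf.Orth.Lay
import Cfsg.Agent.OddHalf.Orth.FlagDef

/-!
# ODD D7, `K = Ω(V)`: the product `U*` of the layers, and the end

From `Flag` (at least three hyperbolic pairs), `HasDelta` and `Grow`: if `⟨t⟩ UK` has odd index in `C_G(t)` then
there is a homomorphism `G → {±1}` with `t ↦ -1`.
-/

set_option autoImplicit false

namespace Cfsg.Agent.OddHalf.Orth.End

open QuadraticMap Cfsg.Agent.LieClassical.OrthCore Cfsg.Agent.LieClassical.OrthTrans
  Cfsg.Agent.ClassicalGeometry.OrthAutBasic Cfsg.Agent.ClassicalGeometry.OrthAutRoot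
  Cfsg.Agent.ClassicalGeometry.OrthAutSylow Cfsg.Agent.OddHalf.Orth
  Cfsg.Agent.OddHalf.Orth.Face Cfsg.Agent.OddHalf.Orth.Star Cfsg.Agent.OddHalf.Orth.Lay
  Cfsg.Agent.OddHalf.Orth.FlagDef

variable {F V : Type*} [Field F] [AddCommGroup V] [Module F V] {Q : QuadraticForm F V}
variable {G : Type*} [Group G] {t : G} {j : ↥(E Q) →* G} {W : V → V → Subgroup G}
variable {n : ℕ} {e f : ℕ → V}

/-- the points `e k, f k`, `k < i` -/
def HH (e f : ℕ → V) (i : ℕ) : Set V := {s | ∃ k < i, s = e k ∨ s = f k}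

theorem mem_HH {i : ℕ} {s : V} : s ∈ HH e f i ↔ ∃ k < i, s = e k ∨ s = f k := Iff.rfl

theorem HH_mono {i k : ℕ} (h : i ≤ k) : HH e f i ⊆ HH e f k := by
  rintro s ⟨l, hl, hs⟩
  exact ⟨l, lt_of_lt_of_le hl h, hs⟩

theorem mem_Yv {i : ℕ} {y : V} : y ∈ Yv Q e f i ↔ ∀ k ≤ i, polar Q (e k) y = 0 ∧ polar Q (f k) y = 0 := Iff.rfl

theorem Yv_add {i : ℕ} {x y : V} (hx : x ∈ Yv Q e f i) (hy : y ∈ Yv Q e f i) : x + y ∈ Yv Q e f i := fun k hk => by
  rw [polar_add_right, polar_add_right, (hx k hk).1, (hx k hk).2, (hy k hk).1, (hy k hk).2, add_zero]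
  exact ⟨rfl, rfl⟩

theorem Yv_smul {i : ℕ} {x : V} (c : F) (hx : x ∈ Yv Q e f i) : c • x ∈ Yv Q e f i := fun k hk => by
  rw [polar_smul_right, polar_smul_right, (hx k hk).1, (hx k hk).2, smul_zero]
  exact ⟨rfl, rfl⟩

theorem HH_facts (hF : Flag Q n e f) {i : ℕ} (hi : i < n) :
    ∀ s ∈ HH e f i, Q s = 0 ∧ s ≠ 0 ∧ polar Q s (e i) = 0 ∧ polar Q s (f i) = 0 ∧ ∀ c : F, e i ≠ c • s := by
  rintro s ⟨k, hk, hs⟩
  have hkn : k < n := hk.trans hi
  have hki : k ≠ i := hk.ne
  have h1 : polar Q s (e i) = 0 ∧ polar Q s (f i) = 0 := by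
    rcases hs with rfl | rfl
    · exact ⟨hF.ee k i hkn hi hki, hF.ef k i hkn hi hki⟩
    · exact ⟨by rw [polar_comm]; exact hF.ef i k hi hkn hki.symm, hF.ff k i hkn hi hki⟩
  refine ⟨?_, ?_, h1.1, h1.2, ?_⟩
  · rcases hs with rfl | rfl
    · exact (hF.hyp k hkn).left
    · exact (hF.hyp k hkn).right
  · rcases hs with rfl | rfl
    · exact (hF.hyp k hkn).left_ne
    · exact (hF.hyp k hkn).right_ne
  · intro c hc
    have h2 := (hF.hyp i hi).pair
    rw [hc, polar_smul_left, h1.2, smul_zero] at h2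
    exact zero_ne_one h2

/-- `RK i` as a set -/
theorem mem_RK [CharP F 2] (hF : Flag Q n e f) {i : ℕ} (hi : i < n) {g : ↥(E Q)} :
    g ∈ RK Q e f i ↔ ∃ y ∈ Yv Q e f i, g = tE Q (e i) y := by
  have he := (hF.hyp i hi).left
  constructor
  · intro hg
    rw [RK] at hg
    induction hg using Subgroup.closure_induction with
    | mem x hx => exact hx
    | one => exact ⟨0, fun k _ => ⟨polar_zero_right _ _, polar_zero_right _ _⟩, (tE_zero_right _).symm⟩
    | mul x y _ _ hx hy =>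
      obtain ⟨a, ha, rfl⟩ := hx
      obtain ⟨b, hb, rfl⟩ := hy
      exact ⟨a + b, Yv_add ha hb, tE_mul he (ha i le_rfl).1 (hb i le_rfl).1⟩
    | inv x _ hx =>
      obtain ⟨a, ha, rfl⟩ := hx
      exact ⟨a, ha, tE_inv he (ha i le_rfl).1⟩
  · exact fun h => Subgroup.subset_closure h

variable (D : Dbl Q t j W)
include D

/-- every `y ∈ Yv i` is reached -/
theorem exists_c [CharP F 2] (hK : KFacts Q) (hG : Grow Q t W) (hF : Flag Q n e f) (hn : 3 ≤ n)
    (hd : HasDelta Q n e f) {i : ℕ} (hi : i < n) {y : V} (hy : y ∈ Yv Q e f i) :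
    ∃ c ∈ B Q W (e i) (HH e f i), ph t c = j (tE Q (e i) y) := by
  have hH := HH_facts hF hi
  have hfe := hF.hyp i hi
  rcases Nat.lt_or_ge (i + 1) n with h1 | h1
  · refine exists_c_pair D hG hfe (fun s hs => ⟨(hH s hs).1, (hH s hs).2.1, (hH s hs).2.2.1⟩) (hF.hyp (i + 1) h1)
      (hF.ee _ _ hi h1 (by omega)) (hF.ef _ _ hi h1 (by omega)) (hy i le_rfl).1
      (by rw [polar_comm]; exact hF.ef _ _ h1 hi (by omega)) (hF.ff _ _ hi h1 (by omega)) (hy i le_rfl).2 ?_
    rintro s ⟨k, hk, rfl | rfl⟩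
    · exact ⟨hF.ee _ _ (by omega) h1 (by omega), hF.ef _ _ (by omega) h1 (by omega), (hy k hk.le).1⟩
    · exact ⟨by rw [polar_comm]; exact hF.ef _ _ h1 (by omega) (by omega), hF.ff _ _ (by omega) h1 (by omega),
        (hy k hk.le).2⟩
  · have hin : i = n - 1 := by omega
    obtain ⟨d, hd1, hd2⟩ := hd
    obtain ⟨z, hz, rfl⟩ := hd2 y (by rw [← hin]; exact hy)
    rw [← hin] at hz
    refine exists_c_last D hK hG hfe.left hfe.left_ne (hz i le_rfl).1 (hd1 i hi).1 ?_
    rintro s ⟨k, hk, hs⟩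
    have hkn : k < n := by omega
    have hs1 := hH s ⟨k, hk, hs⟩
    refine ⟨hs1.2.2.1, ?_, ?_⟩
    · rcases hs with rfl | rfl
      · exact (hd1 k hkn).1
      · exact (hd1 k hkn).2
    · obtain ⟨m, hm, hmk⟩ : ∃ m < i, m ≠ k := by
        by_cases h0 : k = 0
        · exact ⟨1, by omega, by omega⟩
        · exact ⟨0, by omega, fun h => h0 h.symm⟩
      refine exists_c_pair D hG hfe (fun s' hs' => ?_) (hF.hyp m (by omega))
        (hF.ee _ _ hi (by omega) (by omega)) (hF.ef _ _ hi (by omega) (by omega)) (hz i le_rfl).1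
        (by rw [polar_comm]; exact hF.ef _ _ (by omega) hi (by omega)) (hF.ff _ _ hi (by omega) (by omega))
        (hz i le_rfl).2 ?_
      · rw [Set.mem_singleton_iff.1 hs']
        exact ⟨hs1.1, hs1.2.1, hs1.2.2.1⟩
      · intro s' hs'
        rw [Set.mem_singleton_iff.1 hs']
        rcases hs with rfl | rfl
        · exact ⟨hF.ee _ _ (by omega) (by omega) hmk.symm, hF.ef _ _ (by omega) (by omega) hmk.symm,
            (hz k hk.le).1⟩
        · exact ⟨by rw [polar_comm]; exact hF.ef _ _ (by omega) (by omega) hmk,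
            hF.ff _ _ (by omega) (by omega) hmk.symm, (hz k hk.le).2⟩

/-- the fixed points of `t` in the layer -/
theorem fix_iff [Finite F] [CharP F 2] (hB : Big Q) (hK : KFacts Q) (hG : Grow Q t W) (hF : Flag Q n e f)
    {i : ℕ} (hi : i < n) : B Q W (e i) (HH e f i) ⊓ Subgroup.centralizer {t} = (RK Q e f i).map j := by
  have hH := HH_facts hF hi
  have hfe := hF.hyp i hi
  ext g
  rw [Subgroup.mem_inf, Subgroup.mem_centralizer_singleton_iff, Subgroup.mem_map]
  constructor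
  · rintro ⟨h1, h2⟩
    obtain ⟨y, hy, rfl, hs⟩ := B_fix D hB hK hG hfe.left hfe.left_ne
      (fun s hs => ⟨(hH s hs).1, (hH s hs).2.1, (hH s hs).2.2.1, (hH s hs).2.2.2.2⟩) h1
      (by rw [← h2, mul_assoc, D.tt, mul_one])
    refine ⟨tE Q (e i) y, (mem_RK hF hi).2 ⟨y + polar Q (f i) y • e i, ?_, ?_⟩, rfl⟩
    · intro k hk
      rcases hk.lt_or_eq with hk | rfl
      · have a1 := hs (e k) ⟨k, hk, Or.inl rfl⟩
        have a2 := hs (f k) ⟨k, hk, Or.inr rfl⟩
        rw [polar_add_right, polar_add_right, polar_smul_right, polar_smul_right, a1, a2,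
          (hH (e k) ⟨k, hk, Or.inl rfl⟩).2.2.1, (hH (f k) ⟨k, hk, Or.inr rfl⟩).2.2.1]
        simp
      · rw [polar_add_right, polar_add_right, polar_smul_right, polar_smul_right, hy, hfe.polar_left, hfe.pair']
        refine ⟨by simp, ?_⟩
        rw [smul_eq_mul, mul_one, CharTwo.add_self_eq_zero]
    · rw [tE_add_smul hfe.left hy]
  · rintro ⟨k, hk, rfl⟩
    obtain ⟨y, hy, rfl⟩ := (mem_RK hF hi).1 hk
    refine ⟨R_mem_B D hK hfe.left hfe.left_ne (hy i le_rfl).1 ?_, (D.tj _).symm⟩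
    rintro s ⟨k, hk, hs⟩
    refine ⟨(hH s ⟨k, hk, hs⟩).2.2.1, ?_⟩
    rcases hs with rfl | rfl
    · exact (hy k hk.le).1
    · exact (hy k hk.le).2

omit D in
/-- elements of the product of the first `k` root groups act trivially on `L^⊥ / L` -/
theorem triv [CharP F 2] (hF : Flag Q n e f) {k : ℕ} (hk : k ≤ n) {g : ↥(E Q)}
    (hg : g ∈ ⨆ i : ℕ, ⨆ _ : i < k, RK Q e f i) :
    ∀ v, (∀ i < k, polar Q (e i) v = 0) → (∀ i < k, polar Q (e i) ((g : V ≃ₗ[F] V) v) = 0) ∧
      ∀ w, (∀ i < k, polar Q (e i) w = 0) → polar Q ((g : V ≃ₗ[F] V) v) w = polar Q v w := by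
  induction hg using Subgroup.iSup_induction' with
  | hp i x hx =>
    by_cases hi : i < k
    · rw [iSup_pos hi] at hx
      obtain ⟨y, hy, rfl⟩ := (mem_RK hF (hi.trans_le hk)).1 hx
      intro v hv
      have he := (hF.hyp i (hi.trans_le hk)).left
      have e1 : ((tE Q (e i) y : ↥(E Q)) : V ≃ₗ[F] V) v = v + polar Q y v • e i := by
        rw [coe_tE, T_apply2 he (hy i le_rfl).1, hv i hi]
        simp
      rw [e1]
      have hee : ∀ l < k, polar Q (e l) (e i) = 0 := by
        intro l hl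
        by_cases hli : l = i
        · rw [hli]; exact polar_self_of_sing he
        · exact hF.ee l i (hl.trans_le hk) (hi.trans_le hk) hli
      refine ⟨fun l hl => ?_, fun w hw => ?_⟩
      · rw [polar_add_right, polar_smul_right, hv l hl, hee l hl]; simp
      · rw [polar_add_left, polar_smul_left, hw i hi]; simp
    · rw [iSup_neg hi, Subgroup.mem_bot] at hx
      subst hx
      intro v hv
      exact ⟨hv, fun w _ => rfl⟩
  | h1 => exact fun v hv => ⟨hv, fun w _ => rfl⟩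
  | hmul x y _ _ hx hy =>
    intro v hv
    obtain ⟨h1, h2⟩ := hy v hv
    obtain ⟨h3, h4⟩ := hx _ h1
    refine ⟨h3, fun w hw => ?_⟩
    have e1 : ((x * y : ↥(E Q)) : V ≃ₗ[F] V) v = (x : V ≃ₗ[F] V) ((y : V ≃ₗ[F] V) v) := rfl
    rw [e1, h4 w hw, h2 w hw]

omit D in
theorem indep_K [CharP F 2] (hK : KFacts Q) (hF : Flag Q n e f) {k : ℕ} (hk : k < n) {g : ↥(E Q)}
    (hg : g ∈ RK Q e f k) (hg' : g ∈ ⨆ i : ℕ, ⨆ _ : i < k, RK Q e f i) : g = 1 := by
  obtain ⟨y, hy, rfl⟩ := (mem_RK hF hk).1 hg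
  have hfe := hF.hyp k hk
  have hf0 : ∀ i < k, polar Q (e i) (f k) = 0 := fun i hi => hF.ef i k (hi.trans hk) hk hi.ne
  obtain ⟨-, h2⟩ := triv hF hk.le hg' (f k) hf0
  have e1 : ((tE Q (e k) y : ↥(E Q)) : V ≃ₗ[F] V) (f k) = f k + y + Q y • e k := by
    rw [coe_tE, T_apply2 hfe.left (hy k le_rfl).1, hfe.pair, polar_comm Q y, (hy k le_rfl).2]
    module
  rw [e1] at h2
  have h3 : ∀ w, (∀ i < k, polar Q (e i) w = 0) → polar Q y w + Q y * polar Q (e k) w = 0 := by
    intro w hw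
    have := h2 w hw
    rw [polar_add_left, polar_add_left, polar_smul_left, add_assoc] at this
    exact left_eq_add.1 this.symm
  have hQy : Q y = 0 := by
    have := h3 (f k) hf0
    rwa [polar_comm Q y, (hy k le_rfl).2, hfe.pair, mul_one, zero_add] at this
  have h4 : ∀ w, (∀ i < k, polar Q (e i) w = 0) → polar Q y w = 0 := by
    intro w hw
    have := h3 w hw
    rwa [hQy, zero_mul, add_zero] at this
  have hy0 : y = 0 := by
    apply hK.nondeg
    intro w
    have key : ∀ m ≤ k, (∀ i < k, m ≤ i → polar Q (e i) w = 0) → polar Q y w = 0 := by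
      intro m
      induction m generalizing w with
      | zero =>
        intro _ hw
        exact h4 w (fun i hi => hw i hi (Nat.zero_le _))
      | succ m ih =>
        intro hm hw
        have hmn : m < n := by omega
        have := ih (w + polar Q (e m) w • f m) (by omega) (fun i hi hmi => by
          rcases hmi.lt_or_eq with h | rfl
          · rw [polar_add_right, hw i hi h, polar_smul_right, hF.ef i m (by omega) hmn (by omega)]; simp
          · rw [polar_add_right, polar_smul_right, (hF.hyp m hmn).pair, smul_eq_mul, mul_one,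
              CharTwo.add_self_eq_zero])
        rwa [polar_add_right, polar_smul_right, polar_comm Q y (f m), (hy m (by omega)).2, smul_zero,
          add_zero] at this
    exact key k le_rfl (fun i hi hki => absurd hi (by omega))
  rw [hy0, tE_zero_right]

theorem dbl [Finite F] [CharP F 2] (hB : Big Q) (hK : KFacts Q) (hG : Grow Q t W) (hF : Flag Q n e f)
    (hn : 3 ≤ n) (hd : HasDelta Q n e f) :
    Grow2.Dbl t (fun i => B Q W (e i) (HH e f i)) (fun i => (RK Q e f i).map j) n where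
  tt := D.tt
  conj i hi v hv := by
    have hH := HH_facts hF hi
    exact B_t D hK (hF.hyp i hi).left (hF.hyp i hi).left_ne (fun s hs => ⟨(hH s hs).1, (hH s hs).2.1⟩) hv
  sq i hi v hv := hG.sq (hF.hyp i hi).left (hF.hyp i hi).left_ne (mem_B.1 hv).1
  fix i hi v hv h := by
    rw [← fix_iff D hB hK hG hF hi, Subgroup.mem_inf, Subgroup.mem_centralizer_singleton_iff]
    refine ⟨hv, ?_⟩
    have := congrArg (fun x => t * x) h
    simp only [← mul_assoc, D.tt, one_mul] at this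
    exact this
  X_le i hi := by
    show (RK Q e f i).map j ≤ _
    rw [← fix_iff D hB hK hG hF hi]; exact inf_le_left
  X_fix i hi v hv := by
    obtain ⟨k, -, rfl⟩ := hv
    rw [D.tj, mul_assoc, D.tt, mul_one]
  free i hi v hv := by
    obtain ⟨k, hk, rfl⟩ := hv
    obtain ⟨y, hy, rfl⟩ := (mem_RK hF hi).1 hk
    obtain ⟨c, hc, e1⟩ := exists_c D hK hG hF hn hd hi hy
    refine ⟨c, hc, ?_⟩
    have h1 := Vs_comm D (hF.hyp i hi).left (mem_B.1 hc).1 (Ru_mem (j := j) (hy i le_rfl).1)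
    have h2 : t * c * t = c * j (tE Q (e i) y) := by rw [← e1, ph_def, mul_inv_cancel_left]
    rw [h2, ← h1, mul_inv_cancel_right]
  norm i l hil hl v hv w hw := by
    refine Grow2.le_W (fun i => B Q W (e i) (HH e f i)) hil ?_
    exact B_conj (show e i ∈ HH e f l from ⟨i, hil, Or.inl rfl⟩) (HH_mono hil.le) hv hw
  indep k hk := by
    rw [eq_bot_iff]
    rintro g ⟨⟨x, hx, rfl⟩, hg⟩
    have h1 : Grow2.W (fun i => (RK Q e f i).map j) k = (⨆ i : ℕ, ⨆ _ : i < k, RK Q e f i).map j := by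
      rw [Grow2.W, Subgroup.map_iSup]
      exact iSup_congr fun i => by rw [Subgroup.map_iSup]
    rw [h1] at hg
    obtain ⟨x', hx', e1⟩ := hg
    have := D.inj e1
    subst this
    rw [Subgroup.mem_bot, indep_K hK hF hk hx hx', map_one]

/-- **Sections 4 and 5.** -/
theorem exists_hom [Finite G] [Finite F] [CharP F 2] (hB : Big Q) (hK : KFacts Q) (hG : Grow Q t W)
    (hF : Flag Q n e f) (hn : 3 ≤ n) (hd : HasDelta Q n e f)
    (hodd : Odd (((UK Q e f n).map j ⊔ Subgroup.zpowers t).relIndex (Subgroup.centralizer ({t} : Set G)))) :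
    ∃ m : G →* ℤˣ, m t = -1 := by
  have h1 : Grow2.W (fun i => (RK Q e f i).map j) n = (UK Q e f n).map j := by
    rw [Grow2.W, UK, Subgroup.map_iSup]
    exact iSup_congr fun i => by rw [Subgroup.map_iSup]
  refine (dbl D hB hK hG hF hn hd).exists_hom ?_ ?_
  · rw [h1]
    rintro ⟨k, -, hk⟩
    exact D.tK k hk
  · rw [h1]
    exact hodd

end Cfsg.Agent.OddHalf.Orth.End
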