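import Cfsg.Agent.OddHalf.Orth.LinesThree
import Cfsg.Agent.OddHalf.Orth.KFace
import Cfsg.Agent.OddHalf.Orth.End

/-!
# ODD D7, `K = Ω(V)`: equivariance of `W_l`, `V*_u`, `B_i` under the whole of `C_G(t)` (piece O8)

`Act Q t j g M σ`: `g ∈ C_G(t)` acts on `V` as the semilinear isometry `(M, σ)`.
* `W_conj` : `g W_{u,v} g⁻¹ = W_{Mu,Mv}`; `Vs_conj_act` : `g V*_u g⁻¹ = V*_{Mu}`;
* `norm_of_point` : if `M u ∈ F u` then `g` normalises `V*_u`;
* `B_conj_act`, `Us_conj_act` : if `g` fixes all points `⟨e_i⟩`, `⟨f_i⟩`, then `g` normalises every layer `B_i` and `U*`;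
* `point_of_norm` : if `g` normalises `j (R_u)` then `M u ∈ F u`.
-/

set_option autoImplicit false

namespace Cfsg.Agent.OddHalf.Orth.Equiv

open QuadraticMap Cfsg.Agent.LieClassical.OrthCore Cfsg.Agent.LieClassical.OrthTrans
  Cfsg.Agent.ClassicalGeometry.OrthAutBasic Cfsg.Agent.ClassicalGeometry.OrthAutRoot
  Cfsg.Agent.ClassicalGeometry.OrthAutSylow Cfsg.Agent.OddHalf.Orth
  Cfsg.Agent.OddHalf.Orth.Face Cfsg.Agent.OddHalf.Orth.Star Cfsg.Agent.OddHalf.Orth.Lines
  Cfsg.Agent.OddHalf.Orth.Lay Cfsg.Agent.OddHalf.Orth.End Cfsg.Agent.OddHalf.Orth.FlagDef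

variable {F V : Type*} [Field F] [AddCommGroup V] [Module F V] {Q : QuadraticForm F V}
variable {G : Type*} [Group G] {t : G} {j : ↥(E Q) →* G} {W : V → V → Subgroup G}

/-- `g ∈ C_G(t)` acts on `V` as the semilinear isometry `(M, σ)`. -/
structure Act (Q : QuadraticForm F V) (t : G) (j : ↥(E Q) →* G) (g : G) (M : V ≃+ V) (σ : F ≃+* F) :
    Prop where
  comm : g * t = t * g
  sem : Sem Q M σ
  act : ∀ u x, Q u = 0 → polar Q u x = 0 → g * j (tE Q u x) * g⁻¹ = j (tE Q (M u) (M x))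

theorem exists_act (S : Sit Q t j) {g : G} (hg : g * t = t * g) :
    ∃ (M : V ≃+ V) (σ : F ≃+* F), Act Q t j g M σ := by
  obtain ⟨M, σ, h1, h2⟩ := S.act g hg
  exact ⟨M, σ, hg, h1, h2⟩

namespace Act

variable {g : G} {M : V ≃+ V} {σ : F ≃+* F} (A : Act Q t j g M σ)
include A

theorem sem_symm : Sem Q M.symm σ.symm where
  smul a v := by
    apply M.injective
    rw [A.sem.smul, AddEquiv.apply_symm_apply, AddEquiv.apply_symm_apply, RingEquiv.apply_symm_apply]
  iso v := by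
    apply σ.injective
    rw [RingEquiv.apply_symm_apply, ← A.sem.iso, AddEquiv.apply_symm_apply]

theorem inv : Act Q t j g⁻¹ M.symm σ.symm where
  comm := by
    rw [inv_mul_eq_iff_eq_mul, ← mul_assoc, A.comm, mul_inv_cancel_right]
  sem := A.sem_symm
  act u x hu hx := by
    have h1 : Q (M.symm u) = 0 := by rw [A.sem_symm.iso, hu, map_zero]
    have h2 : polar Q (M.symm u) (M.symm x) = 0 := by rw [Sem'.polar' A.sem_symm, hx, map_zero]
    have h3 := A.act _ _ h1 h2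
    rw [AddEquiv.apply_symm_apply, AddEquiv.apply_symm_apply] at h3
    rw [← h3]
    group

/-- the same with the vectors on the other side -/
theorem act' {u x : V} (hu : Q u = 0) (hx : polar Q (M u) x = 0) :
    j (tE Q (M u) x) = g * j (tE Q u (M.symm x)) * g⁻¹ := by
  have h : polar Q u (M.symm x) = 0 := by
    have h1 := Sem'.polar' A.sem u (M.symm x)
    rw [AddEquiv.apply_symm_apply, hx] at h1
    apply σ.injective
    rw [← h1, map_zero]
  rw [A.act u _ hu h, AddEquiv.apply_symm_apply]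

end Act

/-- `y ∈ C_G(t)` centralising `R_u` and `R_v` lies in `⟨t⟩ X_l` -/
theorem mem_X_of_comm [Finite F] (hB : Big Q) (hK : KFacts Q) (S : Sit Q t j) {u v : V} (h : Ln Q u v)
    {y : G} (hy : y * t = t * y) (h1 : ∀ x, polar Q u x = 0 → y * j (tE Q u x) = j (tE Q u x) * y)
    (h2 : ∀ x, polar Q v x = 0 → y * j (tE Q v x) = j (tE Q v x) * y) :
    ∃ c : F, y = j (tE Q u (c • v)) ∨ y = t * j (tE Q u (c • v)) := by
  obtain ⟨y0, hy0, e⟩ := S.cR hK hy h.qu h.ne h1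
  have hc : ∀ x, polar Q v x = 0 → j (tE Q u y0) * j (tE Q v x) = j (tE Q v x) * j (tE Q u y0) := by
    intro x hx
    rcases e with e | e
    · rw [← e]; exact h2 x hx
    · have h3 := h2 x hx
      rw [e] at h3
      have h4 := S.tj (tE Q v x)
      have h5 : t * (j (tE Q u y0) * j (tE Q v x)) = t * (j (tE Q v x) * j (tE Q u y0)) := by
        rw [← mul_assoc, h3, ← mul_assoc, ← h4, mul_assoc]
      exact mul_left_cancel h5
  have hL : y0 ∈ L F u v := by
    refine mem_L_of_comm hB h hy0 ?_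
    intro z hz hz'
    have h3 := hc z hz'
    have h4 : j (tE Q v z) * j (tE Q u y0) * (j (tE Q v z))⁻¹ = j (tE Q u y0) := by
      rw [← h3, mul_inv_cancel_right]
    rw [S.rconj, coe_tE] at h4
    have h5 : T Q v z u = u := T_fix h.perp' (by rw [polar_comm]; exact hz)
    rw [h5] at h4
    exact congrArg Subtype.val (S.inj h4)
  obtain ⟨a, b, hab⟩ := mem_L.1 hL
  refine ⟨b, ?_⟩
  have h6 : tE Q u y0 = tE Q u (b • v) := by
    rw [← hab, add_comm, tE_add_smul h.qu (by rw [polar_smul_right, h.perp, smul_zero])]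
  rw [← h6]
  exact e

section Main

variable [Finite F] [CharP F 2] (hB : Big Q) (D : Full Q t j W)
include hB D

/-- **`g W_{u,v} g⁻¹ ≤ W_{Mu,Mv}`** for every `g ∈ C_G(t)`. -/
theorem W_conj {g : G} {M : V ≃+ V} {σ : F ≃+* F} (A : Act Q t j g M σ) {u v : V} (h : Ln Q u v) {w : G}
    (hw : w ∈ W u v) : g * w * g⁻¹ ∈ W (M u) (M v) := by
  have hfd : FiniteDimensional F V := Module.finite_of_finrank_pos (by have := hB.dim; omega)
  have h' : Ln Q (M u) (M v) := Sem'.ln A.sem h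
  obtain ⟨c, hc⟩ := D.phi h hw
  have hc' : ph t w = j (tE Q u (c • v)) := hc
  have pcv : polar Q u (c • v) = 0 := by rw [polar_smul_right, h.perp, smul_zero]
  have hph : ph t (g * w * g⁻¹) = j (tE Q (M u) (σ c • M v)) := by
    rw [ph_conj A.comm.symm, hc', A.act _ _ h.qu pcv, A.sem.smul]
  obtain ⟨w', hw', hw1⟩ := D.surj (σ c) h'
  have hw1' : ph t w' = j (tE Q (M u) (σ c • M v)) := hw1
  -- `y = g w g⁻¹ w'⁻¹` commutes with `t`
  have hyt : g * w * g⁻¹ * w'⁻¹ * t = t * (g * w * g⁻¹ * w'⁻¹) := by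
    have e1 : t * (g * w * g⁻¹) * t = g * w * g⁻¹ * ph t (g * w * g⁻¹) := by rw [ph_def]; group
    have e2 : t * w' * t = w' * ph t w' := by rw [ph_def]; group
    have e3 : t * (g * w * g⁻¹ * w'⁻¹) * t = g * w * g⁻¹ * w'⁻¹ := by
      calc t * (g * w * g⁻¹ * w'⁻¹) * t = (t * (g * w * g⁻¹) * t) * (t⁻¹ * w'⁻¹ * t⁻¹) * (t * t) := by group
        _ = (t * (g * w * g⁻¹) * t) * (t * w' * t)⁻¹ := by rw [D.tt]; group
        _ = g * w * g⁻¹ * w'⁻¹ := by rw [e1, e2, hph, hw1']; group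
    calc g * w * g⁻¹ * w'⁻¹ * t = t * (g * w * g⁻¹ * w'⁻¹) * t * t := by rw [e3]
      _ = t * (g * w * g⁻¹ * w'⁻¹) * (t * t) := by group
      _ = _ := by rw [D.tt, mul_one]
  -- it centralises `R_{Mu}` and `R_{Mv}`
  have hcomm : ∀ {a x : V}, Q a = 0 → polar Q (M a) x = 0 →
      tE Q (M a) x * tE Q (M u) (M v) = tE Q (M u) (M v) * tE Q (M a) x →
      tE Q a (M.symm x) * tE Q u v = tE Q u v * tE Q a (M.symm x) →
      g * w * g⁻¹ * w'⁻¹ * j (tE Q (M a) x) = j (tE Q (M a) x) * (g * w * g⁻¹ * w'⁻¹) := by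
    intro a x ha hx f1 f2
    have c1 : Commute (j (tE Q (M a) x)) w' := D.cent h' hw' f1
    have c2 : Commute (j (tE Q a (M.symm x))) w := D.cent h hw f2
    have c3 : Commute (g * j (tE Q a (M.symm x)) * g⁻¹) (g * w * g⁻¹) := by
      show _ * _ = _ * _
      have e4 : g * j (tE Q a (M.symm x)) * g⁻¹ * (g * w * g⁻¹) = g * (j (tE Q a (M.symm x)) * w) * g⁻¹ := by
        group
      rw [e4, c2.eq]; group
    rw [← A.act' ha hx] at c3
    exact (c3.mul_right c1.inv_right).eq.symm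
  have hz : ∀ {a x : V}, polar Q (M a) x = 0 → polar Q a (M.symm x) = 0 := by
    intro a x hx
    have h1 := Sem'.polar' A.inv.sem (M a) x
    rwa [AddEquiv.symm_apply_apply, hx, map_zero] at h1
  obtain ⟨d, hd⟩ := mem_X_of_comm hB D.kf D.toSit h' hyt
    (fun x hx => hcomm h.qu hx (tE_comm h'.qu hx h'.perp) (tE_comm h.qu (hz hx) h.perp))
    (fun x hx => hcomm h.qw hx
      (by rw [tE_swap h'.qu h'.qw h'.perp]; exact tE_comm h'.qw hx h'.symm.perp)
      (by rw [tE_swap h.qu h.qw h.perp]; exact tE_comm h.qw (hz hx) h.symm.perp))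
  have hX := D.X_le d h'
  rcases hd with hd | hd
  · have e5 : g * w * g⁻¹ = (g * w * g⁻¹ * w'⁻¹) * w' := by group
    rw [e5, hd]
    exact mul_mem hX hw'
  · -- `g w g⁻¹ = t w''` is impossible
    exfalso
    set w2 := j (tE Q (M u) (d • M v)) * w' with hw2
    have hw2m : w2 ∈ W (M u) (M v) := mul_mem hX hw'
    have e5 : g * w * g⁻¹ = t * w2 := by
      have : g * w * g⁻¹ = (g * w * g⁻¹ * w'⁻¹) * w' := by group
      rw [this, hd, hw2, mul_assoc]
    have e6 : (g * w * g⁻¹) * (g * w * g⁻¹) = 1 := by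
      have : (g * w * g⁻¹) * (g * w * g⁻¹) = g * (w * w) * g⁻¹ := by group
      rw [this, sqW D h hw]; group
    rw [e5] at e6
    have e7 : ph t w2 = 1 := by
      have e8 : w2 * w2 = 1 := sqW D h' hw2m
      have e9 : w2⁻¹ = w2 := inv_eq_of_mul_eq_one_left e8
      rw [ph_def, e9]
      have e10 : t * w2 * t = w2⁻¹ := by
        rw [eq_inv_iff_mul_eq_one, ← e6]; group
      rw [e10, e9, e8]
    obtain ⟨d', hd'⟩ := D.fixW h' hw2m e7
    -- `w` commutes with `t`
    have e11 : g * w * g⁻¹ * t = t * (g * w * g⁻¹) := by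
      rw [e5, hd', mul_assoc, ← D.tj]
    have e12 : w * t = t * w := by
      have c1 : Commute (g * w * g⁻¹) t := e11
      have c2 : Commute g t := A.comm
      have c3 : Commute (g⁻¹ * (g * w * g⁻¹) * g) t := (c2.inv_left.mul_left c1).mul_left c2
      have e13 : g⁻¹ * (g * w * g⁻¹) * g = w := by group
      rw [e13] at c3
      exact c3
    obtain ⟨d2, hd2⟩ := D.fix h hw e12
    have e14 : g * w * g⁻¹ = j (tE Q (M u) (M (d2 • v))) := by
      rw [hd2, A.act _ _ h.qu (by rw [polar_smul_right, h.perp, smul_zero])]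
    rw [e5, hd', ← eq_mul_inv_iff_mul_eq, ← map_inv, ← map_mul] at e14
    exact D.tK _ e14.symm

/-- the equality `g W_{u,v} g⁻¹ = W_{Mu,Mv}` -/
theorem W_conj_iff {g : G} {M : V ≃+ V} {σ : F ≃+* F} (A : Act Q t j g M σ) {u v : V} (h : Ln Q u v)
    {w : G} : g * w * g⁻¹ ∈ W (M u) (M v) ↔ w ∈ W u v := by
  constructor
  · intro hw
    have h1 := W_conj hB D A.inv (Sem'.ln A.sem h) hw
    rw [AddEquiv.symm_apply_apply, AddEquiv.symm_apply_apply] at h1
    have e : g⁻¹ * (g * w * g⁻¹) * g⁻¹⁻¹ = w := by group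
    rwa [e] at h1
  · exact W_conj hB D A h

/-- **`g V*_u g⁻¹ ≤ V*_{Mu}`** -/
theorem Vs_conj_act {g : G} {M : V ≃+ V} {σ : F ≃+* F} (A : Act Q t j g M σ) {u : V} {f : G}
    (hf : f ∈ Vs Q W u) : g * f * g⁻¹ ∈ Vs Q W (M u) := by
  rw [Vs] at hf
  induction hf using Subgroup.closure_induction with
  | mem w hw =>
    obtain ⟨v, hv, hw⟩ := hw
    exact mem_Vs (Sem'.ln A.sem hv) (W_conj hB D A hv hw)
  | one => rw [mul_one, mul_inv_cancel]; exact one_mem _
  | mul a b _ _ ha hb =>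
    have e : g * (a * b) * g⁻¹ = (g * a * g⁻¹) * (g * b * g⁻¹) := by group
    rw [e]; exact mul_mem ha hb
  | inv a _ ha =>
    have e : g * a⁻¹ * g⁻¹ = (g * a * g⁻¹)⁻¹ := by group
    rw [e]; exact inv_mem ha

end Main

section Point

/-- `V*_u` depends only on the point -/
theorem Vs_smul_le [CharP F 2] (D : Dbl Q t j W) {u : V} {c : F} (hc : c ≠ 0) : Vs Q W (c • u) ≤ Vs Q W u := by
  rw [Vs, Subgroup.closure_le]
  rintro w ⟨v, hv, hw⟩
  have huv : Ln Q v u := by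
    have h1 := hv.symm
    refine ⟨h1.qu, ?_, ?_, h1.ne, ?_⟩
    · have := h1.qw
      rw [QuadraticMap.map_smul, smul_eq_mul] at this
      exact (mul_eq_zero.1 this).resolve_left (mul_ne_zero hc hc)
    · have := h1.perp
      rw [polar_smul_right, smul_eq_mul] at this
      exact (mul_eq_zero.1 this).resolve_left hc
    · intro d hd
      apply h1.ind (c * d)
      rw [hd, smul_smul]
  rw [D.swap hv, D.smul huv hc, D.swap huv] at hw
  exact mem_Vs huv.symm hw

theorem Vs_smul [CharP F 2] (D : Dbl Q t j W) {u : V} {c : F} (hc : c ≠ 0) : Vs Q W (c • u) = Vs Q W u := by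
  apply le_antisymm (Vs_smul_le D hc)
  have h1 := Vs_smul_le D (u := c • u) (inv_ne_zero hc)
  rwa [smul_smul, inv_mul_cancel₀ hc, one_smul] at h1

end Point

section Main

variable [Finite F] [CharP F 2] (hB : Big Q) (D : Full Q t j W)
include hB D

/-- an element of `C_G(t)` fixing the point `⟨u⟩` normalises `V*_u` -/
theorem norm_of_point {g : G} {M : V ≃+ V} {σ : F ≃+* F} (A : Act Q t j g M σ) {u : V} {c : F} (hc : c ≠ 0)
    (h : M u = c • u) : g ∈ Subgroup.normalizer (Vs Q W u : Set G) := by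
  refine mem_norm (fun f hf => ?_) (fun f hf => ?_)
  · have h1 := Vs_conj_act hB D A hf
    rwa [h, Vs_smul D.toDbl hc] at h1
  · have h1 := Vs_conj_act hB D A.inv hf
    rw [inv_inv] at h1
    have h2 : M.symm u = (σ.symm c⁻¹) • u := by
      apply M.injective
      rw [AddEquiv.apply_symm_apply, A.sem.smul, RingEquiv.apply_symm_apply, h, smul_smul,
        inv_mul_cancel₀ hc, one_smul]
    rwa [h2, Vs_smul D.toDbl (by simpa using hc)] at h1

omit [CharP F 2] D in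
/-- if `g` normalises `j (R_u)` then `M u ∈ F u` -/
theorem point_of_norm {g : G} {M : V ≃+ V} {σ : F ≃+* F} (A : Act Q t j g M σ) (hj : Function.Injective j)
    {u : V} (hu : Q u = 0) (hu0 : u ≠ 0)
    (hg : ∀ x, polar Q u x = 0 → g⁻¹ * j (tE Q u x) * g ∈ Ru Q j u) : ∃ c : F, c ≠ 0 ∧ M u = c • u := by
  have hfix : ∀ x, polar Q u x = 0 → T Q u x (M u) = M u := by
    intro x hx
    obtain ⟨y, hy, e⟩ := hg x hx
    have e1 : j (tE Q u x) = g * j (tE Q u y) * g⁻¹ := by rw [← e]; group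
    rw [A.act u y hu hy] at e1
    have e2 : T Q u x = T Q (M u) (M y) := congrArg Subtype.val (hj e1)
    rw [e2]
    exact T_apply_self (by rw [A.sem.iso, hu, map_zero]) (by rw [Sem'.polar' A.sem, hy, map_zero])
  obtain ⟨c, hc⟩ := eq_smul_of_fix_rad hB hu hu0 hfix
  refine ⟨c, ?_, hc⟩
  rintro rfl
  rw [zero_smul] at hc
  exact hu0 (M.injective (by rw [hc, map_zero]))

end Main

section Layers

/-- an element normalising `V*_u` and all `V*_s`, `s ∈ H`, normalises the layer -/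
theorem B_conj_norm {u : V} {H : Set V} {g : G} (h1 : g ∈ Subgroup.normalizer (Vs Q W u : Set G))
    (h2 : ∀ s ∈ H, g ∈ Subgroup.normalizer (Vs Q W s : Set G)) {b : G} (hb : b ∈ B Q W u H) :
    g * b * g⁻¹ ∈ B Q W u H := by
  rw [mem_B] at hb ⊢
  exact ⟨norm_conj h1 hb.1, fun s hs => mul_mem (mul_mem (h2 s hs) (hb.2 s hs)) (inv_mem (h2 s hs))⟩

variable {n : ℕ} {e f : ℕ → V}

/-- `U*` -/
def Us (Q : QuadraticForm F V) (W : V → V → Subgroup G) (e f : ℕ → V) (n : ℕ) : Subgroup G :=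
  Grow2.W (fun i => B Q W (e i) (HH e f i)) n

theorem Us_conj_norm {g : G} (h1 : ∀ i < n, g ∈ Subgroup.normalizer (Vs Q W (e i) : Set G))
    (h2 : ∀ i < n, g ∈ Subgroup.normalizer (Vs Q W (f i) : Set G)) {x : G} (hx : x ∈ Us Q W e f n) :
    g * x * g⁻¹ ∈ Us Q W e f n := by
  have hle : Us Q W e f n ≤ (Us Q W e f n).comap (MulAut.conj g).toMonoidHom := by
    refine iSup₂_le fun i hi b hb => ?_
    show g * b * g⁻¹ ∈ Us Q W e f n
    refine Grow2.le_W (fun i => B Q W (e i) (HH e f i)) hi ?_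
    refine B_conj_norm (h1 i hi) ?_ hb
    rintro s ⟨k, hk, rfl | rfl⟩
    · exact h1 k (hk.trans hi)
    · exact h2 k (hk.trans hi)
  exact hle hx

variable [Finite F] [CharP F 2] (hB : Big Q) (D : Full Q t j W)
include hB D

/-- `g ∈ C_G(t)` fixing all points `⟨e_i⟩`, `⟨f_i⟩` normalises `U*` -/
theorem Us_conj_point {g : G} {M : V ≃+ V} {σ : F ≃+* F} (A : Act Q t j g M σ)
    (he : ∀ i < n, ∃ c : F, c ≠ 0 ∧ M (e i) = c • e i) (hf : ∀ i < n, ∃ c : F, c ≠ 0 ∧ M (f i) = c • f i)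
    {x : G} (hx : x ∈ Us Q W e f n) : g * x * g⁻¹ ∈ Us Q W e f n := by
  refine Us_conj_norm (fun i hi => ?_) (fun i hi => ?_) hx
  · obtain ⟨c, hc, h⟩ := he i hi
    exact norm_of_point hB D A hc h
  · obtain ⟨c, hc, h⟩ := hf i hi
    exact norm_of_point hB D A hc h

/-- `g ∈ C_G(t)` normalising all `j (R_{e_i})`, `j (R_{f_i})` normalises `U*` -/
theorem Us_conj_Y (hF : Flag Q n e f) {g : G} (hg : g * t = t * g)
    (he : ∀ i < n, ∀ x, polar Q (e i) x = 0 → g⁻¹ * j (tE Q (e i) x) * g ∈ Ru Q j (e i))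
    (hf : ∀ i < n, ∀ x, polar Q (f i) x = 0 → g⁻¹ * j (tE Q (f i) x) * g ∈ Ru Q j (f i))
    {x : G} (hx : x ∈ Us Q W e f n) : g * x * g⁻¹ ∈ Us Q W e f n := by
  obtain ⟨M, σ, A⟩ := exists_act D.toSit hg
  refine Us_conj_point hB D A (fun i hi => ?_) (fun i hi => ?_) hx
  · exact point_of_norm hB A D.inj (hF.hyp i hi).left (hF.hyp i hi).left_ne (he i hi)
  · exact point_of_norm hB A D.inj (hF.hyp i hi).right (hF.hyp i hi).right_ne (hf i hi)

end Layers

end Cfsg.Agent.OddHalf.Orth.Equiv
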