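import Cfsg.Agent.OddHalf.Orth.LinesTwo

/-!
# ODD D7, `K = Ω(V)`: the relations of the doubled long root groups, third part
(disjoint perpendicular lines commute; `W_m` normalises `V*_u` for `m ≤ u^⊥`)
-/

set_option autoImplicit false

namespace Cfsg.Agent.OddHalf.Orth.Lines

open QuadraticMap Cfsg.Agent.LieClassical.OrthCore Cfsg.Agent.LieClassical.OrthTrans
  Cfsg.Agent.ClassicalGeometry.OrthAutBasic Cfsg.Agent.ClassicalGeometry.OrthAutRoot Cfsg.Agent.OddHalf.Orth
  Cfsg.Agent.OddHalf.Orth.Face Cfsg.Agent.OddHalf.Orth.Star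

variable {F V : Type*} [Field F] [AddCommGroup V] [Module F V] {Q : QuadraticForm F V}
variable {G : Type*} [Group G] {t : G} {j : ↥(E Q) →* G} {W : V → V → Subgroup G}

theorem dis_coeff {u v a b : V} (h : Dis Q u v a b) {α β γ δ : F}
    (e : α • u + β • v + γ • a + δ • b = 0) : α = 0 ∧ β = 0 ∧ γ = 0 ∧ δ = 0 := by
  have hδ : δ = 0 := by
    by_contra hδ
    apply h.ind
    have h1 : b = δ⁻¹ • (δ • b) := by rw [smul_smul, inv_mul_cancel₀ hδ, one_smul]
    have h2 : δ • b = -(α • u + β • v + γ • a) := by rw [eq_neg_iff_add_eq_zero, add_comm]; exact e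
    rw [h1, h2]
    refine Submodule.smul_mem _ _ (Submodule.neg_mem _ ?_)
    refine Submodule.add_mem _ (Submodule.add_mem _ ?_ ?_) ?_ <;> refine Submodule.smul_mem _ _
      (Submodule.subset_span (by simp))
  rw [hδ, zero_smul, add_zero] at e
  obtain ⟨h1, h2, h3⟩ := h.uva.coeff e
  exact ⟨h1, h2, h3, hδ⟩

theorem dis_of_coeff {u v a b : V} (huv : Ln Q u v) (hab : Ln Q a b) (hua : polar Q u a = 0)
    (hub : polar Q u b = 0) (hva : polar Q v a = 0) (hvb : polar Q v b = 0)
    (h : ∀ α β γ δ : F, α • u + β • v + γ • a + δ • b = 0 → α = 0 ∧ β = 0 ∧ γ = 0 ∧ δ = 0) :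
    Dis Q u v a b where
  uva := by
    refine Ln3.of_coeff huv ⟨huv.qu, hab.qu, hua, huv.ne, ?_⟩ hva ?_
    · intro c hc
      have := (h (-c) 0 1 0 (by rw [hc]; module)).2.2.1
      exact one_ne_zero this
    · intro x y z e
      exact (h x y z 0 (by rw [zero_smul, add_zero, e])).2.2.1
  ab := hab
  ub := hub
  vb := hvb
  ind := by
    intro hm
    rw [Submodule.mem_span_insert] at hm
    obtain ⟨x, z, hz, e⟩ := hm
    obtain ⟨y, z', rfl⟩ := Submodule.mem_span_pair.1 hz
    have := (h x y z' (-1) (by rw [e]; module)).2.2.2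
    simp at this

theorem dis_symm {u v a b : V} (h : Dis Q u v a b) : Dis Q a b u v := by
  refine dis_of_coeff h.ab h.uva.uv h.uva.uw.perp' (by rw [polar_comm]; exact h.uva.perp)
    (by rw [polar_comm]; exact h.ub) (by rw [polar_comm]; exact h.vb) ?_
  intro α β γ δ e
  obtain ⟨h1, h2, h3, h4⟩ := dis_coeff h (α := γ) (β := δ) (γ := α) (δ := β) (by rw [← e]; module)
  exact ⟨h3, h4, h1, h2⟩

theorem mul_mul_t' {t f r : G} (h1 : t * r = r * t) (hrf : r * f = f * r) :
    f⁻¹ * (t * r) * f * (t * r) = ph t f * (r * r) := by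
  calc f⁻¹ * (t * r) * f * (t * r) = f⁻¹ * t * (r * f) * (t * r) := by group
    _ = f⁻¹ * t * f * (r * t) * r := by rw [hrf]; group
    _ = f⁻¹ * t * f * (t * r) * r := by rw [h1]
    _ = _ := by rw [ph_def]; group

theorem ln_left_add [CharP F 2] {u v : V} (h : Ln Q u v) (c : F) : Ln Q (u + c • v) v :=
  (ln_add h.symm c).symm

variable (D : Full Q t j W)
include D

/-- change of basis of a line -/
theorem W_basis [CharP F 2] {a b : V} (h : Ln Q a b) {α β γ δ : F} (hd : α * δ - β * γ ≠ 0) :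
    Ln Q (α • a + β • b) (γ • a + δ • b) ∧ W (α • a + β • b) (γ • a + δ • b) = W a b := by
  by_cases hα : α = 0
  · subst hα
    have hβ : β ≠ 0 := by rintro rfl; simp at hd
    have hγ : γ ≠ 0 := by rintro rfl; simp at hd
    have h1 : Ln Q b (γ • a + δ • b) := ln_add (h.symm.smul_right hγ) δ
    rw [zero_smul, zero_add]
    refine ⟨ln_smul_left h1 hβ, ?_⟩
    rw [W_left_smul D.toDbl h1 hβ, D.add δ (h.symm.smul_right hγ), D.smul h.symm hγ, D.swap h.symm]
  · have h1 : Ln Q (α • a + β • b) b := by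
      have := (ln_add (h.symm.smul_right hα) β).symm
      exact this
    have hε : (α * δ - β * γ) * α⁻¹ ≠ 0 := mul_ne_zero hd (inv_ne_zero hα)
    have e : γ • a + δ • b = ((α * δ - β * γ) * α⁻¹) • b + (γ * α⁻¹) • (α • a + β • b) := by
      have h1 : γ * α⁻¹ * α = γ := by rw [mul_assoc, inv_mul_cancel₀ hα, mul_one]
      have h2 : (α * δ - β * γ) * α⁻¹ + γ * α⁻¹ * β = δ := by field_simp; ring
      calc γ • a + δ • b = (γ * α⁻¹ * α) • a + ((α * δ - β * γ) * α⁻¹ + γ * α⁻¹ * β) • b := by rw [h1, h2]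
        _ = _ := by module
    rw [e]
    refine ⟨ln_add (h1.smul_right hε) _, ?_⟩
    rw [D.add _ (h1.smul_right hε), D.smul h1 hε, D.swap h1, D.add β (h.symm.smul_right hα), D.smul h.symm hα,
      D.swap h.symm]

/-- a line as a line through one of its points -/
theorem W_through [CharP F 2] {a b p : V} (h : Ln Q a b) (hp : p ∈ L F a b) (hp0 : p ≠ 0) :
    ∃ p', Ln Q p p' ∧ W a b = W p p' := by
  obtain ⟨α, β, rfl⟩ := mem_L.1 hp
  by_cases hα : α = 0
  · subst hα
    have hβ : β ≠ 0 := by rintro rfl; simp at hp0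
    obtain ⟨h1, h2⟩ := W_basis D h (α := 0) (β := β) (γ := 1) (δ := 0) (by simpa using hβ)
    exact ⟨_, h1, h2.symm⟩
  · obtain ⟨h1, h2⟩ := W_basis D h (α := α) (β := β) (γ := 0) (δ := 1) (by simpa using hα)
    exact ⟨_, h1, h2.symm⟩

section

variable [CharP F 2] [FiniteDimensional F V] {u v a b : V}

theorem c4_half (h : Dis Q u v a b) {f g : G} (hf : f ∈ W a b) (hg : g ∈ W u v) {γ δ : F}
    (hc : f⁻¹ * g⁻¹ * f * g = j (tE Q u (γ • v)) * j (tE Q a (δ • b))) : δ = 0 := by
  have hqu := h.uva.uv.qu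
  have hqa := h.ab.qu
  obtain ⟨y, hy1, hy2⟩ := exists_sep_sub D.kf.nondeg h.ind
  have y1 : polar Q u y = 0 := hy2 _ (Submodule.subset_span (by simp))
  have y2 : polar Q v y = 0 := hy2 _ (Submodule.subset_span (by simp))
  have y3 : polar Q a y = 0 := hy2 _ (Submodule.subset_span (by simp))
  obtain ⟨s, s1, s2, s3, s4, s5⟩ : ∃ s, Q s = 0 ∧ polar Q u s = 0 ∧ polar Q v s = 0 ∧ polar Q a s = 0 ∧
      polar Q s b = 1 := by
    refine ⟨y + Q y • b, ?_, ?_, ?_, ?_, ?_⟩
    · rw [Q_add, QuadraticMap.map_smul, h.ab.qw, polar_smul_right, polar_comm Q y b, hy1]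
      simp only [smul_eq_mul, mul_zero, add_zero, mul_one]
      exact CharTwo.add_self_eq_zero _
    · rw [polar_add_right, y1, polar_smul_right, h.ub]; simp
    · rw [polar_add_right, y2, polar_smul_right, h.vb]; simp
    · rw [polar_add_right, y3, polar_smul_right, h.ab.perp]; simp
    · rw [polar_add_left, polar_comm Q y b, hy1, polar_smul_left, polar_self2]; simp
  have hR : Face.Rel Q u s a b := by
    refine ⟨⟨hqu, s1, s2, h.uva.uv.ne, ?_⟩, h.ab, h.uva.uw, h.ub, by rw [polar_comm]; exact s4, s5⟩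
    intro c hc
    rw [hc, polar_smul_left, h.ub, smul_zero] at s5
    exact zero_ne_one s5
  have hn := c1 D hR hf 1
  rw [one_smul] at hn
  have cx : Commute (j (tE Q u s)) g := D.cR h.uva.uv hg s2
  have e1 : j (tE Q u s) * f * (j (tE Q u s))⁻¹ = f * (f⁻¹ * (j (tE Q u s) * f * (j (tE Q u s))⁻¹)) := by group
  have e2 : j (tE Q u s) * g * (j (tE Q u s))⁻¹ = g * 1 := by rw [cx.eq, mul_inv_cancel_right, mul_one]
  generalize hN : f⁻¹ * (j (tE Q u s) * f * (j (tE Q u s))⁻¹) = n at *
  have nf : Commute n f := D.ab (mem_Vs h.uva.uw.symm hn) (mem_Vs h.ab hf)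
  have ng : Commute n g := D.ab (mem_Vs h.uva.uw (D.swapW h.uva.uw.symm hn)) (mem_Vs h.uva.uv hg)
  have e3 := comm_central nf ng (Commute.one_left f) (Commute.one_left g) (Commute.one_right n)
  rw [← e1, ← e2] at e3
  have e4 : j (tE Q u s) * (f⁻¹ * g⁻¹ * f * g) * (j (tE Q u s))⁻¹ = f⁻¹ * g⁻¹ * f * g := by
    conv_rhs => rw [← e3]
    group
  rw [hc] at e4
  have e5 : j (tE Q u s) * (j (tE Q u (γ • v)) * j (tE Q a (δ • b))) * (j (tE Q u s))⁻¹ =
      (j (tE Q u s) * j (tE Q u (γ • v)) * (j (tE Q u s))⁻¹) *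
      (j (tE Q u s) * j (tE Q a (δ • b)) * (j (tE Q u s))⁻¹) := by group
  have su : T Q u s u = u := T_id hqu s2 (polar_self2 u) (by rw [polar_comm]; exact s2)
  have sv : T Q u s v = v := T_id hqu s2 h.uva.uv.perp (by rw [polar_comm]; exact s3)
  have sa : T Q u s a = a := T_id hqu s2 h.uva.uw.perp (by rw [polar_comm]; exact s4)
  have sb : T Q u s b = b + u := by rw [T_perp2 hqu s2 h.ub, s5, one_smul]
  rw [e5, D.rconj, D.rconj, coe_tE, su, map_smul, sv, sa, map_smul, sb] at e4
  have e6 := mul_left_cancel e4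
  have pb : polar Q a (δ • b) = 0 := by rw [polar_smul_right, h.ab.perp, smul_zero]
  have pbu : polar Q a (δ • (b + u)) = 0 := by
    rw [polar_smul_right, polar_add_right, h.ab.perp, h.uva.uw.perp']; simp
  obtain ⟨c, hc'⟩ := r_inj D.toDbl D.kf hqa h.ab.ne pbu pb e6
  have := (dis_coeff h (α := δ) (β := 0) (γ := c) (δ := 0) (by
    have : δ • (b + u) + c • a - δ • b = 0 := by rw [← hc', sub_self]
    rw [← this]; module)).1
  exact this

/-- (3b): disjoint perpendicular lines commute -/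
theorem c4 (h : Dis Q u v a b) {f g : G} (hf : f ∈ W a b) (hg : g ∈ W u v) : Commute f g := by
  have hqu := h.uva.uv.qu
  have hqv := h.uva.uv.qw
  have hqa := h.ab.qu
  have hqb := h.ab.qw
  have tt := D.tt
  have hua := h.uva.uw.perp
  have hau := h.uva.uw.perp'
  have hub := h.ub
  have hbu : polar Q b u = 0 := by rw [polar_comm]; exact h.ub
  have hva := h.uva.perp
  have hav : polar Q a v = 0 := by rw [polar_comm]; exact hva
  have hvb := h.vb
  have hbv : polar Q b v = 0 := by rw [polar_comm]; exact hvb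
  have hgv : g ∈ W v u := D.swapW h.uva.uv hg
  have hfb : f ∈ W b a := D.swapW h.ab hf
  have pv : ∀ c : F, polar Q u (c • v) = 0 := fun c => by rw [polar_smul_right, h.uva.uv.perp, smul_zero]
  have pb : ∀ d : F, polar Q a (d • b) = 0 := fun d => by rw [polar_smul_right, h.ab.perp, smul_zero]
  have kg : ∀ c : F, Commute (j (tE Q u (c • v))) g := fun c => D.cR h.uva.uv hg (pv c)
  have kf : ∀ c : F, Commute (j (tE Q u (c • v))) f := fun c =>
    D.cfix h.ab hf (T_id hqu (pv c) hua (by rw [polar_smul_left, hva, smul_zero]))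
      (T_id hqu (pv c) hub (by rw [polar_smul_left, hvb, smul_zero]))
  have mf : ∀ c : F, Commute (j (tE Q a (c • b))) f := fun c => D.cR h.ab hf (pb c)
  have mg : ∀ c : F, Commute (j (tE Q a (c • b))) g := fun c =>
    D.cfix h.uva.uv hg (T_id hqa (pb c) hau (by rw [polar_smul_left, hbu, smul_zero]))
      (T_id hqa (pb c) hav (by rw [polar_smul_left, hbv, smul_zero]))
  have km : ∀ c d : F, Commute (j (tE Q u (c • v))) (j (tE Q a (d • b))) := fun c d =>
    D.cfix h.ab (D.X_le d h.ab) (T_id hqu (pv c) hua (by rw [polar_smul_left, hva, smul_zero]))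
      (T_id hqu (pv c) hub (by rw [polar_smul_left, hvb, smul_zero]))
  have hph : ph t (f⁻¹ * g⁻¹ * f * g) = 1 := by
    obtain ⟨β, hβ⟩ := ph_W D.toDbl h.ab hf
    obtain ⟨γ, hγ⟩ := ph_W D.toDbl h.uva.uv hg
    have tf : t * f * t = f * ph t f := ph_eq tt
    have tg : t * g * t = g * ph t g := ph_eq tt
    rw [hβ] at tf
    rw [hγ] at tg
    have s1 : t * (f⁻¹ * g⁻¹ * f * g) * t = (t * f * t)⁻¹ * (t * g * t)⁻¹ * (t * f * t) * (t * g * t) := by
      rw [mul_inv_rev, mul_inv_rev, mul_inv_rev, mul_inv_rev, D.t_inv]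
      calc t * (f⁻¹ * g⁻¹ * f * g) * t = t * f⁻¹ * 1 * g⁻¹ * 1 * f * 1 * g * t := by group
        _ = t * f⁻¹ * (t * t) * g⁻¹ * (t * t) * f * (t * t) * g * t := by rw [tt]
        _ = _ := by group
    rw [tf, tg, comm_central (mf β) (mg β) (kf γ) (kg γ) (km γ β).symm] at s1
    rw [ph_def, s1, inv_mul_cancel]
  have hpt := (ph_eq_one tt).1 hph
  obtain ⟨M, σ, hM, hact⟩ := D.act _ hpt
  have list : ∀ {x y : V}, Commute (j (tE Q x y)) f → Commute (j (tE Q x y)) g →
      Commute (j (tE Q x y)) (f⁻¹ * g⁻¹ * f * g) := fun h3 h4 =>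
    ((h3.inv_right.mul_right h4.inv_right).mul_right h3).mul_right h4
  obtain ⟨γ, δ, hd⟩ := D.kf.cent4 hM h
    (fun x h1 h2 h3 => act_eq D hact hqu h1 (list
      (D.cfix h.ab hf (T_id hqu h1 hua (by rw [polar_comm]; exact h2)) (T_id hqu h1 hub (by rw [polar_comm]; exact h3)))
      (D.cR h.uva.uv hg h1)))
    (fun x h1 h2 h3 => act_eq D hact hqv h1 (list
      (D.cfix h.ab hf (T_id hqv h1 hva (by rw [polar_comm]; exact h2)) (T_id hqv h1 hvb (by rw [polar_comm]; exact h3)))
      (D.cR h.uva.uv.symm hgv h1)))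
    (fun x h1 h2 h3 => act_eq D hact hqa h1 (list
      (D.cR h.ab hf h1)
      (D.cfix h.uva.uv hg (T_id hqa h1 hau (by rw [polar_comm]; exact h2))
        (T_id hqa h1 hav (by rw [polar_comm]; exact h3)))))
    (fun x h1 h2 h3 => act_eq D hact hqb h1 (list
      (D.cR h.ab.symm hfb h1)
      (D.cfix h.uva.uv hg (T_id hqb h1 hbu (by rw [polar_comm]; exact h2))
        (T_id hqb h1 hbv (by rw [polar_comm]; exact h3)))))
  have hh := D.of_act hpt hact (k := tE Q u (γ • v) * tE Q a (δ • b)) hd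
  rw [map_mul] at hh
  have hc : f⁻¹ * g⁻¹ * f * g = j (tE Q u (γ • v)) * j (tE Q a (δ • b)) := by
    rcases hh with hh | hh
    · exact hh
    exfalso
    have htr : t * (j (tE Q u (γ • v)) * j (tE Q a (δ • b))) = (j (tE Q u (γ • v)) * j (tE Q a (δ • b))) * t := by
      rw [← map_mul]; exact D.tj _
    have hrf := ((kf γ).mul_left (mf δ)).eq
    have hrr : (j (tE Q u (γ • v)) * j (tE Q a (δ • b))) * (j (tE Q u (γ • v)) * j (tE Q a (δ • b))) = 1 := by
      have h1 : j (tE Q u (γ • v)) * j (tE Q u (γ • v)) = 1 := by rw [← map_mul, tE_mul_self hqu (pv _), map_one]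
      have h2 : j (tE Q a (δ • b)) * j (tE Q a (δ • b)) = 1 := by rw [← map_mul, tE_mul_self hqa (pb _), map_one]
      calc _ = j (tE Q u (γ • v)) * (j (tE Q a (δ • b)) * j (tE Q u (γ • v))) * j (tE Q a (δ • b)) := by group
        _ = (j (tE Q u (γ • v)) * j (tE Q u (γ • v))) * (j (tE Q a (δ • b)) * j (tE Q a (δ • b))) := by
            rw [← (km γ δ).eq]; group
        _ = 1 := by rw [h1, h2, one_mul]
    have h1 := mul_mul_t' htr hrf
    rw [hrr, mul_one, ← hh] at h1
    have h2 : f⁻¹ * (f⁻¹ * g⁻¹ * f * g) * f * (f⁻¹ * g⁻¹ * f * g) = 1 := by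
      have hff := sqW D h.ab hf
      calc f⁻¹ * (f⁻¹ * g⁻¹ * f * g) * f * (f⁻¹ * g⁻¹ * f * g) = (f * f)⁻¹ * g⁻¹ * (f * f) * g := by group
        _ = 1 := by rw [hff]; group
    rw [h2] at h1
    obtain ⟨e, he⟩ := D.fixW h.ab hf h1.symm
    have h3 : f⁻¹ * g⁻¹ * f * g = 1 := by
      have := (mg e).eq
      rw [← he] at this
      rw [mul_assoc, this]; group
    rw [h3] at hh
    apply D.tK ((tE Q u (γ • v) * tE Q a (δ • b))⁻¹)
    rw [map_inv, map_mul]
    exact (eq_inv_of_mul_eq_one_left hh.symm).symm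
  have hδ := c4_half D h hf hg hc
  have hγ := c4_half D (dis_symm h) hg hf (γ := δ) (δ := γ) (by
    have h1 : g⁻¹ * f⁻¹ * g * f = (f⁻¹ * g⁻¹ * f * g)⁻¹ := by group
    rw [h1, hc, mul_inv_rev, ← map_inv, ← map_inv, tE_inv hqu (pv _), tE_inv hqa (pb _)])
  rw [hδ, hγ, zero_smul, zero_smul, tE_zero_right, tE_zero_right, map_one, one_mul] at hc
  show f * g = g * f
  calc f * g = g * f * (f⁻¹ * g⁻¹ * f * g) := by group
    _ = g * f := by rw [hc, mul_one]

/-- (N): `W_m` normalises `V*_u` if `m ≤ u^⊥` -/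
theorem norm_gen (hu : Q u = 0) (hu0 : u ≠ 0) (h : Ln Q a b) (hua : polar Q u a = 0) (hub : polar Q u b = 0)
    {f : G} (hf : f ∈ W a b) {v : V} (hv : Ln Q u v) {g : G} (hg : g ∈ W u v) : f⁻¹ * g * f ∈ Vs Q W u := by
  have hgV := mem_Vs hv hg
  by_cases hum : u ∈ L F a b
  · obtain ⟨b', h1, h2⟩ := W_through D h hum hu0
    rw [h2] at hf
    have hfV := mem_Vs h1 hf
    exact mul_mem (mul_mem (inv_mem hfV) hgV) hfV
  have h3 : ∀ {x y z : F}, x • a + y • b + z • u = 0 → x = 0 ∧ y = 0 ∧ z = 0 := by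
    intro x y z e
    have hz : z = 0 := by
      by_contra hz
      apply hum
      rw [mem_L]
      refine ⟨-(z⁻¹ * x), -(z⁻¹ * y), ?_⟩
      have h1 : u = z⁻¹ • (z • u) := by rw [smul_smul, inv_mul_cancel₀ hz, one_smul]
      have h2 : z • u = -(x • a + y • b) := by rw [eq_neg_iff_add_eq_zero, add_comm]; exact e
      rw [h1, h2]
      module
    rw [hz, zero_smul, add_zero] at e
    obtain ⟨h1, h2⟩ := h.coeff e
    exact ⟨h1, h2, hz⟩
  have hcom : Commute f g → f⁻¹ * g * f ∈ Vs Q W u := by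
    intro hc
    rw [mul_assoc, ← hc.eq, inv_mul_cancel_left]
    exact hgV
  by_cases hva : polar Q v a = 0 ∧ polar Q v b = 0
  · obtain ⟨hva, hvb⟩ := hva
    by_cases hvm : v ∈ Submodule.span F ({u, a, b} : Set V)
    · rw [Submodule.mem_span_insert] at hvm
      obtain ⟨x, z, hz, e⟩ := hvm
      have hzL : z ∈ L F a b := hz
      have hz0 : z ≠ 0 := by
        rintro rfl
        exact hv.ind x (by rw [e, add_zero])
      obtain ⟨p', h1, h2⟩ := W_through D h hzL hz0
      have huz : Ln Q u z := by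
        have := ln_add hv (-x)
        have e2 : v + (-x) • u = z := by rw [e]; module
        rwa [e2] at this
      have e3 : W u v = W u z := by
        have := D.add (-x) hv
        have e2 : v + (-x) • u = z := by rw [e]; module
        rw [e2] at this
        exact this.symm
      rw [e3] at hg
      rw [h2] at hf
      exact hcom (D.ab (mem_Vs h1 hf) (mem_Vs huz.symm (D.swapW huz hg)))
    · have hD : Dis Q u v a b := by
        refine dis_of_coeff hv h hua hub hva hvb ?_
        intro x y z w e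
        have hy : y = 0 := by
          by_contra hy
          apply hvm
          have h1 : v = y⁻¹ • (y • v) := by rw [smul_smul, inv_mul_cancel₀ hy, one_smul]
          have h2 : y • v = -(x • u + z • a + w • b) := by
            rw [eq_neg_iff_add_eq_zero, ← e]; abel
          rw [h1, h2]
          refine Submodule.smul_mem _ _ (Submodule.neg_mem _ ?_)
          refine Submodule.add_mem _ (Submodule.add_mem _ ?_ ?_) ?_ <;> refine Submodule.smul_mem _ _
            (Submodule.subset_span (by simp))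
        rw [hy, zero_smul, add_zero] at e
        obtain ⟨h1, h2, h4⟩ := h3 (x := z) (y := w) (z := x) (by rw [← e]; abel)
        exact ⟨h4, hy, h1, h2⟩
      exact hcom (c4 D hD hf hg)
  · -- relation (c)
    obtain ⟨a', b', hab', hW, hva', hvb', hua', hub', hne⟩ : ∃ a' b', Ln Q a' b' ∧ W a b = W a' b' ∧
        polar Q v a' = 0 ∧ polar Q v b' = 1 ∧ polar Q u a' = 0 ∧ polar Q u b' = 0 ∧ ∀ c : F, a' ≠ c • u := by
      have hA : ∀ x y c : F, (x ≠ 0 ∨ y ≠ 0) → x • a + y • b ≠ c • u := by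
        intro x y c hxy e
        obtain ⟨h1, h2, -⟩ := h3 (x := x) (y := y) (z := -c) (by rw [e]; module)
        rcases hxy with h | h
        · exact h h1
        · exact h h2
      by_cases h0 : polar Q v a = 0
      · have h1 : polar Q v b ≠ 0 := fun h => hva ⟨h0, h⟩
        obtain ⟨l1, l2⟩ := W_basis D h (α := polar Q v b) (β := polar Q v a) (γ := 0) (δ := (polar Q v b)⁻¹)
          (by rw [mul_zero, sub_zero, mul_inv_cancel₀ h1]; exact one_ne_zero)
        refine ⟨_, _, l1, l2.symm, ?_, ?_, ?_, ?_, fun c => hA _ _ c (Or.inl h1)⟩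
        · rw [polar_add_right, polar_smul_right, polar_smul_right, h0]; simp
        · rw [polar_add_right, polar_smul_right, polar_smul_right]
          simp [h1]
        · rw [polar_add_right, polar_smul_right, polar_smul_right, hua, hub]; simp
        · rw [polar_add_right, polar_smul_right, polar_smul_right, hua, hub]; simp
      · obtain ⟨l1, l2⟩ := W_basis D h (α := polar Q v b) (β := polar Q v a) (γ := (polar Q v a)⁻¹) (δ := 0)
          (by rw [mul_zero, zero_sub, mul_inv_cancel₀ h0]; simp)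
        refine ⟨_, _, l1, l2.symm, ?_, ?_, ?_, ?_, fun c => hA _ _ c (Or.inr h0)⟩
        · rw [polar_add_right, polar_smul_right, polar_smul_right, smul_eq_mul, smul_eq_mul,
            mul_comm (polar Q v b)]
          exact CharTwo.add_self_eq_zero _
        · rw [polar_add_right, polar_smul_right, polar_smul_right]
          simp [h0]
        · rw [polar_add_right, polar_smul_right, polar_smul_right, hua, hub]; simp
        · rw [polar_add_right, polar_smul_right, polar_smul_right, hua, hub]; simp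
    rw [hW] at hf
    have huaL : Ln Q u a' := ⟨hu, hab'.qu, hua', hu0, hne⟩
    have hR : Face.Rel Q u v a' b' := ⟨hv, hab', huaL, hub', hva', hvb'⟩
    have h5 := mem_Vs huaL (D.swapW huaL.symm (c2 D hR hf hg))
    have e : f⁻¹ * g * f = ((f⁻¹ * g⁻¹ * f * g) * g⁻¹)⁻¹ := by group
    rw [e]
    exact inv_mem (mul_mem h5 (inv_mem hgV))

theorem norm_Vs (hu : Q u = 0) (hu0 : u ≠ 0) (h : Ln Q a b) (hua : polar Q u a = 0) (hub : polar Q u b = 0)
    {f : G} (hf : f ∈ W a b) {g : G} (hg : g ∈ Vs Q W u) : f⁻¹ * g * f ∈ Vs Q W u := by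
  rw [Vs] at hg
  induction hg using Subgroup.closure_induction with
  | mem w hw =>
    obtain ⟨v, hv, hw⟩ := hw
    exact norm_gen D hu hu0 h hua hub hf hv hw
  | one => rw [mul_one, inv_mul_cancel]; exact one_mem _
  | mul x y _ _ hx hy =>
    have e : f⁻¹ * (x * y) * f = (f⁻¹ * x * f) * (f⁻¹ * y * f) := by group
    rw [e]; exact mul_mem hx hy
  | inv x _ hx =>
    have e : f⁻¹ * x⁻¹ * f = (f⁻¹ * x * f)⁻¹ := by group
    rw [e]; exact inv_mem hx

/-- (N) in the form `W a b ≤ N(V*_u)` -/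
theorem W_le_norm (hu : Q u = 0) (hu0 : u ≠ 0) (h : Ln Q a b) (hua : polar Q u a = 0) (hub : polar Q u b = 0) :
    W a b ≤ Subgroup.normalizer (Vs Q W u : Set G) := by
  intro f hf
  rw [Subgroup.mem_normalizer_iff]
  intro g
  constructor
  · intro hg
    have := norm_Vs D hu hu0 h hua hub (inv_mem hf) hg
    rwa [inv_inv] at this
  · intro hg
    have := norm_Vs D hu hu0 h hua hub hf hg
    have e : f⁻¹ * (f * g * f⁻¹) * f = g := by group
    rwa [e] at this

end

end Cfsg.Agent.OddHalf.Orth.Lines
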