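import Cfsg.Agent.OddHalf.Orth.End
import Cfsg.Agent.OddHalf.Orth.LinesThree
import Cfsg.Agent.OddHalf.Orth.Equiv

/-!
# ODD D7, `K = Ω(V)`, outer part: the doubled unipotent group `Us = U*` (helper490)

`Us = B_0 B_1 … B_{n-1}`: a 2-group containing `U = (UK Q e f n).map j`, `C_Us(t) = U`, all involutions of `t Us` are
conjugate to `t`, `W = W (e 0) (e 1) ≤ Z(Us)`, `|W| = |X|²`. A subgroup of `C(t)` normalising all `V*_{e i}`, `V*_{f i}`
normalises `Us`.
-/

set_option autoImplicit false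
set_option linter.unusedSectionVars false

namespace Cfsg.Agent.OddHalf.Orth.OutDat

open QuadraticMap Cfsg.Agent.LieClassical.OrthCore Cfsg.Agent.LieClassical.OrthTrans
  Cfsg.Agent.ClassicalGeometry.OrthAutBasic Cfsg.Agent.ClassicalGeometry.OrthAutRoot
  Cfsg.Agent.ClassicalGeometry.OrthAutSylow Cfsg.Agent.OddHalf.Orth
  Cfsg.Agent.OddHalf.Orth.Face Cfsg.Agent.OddHalf.Orth.Star Cfsg.Agent.OddHalf.Orth.Lay
  Cfsg.Agent.OddHalf.Orth.FlagDef Cfsg.Agent.OddHalf.Orth.End Cfsg.Agent.OddHalf.Orth.Lines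

variable {F V : Type*} [Field F] [AddCommGroup V] [Module F V] {Q : QuadraticForm F V}
variable {G : Type*} [Group G] {t : G} {j : ↥(E Q) →* G} {W : V → V → Subgroup G}
variable {n : ℕ} {e f : ℕ → V}

open Cfsg.Agent.OddHalf.Orth.Equiv (Us)

/-- `U` -/
noncomputable def UU (Q : QuadraticForm F V) (j : ↥(E Q) →* G) (e f : ℕ → V) (n : ℕ) : Subgroup G :=
  (UK Q e f n).map j

theorem UU_eq (Q : QuadraticForm F V) (j : ↥(E Q) →* G) (e f : ℕ → V) (n : ℕ) :
    Grow2.W (fun i => (RK Q e f i).map j) n = UU Q j e f n := by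
  rw [Grow2.W, UU, UK, Subgroup.map_iSup]
  exact iSup_congr fun i => by rw [Subgroup.map_iSup]

/-- the output of `Lines.Full` as `Lay.Grow` -/
theorem grow_of [CharP F 2] [FiniteDimensional F V] (D : Full Q t j W) : Grow Q t W where
  notin hu hu0 := D.t_notin hu hu0
  ab _ _ hf hg := (D.ab hf hg).eq
  sq _ _ hf := sqVs D hf
  norm h hs hs0 hsu hsv hw hf := by
    have h1 := norm_Vs D hs hs0 h hsu hsv (inv_mem hw) hf
    rwa [inv_inv] at h1

section

variable (D : Dbl Q t j W)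
include D

/-- surjectivity of `φ` on a subgroup `A` of `V*_e` containing all `W e v`, `v` a singular vector of `S`,
`S` containing a hyperbolic pair -/
theorem exists_pair_gen {e f a b y : V} (h : Hyp Q e f) {A : Subgroup G} (hA : A ≤ Vs Q W e)
    {S : Submodule F V} (hS : ∀ v ∈ S, polar Q e v = 0 ∧ polar Q f v = 0)
    (hAW : ∀ v ∈ S, Q v = 0 → v ≠ 0 → Ln Q e v → W e v ≤ A) (hab : Hyp Q a b) (ha : a ∈ S) (hb : b ∈ S)
    (hy : y ∈ S) : ∃ c ∈ A, ph t c = j (tE Q e y) := by
  have sing : ∀ v ∈ S, Q v = 0 → ∃ c ∈ A, ph t c = j (tE Q e v) := by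
    intro v hv hqv
    obtain ⟨hve, hvf⟩ := hS v hv
    by_cases h0 : v = 0
    · subst h0
      refine ⟨1, one_mem _, ?_⟩
      rw [ph_def, inv_one, one_mul, mul_one, D.tt, tE_zero_right, map_one]
    · have hl : Ln Q e v := by
        refine Ln.symm ⟨hqv, h.left, by rw [polar_comm]; exact hve, h0, ?_⟩
        intro c hc
        have h1 := h.pair'
        rw [hc, polar_smul_right, hvf, smul_zero] at h1
        exact zero_ne_one h1
      obtain ⟨w, hw, e1⟩ := surj_W D hl 1
      rw [one_smul] at e1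
      exact ⟨w, hAW v hv hqv h0 hl hw, e1⟩
  have mulS : ∀ x y, x ∈ S → y ∈ S → (∃ c ∈ A, ph t c = j (tE Q e x)) → (∃ c ∈ A, ph t c = j (tE Q e y)) →
      ∃ c ∈ A, ph t c = j (tE Q e (x + y)) := by
    rintro x y hx hy ⟨c, hc, e1⟩ ⟨c', hc', e2⟩
    refine ⟨c * c', mul_mem hc hc', ?_⟩
    rw [Vs_ph_mul D h.left (hA hc) (hA hc'), e1, e2, D.rmul h.left (hS x hx).1 (hS y hy).1]
  set y' := Cfsg.Agent.LieClassical.OrthTrans.proj Q a b y with hy'
  have hy'S : y' ∈ S := by
    rw [hy', Cfsg.Agent.LieClassical.OrthTrans.proj]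
    exact Submodule.sub_mem _ (Submodule.sub_mem _ hy (Submodule.smul_mem _ _ ha)) (Submodule.smul_mem _ _ hb)
  have hay' : polar Q a y' = 0 := polar_proj_left hab y
  have hby' : polar Q b y' = 0 := polar_proj_right hab y
  have e1 : y = ((y' + a + (-Q y') • b) + (polar Q b y - 1) • a) + (polar Q a y + Q y') • b := by
    rw [hy', Cfsg.Agent.LieClassical.OrthTrans.proj]; module
  have m1 : y' + a + (-Q y') • b ∈ S := Submodule.add_mem _ (Submodule.add_mem _ hy'S ha) (Submodule.smul_mem _ _ hb)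
  have m2 : (polar Q b y - 1) • a ∈ S := Submodule.smul_mem _ _ ha
  have m3 : (polar Q a y + Q y') • b ∈ S := Submodule.smul_mem _ _ hb
  rw [e1]
  refine mulS _ _ (Submodule.add_mem _ m1 m2) m3 (mulS _ _ m1 m2 (sing _ m1 ?_) (sing _ m2 ?_)) (sing _ m3 ?_)
  · rw [Q_add, Q_add, QuadraticMap.map_smul, hab.left, hab.right, polar_add_left, polar_smul_right,
      polar_smul_right, hab.pair, polar_comm Q y' b, hby', polar_comm Q y' a, hay']
    simp
  · rw [QuadraticMap.map_smul, hab.left, smul_zero]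
  · rw [QuadraticMap.map_smul, hab.right, smul_zero]

end

/-- `Yv i` as a submodule -/
def YS (Q : QuadraticForm F V) (e f : ℕ → V) (i : ℕ) : Submodule F V where
  carrier := Yv Q e f i
  add_mem' := fun hx hy => Yv_add hx hy
  zero_mem' := fun _ _ => ⟨polar_zero_right _ _, polar_zero_right _ _⟩
  smul_mem' := fun c _ hx => Yv_smul c hx

theorem mem_YS {i : ℕ} {y : V} : y ∈ YS Q e f i ↔ y ∈ Yv Q e f i := Iff.rfl

section main

variable [CharP F 2] [FiniteDimensional F V] (D : Full Q t j W)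
include D

/-- elements of `K` fixing `e_0`, `e_1` centralise `W` -/
theorem comm_W01 (hF : Flag Q n e f) (hn : 3 ≤ n) {k : ↥(E Q)} (h0 : (k : V ≃ₗ[F] V) (e 0) = e 0)
    (h1 : (k : V ≃ₗ[F] V) (e 1) = e 1) {w : G} (hw : w ∈ W (e 0) (e 1)) : Commute (j k) w := by
  have hl : Ln Q (e 0) (e 1) := by
    refine ⟨(hF.hyp 0 (by omega)).left, (hF.hyp 1 (by omega)).left, hF.ee 0 1 (by omega) (by omega) (by omega),
      (hF.hyp 0 (by omega)).left_ne, ?_⟩
    intro c hc
    have h2 := (hF.hyp 1 (by omega)).pair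
    rw [hc, polar_smul_left, hF.ef 0 1 (by omega) (by omega) (by omega), smul_zero] at h2
    exact zero_ne_one h2
  refine D.cent hl hw ?_
  have h3 := tE_conj (Q := Q) k (e 0) (e 1)
  rw [h0, h1] at h3
  exact mul_inv_eq_iff_eq_mul.1 h3

theorem ln01 (hF : Flag Q n e f) (hn : 3 ≤ n) : Ln Q (e 0) (e 1) := by
  refine ⟨(hF.hyp 0 (by omega)).left, (hF.hyp 1 (by omega)).left, hF.ee 0 1 (by omega) (by omega) (by omega),
    (hF.hyp 0 (by omega)).left_ne, ?_⟩
  intro c hc
  have h2 := (hF.hyp 1 (by omega)).pair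
  rw [hc, polar_smul_left, hF.ef 0 1 (by omega) (by omega) (by omega), smul_zero] at h2
  exact zero_ne_one h2

/-- the line `e_0, e_1` and the line `e_i, v` -/
theorem dis01 (hF : Flag Q n e f) (hn : 3 ≤ n) {i : ℕ} (hi : i < n) (hi2 : 2 ≤ i) {v : V} (hv : Q v = 0)
    (hv0 : v ≠ 0) (hY : v ∈ Yv Q e f i) : Dis Q (e i) v (e 0) (e 1) := by
  have h0 := hF.hyp 0 (by omega)
  have h1 := hF.hyp 1 (by omega)
  have hI := hF.hyp i hi
  have hln : Ln Q (e i) v := by
    refine Ln.symm ⟨hv, hI.left, by rw [polar_comm]; exact (hY i le_rfl).1, hv0, ?_⟩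
    intro c hc
    have h2 := hI.pair'
    rw [hc, polar_smul_right, (hY i le_rfl).2, smul_zero] at h2
    exact zero_ne_one h2
  refine dis_of_coeff hln (ln01 D hF hn) (hF.ee i 0 hi (by omega) (by omega)) (hF.ee i 1 hi (by omega) (by omega))
    (by rw [polar_comm]; exact (hY 0 (by omega)).1) (by rw [polar_comm]; exact (hY 1 (by omega)).1) ?_
  intro α β γ δ he
  have k0 := congrArg (polar Q (f 0)) he
  have k1 := congrArg (polar Q (f 1)) he
  have kI := congrArg (polar Q (f i)) he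
  simp only [polar_add_right, polar_smul_right, polar_zero_right, smul_eq_mul] at k0 k1 kI
  rw [polar_comm Q (f 0) (e i), hF.ef i 0 hi (by omega) (by omega), (hY 0 (by omega)).2, h0.pair',
    polar_comm Q (f 0) (e 1), hF.ef 1 0 (by omega) (by omega) (by omega)] at k0
  rw [polar_comm Q (f 1) (e i), hF.ef i 1 hi (by omega) (by omega), (hY 1 (by omega)).2, h1.pair',
    polar_comm Q (f 1) (e 0), hF.ef 0 1 (by omega) (by omega) (by omega)] at k1
  rw [hI.pair', (hY i le_rfl).2, polar_comm Q (f i) (e 0), hF.ef 0 i (by omega) hi (by omega),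
    polar_comm Q (f i) (e 1), hF.ef 1 i (by omega) hi (by omega)] at kI
  have g0 : γ = 0 := by simpa using k0
  have d0 : δ = 0 := by simpa using k1
  have a0 : α = 0 := by simpa using kI
  rw [g0, d0, a0] at he
  have hb : β • v = 0 := by simpa using he
  exact ⟨a0, (smul_eq_zero.1 hb).resolve_right hv0, g0, d0⟩

/-- every layer centralises `W` -/
theorem comm_layer [Finite F] (hB : Big Q) (hF : Flag Q n e f) (hn : 3 ≤ n) (hd : HasDelta Q n e f) {i : ℕ}
    (hi : i < n) {b w : G} (hb : b ∈ B Q W (e i) (HH e f i)) (hw : w ∈ W (e 0) (e 1)) : Commute w b := by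
  have hG := grow_of D
  have hln := ln01 D hF hn
  have hfe := hF.hyp i hi
  -- the fixed points
  have hR : ∀ k ∈ RK Q e f i, 2 ≤ i → Commute w (j k) := by
    intro k hk h2
    obtain ⟨y, hy, rfl⟩ := (mem_RK hF hi).1 hk
    refine (comm_W01 D hF hn ?_ ?_ hw).symm
    · rw [coe_tE]
      exact T_fix (by rw [polar_comm]; exact hF.ee 0 i (by omega) hi (by omega))
        (by rw [polar_comm]; exact (hy 0 (by omega)).1)
    · rw [coe_tE]
      exact T_fix (by rw [polar_comm]; exact hF.ee 1 i (by omega) hi (by omega))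
        (by rw [polar_comm]; exact (hy 1 (by omega)).1)
  -- `φ b`
  have hph : ∃ y ∈ Yv Q e f i, ph t b = j (tE Q (e i) y) := by
    have h1 : t * b * t ∈ B Q W (e i) (HH e f i) := B_t D.toDbl D.kf hfe.left hfe.left_ne
      (fun s hs => ⟨(HH_facts hF hi s hs).1, (HH_facts hF hi s hs).2.1⟩) hb
    have h2 : ph t b ∈ B Q W (e i) (HH e f i) := mul_mem (inv_mem hb) h1
    have h3 : ph t b ∈ B Q W (e i) (HH e f i) ⊓ Subgroup.centralizer {t} := by
      refine Subgroup.mem_inf.2 ⟨h2, ?_⟩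
      rw [Subgroup.mem_centralizer_singleton_iff]
      exact (Ru_t D.toDbl (Vs_ph D.toDbl hfe.left (mem_B.1 hb).1)).symm
    rw [fix_iff D.toDbl hB D.kf hG hF hi] at h3
    obtain ⟨k, hk, hk2⟩ := h3
    obtain ⟨y, hy, rfl⟩ := (mem_RK hF hi).1 hk
    exact ⟨y, hy, hk2.symm⟩
  -- reduction: one preimage commuting with `w`
  have red : 2 ≤ i → (∀ y ∈ Yv Q e f i, ∃ c ∈ B Q W (e i) (HH e f i), ph t c = j (tE Q (e i) y) ∧ Commute w c) →
      Commute w b := by
    intro h2 H
    obtain ⟨y, hy, hy2⟩ := hph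
    obtain ⟨c, hc, hc1, hc2⟩ := H y hy
    have h3 : ph t (c⁻¹ * b) = 1 := by
      rw [Vs_ph_mul D.toDbl hfe.left (inv_mem (mem_B.1 hc).1) (mem_B.1 hb).1,
        Vs_ph_inv D.toDbl hfe.left (mem_B.1 hc).1, hc1, hy2, inv_mul_cancel]
    have h4 : c⁻¹ * b ∈ B Q W (e i) (HH e f i) ⊓ Subgroup.centralizer {t} := by
      refine Subgroup.mem_inf.2 ⟨mul_mem (inv_mem hc) hb, ?_⟩
      rw [Subgroup.mem_centralizer_singleton_iff]
      exact (ph_eq_one D.tt).1 h3
    rw [fix_iff D.toDbl hB D.kf hG hF hi] at h4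
    obtain ⟨k, hk, hk2⟩ := h4
    have h5 := hR k hk h2
    rw [hk2] at h5
    have h6 := hc2.mul_right h5
    rwa [mul_inv_cancel_left] at h6
  rcases Nat.lt_or_ge i 2 with h2 | h2
  · -- `i = 0, 1`
    have h3 : i = 0 ∨ i = 1 := by omega
    rcases h3 with rfl | rfl
    · exact D.ab (mem_Vs hln hw) (mem_B.1 hb).1
    · exact D.ab (mem_Vs hln.symm (D.swapW hln hw)) (mem_B.1 hb).1
  · rcases Nat.lt_or_ge (i + 1) n with h1 | h1
    · -- there is a hyperbolic pair
      apply red h2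
      intro y hy
      obtain ⟨c, hc, hc1⟩ := exists_pair_gen D.toDbl (y := y) hfe
        (A := B Q W (e i) (HH e f i) ⊓ Subgroup.centralizer {w}) (S := YS Q e f i)
        (fun x hx => (mem_B.1 (Subgroup.mem_inf.1 hx).1).1) (fun v hv => hv i le_rfl) (by
          intro v hv hqv hv0 hl g hg
          refine Subgroup.mem_inf.2 ⟨?_, ?_⟩
          · refine W_mem_B hG hl (fun s hs => ?_) hg
            obtain ⟨s1, s2, s3, -, -⟩ := HH_facts hF hi s hs
            refine ⟨s1, s2, s3, ?_⟩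
            obtain ⟨k, hk, rfl | rfl⟩ := hs
            · exact (hv k hk.le).1
            · exact (hv k hk.le).2
          · rw [Subgroup.mem_centralizer_singleton_iff]
            exact (c4 D (dis01 D hF hn hi h2 hqv hv0 hv) hw hg).symm.eq)
        (hF.hyp (i + 1) h1)
        (fun k hk => ⟨hF.ee _ _ (by omega) h1 (by omega), by
          rw [polar_comm]; exact hF.ef _ _ h1 (by omega) (by omega)⟩)
        (fun k hk => ⟨hF.ef _ _ (by omega) h1 (by omega), hF.ff _ _ (by omega) h1 (by omega)⟩) hy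
      obtain ⟨hc2, hc3⟩ := Subgroup.mem_inf.1 hc
      exact ⟨c, hc2, hc1, (Subgroup.mem_centralizer_singleton_iff.1 hc3).symm⟩
    · -- the last layer
      have hin : i = n - 1 := by omega
      apply red h2
      intro y hy
      obtain ⟨d, hd1, hd2⟩ := hd
      obtain ⟨z, hz, rfl⟩ := hd2 y (by rw [← hin]; exact hy)
      rw [← hin] at hz
      obtain ⟨b', hb', hb1⟩ := exists_c D.toDbl D.kf hG hF hn ⟨d, hd1, hd2⟩ hi hz
      have hde : (d : V ≃ₗ[F] V) (e i) = e i := (hd1 i hi).1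
      have hdb : j d * b' * (j d)⁻¹ ∈ B Q W (e i) (HH e f i) := by
        rw [mem_B]
        constructor
        · have := Vs_conj D.toDbl d (mem_B.1 hb').1
          rwa [hde] at this
        · rintro s ⟨k, hk, hs⟩
          have hds : (d : V ≃ₗ[F] V) s = s := by
            rcases hs with rfl | rfl
            · exact (hd1 k (by omega)).1
            · exact (hd1 k (by omega)).2
          have h5 := k_norm (j := j) D.toDbl hds
          exact mul_mem (mul_mem h5 ((mem_B.1 hb').2 s ⟨k, hk, hs⟩)) (inv_mem h5)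
      have hpd : polar Q (e i) ((d : V ≃ₗ[F] V) z) = 0 := by
        have := polar_map' d (e i) z
        rw [hde] at this
        rw [this, (hz i le_rfl).1]
      refine ⟨b'⁻¹ * (j d * b' * (j d)⁻¹), mul_mem (inv_mem hb') hdb, ?_, ?_⟩
      · rw [Vs_ph_mul D.toDbl hfe.left (inv_mem (mem_B.1 hb').1) (mem_B.1 hdb).1,
          Vs_ph_inv D.toDbl hfe.left (mem_B.1 hb').1, ph_conj (D.tj d), hb1, D.rconj, hde, ← map_inv,
          tE_inv hfe.left (hz i le_rfl).1, ← map_mul, tE_mul hfe.left (hz i le_rfl).1 hpd]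
        congr 2
        rw [sub_eq' (F := F), add_comm]
      · -- `b'` normalises `W`, `d` centralises it
        have hn0 := (mem_B.1 hb').2 (e 0) ⟨0, by omega, Or.inl rfl⟩
        have hn1 := (mem_B.1 hb').2 (e 1) ⟨1, by omega, Or.inl rfl⟩
        -- `V*_{e0} ∩ V*_{e1} = W`
        have hint : ∀ x, x ∈ Vs Q W (e 0) → x ∈ Vs Q W (e 1) → x ∈ W (e 0) (e 1) := by
          intro x hx0 hx1
          have he0 := hF.hyp 0 (by omega)
          have he1 := hF.hyp 1 (by omega)
          have key : ∀ r, r ∈ Ru Q j (e 0) → r ∈ Ru Q j (e 1) → ∃ c : F, r = j (tE Q (e 0) (c • e 1)) := by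
            rintro r ⟨y0, hy0, rfl⟩ ⟨y1, hy1, h4⟩
            have h5 := D.inj h4
            have h6 : T Q (e 0) y0 = T Q (e 1) y1 := congrArg Subtype.val h5
            -- evaluate at `f 0`
            have h7 : T Q (e 0) y0 (f 0) = T Q (e 1) y1 (f 0) := by rw [h6]
            rw [T_apply2 he0.left hy0, T_apply2 he1.left hy1, he0.pair, hF.ef 1 0 (by omega) (by omega) (by omega)] at h7
            -- y0 = a e0 + b e1
            have h8 : y0 = (polar Q y1 (f 0)) • e 1 + (polar Q y0 (f 0) + Q y0) • e 0 := by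
              have h9 : f 0 + (1 : F) • y0 + (polar Q y0 (f 0) + Q y0 * 1) • e 0 =
                  f 0 + (0 : F) • y1 + (polar Q y1 (f 0) + Q y1 * 0) • e 1 := h7
              have h10 : y0 + (polar Q y0 (f 0) + Q y0) • e 0 = (polar Q y1 (f 0)) • e 1 := by
                have h11 : f 0 + (1 : F) • y0 + (polar Q y0 (f 0) + Q y0 * 1) • e 0 - f 0 =
                    f 0 + (0 : F) • y1 + (polar Q y1 (f 0) + Q y1 * 0) • e 1 - f 0 := by rw [h9]
                have e1 : f 0 + (1 : F) • y0 + (polar Q y0 (f 0) + Q y0 * 1) • e 0 - f 0 =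
                    y0 + (polar Q y0 (f 0) + Q y0) • e 0 := by module
                have e2 : f 0 + (0 : F) • y1 + (polar Q y1 (f 0) + Q y1 * 0) • e 1 - f 0 =
                    (polar Q y1 (f 0)) • e 1 := by module
                rwa [e1, e2] at h11
              rw [← h10, add_assoc, ← add_smul, CharTwo.add_self_eq_zero, zero_smul, add_zero]
            refine ⟨polar Q y1 (f 0), ?_⟩
            rw [h8]
            rw [tE_add_smul he0.left (by rw [polar_smul_right, hln.perp, smul_zero])]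
          obtain ⟨c, hc⟩ := key _ (Vs_ph D.toDbl he0.left hx0) (Vs_ph D.toDbl he1.left hx1)
          obtain ⟨w1, hw1, hw2⟩ := surj_W D.toDbl hln c
          have h5 : ph t (w1⁻¹ * x) = 1 := by
            rw [Vs_ph_mul D.toDbl he0.left (inv_mem (mem_Vs hln hw1)) hx0,
              Vs_ph_inv D.toDbl he0.left (mem_Vs hln hw1), hw2, hc, inv_mul_cancel]
          have m0 : w1⁻¹ * x ∈ Vs Q W (e 0) := mul_mem (inv_mem (mem_Vs hln hw1)) hx0
          have m1 : w1⁻¹ * x ∈ Vs Q W (e 1) :=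
            mul_mem (inv_mem (mem_Vs hln.symm (D.swapW hln hw1))) hx1
          obtain ⟨c', hc'⟩ := key _ (D.fixR he0.left he0.left_ne m0 h5) (D.fixR he1.left he1.left_ne m1 h5)
          have h6 : w1⁻¹ * x ∈ W (e 0) (e 1) := by
            rw [hc']; exact D.X_le c' hln
          have := mul_mem hw1 h6
          rwa [mul_inv_cancel_left] at this
        have hw0' : b' * w * b'⁻¹ ∈ W (e 0) (e 1) := hint _ (norm_conj hn0 (mem_Vs hln hw))
          (norm_conj hn1 (mem_Vs hln.symm (D.swapW hln hw)))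
        have c1 : Commute (j d) w := comm_W01 D hF hn (hd1 0 (by omega)).1 (hd1 1 (by omega)).1 hw
        have c2 : Commute (j d) (b' * w * b'⁻¹) := comm_W01 D hF hn (hd1 0 (by omega)).1 (hd1 1 (by omega)).1 hw0'
        show w * (b'⁻¹ * (j d * b' * (j d)⁻¹)) = b'⁻¹ * (j d * b' * (j d)⁻¹) * w
        calc w * (b'⁻¹ * (j d * b' * (j d)⁻¹)) = b'⁻¹ * ((b' * w * b'⁻¹) * j d) * b' * (j d)⁻¹ := by group
          _ = b'⁻¹ * (j d * (b' * w * b'⁻¹)) * b' * (j d)⁻¹ := by rw [c2.eq]
          _ = b'⁻¹ * (j d * b') * (w * (j d)⁻¹) := by group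
          _ = b'⁻¹ * (j d * b') * ((j d)⁻¹ * w) := by rw [c1.inv_left.eq]
          _ = b'⁻¹ * (j d * b' * (j d)⁻¹) * w := by group

/-- `W ≤ Z(U*)` -/
theorem comm_Us [Finite F] (hB : Big Q) (hF : Flag Q n e f) (hn : 3 ≤ n) (hd : HasDelta Q n e f) {w x : G}
    (hw : w ∈ W (e 0) (e 1)) (hx : x ∈ Us Q W e f n) : w * x = x * w := by
  have h1 : Us Q W e f n ≤ Subgroup.centralizer {w} := by
    refine iSup₂_le fun i hi b hb => ?_
    rw [Subgroup.mem_centralizer_singleton_iff]
    exact (comm_layer D hB hF hn hd hi hb hw).symm.eq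
  exact (Subgroup.mem_centralizer_singleton_iff.1 (h1 hx)).symm

/-- `W ≤ U*` -/
theorem W_le_Us (hF : Flag Q n e f) (hn : 3 ≤ n) : W (e 0) (e 1) ≤ Us Q W e f n := by
  intro w hw
  refine Grow2.le_W _ (show 0 < n by omega) ?_
  exact W_mem_B (grow_of D) (ln01 D hF hn) (fun s hs => by
    obtain ⟨k, hk, -⟩ := hs
    exact absurd hk (Nat.not_lt_zero k)) hw

theorem UU_le [Finite F] (hB : Big Q) (hF : Flag Q n e f) (hn : 3 ≤ n) (hd : HasDelta Q n e f) :
    UU Q j e f n ≤ Us Q W e f n := by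
  rw [← UU_eq]
  exact (dbl D.toDbl hB D.kf (grow_of D) hF hn hd).U_le le_rfl

/-- `C_{U*}(t) = U` -/
theorem mem_UU [Finite F] (hB : Big Q) (hF : Flag Q n e f) (hn : 3 ≤ n) (hd : HasDelta Q n e f) {x : G}
    (hx : x ∈ Us Q W e f n) (h : x * t = t * x) : x ∈ UU Q j e f n := by
  rw [← UU_eq]
  refine ((dbl D.toDbl hB D.kf (grow_of D) hF hn hd).mem_U_iff le_rfl).2 ⟨hx, ?_⟩
  rw [← h, mul_assoc, D.tt, mul_one]

/-- every involution of `t U*` is conjugate to `t` -/
theorem exists_conj [Finite F] (hB : Big Q) (hF : Flag Q n e f) (hn : 3 ≤ n) (hd : HasDelta Q n e f) {x : G}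
    (hx : x ∈ Us Q W e f n) (h : t * x * (t * x) = 1) : ∃ y ∈ Us Q W e f n, y * t * y⁻¹ = t * x := by
  obtain ⟨c, hc, e1⟩ := (dbl D.toDbl hB D.kf (grow_of D) hF hn hd).exists_conj hx h
  exact ⟨c, hc, e1.symm⟩

/-- `U*` is a 2-group -/
theorem pgroup_Us [Finite G] [Finite F] (hB : Big Q) (hF : Flag Q n e f) (hn : 3 ≤ n) (hd : HasDelta Q n e f) :
    IsPGroup 2 (Us Q W e f n) := by
  have hD := dbl D.toDbl hB D.kf (grow_of D) hF hn hd
  have : Fact (Nat.Prime 2) := ⟨Nat.prime_two⟩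
  have key : ∀ k ≤ n, IsPGroup 2 (Grow2.W (fun i => B Q W (e i) (HH e f i)) k) := by
    intro k
    induction k with
    | zero =>
      intro _
      rw [Grow2.W_zero]
      exact IsPGroup.of_bot
    | succ k ih =>
      intro hk
      rw [Grow2.W_succ]
      refine (ih (by omega)).to_sup_of_normal_left' ?_ ?_
      · rintro ⟨x, hx⟩
        refine ⟨1, Subtype.ext ?_⟩
        show x ^ (2 ^ 1) = 1
        rw [pow_one, pow_two]
        exact hD.sq k (by omega) x hx
      · intro x hx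
        exact Lay.mem_norm (fun y hy => hD.normal rfl (by omega) hx hy) (fun y hy => by
          have := hD.normal rfl (by omega) (inv_mem hx) hy
          rwa [inv_inv] at this)
  exact key n le_rfl

end main

/-- `X` -/
noncomputable def XX (Q : QuadraticForm F V) (j : ↥(E Q) →* G) (u v : V) : Subgroup G :=
  Subgroup.closure {g | ∃ c : F, g = j (tE Q u (c • v))}

theorem mem_XX [CharP F 2] (j : ↥(E Q) →* G) {u v : V} (h : Ln Q u v) {g : G} :
    g ∈ XX Q j u v ↔ ∃ c : F, g = j (tE Q u (c • v)) := by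
  have p : ∀ c : F, polar Q u (c • v) = 0 := fun c => by rw [polar_smul_right, h.perp, smul_zero]
  constructor
  · intro hg
    rw [XX] at hg
    induction hg using Subgroup.closure_induction with
    | mem x hx => exact hx
    | one => exact ⟨0, by rw [zero_smul, tE_zero_right, map_one]⟩
    | mul x y _ _ hx hy =>
      obtain ⟨c, rfl⟩ := hx
      obtain ⟨d, rfl⟩ := hy
      exact ⟨c + d, by rw [← map_mul, tE_mul h.qu (p c) (p d), add_smul]⟩
    | inv x _ hx =>
      obtain ⟨c, rfl⟩ := hx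
      exact ⟨c, by rw [← map_inv, tE_inv h.qu (p c)]⟩
  · exact fun h => Subgroup.subset_closure h

section card

variable [CharP F 2] (D : Dbl Q t j W)
include D

/-- `|W| = |X|²` -/
theorem card_W [Finite G] (hK : KFacts Q) {u v : V} (h : Ln Q u v) :
    Nat.card (W u v) = Nat.card (XX Q j u v) ^ 2 := by
  classical
  -- the homomorphism `φ : W → X`
  have hW := D.toSit
  let φ : W u v →* XX Q j u v :=
    { toFun := fun w => ⟨ph t w, (mem_XX j h).2 (D.phi h w.2)⟩
      map_one' := Subtype.ext (by show ph t 1 = 1; rw [ph_def, inv_one, one_mul, mul_one, D.tt])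
      map_mul' := fun a b => Subtype.ext (Vs_ph_mul D h.qu (mem_Vs h a.2) (mem_Vs h b.2)) }
  have hφ : ∀ w : W u v, (φ w : G) = ph t w := fun w => rfl
  have hsurj : Function.Surjective φ := by
    rintro ⟨x, hx⟩
    obtain ⟨c, rfl⟩ := (mem_XX j h).1 hx
    obtain ⟨w, hw, e1⟩ := D.surj c h
    exact ⟨⟨w, hw⟩, Subtype.ext e1⟩
  have hker : Nat.card φ.ker = Nat.card (XX Q j u v) := by
    refine Nat.card_congr ⟨fun w => ⟨w.1.1, ?_⟩, fun x => ⟨⟨x.1, ?_⟩, ?_⟩, fun _ => rfl, fun _ => rfl⟩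
    · have h1 : ph t w.1.1 = 1 := congrArg Subtype.val (MonoidHom.mem_ker.1 w.2)
      obtain ⟨c, hc⟩ := D.fix h w.1.2 ((ph_eq_one D.tt).1 h1)
      exact (mem_XX j h).2 ⟨c, hc⟩
    · obtain ⟨c, hc⟩ := (mem_XX j h).1 x.2
      rw [hc]
      exact D.X_le c h
    · rw [MonoidHom.mem_ker]
      apply Subtype.ext
      show ph t x.1 = 1
      obtain ⟨c, hc⟩ := (mem_XX j h).1 x.2
      rw [hc]
      exact (ph_eq_one D.tt).2 (D.tj _).symm
  have h1 := Subgroup.card_eq_card_quotient_mul_card_subgroup φ.ker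
  rw [hker, Nat.card_congr (QuotientGroup.quotientKerEquivOfSurjective φ hsurj).toEquiv] at h1
  rw [h1, pow_two]

theorem XX_ne (hK : KFacts Q) {u v : V} (h : Ln Q u v) : XX Q j u v ≠ ⊥ := by
  intro h0
  have h1 : j (tE Q u ((1 : F) • v)) ∈ XX Q j u v := (mem_XX j h).2 ⟨1, rfl⟩
  rw [h0, Subgroup.mem_bot, one_smul] at h1
  have h2 : j (tE Q u v) = j (tE Q u 0) := by rw [h1, tE_zero_right, map_one]
  obtain ⟨c, hc⟩ := r_inj D hK h.qu h.ne h.perp (polar_zero_right _ _) h2
  exact h.ind (-c) (by rw [neg_smul, eq_neg_iff_add_eq_zero]; exact hc.symm)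

end card

end Cfsg.Agent.OddHalf.Orth.OutDat
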