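import Cfsg.Agent.OddHalf.Orth.KPl
import Cfsg.Agent.OddHalf.Orth.FlagSyl
import Cfsg.Agent.OddHalf.D7Out.OddGen
import Cfsg.Agent.OddHalf.D7Out.TwClaim

/-!
# ODD D7, `K = Ω(V)`: the field `f3` of `TwEnd.Dat` for the class `OddGen` (helper552; outer 2-part, piece O9)

`root_mem`: the long root elements of `U` lie in `P0 OddGen K U`.
`norm_range`: `C(t)` normalises `j.range`.
`f3_O`: an element of `C(t)` centralising `P0` lies in `⟨t⟩ X_⟨e0,e1⟩`.
-/

set_option autoImplicit false

namespace Cfsg.Agent.OddHalf.Orth.PZero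

open QuadraticMap Cfsg.Agent.LieClassical.OrthCore Cfsg.Agent.LieClassical.OrthTrans
  Cfsg.Agent.LieClassical.OrthSimple Cfsg.Agent.ClassicalGeometry.OrthAutBasic
  Cfsg.Agent.ClassicalGeometry.OrthAutRoot Cfsg.Agent.OddHalf.Orth Cfsg.Agent.OddHalf.Orth.Face
  Cfsg.Agent.OddHalf.Orth.FlagDef
open Cfsg.Agent.OddHalf.D7Out.OddGen (OddGen oddGen_closure)

variable {F V : Type*} [Field F] [AddCommGroup V] [Module F V] {Q : QuadraticForm F V}

theorem P_oddGen {u v : V} {hu : Q u = 0} {huv : polar Q u v = 0} : OddGen (P Q u v hu huv) :=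
  oddGen_closure fun _ h => h.2

variable {G : Type*} [Group G] {t : G} {j : ↥(E Q) →* G}

/-- `C(t)` normalises `K`. -/
theorem norm_range (S : Sit Q t j) (c : G) (hc : c * t = t * c) : ∀ k ∈ j.range, c * k * c⁻¹ ∈ j.range := by
  obtain ⟨M, σ, -, hM⟩ := S.act c hc
  have h1 : (j.range.comap (MulAut.conj c).toMonoidHom).comap j = ⊤ := by
    apply closure_tE
    intro u x hu hx
    show c * j (tE Q u x) * c⁻¹ ∈ j.range
    rw [hM u x hu hx]
    exact ⟨_, rfl⟩
  rintro _ ⟨k, rfl⟩
  have h2 : k ∈ (j.range.comap (MulAut.conj c).toMonoidHom).comap j := by rw [h1]; trivial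
  exact h2

section Two

variable [CharP F 2]

/-- The long root elements of `U` lie in `P0`. -/
theorem root_mem [Finite F] (hP : Par Q) {u v : V} (h : Ln Q u v) {U : Subgroup G} (hU : j (tE Q u v) ∈ U) :
    j (tE Q u v) ∈ Cfsg.Agent.OddHalf.D7Out.TwClaim.P0 OddGen j.range U := by
  obtain ⟨u', v', H⟩ := exists_LF hP.nd h
  have h1 : tE Q u v ∈ P Q u v H.qu H.uv := X_le_P hP H (mem_X.2 ⟨1, by rw [one_smul]⟩)
  refine ⟨hU, ?_, (P Q u v H.qu H.uv).map j, P_oddGen.map j, ?_, ⟨_, h1, rfl⟩, ?_⟩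
  · rw [← map_mul, tE_mul_self h.qu h.perp, map_one]
  · rintro _ ⟨y, -, rfl⟩
    exact ⟨y, rfl⟩
  · rintro _ ⟨y, hy, rfl⟩
    have h2 := mem_P0.1 (P_le_P0 hy) 1
    rw [one_smul] at h2
    rw [← map_mul, ← map_mul, h2]

omit [CharP F 2] in
/-- An element commuting with the long root elements at `u` commutes with `R_u`. -/
theorem comm_R (hK : KFacts Q) {u : V} (hu : Q u = 0) (hu0 : u ≠ 0) {x : G}
    (h : ∀ v, Ln Q u v → x * j (tE Q u v) = j (tE Q u v) * x) :
    ∀ y, polar Q u y = 0 → x * j (tE Q u y) = j (tE Q u y) * x := by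
  refine hK.ind_perp hu hu0 (P := fun y => x * j (tE Q u y) = j (tE Q u y) * x) ?_ ?_ h
  · intro c
    have h1 : tE Q u (c • u) = 1 := by
      have h2 := tE_add_smul hu (show polar Q u (0 : V) = 0 from by simp) c
      rw [zero_add, tE_zero_right] at h2
      exact h2
    show x * j (tE Q u (c • u)) = j (tE Q u (c • u)) * x
    rw [h1, map_one, mul_one, one_mul]
  · intro a b ha hb h1 h2
    show x * j (tE Q u (a + b)) = j (tE Q u (a + b)) * x
    rw [← tE_mul hu ha hb, map_mul]
    calc x * (j (tE Q u a) * j (tE Q u b)) = (x * j (tE Q u a)) * j (tE Q u b) := by group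
      _ = j (tE Q u a) * (x * j (tE Q u b)) := by rw [h1]; group
      _ = j (tE Q u a) * j (tE Q u b) * x := by rw [h2]; group

omit [CharP F 2] in
/-- `C_{C(t)}(R_u) = ⟨t⟩ R_u`. -/
theorem exists_R (S : Sit Q t j) (hK : KFacts Q) {u : V} (hu : Q u = 0) (hu0 : u ≠ 0) {x : G} (hxt : x * t = t * x)
    (h : ∀ y, polar Q u y = 0 → x * j (tE Q u y) = j (tE Q u y) * x) :
    ∃ y, polar Q u y = 0 ∧ (x = j (tE Q u y) ∨ x = j (tE Q u y) * t) := by
  obtain ⟨M, σ, hM, hx⟩ := S.act x hxt
  obtain ⟨y, hy, hMy⟩ := hK.cent1 hM hu hu0 (by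
    intro z hz
    apply S.inj
    rw [← hx u z hu hz, h z hz, mul_inv_cancel_right])
  refine ⟨y, hy, ?_⟩
  have h1 : ∀ a b, Q a = 0 → polar Q a b = 0 → (j (tE Q u y))⁻¹ * x * j (tE Q a b) =
      j (tE Q a b) * ((j (tE Q u y))⁻¹ * x) := by
    intro a b ha hb
    have h2 := hx a b ha hb
    rw [hMy, hMy] at h2
    have h3 := tE_conj (tE Q u y) a b
    rw [coe_tE] at h3
    rw [← h3, map_mul, map_mul, map_inv] at h2
    calc (j (tE Q u y))⁻¹ * x * j (tE Q a b) = (j (tE Q u y))⁻¹ * (x * j (tE Q a b) * x⁻¹) * x := by group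
      _ = (j (tE Q u y))⁻¹ * (j (tE Q u y) * j (tE Q a b) * (j (tE Q u y))⁻¹) * x := by rw [h2]
      _ = j (tE Q a b) * ((j (tE Q u y))⁻¹ * x) := by group
  have ht : (j (tE Q u y))⁻¹ * x * t = t * ((j (tE Q u y))⁻¹ * x) := by
    have c1 : Commute (j (tE Q u y)) t := (S.tj _).symm
    have c2 : Commute x t := hxt
    exact (c1.inv_left.mul_left c2).eq
  rcases S.ker _ ht h1 with h2 | h2
  · left; exact (inv_mul_eq_one.1 h2).symm
  · right; exact inv_mul_eq_iff_eq_mul.1 h2

/-- An element `tE e y` commuting with `tE a z`, `z` perpendicular to the two hyperbolic pairs. -/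
theorem perp_of_comm (hQ : Nondeg Q) {e f a b y z : V} (h1 : Hyp Q e f) (h2 : Hyp Q a b) (hea : polar Q e a = 0)
    (hfa : polar Q f a = 0) (hy : polar Q e y = 0) (hz : Q z = 0) (hz0 : z ≠ 0) (hze : polar Q z e = 0)
    (hzf : polar Q z f = 0) (hza : polar Q z a = 0) (hzb : polar Q z b = 0)
    (hc : tE Q e y * tE Q a z = tE Q a z * tE Q e y) : polar Q a y = 0 ∧ polar Q z y = 0 := by
  have haz : polar Q a z = 0 := by rw [polar_comm]; exact hza
  have h3 := tE_conj (tE Q a z) e y
  rw [coe_tE, ← hc, mul_inv_cancel_right] at h3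
  have hTe : T Q a z e = e := by
    rw [T_apply2 h2.left haz, polar_comm Q a e, hea, hze]; simp
  have hTy : T Q a z y = y + (polar Q a y • z + polar Q z y • a) := by
    rw [T_apply2 h2.left haz, hz, zero_mul, add_zero, add_assoc]
  rw [hTe, hTy] at h3
  have hez : polar Q e z = 0 := by rw [polar_comm]; exact hze
  have hey' : polar Q e (y + (polar Q a y • z + polar Q z y • a)) = 0 := by
    rw [polar_add_right, polar_add_right, polar_smul_right, polar_smul_right, hy, hez, hea]; simp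
  obtain ⟨c, hc'⟩ := (tE_eq_iff hQ h1.left h1.left_ne hy hey').1 h3
  have h4 : polar Q a y • z + polar Q z y • a = c • e := by
    have := hc'
    exact add_left_cancel this
  have hc0 : c = 0 := by
    have h5 := congrArg (fun v => polar Q f v) h4
    simp only [polar_add_right, polar_smul_right] at h5
    rw [polar_comm Q f z, hzf, hfa, h1.pair'] at h5
    simpa using h5.symm
  rw [hc0, zero_smul] at h4
  have h6 : polar Q z y = 0 := by
    have h5 := congrArg (fun v => polar Q b v) h4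
    simp only [polar_add_right, polar_smul_right] at h5
    rw [polar_comm Q b z, hzb, h2.pair'] at h5
    simpa using h5
  rw [h6, zero_smul, add_zero] at h4
  exact ⟨(smul_eq_zero.1 h4).resolve_right hz0, h6⟩

/-- **The field `f3`.** `e, f`, `a, b` perpendicular hyperbolic pairs. -/
theorem f3_pairs [Finite F] (S : Sit Q t j) (hK : KFacts Q) (hP : Par Q) {e f a b : V} (h1 : Hyp Q e f)
    (h2 : Hyp Q a b) (hea : polar Q e a = 0) (heb : polar Q e b = 0) (hfa : polar Q f a = 0)
    (hfb : polar Q f b = 0) {U : Subgroup G} (hU0 : ∀ v, Ln Q e v → j (tE Q e v) ∈ U)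
    (hU1 : ∀ z, Ln Q a z → polar Q z e = 0 → polar Q z f = 0 → polar Q z b = 0 → j (tE Q a z) ∈ U)
    {x : G} (hxt : x * t = t * x)
    (h : ∀ p ∈ Cfsg.Agent.OddHalf.D7Out.TwClaim.P0 OddGen j.range U, x * p = p * x) :
    x ∈ (X Q e a h1.left hea).map j ∨ t * x ∈ (X Q e a h1.left hea).map j := by
  have hQ := hP.nd
  have he0 : e ≠ 0 := h1.left_ne
  have ha0 : a ≠ 0 := h2.left_ne
  obtain ⟨y, hy, hxy⟩ := exists_R S hK h1.left he0 hxt
    (comm_R hK h1.left he0 fun v hv => h _ (root_mem hP hv (hU0 v hv)))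
  -- `tE e y` commutes with the root elements at `a`
  have hya : ∀ z, Ln Q a z → polar Q z e = 0 → polar Q z f = 0 → polar Q z b = 0 →
      polar Q a y = 0 ∧ polar Q z y = 0 := by
    intro z hz hze hzf hzb
    refine perp_of_comm hQ h1 h2 hea hfa hy hz.qw hz.ne' hze hzf (by rw [polar_comm]; exact hz.perp) hzb ?_
    apply S.inj
    rw [map_mul, map_mul]
    have h3 := h _ (root_mem hP hz (hU1 z hz hze hzf hzb))
    rcases hxy with rfl | rfl
    · exact h3
    · have h4 := S.tj (tE Q a z)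
      have c1 : Commute (j (tE Q e y) * t) (j (tE Q a z)) := h3
      have c2 : Commute t (j (tE Q a z)) := h4
      have c3 := c1.mul_left c2.inv_left
      rw [mul_inv_cancel_right] at c3
      exact c3.eq
  -- a line at `e`
  have hln : Ln Q e a := by
    refine ⟨h1.left, h2.left, hea, he0, fun c hc => ?_⟩
    have h3 := h2.pair
    rw [hc, polar_smul_left, heb, smul_zero] at h3
    exact zero_ne_one h3
  have hsing : ∀ w, Ln3 Q e a w → ∃ (α β : F) (w0 : V), w = α • e + β • a + w0 ∧ Ln Q a w0 ∧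
      polar Q w0 e = 0 ∧ polar Q w0 f = 0 ∧ polar Q w0 b = 0 := by
    intro w hw
    set w0 := w - polar Q f w • e - polar Q b w • a with hw0
    have hee : polar Q e e = 0 := polar_self2 e
    have haa : polar Q a a = 0 := polar_self2 a
    have hfe : polar Q f e = 1 := h1.pair'
    have hba : polar Q b a = 1 := h2.pair'
    have hbe : polar Q b e = 0 := by rw [polar_comm]; exact heb
    have hae : polar Q a e = 0 := by rw [polar_comm]; exact hea
    have hew : polar Q e w = 0 := hw.uw.perp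
    have haw : polar Q a w = 0 := hw.perp
    have q1 : polar Q e w0 = 0 := by
      rw [hw0, polar_sub_right, polar_sub_right, polar_smul_right, polar_smul_right, hew, hee, hea]; simp
    have q2 : polar Q f w0 = 0 := by
      rw [hw0, polar_sub_right, polar_sub_right, polar_smul_right, polar_smul_right, hfe, hfa]; simp
    have q3 : polar Q a w0 = 0 := by
      rw [hw0, polar_sub_right, polar_sub_right, polar_smul_right, polar_smul_right, haw, hae, haa]; simp
    have q4 : polar Q b w0 = 0 := by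
      rw [hw0, polar_sub_right, polar_sub_right, polar_smul_right, polar_smul_right, hbe, hba]; simp
    have hwe : w = polar Q f w • e + polar Q b w • a + w0 := by rw [hw0]; abel
    have qw0 : Q w0 = 0 := by
      have h3 : Q w = Q (polar Q f w • e + polar Q b w • a) + Q w0 +
          polar Q (polar Q f w • e + polar Q b w • a) w0 := by
        conv_lhs => rw [hwe]
        exact QuadraticMap.map_add Q _ _
      have h4 : Q (polar Q f w • e + polar Q b w • a) = 0 := by
        have h5 := QuadraticMap.map_add Q (polar Q f w • e) (polar Q b w • a)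
        rw [h5, QuadraticMap.map_smul, QuadraticMap.map_smul, polar_smul_left, polar_smul_right,
          hea, h1.left, h2.left]
        simp
      rw [h4, polar_add_left, polar_smul_left, polar_smul_left, q1, q3, hw.uw.qw] at h3
      simpa using h3.symm
    refine ⟨_, _, w0, hwe, ⟨h2.left, qw0, q3, ha0, fun c hc => ?_⟩, by rw [polar_comm]; exact q1,
      by rw [polar_comm]; exact q2, by rw [polar_comm]; exact q4⟩
    apply hw.ind
    rw [mem_L]
    refine ⟨polar Q f w, polar Q b w + c, ?_⟩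
    conv_rhs => rw [hwe, hc]
    rw [add_smul, add_assoc]
  obtain ⟨w, hw⟩ := hK.exLn3 hln
  obtain ⟨-, -, w1, -, g1, g2, g3, g4⟩ := hsing w hw
  have hay : polar Q a y = 0 := (hya w1 g1 g2 g3 g4).1
  obtain ⟨α, β, hyab⟩ := hK.perp2 (y := y) hln (by
    intro w hw
    obtain ⟨α, β, w0, hwe, k1, k2, k3, k4⟩ := hsing w hw
    rw [hwe, polar_add_right, polar_add_right, polar_smul_right, polar_smul_right, polar_comm Q y e, hy,
      polar_comm Q y a, hay, polar_comm Q y w0, (hya w0 k1 k2 k3 k4).2]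
    simp)
  have hX : tE Q e y ∈ X Q e a h1.left hea := by
    refine mem_X.2 ⟨β, ?_⟩
    rw [hyab, add_comm, tE_add_smul h1.left (by rw [polar_smul_right, hea, smul_zero])]
  rcases hxy with h3 | h3
  · left; exact ⟨_, hX, h3.symm⟩
  · right
    refine ⟨_, hX, ?_⟩
    rw [h3, ← S.tj, ← mul_assoc, S.tt, one_mul]

/-- **The field `f3` for the flag.** -/
theorem f3_O [Finite F] (S : Sit Q t j) (hK : KFacts Q) (hP : Par Q) {n : ℕ} {e f : ℕ → V} (hF : Flag Q n e f)
    (hn : 2 ≤ n) {T : Subgroup G} (T_t : ∀ x ∈ T, x * t = t * x) :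
    ∀ x ∈ T, (∀ p ∈ Cfsg.Agent.OddHalf.D7Out.TwClaim.P0 OddGen j.range ((UK Q e f n).map j), x * p = p * x) →
      x ∈ (X Q (e 0) (e 1) (hF.hyp 0 (by omega)).left (hF.ee 0 1 (by omega) (by omega) (by omega))).map j ∨
      t * x ∈ (X Q (e 0) (e 1) (hF.hyp 0 (by omega)).left (hF.ee 0 1 (by omega) (by omega) (by omega))).map j := by
  intro x hx h
  have h0 : 0 < n := by omega
  have h1 : 1 < n := by omega
  refine f3_pairs S hK hP (hF.hyp 0 h0) (hF.hyp 1 h1) (hF.ee 0 1 h0 h1 (by omega)) (hF.ef 0 1 h0 h1 (by omega))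
    (by rw [polar_comm]; exact hF.ef 1 0 h1 h0 (by omega)) (hF.ff 0 1 h0 h1 (by omega)) ?_ ?_ (T_t x hx) h
  · intro v hv
    refine ⟨_, ?_, rfl⟩
    have h2 : tE Q (e 0) v ∈ RK Q e f 0 :=
      FlagSyl.tE_mem_RK hF h0 (fun k hk => absurd hk (by omega)) hv.perp
    exact (le_iSup_of_le 0 (le_iSup_of_le h0 le_rfl) : RK Q e f 0 ≤ UK Q e f n) h2
  · intro z hz hze hzf hzb
    refine ⟨_, ?_, rfl⟩
    have h2 : tE Q (e 1) z ∈ RK Q e f 1 := by
      refine FlagSyl.tE_mem_RK hF h1 (fun k hk => ?_) hz.perp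
      obtain rfl : k = 0 := by omega
      exact ⟨by rw [polar_comm]; exact hze, by rw [polar_comm]; exact hzf⟩
    exact (le_iSup_of_le 1 (le_iSup_of_le h1 le_rfl) : RK Q e f 1 ≤ UK Q e f n) h2

end Two

end Cfsg.Agent.OddHalf.Orth.PZero
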