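import Cfsg.Agent.OddHalf.Orth.FrontMinus
import Cfsg.Agent.OddHalf.Orth.OutDat
import Cfsg.Agent.OddHalf.Orth.C01
import Cfsg.Agent.OddHalf.Orth.Equiv
import Cfsg.Agent.OddHalf.Orth.PZero
import Cfsg.Agent.OddHalf.D7Out.TwGlue
import Cfsg.Agent.OddHalf.D7Out.PZeroOut
import Cfsg.Agent.KFacts.TwFrame.OFact
import Cfsg.Agent.KFacts.OutCyc.Minus
import Cfsg.Agent.OddHalf.D7.Cases

/-!
# ODD D7, row `K = PΩ^-_{2m}(q)`, `m ≥ 4`, `q` even

`inp` : the input `TwGlue.Inp` of the end; `false_minus`; `node_minus : Node @FamOMinus`.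
-/

set_option autoImplicit false

namespace Cfsg.Agent.OddHalf.Orth.NodeMinus

open QuadraticMap Cfsg.Agent.LieClassical.OrthCore Cfsg.Agent.LieClassical.OrthTrans
  Cfsg.Agent.LieClassical.OrthSimple Cfsg.Agent.LieClassical Cfsg.Agent.LieClassical.OrthForms
  Cfsg.Agent.ClassicalGeometry.OrthAutBasic Cfsg.Agent.ClassicalGeometry.OrthAutRoot
  Cfsg.Agent.ClassicalGeometry.OrthSemi Cfsg.Agent.TitsThree.KSideO
  Cfsg.Agent.OddHalf.Orth Cfsg.Agent.OddHalf.Orth.Face Cfsg.Agent.OddHalf.Orth.Star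
  Cfsg.Agent.OddHalf.Orth.Lines Cfsg.Agent.OddHalf.Orth.OutDat Cfsg.Agent.OddHalf.Orth.Equiv
  Cfsg.Agent.OddHalf.Orth.FlagDef Cfsg.Agent.OddHalf.Orth.SitOf Cfsg.Agent.OddHalf.Orth.FrontMinus
  Cfsg.Agent.OddHalf.Orth.KFlagMain Cfsg.Agent.OddHalf.Front.FE Cfsg.Agent.OddHalf.D7Out
  Cfsg.Agent.OddHalf.Iface Cfsg.Agent.KFacts.TwFrame.OFact

section General

variable {F V : Type*} [Field F] [AddCommGroup V] [Module F V] {Q : QuadraticForm F V}
variable {G : Type*} [Group G] {t : G} {j : ↥(E Q) →* G} {W : V → V → Subgroup G}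
variable {n : ℕ} {e f : ℕ → V}

theorem XX_eq [CharP F 2] (h : Ln Q (e 0) (e 1)) :
    XX Q j (e 0) (e 1) = (X Q (e 0) (e 1) h.qu h.perp).map j := by
  ext g
  rw [mem_XX j h, Subgroup.mem_map]
  constructor
  · rintro ⟨c, rfl⟩
    exact ⟨_, mem_X.2 ⟨c, rfl⟩, rfl⟩
  · rintro ⟨x, hx, rfl⟩
    obtain ⟨c, rfl⟩ := mem_X.1 hx
    exact ⟨c, rfl⟩

/-- the semilinear isometry of an element of the frame group -/
theorem act_of_Y [Finite G] [CharP F 2] (hF : Flag Q n e f) {g : G}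
    (hg : g ∈ YR hF t j) : g * t = t * g ∧
      (∀ i < n, ∀ x, polar Q (e i) x = 0 → g⁻¹ * j (tE Q (e i) x) * g ∈ Ru Q j (e i)) ∧
      (∀ i < n, ∀ x, polar Q (f i) x = 0 → g⁻¹ * j (tE Q (f i) x) * g ∈ Ru Q j (f i)) := by
  have h1 := mem_YR.1 hg
  have h2 := mem_YR.1 (inv_mem hg)
  refine ⟨h1.1, fun i hi x hx => ?_, fun i hi x hx => ?_⟩
  · have h3 := h2.2 (Sum.inl ⟨i, hi⟩) (j (tE Q (e i) x)) ⟨_, (mem_inl hF hi).2 ⟨x, hx, rfl⟩, rfl⟩
    rw [inv_inv] at h3
    obtain ⟨y, hy, e1⟩ := h3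
    obtain ⟨w, hw, rfl⟩ := (mem_inl hF hi).1 hy
    exact ⟨w, hw, e1.symm⟩
  · have h3 := h2.2 (Sum.inr ⟨i, hi⟩) (j (tE Q (f i) x)) ⟨_, (mem_inr hF hi).2 ⟨x, hx, rfl⟩, rfl⟩
    rw [inv_inv] at h3
    obtain ⟨y, hy, e1⟩ := h3
    obtain ⟨w, hw, rfl⟩ := (mem_inr hF hi).1 hy
    exact ⟨w, hw, e1.symm⟩

end General

section Main

universe u

variable {F : Type*} {V : Type*} [Field F] [AddCommGroup V] [Module F V] {Q : QuadraticForm F V}
variable {G : Type u} [Group G] {t : G} {j : ↥(E Q) →* G} {W : V → V → Subgroup G}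
variable {n : ℕ} {e f : ℕ → V} {P T : Subgroup G}

/-- **The input of the end.** -/
theorem inp [Finite G] [Finite F] [CharP F 2] [FiniteDimensional F V] (hB : Big Q) (hK : KFacts Q) (hP : Par Q)
    (D : Dbl Q t j W) (hF : Flag Q n e f) (hn : 3 ≤ n) (hd : HasDelta Q n e f)
    (hne : ∃ a ∈ Yv Q e f (n - 1), a ≠ 0) (han : ∀ y ∈ Yv Q e f (n - 1), Q y = 0 → y = 0)
    (O : TwChoice.Out t t j.range (YR hF t j) (UU Q j e f n) P T) (hcyc : TwChoice.CycT t t j.range) :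
    TwGlue.Inp OddGen.OddGen t j.range (UU Q j e f n) P T (Us Q W e f n) (W (e 0) (e 1)) (XX Q j (e 0) (e 1)) := by
  have DF := full_of D hK
  have K_t : ∀ x ∈ j.range, x * t = t * x := by
    rintro _ ⟨k, rfl⟩
    exact (D.tj k).symm
  have t_K : t ∉ j.range := by
    rintro ⟨k, hk⟩
    exact D.tK k hk
  have U_K : UU Q j e f n ≤ j.range := Subgroup.map_le_range j _
  exact
    { tt := D.tt
      K_t := K_t
      t_K := t_K
      U_K := U_K
      hconj := PZeroU.hconj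
      hS := PZeroOut.hS_out D.tt K_t t_K U_K (PZero.norm_range D.toSit) O hcyc
      U_Us := UU_le DF hB hF hn hd
      Us2 := pgroup_Us DF hB hF hn hd
      P_Us := fun x hx y hy => by
        obtain ⟨h1, h2, h3⟩ := act_of_Y hF (O.PY hx)
        exact Us_conj_Y hB DF hF h1 h2 h3 hy
      CUs := fun x hx h => mem_UU DF hB hF hn hd hx h
      W_Us := W_le_Us DF hF hn
      W_cent := fun w hw x hx => comm_Us DF hB hF hn hd hw hx
      hfree := fun x hx h => exists_conj DF hB hF hn hd hx h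
      c01 := fun g hg hgg => by
        obtain ⟨h1, h2, h3⟩ := act_of_Y hF (O.PY hg)
        obtain ⟨M, σ, A⟩ := exists_act D.toSit h1
        refine C01.c01 DF hF hn hne han h1 hgg A.sem A.act (fun i hi => ?_) (fun i hi => ?_)
          fun {x y} hxy w hw => W_conj hB DF A hxy hw
        · obtain ⟨c, -, hc⟩ := point_of_norm hB A D.inj (hF.hyp i hi).left (hF.hyp i hi).left_ne (h2 i hi)
          exact ⟨c, hc⟩
        · obtain ⟨c, -, hc⟩ := point_of_norm hB A D.inj (hF.hyp i hi).right (hF.hyp i hi).right_ne (h3 i hi)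
          exact ⟨c, hc⟩
      f3 := fun x hx h => by
        rw [XX_eq (ln01 DF hF hn)]
        exact PZero.f3_O D.toSit hK hP hF (by omega) O.tc x hx h
      cardW := card_W D hK (ln01 DF hF hn)
      X_ne := XX_ne D hK (ln01 DF hF hn) }

end Main

section Minus

universe u

variable {F : Type} [Field F] [Finite F] [CharP F 2] {m : ℕ} {a b : F} {G : Type u} [Group G] {K : Subgroup G}

/-- **The row for `K = PΩ^-_{2m+2}(q)`.** -/
theorem false_minus (C : Ctx G) (S : Std G K) (hcyc : Iface.Cyc K) (hm : 3 ≤ m)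
    (hab : ∀ z₁ z₂ : F, z₁ ^ 2 + a * z₁ * z₂ + b * z₂ ^ 2 = 0 → z₁ = 0 ∧ z₂ = 0)
    (e : ↥K ≃* Cfsg.POmega F ⇑(minusForm m F a b)) : False := by
  have := C.fin
  have hF := (KFlag.flag_minus hm a b hab).1
  have hG := good_minus (show 2 ≤ m by omega) hab
  have hco : TwChoice.CycOut ↥K := TwChoice.CycOut.of_equiv ((equivE hG).trans e.symm)
    (Cfsg.Agent.KFacts.OutCyc.Minus.cyc2_E hm hab)
  obtain ⟨t, T, n, z, W, hst, ho, hD⟩ := front_minus C S hcyc hm hab e hco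
    (hF.hyp 0 (by omega)).left (hF.ee 0 1 (by omega) (by omega) (by omega))
  have hj := range_emb hG e
  have hst' : Start0 (emb hG e).range t t := by rw [hj]; exact hst.toStart0
  have hcT : TwChoice.CycT t t (emb hG e).range := by
    rw [hj]; exact TwChoice.cycT_of hst.toStart0 hco
  have hY := hyp_of_frameFact (emb_injective hG e) hst' (frameFact_minus hm hab hF)
  obtain ⟨P, O⟩ := TwChoice.exists_out hst' hY
  have hI := inp (big_minus m a b hab hm) (kfacts_minus m a b hab hm) (par_minus hm hab) hD hF hm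
    (delta_minus m a b hab (by omega)) ⟨_, KFr.mem_Yv_minus (by omega) a b hab 0, fun h => by
      have := congrFun h (Sum.inr 0)
      simp at this⟩ (fun y hy hQ => aniso_minus m a b hab (by omega) hy hQ) O hcT
  exact TwGlue.false_of (commutator_eq_top C) O hcT hI

theorem false_minus' (C : Ctx G) (S : Std G K) (hcyc : Iface.Cyc K) (hm : 3 ≤ m)
    (hab : ∀ z₁ z₂ : F, z₁ ^ 2 + a * z₁ * z₂ + b * z₂ ^ 2 = 0 → z₁ = 0 ∧ z₂ = 0)
    (e : ↥K ≃* Cfsg.POmega F (Cfsg.quadFormMinus m F a b)) : False := by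
  rw [← coe_minusForm] at e
  exact false_minus C S hcyc hm hab e

end Minus

/-- **Node D7, row `O⁻`.** -/
theorem node_minus : Cfsg.Agent.OddHalf.D7.Cases.Node @Cfsg.Agent.OddHalf.D7.Cases.FamOMinus := by
  intro G _ C K S hcyc h
  obtain ⟨F, _, _, a, m, b, c, ha, hF, hm, hab, ⟨e⟩⟩ := h
  have : Fact (Nat.Prime 2) := ⟨Nat.prime_two⟩
  have hch : CharP F 2 := charP_of_card_eq_prime_pow hF
  exact false_minus' C S hcyc (m := m - 1) (by omega) hab e

end Cfsg.Agent.OddHalf.Orth.NodeMinus
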