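import Cfsg.Agent.OddHalf.Orth.Lines

/-!
# ODD D7, `K = Ω(V)`: the relations of the doubled long root groups, second part
(`W_l` elementary abelian, `[W_l, W_m] ≤ W_{l+m}`)
-/

set_option autoImplicit false

namespace Cfsg.Agent.OddHalf.Orth.Lines

open QuadraticMap Cfsg.Agent.LieClassical.OrthCore Cfsg.Agent.LieClassical.OrthTrans
  Cfsg.Agent.ClassicalGeometry.OrthAutBasic Cfsg.Agent.ClassicalGeometry.OrthAutRoot Cfsg.Agent.OddHalf.Orth
  Cfsg.Agent.OddHalf.Orth.Face Cfsg.Agent.OddHalf.Orth.Star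

variable {F V : Type*} [Field F] [AddCommGroup V] [Module F V] {Q : QuadraticForm F V}
variable {G : Type*} [Group G] {t : G} {j : ↥(E Q) →* G} {W : V → V → Subgroup G}

theorem exRel [CharP F 2] [FiniteDimensional F V] (hK : KFacts Q) {u a : V} (h : Ln Q u a) :
    ∃ v b, Face.Rel Q u v a b := by
  obtain ⟨v, hv⟩ := hK.exLn3 h
  obtain ⟨y, hy1, hy2⟩ := exists_sep_sub hK.nondeg hv.ind
  have y1 : polar Q u y = 0 := hy2 _ (left_mem_L _ _)
  have y2 : polar Q a y = 0 := hy2 _ (right_mem_L _ _)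
  have hvb : polar Q v (y + Q y • v) = 1 := by
    rw [polar_add_right, hy1, polar_smul_right, polar_self2]; simp
  have hva : polar Q v a = 0 := by rw [polar_comm]; exact hv.perp
  refine ⟨v, y + Q y • v, hv.uw, ⟨h.qw, ?_, ?_, h.ne', ?_⟩, h, ?_, hva, hvb⟩
  · rw [Q_add, QuadraticMap.map_smul, hv.uw.qw, polar_smul_right, polar_comm Q y v, hy1]
    simp only [smul_eq_mul, mul_zero, add_zero, mul_one]
    exact CharTwo.add_self_eq_zero _
  · rw [polar_add_right, y2, polar_smul_right, hv.perp]; simp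
  · intro c hc
    rw [hc, polar_smul_right, hva, smul_zero] at hvb
    exact zero_ne_one hvb
  · rw [polar_add_right, y1, polar_smul_right, hv.uw.perp]; simp

theorem ph_eq {f : G} (_ht : t * t = 1) : t * f * t = f * ph t f := by rw [ph_def]; group

theorem conj_t {f : G} (ht : t * t = 1) : f⁻¹ * t * f = ph t f * t := by
  rw [ph_def]
  calc f⁻¹ * t * f = f⁻¹ * t * f * 1 := by rw [mul_one]
    _ = f⁻¹ * t * f * (t * t) := by rw [ht]
    _ = _ := by group

theorem comm_central {f g n1 n2 : G} (h1 : Commute n1 f) (h2 : Commute n1 g) (h3 : Commute n2 f)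
    (h4 : Commute n2 g) (h5 : Commute n1 n2) :
    (f * n1)⁻¹ * (g * n2)⁻¹ * (f * n1) * (g * n2) = f⁻¹ * g⁻¹ * f * g := by
  have e1 : Commute n1 (f⁻¹ * g⁻¹ * f * g) :=
    ((h1.inv_right.mul_right h2.inv_right).mul_right h1).mul_right h2
  have e2 : Commute n2 (g⁻¹ * f * g * n1) :=
    (((h4.inv_right).mul_right h3).mul_right h4).mul_right h5.symm
  calc (f * n1)⁻¹ * (g * n2)⁻¹ * (f * n1) * (g * n2)
      = n1⁻¹ * f⁻¹ * n2⁻¹ * g⁻¹ * f * (n1 * g) * n2 := by group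
    _ = n1⁻¹ * f⁻¹ * n2⁻¹ * ((g⁻¹ * f * g * n1) * n2) := by rw [h2.eq]; group
    _ = n1⁻¹ * f⁻¹ * n2⁻¹ * (n2 * (g⁻¹ * f * g * n1)) := by rw [e2.eq]
    _ = n1⁻¹ * ((f⁻¹ * g⁻¹ * f * g) * n1) := by group
    _ = n1⁻¹ * (n1 * (f⁻¹ * g⁻¹ * f * g)) := by rw [e1.eq]
    _ = _ := by group

variable (D : Full Q t j W)
include D

section

variable [CharP F 2] [FiniteDimensional F V] {u v a b : V}

/-- the commutator `[w, x]` is an involution -/
theorem sq_c1 (h : Rel Q u v a b) {w : G} (hw : w ∈ W a b) (c : F) {β : F}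
    (hβ : ph t w = j (tE Q a (β • b))) :
    w⁻¹ * (j (tE Q u (c • v)) * w * (j (tE Q u (c • v)))⁻¹) *
      (w⁻¹ * (j (tE Q u (c • v)) * w * (j (tE Q u (c • v)))⁻¹)) = 1 := by
  have hqu := h.uv.qu
  have hqa := h.ab.qu
  have pv : polar Q u (c • v) = 0 := by rw [polar_smul_right, h.uv.perp, smul_zero]
  have pu : ∀ d : F, polar Q a (d • u) = 0 := fun d => by
    rw [polar_smul_right, polar_comm, h.ua.perp, smul_zero]
  have pb : ∀ d : F, polar Q a (d • b) = 0 := fun d => by rw [polar_smul_right, h.ab.perp, smul_zero]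
  have hm := c1 D h hw c
  have hph := (ph_c1 D h hw c hβ).2
  have ka : T Q u (c • v) a = a := T_id h.uv.qu pv h.ua.perp (by rw [polar_smul_left, h.va, smul_zero])
  have kb : T Q u (c • v) b = b + c • u := by
    rw [T_perp2 h.uv.qu pv h.ub, polar_smul_left, h.vb]; simp
  have kP : j (tE Q u (c • v)) * j (tE Q a (β • b)) * (j (tE Q u (c • v)))⁻¹ =
      j (tE Q a (β • b)) * j (tE Q a ((β * c) • u)) := by
    rw [D.rconj, coe_tE, ka, map_smul, kb, D.rmul hqa (pb _) (pu _), smul_add, smul_smul]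
  have hkk : j (tE Q u (c • v)) * j (tE Q u (c • v)) = 1 := by rw [← map_mul, tE_mul_self hqu pv, map_one]
  have hkt := D.tj (tE Q u (c • v))
  have hPt := D.tj (tE Q a (β • b))
  have hφt := D.tj (tE Q a ((β * c) • u))
  have hφφ : j (tE Q a ((β * c) • u)) * j (tE Q a ((β * c) • u)) = 1 := by
    rw [← map_mul, tE_mul_self hqa (pu _), map_one]
  have hPP : j (tE Q a (β • b)) * j (tE Q a (β • b)) = 1 := by
    rw [← map_mul, tE_mul_self hqa (pb _), map_one]
  have hPφ : Commute (j (tE Q a (β • b))) (j (tE Q a ((β * c) • u))) := by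
    show _ * _ = _ * _
    rw [← map_mul, ← map_mul, tE_comm hqa (pb _) (pu _)]
  have hkD : Commute (j (tE Q u (c • v))) (w⁻¹ * (j (tE Q u (c • v)) * w * (j (tE Q u (c • v)))⁻¹)) :=
    D.cR h.ua (by rw [D.swap h.ua]; exact hm) pv
  have hkφ : Commute (j (tE Q u (c • v))) (j (tE Q a ((β * c) • u))) :=
    D.cR h.ua (by rw [D.swap h.ua]; exact D.X_le _ h.ua.symm) pv
  have hPD : Commute (j (tE Q a (β • b))) (w⁻¹ * (j (tE Q u (c • v)) * w * (j (tE Q u (c • v)))⁻¹)) :=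
    D.cR h.ua.symm hm (pb _)
  have hwt : w⁻¹ * t * w = ph t w * t := conj_t D.tt
  rw [hβ] at hwt
  have hDt : t * (w⁻¹ * (j (tE Q u (c • v)) * w * (j (tE Q u (c • v)))⁻¹)) * t =
      (w⁻¹ * (j (tE Q u (c • v)) * w * (j (tE Q u (c • v)))⁻¹)) * ph t
        (w⁻¹ * (j (tE Q u (c • v)) * w * (j (tE Q u (c • v)))⁻¹)) := ph_eq D.tt
  rw [hph] at hDt
  have hDk : w⁻¹ * j (tE Q u (c • v)) * w =
      (w⁻¹ * (j (tE Q u (c • v)) * w * (j (tE Q u (c • v)))⁻¹)) * j (tE Q u (c • v)) := by group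
  generalize w⁻¹ * (j (tE Q u (c • v)) * w * (j (tE Q u (c • v)))⁻¹) = d at *
  generalize j (tE Q u (c • v)) = k at *
  generalize j (tE Q a (β • b)) = P at *
  generalize j (tE Q a ((β * c) • u)) = φ at *
  have tt := D.tt
  have e1 : (P * t * d * k) * (P * t * d * k) = 1 := by
    have h1 : w⁻¹ * (t * k) * w = P * t * d * k := by
      calc w⁻¹ * (t * k) * w = (w⁻¹ * t * w) * (w⁻¹ * k * w) := by group
        _ = _ := by rw [hwt, hDk]; group
    rw [← h1]
    calc w⁻¹ * (t * k) * w * (w⁻¹ * (t * k) * w) = w⁻¹ * (t * (k * t) * k) * w := by group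
      _ = w⁻¹ * ((t * t) * (k * k)) * w := by rw [← hkt]; group
      _ = 1 := by rw [tt, hkk]; group
  have ki : k⁻¹ = k := inv_eq_of_mul_eq_one_left hkk
  rw [ki] at kP
  calc d * d = d * ((P * P) * (φ * φ)) * d := by rw [hPP, hφφ]; group
    _ = d * (P * (φ * P) * φ) * d := by rw [← hPφ.eq]; group
    _ = d * P * φ * (P * φ) * d := by group
    _ = d * P * φ * (k * P * k) * d := by rw [kP]
    _ = (P * d) * φ * k * P * (k * d) := by rw [hPD.eq]; group
    _ = (P * d) * φ * k * P * (d * k) := by rw [hkD.eq]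
    _ = (P * (d * φ)) * k * P * d * k := by group
    _ = (P * (t * d * t)) * k * P * d * k := by rw [hDt]
    _ = P * t * d * (t * k) * P * d * k := by group
    _ = P * t * d * k * (t * P) * d * k := by rw [hkt]; group
    _ = P * t * d * k * (P * t * d * k) := by rw [hPt]; group
    _ = 1 := e1

/-- the doubled root groups are elementary abelian -/
theorem sqW (h : Ln Q u a) {g : G} (hg : g ∈ W u a) : g * g = 1 := by
  obtain ⟨v, b, hR⟩ := exRel D.kf h
  rw [D.swap h] at hg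
  obtain ⟨e, he⟩ := ph_W D.toDbl h.symm hg
  obtain ⟨w, hw, hw1⟩ := surj_W D.toDbl hR.ab 1
  have h1 := c1 D hR hw e
  have h2 := (ph_c1 D hR hw e hw1).2
  have h3 := sq_c1 D hR hw e hw1
  generalize w⁻¹ * (j (tE Q u (e • v)) * w * (j (tE Q u (e • v)))⁻¹) = d at *
  rw [one_mul] at h2
  obtain ⟨r, hr, rfl⟩ := W_same D.toDbl D.kf h.symm h1 hg (by rw [h2, he])
  have h4 : Commute r d := Vs_comm D.toDbl h.qw (mem_Vs h.symm h1) hr
  calc d * r * (d * r) = d * (r * d) * r := by group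
    _ = (d * d) * (r * r) := by rw [h4.eq]; group
    _ = 1 := by rw [h3, Ru_sq h.qw hr, one_mul]

theorem sqVs {f : G} (hf : f ∈ Vs Q W u) : f * f = 1 := by
  have hf' := hf
  rw [Vs] at hf
  induction hf using Subgroup.closure_induction with
  | mem w hw =>
    obtain ⟨v, hv, hw⟩ := hw
    exact sqW D hv hw
  | one => rw [mul_one]
  | mul a b ha hb iha ihb =>
    have h1 := iha ha
    have h2 := ihb hb
    have h3 := D.ab ha hb
    calc a * b * (a * b) = a * (b * a) * b := by group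
      _ = (a * a) * (b * b) := by rw [← h3.eq]; group
      _ = 1 := by rw [h1, h2, one_mul]
  | inv a ha iha =>
    have h1 := iha ha
    rw [← mul_inv_rev, h1, inv_one]

omit [FiniteDimensional F V] [CharP F 2] in
/-- reading off the action on `V` -/
theorem act_eq {g : G} {M : V ≃+ V} (hM : ∀ u x, Q u = 0 → polar Q u x = 0 →
    g * j (tE Q u x) * g⁻¹ = j (tE Q (M u) (M x))) {x y : V} (hx : Q x = 0) (hy : polar Q x y = 0)
    (hc : Commute (j (tE Q x y)) g) : tE Q (M x) (M y) = tE Q x y := by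
  apply D.inj
  rw [← hM x y hx hy, ← hc.eq, mul_inv_cancel_right]

/-- (3c), first half -/
theorem c2_aux (h : Rel Q u v a b) {f g : G} (hf : f ∈ W a b) (hg : g ∈ W u v) :
    ∃ w ∈ W a u, f⁻¹ * g⁻¹ * f * g = w ∨ f⁻¹ * g⁻¹ * f * g = t * w := by
  have hqu := h.uv.qu
  have hqa := h.ab.qu
  have tt := D.tt
  have cf : ∀ {n : G}, n ∈ W a u → Commute n f := fun hn => D.ab (mem_Vs h.ua.symm hn) (mem_Vs h.ab hf)
  have cg : ∀ {n : G}, n ∈ W a u → Commute n g := fun hn =>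
    D.ab (mem_Vs h.ua (D.swapW h.ua.symm hn)) (mem_Vs h.uv hg)
  have cn : ∀ {n n' : G}, n ∈ W a u → n' ∈ W a u → Commute n n' := fun hn hn' => D.com h.ua.symm hn hn'
  -- conjugates under `X_l`, `X_m`
  have kl : ∀ c : F, ∀ {f' : G}, f' ∈ W a b → ∃ n ∈ W a u, j (tE Q u (c • v)) * f' * (j (tE Q u (c • v)))⁻¹ = f' * n :=
    fun c f' hf' => ⟨_, c1 D h hf' c, by group⟩
  have km : ∀ c : F, ∀ {g' : G}, g' ∈ W u v → ∃ n ∈ W a u, j (tE Q a (c • b)) * g' * (j (tE Q a (c • b)))⁻¹ = g' * n :=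
    fun c g' hg' => ⟨_, D.swapW h.ua (c1 D (rel_symm h) hg' c), by group⟩
  have pv : ∀ c : F, polar Q u (c • v) = 0 := fun c => by rw [polar_smul_right, h.uv.perp, smul_zero]
  have pb : ∀ d : F, polar Q a (d • b) = 0 := fun d => by rw [polar_smul_right, h.ab.perp, smul_zero]
  have klg : ∀ c : F, Commute (j (tE Q u (c • v))) g := fun c => D.cR h.uv hg (pv c)
  have kmf : ∀ c : F, Commute (j (tE Q a (c • b))) f := fun c => D.cR h.ab hf (pb c)
  have cl : ∀ c : F, Commute (j (tE Q u (c • v))) (f⁻¹ * g⁻¹ * f * g) := by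
    intro c
    obtain ⟨n, hn, e⟩ := kl c hf
    have e2 : j (tE Q u (c • v)) * g * (j (tE Q u (c • v)))⁻¹ = g * 1 := by
      rw [(klg c).eq, mul_inv_cancel_right, mul_one]
    have e3 := comm_central (cf hn) (cg hn) (Commute.one_left f) (Commute.one_left g) (Commute.one_right n)
    rw [← e, ← e2] at e3
    have e4 : j (tE Q u (c • v)) * (f⁻¹ * g⁻¹ * f * g) * (j (tE Q u (c • v)))⁻¹ = f⁻¹ * g⁻¹ * f * g := by
      conv_rhs => rw [← e3]
      group
    exact mul_inv_eq_iff_eq_mul.1 e4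
  have cm : ∀ c : F, Commute (j (tE Q a (c • b))) (f⁻¹ * g⁻¹ * f * g) := by
    intro c
    obtain ⟨n, hn, e⟩ := km c hg
    have e2 : j (tE Q a (c • b)) * f * (j (tE Q a (c • b)))⁻¹ = f * 1 := by
      rw [(kmf c).eq, mul_inv_cancel_right, mul_one]
    have e3 := comm_central (Commute.one_left f) (Commute.one_left g) (cf hn) (cg hn) (Commute.one_left n)
    rw [← e, ← e2] at e3
    have e4 : j (tE Q a (c • b)) * (f⁻¹ * g⁻¹ * f * g) * (j (tE Q a (c • b)))⁻¹ = f⁻¹ * g⁻¹ * f * g := by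
      conv_rhs => rw [← e3]
      group
    exact mul_inv_eq_iff_eq_mul.1 e4
  have ccn : ∀ {n : G}, n ∈ W a u → Commute n (f⁻¹ * g⁻¹ * f * g) := fun hn =>
    (((cf hn).inv_right.mul_right (cg hn).inv_right).mul_right (cf hn)).mul_right (cg hn)
  -- `ph c ∈ W a u`
  have hphc : ph t (f⁻¹ * g⁻¹ * f * g) ∈ W a u := by
    obtain ⟨β, hβ⟩ := ph_W D.toDbl h.ab hf
    obtain ⟨γ, hγ⟩ := ph_W D.toDbl h.uv hg
    obtain ⟨n1, hn1, e1⟩ := km β hg
    obtain ⟨n2, hn2, e2⟩ := kl γ hf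
    obtain ⟨n3, hn3, e3⟩ := kl γ (D.X_le β h.ab)
    have tf : t * f * t = f * ph t f := ph_eq tt
    have tg : t * g * t = g * ph t g := ph_eq tt
    rw [hβ] at tf
    rw [hγ] at tg
    have cc := ccn hn1
    have cc1 := cl γ
    have cc2 := cm β
    have q1 : Commute (j (tE Q u (γ • v))) n1 := D.cR h.ua (D.swapW h.ua.symm hn1) (pv γ)
    have q2 : Commute (j (tE Q u (γ • v))) n2 := D.cR h.ua (D.swapW h.ua.symm hn2) (pv γ)
    have q3 : Commute (j (tE Q u (γ • v))) n3 := D.cR h.ua (D.swapW h.ua.symm hn3) (pv γ)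
    have q4 : Commute (j (tE Q a (β • b))) n1 := D.cR h.ua.symm hn1 (pb β)
    have q5 : Commute (j (tE Q a (β • b))) n2 := D.cR h.ua.symm hn2 (pb β)
    have cc3 := ccn hn2
    have cc4 := ccn hn3
    have hmem : n2⁻¹ * n1 * n3⁻¹ ∈ W a u := mul_mem (mul_mem (inv_mem hn2) hn1) (inv_mem hn3)
    have ecomm := ccn hmem
    have q6 : Commute n3⁻¹ n1 := (cn hn1 hn3).symm.inv_left
    generalize hP : j (tE Q a (β • b)) = P at *
    generalize hR : j (tE Q u (γ • v)) = R at *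
    have e1' : P * g = g * n1 * P := mul_inv_eq_iff_eq_mul.1 e1
    have e2' : f⁻¹ * R⁻¹ = R⁻¹ * n2⁻¹ * f⁻¹ := by
      have : R * f = f * n2 * R := mul_inv_eq_iff_eq_mul.1 e2
      rw [← mul_inv_rev, this]; group
    have e3' : P⁻¹ * R⁻¹ = R⁻¹ * n3⁻¹ * P⁻¹ := by
      have : R * P = P * n3 * R := mul_inv_eq_iff_eq_mul.1 e3
      rw [← mul_inv_rev, this]; group
    have tct : t * (f⁻¹ * g⁻¹ * f * g) * t = (f⁻¹ * g⁻¹ * f * g) * (n2⁻¹ * n1 * n3⁻¹) := by
      have s1 : t * (f⁻¹ * g⁻¹ * f * g) * t = (f * P)⁻¹ * (g * R)⁻¹ * (f * P) * (g * R) := by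
        rw [← tf, ← tg, mul_inv_rev, mul_inv_rev, mul_inv_rev, mul_inv_rev, D.t_inv]
        calc t * (f⁻¹ * g⁻¹ * f * g) * t = t * f⁻¹ * 1 * g⁻¹ * 1 * f * 1 * g * t := by group
          _ = t * f⁻¹ * (t * t) * g⁻¹ * (t * t) * f * (t * t) * g * t := by rw [tt]
          _ = _ := by group
      rw [s1]
      calc (f * P)⁻¹ * (g * R)⁻¹ * (f * P) * (g * R)
          = P⁻¹ * (f⁻¹ * R⁻¹) * g⁻¹ * f * (P * g) * R := by group
        _ = P⁻¹ * (R⁻¹ * n2⁻¹) * (f⁻¹ * g⁻¹ * f * g) * (n1 * P) * R := by rw [e2', e1']; group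
        _ = P⁻¹ * (n2⁻¹ * R⁻¹) * (f⁻¹ * g⁻¹ * f * g) * (P * n1) * R := by
            rw [(q2.inv_inv).eq, q4.eq]
        _ = (P⁻¹ * n2⁻¹) * (R⁻¹ * ((f⁻¹ * g⁻¹ * f * g) * P)) * (n1 * R) := by group
        _ = (n2⁻¹ * P⁻¹) * (R⁻¹ * (P * (f⁻¹ * g⁻¹ * f * g))) * (R * n1) := by
            rw [(q5.inv_inv).eq, cc2.eq, q1.eq]
        _ = n2⁻¹ * (P⁻¹ * R⁻¹) * P * ((f⁻¹ * g⁻¹ * f * g) * R) * n1 := by group
        _ = n2⁻¹ * (R⁻¹ * n3⁻¹) * (R * (f⁻¹ * g⁻¹ * f * g)) * n1 := by rw [e3', cc1.eq]; group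
        _ = n2⁻¹ * (n3⁻¹ * R⁻¹) * (R * (f⁻¹ * g⁻¹ * f * g)) * n1 := by rw [(q3.inv_inv).eq]
        _ = n2⁻¹ * n3⁻¹ * ((f⁻¹ * g⁻¹ * f * g) * n1) := by group
        _ = n2⁻¹ * (n3⁻¹ * n1) * (f⁻¹ * g⁻¹ * f * g) := by rw [← cc.eq]; group
        _ = (n2⁻¹ * n1 * n3⁻¹) * (f⁻¹ * g⁻¹ * f * g) := by rw [q6.eq]; group
        _ = _ := ecomm.eq
    rw [ph_def, tct, inv_mul_cancel_left]
    exact hmem
  -- remove the `φ`-part
  generalize hc : f⁻¹ * g⁻¹ * f * g = c at *
  have hn0 : ph t (ph t c) = 1 := by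
    have s1 : t * c * t = c * ph t c := ph_eq tt
    have s2 : c = c * ph t c * (t * ph t c * t) := by
      calc c = (t * t) * c * (t * t) := by rw [tt]; group
        _ = t * (t * c * t) * t := by group
        _ = t * c * 1 * ph t c * t := by rw [s1]; group
        _ = t * c * (t * t) * ph t c * t := by rw [tt]
        _ = (t * c * t) * (t * ph t c * t) := by group
        _ = _ := by rw [s1]
    have s3 : ph t c * (t * ph t c * t) = 1 := by
      have : c * (ph t c * (t * ph t c * t)) = c * 1 := by rw [← mul_assoc, ← s2, mul_one]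
      exact mul_left_cancel this
    have s4 := sqW D h.ua.symm hphc
    have s5 : t * ph t c * t = ph t c := mul_left_cancel (s3.trans s4.symm)
    rw [ph_def, s5, inv_mul_cancel]
  obtain ⟨e, he⟩ := D.fixW h.ua.symm hphc hn0
  obtain ⟨w1, hw1, hφ1⟩ := surj_W D.toDbl h.ua.symm e
  have hw1i := inv_mem hw1
  have hp1 : ph t (c * w1⁻¹) = 1 := by
    rw [ph_mul_of tt (cn hphc hw1i).eq, ph_inv_of tt, hφ1, he, mul_inv_cancel]
    rw [hφ1, ← he]
    exact (cn hphc hw1).eq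
  have hpt := (ph_eq_one tt).1 hp1
  obtain ⟨M, σ, hM, hact⟩ := D.act _ hpt
  -- the list
  have cw : ∀ {x y : V}, T Q x y a = a → T Q x y u = u → Commute (j (tE Q x y)) w1⁻¹ := fun h1 h2 =>
    (D.cfix h.ua.symm hw1 h1 h2).inv_right
  have hua := h.ua.perp
  have hau := h.ua.perp'
  have hbu : polar Q b u = 0 := by rw [polar_comm]; exact h.ub
  have hav : polar Q a v = 0 := by rw [polar_comm]; exact h.va
  have hba := h.ab.perp'
  have huu := polar_self2 (Q := Q) u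
  have haa := polar_self2 (Q := Q) a
  have list : ∀ {x y : V}, T Q x y a = a → T Q x y u = u → Commute (j (tE Q x y)) f → Commute (j (tE Q x y)) g →
      Commute (j (tE Q x y)) (c * w1⁻¹) := by
    intro x y h1 h2 h3 h4
    refine Commute.mul_right ?_ (cw h1 h2)
    rw [← hc]
    exact ((h3.inv_right.mul_right h4.inv_right).mul_right h3).mul_right h4
  obtain ⟨d, hd⟩ := D.kf.cent3 hM h
    (act_eq D hact hqu h.uv.perp ((by simpa using cl 1 : Commute (j (tE Q u v)) c).mul_right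
      (cw (T_id hqu h.uv.perp hua h.va) (T_id hqu h.uv.perp huu h.uv.perp'))))
    (act_eq D hact hqa h.ab.perp ((by simpa using cm 1 : Commute (j (tE Q a b)) c).mul_right
      (cw (T_id hqa h.ab.perp haa hba) (T_id hqa h.ab.perp hau hbu))))
    (act_eq D hact hqu h.ub (list (T_id hqu h.ub hua hba) (T_id hqu h.ub huu hbu)
      (D.cfix h.ab hf (T_id hqu h.ub hua hba) (T_id hqu h.ub h.ub (polar_self2 b)))
      (D.cR h.uv hg h.ub)))
    (act_eq D hact hqa hav (list (T_id hqa hav haa h.va) (T_id hqa hav hau h.uv.perp')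
      (D.cR h.ab hf hav)
      (D.cfix h.uv hg (T_id hqa hav hau h.uv.perp') (T_id hqa hav hav (polar_self2 v)))))
    (by
      intro x hux hvx hax hbx
      have hxu : polar Q x u = 0 := by rw [polar_comm]; exact hux
      have hxv : polar Q x v = 0 := by rw [polar_comm]; exact hvx
      have hxa : polar Q x a = 0 := by rw [polar_comm]; exact hax
      have hxb : polar Q x b = 0 := by rw [polar_comm]; exact hbx
      exact ⟨act_eq D hact hqu hux (list (T_id hqu hux hua hxa) (T_id hqu hux huu hxu)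
        (D.cfix h.ab hf (T_id hqu hux hua hxa) (T_id hqu hux h.ub hxb)) (D.cR h.uv hg hux)),
        act_eq D hact hqa hax (list (T_id hqa hax haa hxa) (T_id hqa hax hau hxu)
        (D.cR h.ab hf hax) (D.cfix h.uv hg (T_id hqa hax hau hxu) (T_id hqa hax hav hxv)))⟩)
  have hpa : polar Q u (d • a) = 0 := by rw [polar_smul_right, hua, smul_zero]
  have hX : j (tE Q u (d • a)) ∈ W a u := D.swapW h.ua (D.X_le d h.ua)
  rcases D.of_act hpt hact (k := tE Q u (d • a)) hd with hh | hh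
  · exact ⟨_, mul_mem hX hw1, Or.inl (by rw [← hh]; group)⟩
  · exact ⟨_, mul_mem hX hw1, Or.inr (by rw [← mul_assoc, ← hh]; group)⟩

/-- (3c): `[W_m, W_l] ≤ W_{l+m}` -/
theorem c2 (h : Rel Q u v a b) {f g : G} (hf : f ∈ W a b) (hg : g ∈ W u v) :
    f⁻¹ * g⁻¹ * f * g ∈ W a u := by
  obtain ⟨w, hw, e | e⟩ := c2_aux D h hf hg
  · rw [e]; exact hw
  exfalso
  have tt := D.tt
  obtain ⟨f1, hf1, hφ⟩ := surj_W D.toDbl h.ab 1
  rw [one_smul] at hφ
  have cn : ∀ {n : G}, n ∈ W a u → t * n * t ∈ W a u := by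
    intro n hn
    obtain ⟨c, hc⟩ := ph_W D.toDbl h.ua.symm hn
    rw [ph_eq tt, hc]
    exact mul_mem hn (D.X_le c h.ua.symm)
  -- the group `⟨t⟩ W a u`
  have key : ∀ {x : G}, (x ∈ W a u ∨ t * x ∈ W a u) → ∀ {y : G}, (y ∈ W a u ∨ t * y ∈ W a u) →
      (x * y ∈ W a u ∨ t * (x * y) ∈ W a u) := by
    intro x hx y hy
    rcases hx with hx | hx <;> rcases hy with hy | hy
    · exact Or.inl (mul_mem hx hy)
    · right
      have : t * (x * y) = (t * x * t) * (t * y) := by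
        calc t * (x * y) = t * x * 1 * y := by group
          _ = t * x * (t * t) * y := by rw [tt]
          _ = _ := by group
      rw [this]; exact mul_mem (cn hx) hy
    · right
      rw [← mul_assoc]; exact mul_mem hx hy
    · left
      have : x * y = (t * (t * x) * t) * (t * y) := by
        calc x * y = (t * t) * x * (t * t) * y := by rw [tt]; group
          _ = _ := by group
      rw [this]; exact mul_mem (cn hx) hy
  have keyi : ∀ {x : G}, (x ∈ W a u ∨ t * x ∈ W a u) → (x⁻¹ ∈ W a u ∨ t * x⁻¹ ∈ W a u) := by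
    intro x hx
    rcases hx with hx | hx
    · exact Or.inl (inv_mem hx)
    · right
      have : t * x⁻¹ = t * (t * x)⁻¹ * t := by rw [mul_inv_rev, D.t_inv]; calc
        t * x⁻¹ = t * x⁻¹ * 1 := by group
        _ = t * x⁻¹ * (t * t) := by rw [tt]
        _ = _ := by group
      rw [this]; exact cn (inv_mem hx)
  have tmem : (t ∈ W a u ∨ t * t ∈ W a u) := Or.inr (by rw [tt]; exact one_mem _)
  have hin : ∀ {f' : G}, f' ∈ W a b → (f'⁻¹ * g⁻¹ * f' * g ∈ W a u ∨ t * (f'⁻¹ * g⁻¹ * f' * g) ∈ W a u) := by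
    intro f' hf'
    obtain ⟨w', hw', e' | e'⟩ := c2_aux D h hf' hg
    · rw [e']; exact Or.inl hw'
    · right
      rw [e', ← mul_assoc, tt, one_mul]; exact hw'
  have h1 := hin hf1
  have h2 := hin (mul_mem hf hf1)
  have e1 : (f * f1)⁻¹ * g⁻¹ * (f * f1) * g = f1⁻¹ * (f⁻¹ * g⁻¹ * f * g) * f1 * (f1⁻¹ * g⁻¹ * f1 * g) := by
    group
  have cwf : Commute w f1 := D.ab (mem_Vs h.ua.symm hw) (mem_Vs h.ab hf1)
  have e2 : f1⁻¹ * (t * w) * f1 = j (tE Q a b) * (t * w) := by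
    calc f1⁻¹ * (t * w) * f1 = f1⁻¹ * t * (w * f1) := by group
      _ = (f1⁻¹ * t * f1) * w := by rw [cwf.eq]; group
      _ = _ := by rw [conj_t tt, hφ]; group
  rw [e1, e, e2] at h2
  have h3 : (j (tE Q a b) ∈ W a u ∨ t * j (tE Q a b) ∈ W a u) := by
    have : j (tE Q a b) = (j (tE Q a b) * (t * w) * (f1⁻¹ * g⁻¹ * f1 * g)) * (f1⁻¹ * g⁻¹ * f1 * g)⁻¹ *
        (w⁻¹ * t⁻¹) := by group
    rw [this]
    refine key (key h2 (keyi h1)) (key (Or.inl (inv_mem hw)) ?_)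
    rw [D.t_inv]; exact tmem
  have hjt := D.tj (tE Q a b)
  have pab := h.ab.perp
  rcases h3 with h3 | h3
  · obtain ⟨d, hd⟩ := D.fixW h.ua.symm h3 ((ph_eq_one tt).2 hjt.symm)
    obtain ⟨c', hc'⟩ := r_inj D.toDbl D.kf h.ab.qu h.ab.ne pab
      (by rw [polar_smul_right, h.ua.perp', smul_zero]) hd
    have h5 : polar Q v (d • u) = polar Q v (b + c' • a) := by rw [hc']
    rw [polar_smul_right, h.uv.perp', polar_add_right, h.vb, polar_smul_right, h.va] at h5
    simp at h5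
  · obtain ⟨d, hd⟩ := D.fixW h.ua.symm h3 ((ph_eq_one tt).2 (by
      rw [mul_assoc, ← hjt]))
    apply D.tK (tE Q a (d • u) * (tE Q a b)⁻¹)
    rw [map_mul, ← hd, map_inv, mul_inv_cancel_right]

end

end Cfsg.Agent.OddHalf.Orth.Lines
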