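import Mathlib
import Cfsg.Agent.OddHalf.Orth.KFace

/-!
# ODD D7, `K = Ω(V)` over the field with two elements: the doubled root groups are centralised by `P_l`

`IsY u v y`: `y` is an involution which maps `t` to `t z_l` and commutes with the pointwise stabiliser of
`l = ⟨u, v⟩`. Then `y` commutes with the whole of `C_K(z_l)` (`cent`).
-/

set_option autoImplicit false
set_option linter.unusedSectionVars false
set_option linter.unusedVariables false

namespace Cfsg.Agent.OddHalf.Orth.COne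

open QuadraticMap Cfsg.Agent.LieClassical.OrthCore Cfsg.Agent.LieClassical.OrthTrans
  Cfsg.Agent.LieClassical.OrthSimple Cfsg.Agent.ClassicalGeometry.OrthAutBasic
  Cfsg.Agent.ClassicalGeometry.OrthAutRoot Cfsg.Agent.ClassicalGeometry.OrthAutSylow
  Cfsg.Agent.OddHalf.Orth Cfsg.Agent.OddHalf.Orth.Face

variable {F V : Type*} [Field F] [AddCommGroup V] [Module F V] {Q : QuadraticForm F V}
variable {G : Type*} [Group G] {t : G} {j : ↥(E Q) →* G}

/-- `y` is an involution with `t^y = t z_l`, commuting with the pointwise stabiliser of `l = ⟨u, v⟩`. -/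
structure IsY (t : G) (j : ↥(E Q) →* G) (u v : V) (y : G) : Prop where
  sq : y * y = 1
  tt : y * t * y⁻¹ = t * j (tE Q u v)
  cc : ∀ k : ↥(E Q), (k : V ≃ₗ[F] V) u = u → (k : V ≃ₗ[F] V) v = v → j k * y = y * j k

/-- `g` centralises `t` and acts on `K` as the isometry `M`. -/
structure Act (t : G) (j : ↥(E Q) →* G) (g : G) (M : V ≃ₗ[F] V) : Prop where
  comm : g * t = t * g
  mem : M ∈ O Q
  conj : ∀ u x, Q u = 0 → polar Q u x = 0 → g * j (tE Q u x) * g⁻¹ = j (tE Q (M u) (M x))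

theorem cj (g h x : G) : (g * h) * x * (g * h)⁻¹ = g * (h * x * h⁻¹) * g⁻¹ := by group

theorem cm (g x y : G) : g * (x * y) * g⁻¹ = (g * x * g⁻¹) * (g * y * g⁻¹) := by group

namespace Act

variable {g g' : G} {M M' : V ≃ₗ[F] V}

theorem ex (S : Sit Q t j) (h2 : ∀ c : F, c = 0 ∨ c = 1) (hg : g * t = t * g) :
    ∃ M : V ≃ₗ[F] V, Act t j g M := by
  obtain ⟨M, σ, hM, h⟩ := S.act g hg
  have hσ : ∀ a, σ a = a := by
    intro a
    rcases h2 a with rfl | rfl
    · exact map_zero _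
    · exact map_one _
  exact ⟨Sem'.toLin hM hσ, hg, Sem'.toLin_mem hM hσ, h⟩

theorem mul (h : Act t j g M) (h' : Act t j g' M') : Act t j (g * g') (M * M') := by
  refine ⟨?_, mul_mem h.mem h'.mem, ?_⟩
  · rw [mul_assoc, h'.comm, ← mul_assoc, h.comm, mul_assoc]
  · intro u x hu hx
    rw [cj, h'.conj u x hu hx, h.conj _ _ (by rw [mem_O.1 h'.mem, hu]) (by rw [polar_map h'.mem, hx])]
    rfl

theorem inv (h : Act t j g M) : Act t j g⁻¹ M⁻¹ := by
  refine ⟨?_, inv_mem h.mem, ?_⟩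
  · have := h.comm
    rw [inv_mul_eq_iff_eq_mul, ← mul_assoc, this, mul_inv_cancel_right]
  · intro u x hu hx
    have h1 := h.conj (M⁻¹ u) (M⁻¹ x) (by rw [mem_O.1 (inv_mem h.mem), hu])
      (by rw [polar_map (inv_mem h.mem), hx])
    have e1 : M (M⁻¹ u) = u := M.apply_symm_apply u
    have e2 : M (M⁻¹ x) = x := M.apply_symm_apply x
    rw [e1, e2] at h1
    rw [← h1]
    group

theorem jK (S : Sit Q t j) (k : ↥(E Q)) : Act t j (j k) (k : V ≃ₗ[F] V) := by
  refine ⟨(S.tj k).symm, mem_O' k, ?_⟩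
  intro u x hu hx
  rw [← map_inv, ← map_mul, ← map_mul, tE_conj]

theorem tt (S : Sit Q t j) : Act t j t (1 : V ≃ₗ[F] V) := by
  refine ⟨rfl, one_mem _, ?_⟩
  intro u x hu hx
  rw [S.tj, mul_inv_cancel_right]
  rfl

theorem eq_one [CharP F 2] (S : Sit Q t j) (KF : KFacts Q) [Finite F] (hd : 8 ≤ Module.finrank F V)
    (h : Act t j (1 : G) M) : M = 1 := by
  have hs : ∀ u, Q u = 0 → M u = u := by
    intro u hu
    by_cases h0 : u = 0
    · rw [h0, map_zero]
    have hS : Sem Q (M.toAddEquiv) (RingEquiv.refl F) :=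
      ⟨fun a v => by simp, fun v => mem_O.1 h.mem v⟩
    obtain ⟨y, hy, e⟩ := KF.cent1 hS hu h0 (by
      intro x hx
      have := h.conj u x hu hx
      rw [one_mul, inv_one, mul_one] at this
      exact (S.inj this).symm)
    have := e u
    rw [T_apply_self hu hy] at this
    exact this
  have : FiniteDimensional F V := Module.finite_of_finrank_pos (by omega)
  have hN := NS.top KF.nondeg
  obtain ⟨b, b', hb, hb', hbb⟩ := hN.exists_pair (by rw [finrank_top]; omega)
  ext v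
  exact hN.sing_ind hbb hb hb' (P := fun v => M v = v) (fun a c _ _ h1 h2 => by rw [map_add, h1, h2])
    (fun a _ ha => hs a ha) v trivial

theorem uniq [CharP F 2] (S : Sit Q t j) (KF : KFacts Q) [Finite F] (hd : 8 ≤ Module.finrank F V)
    (h : Act t j g M) (h' : Act t j g M') : M = M' := by
  have h1 := h'.inv.mul h
  rw [inv_mul_cancel] at h1
  have := h1.eq_one S KF hd
  exact (inv_mul_eq_one.1 this).symm

theorem inj (S : Sit Q t j) (h : Act t j g M) (h' : Act t j g' M) : g' = g ∨ g' = t * g := by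
  have h1 := h'.mul h.inv
  rw [mul_inv_cancel] at h1
  rcases S.ker _ h1.comm (by
    intro u x hu hx
    have := h1.conj u x hu hx
    exact mul_inv_eq_iff_eq_mul.1 this) with e | e
  · left; exact mul_inv_eq_one.1 e
  · right; exact mul_inv_eq_iff_eq_mul.1 e

end Act

/-- `C(t) ∩ C(R_u) = ⟨t⟩ R_u` -/
theorem cR [CharP F 2] (S : Sit Q t j) (KF : KFacts Q) (h2 : ∀ c : F, c = 0 ∨ c = 1) {g : G} {u : V}
    (hg : g * t = t * g) (hu : Q u = 0) (h0 : u ≠ 0)
    (H : ∀ x, polar Q u x = 0 → g * j (tE Q u x) * g⁻¹ = j (tE Q u x)) :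
    ∃ τ y, (τ = 1 ∨ τ = t) ∧ polar Q u y = 0 ∧ g = τ * j (tE Q u y) := by
  obtain ⟨M, hM⟩ := Act.ex S h2 hg
  have hS : Sem Q (M.toAddEquiv) (RingEquiv.refl F) :=
      ⟨fun a v => by simp, fun v => mem_O.1 hM.mem v⟩
  obtain ⟨y, hy, e⟩ := KF.cent1 hS hu h0 (by
      intro x hx
      have := hM.conj u x hu hx
      rw [H x hx] at this
      exact (S.inj this).symm)
  have e' : M = ((tE Q u y : ↥(E Q)) : V ≃ₗ[F] V) := by
    ext v
    exact e v
  rw [e'] at hM
  rcases Act.inj S (Act.jK S _) hM with h | h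
  · exact ⟨1, y, Or.inl rfl, hy, by rw [one_mul, h]⟩
  · exact ⟨t, y, Or.inr rfl, hy, h⟩

namespace IsY

variable {u v : V} {y : G}

theorem inv_eq (h : IsY t j u v y) : y⁻¹ = y := inv_eq_of_mul_eq_one_left h.sq

theorem conj (S : Sit Q t j) (h : IsY t j u v y) (k : ↥(E Q)) :
    IsY t j ((k : V ≃ₗ[F] V) u) ((k : V ≃ₗ[F] V) v) (j k * y * (j k)⁻¹) := by
  refine ⟨?_, ?_, ?_⟩
  · rw [← cm, h.sq, mul_one, mul_inv_cancel]
  · have e1 : (j k)⁻¹ * t * j k = t := by
      rw [mul_assoc, S.tj, inv_mul_cancel_left]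
    have e2 : j k * t * (j k)⁻¹ = t := by rw [← S.tj, mul_inv_cancel_right]
    calc j k * y * (j k)⁻¹ * t * (j k * y * (j k)⁻¹)⁻¹
        = j k * (y * ((j k)⁻¹ * t * j k) * y⁻¹) * (j k)⁻¹ := by group
      _ = j k * (t * j (tE Q u v)) * (j k)⁻¹ := by rw [e1, h.tt]
      _ = (j k * t * (j k)⁻¹) * (j k * j (tE Q u v) * (j k)⁻¹) := cm _ _ _
      _ = t * j (tE Q ((k : V ≃ₗ[F] V) u) ((k : V ≃ₗ[F] V) v)) := by
          rw [e2, ← map_inv, ← map_mul, ← map_mul, tE_conj]
  · intro k' h1 h2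
    have h3 := h.cc (k⁻¹ * k' * k) (by
      show (k⁻¹ : V ≃ₗ[F] V) ((k' : V ≃ₗ[F] V) ((k : V ≃ₗ[F] V) u)) = u
      rw [h1]; exact (k : V ≃ₗ[F] V).symm_apply_apply u) (by
      show (k⁻¹ : V ≃ₗ[F] V) ((k' : V ≃ₗ[F] V) ((k : V ≃ₗ[F] V) v)) = v
      rw [h2]; exact (k : V ≃ₗ[F] V).symm_apply_apply v)
    rw [map_mul, map_mul, map_inv] at h3
    calc j k' * (j k * y * (j k)⁻¹) = j k * ((j k)⁻¹ * j k' * j k * y) * (j k)⁻¹ := by group
      _ = j k * (y * ((j k)⁻¹ * j k' * j k)) * (j k)⁻¹ := by rw [h3]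
      _ = j k * y * (j k)⁻¹ * j k' := by group

theorem swap [CharP F 2] (hl : Ln Q u v) (h : IsY t j u v y) : IsY t j v u y :=
  ⟨h.sq, by rw [h.tt, tE_swap hl.qu hl.qw hl.perp], fun k h1 h2 => h.cc k h2 h1⟩

theorem add [CharP F 2] (hl : Ln Q u v) (h : IsY t j u v y) : IsY t j u (v + u) y := by
  refine ⟨h.sq, ?_, fun k h1 h2 => h.cc k h1 ?_⟩
  · have := tE_add_smul hl.qu hl.perp (1 : F)
    rw [one_smul] at this
    rw [h.tt, this]
  · rw [map_add, h1] at h2
    exact add_right_cancel h2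

theorem comm_self [CharP F 2] (hl : Ln Q u v) (h : IsY t j u v y) :
    j (tE Q u v) * y = y * j (tE Q u v) :=
  h.cc _ (T_apply_self hl.qu hl.perp) (T_fix hl.perp (polar_self_of_sing hl.qw))

end IsY

/-! ### Linear algebra -/

theorem Ln3.coeff {u v w : V} (h : Ln3 Q u v w) {a b c : F} (e : a • u + b • v + c • w = 0) :
    a = 0 ∧ b = 0 ∧ c = 0 := by
  have hc : c = 0 := by
    by_contra hc
    apply h.ind
    have : w = c⁻¹ • ((-a) • u + (-b) • v) := by
      have h1 : c • w = (-a) • u + (-b) • v := by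
        rw [← sub_eq_zero, ← e]; module
      rw [← h1, smul_smul, inv_mul_cancel₀ hc, one_smul]
    rw [this]
    exact Submodule.smul_mem _ _ (mem_L.2 ⟨_, _, rfl⟩)
  rw [hc, zero_smul, add_zero] at e
  have := h.uv.coeff e
  exact ⟨this.1, this.2, hc⟩

theorem fix_of_lines [CharP F 2] (hQ : Nondeg Q) (h2 : ∀ c : F, c = 0 ∨ c = 1) {M : V ≃ₗ[F] V}
    (hM : M ∈ O Q) {u v w v' w' : V} (hv : Ln Q u v) (hw : Ln Q u w) (hv' : Ln Q u v') (hw' : Ln Q u w')
    (hn : w' ∉ L F u v') (e : tE Q (M u) (M v) = tE Q u v') (e' : tE Q (M u) (M w) = tE Q u w') :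
    M u = u := by
  have m1 : M u ∈ L F u v' := by
    have e1 := congrArg (fun k : ↥(E Q) => D (k : V ≃ₗ[F] V)) e
    simp only [coe_tE] at e1
    rw [D_T hQ (hv.map hM), D_T hQ hv'] at e1
    rw [← e1]
    exact left_mem_L _ _
  have m2 : M u ∈ L F u w' := by
    have e1 := congrArg (fun k : ↥(E Q) => D (k : V ≃ₗ[F] V)) e'
    simp only [coe_tE] at e1
    rw [D_T hQ (hw.map hM), D_T hQ hw'] at e1
    rw [← e1]
    exact left_mem_L _ _
  obtain ⟨a, b, h1⟩ := mem_L.1 m1
  obtain ⟨c, d, h3⟩ := mem_L.1 m2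
  have hd : d = 0 := by
    by_contra hd
    have hd1 : d = 1 := (h2 d).resolve_left hd
    apply hn
    refine mem_L.2 ⟨a - c, b, ?_⟩
    rw [hd1, one_smul] at h3
    have : w' = M u - c • u := by rw [← h3]; abel
    rw [this, ← h1]; module
  rw [hd, zero_smul, add_zero] at h3
  rcases h2 c with hc | hc
  · rw [hc, zero_smul] at h3
    exact absurd (M.injective (by rw [← h3, map_zero])) hv.ne
  · rw [hc, one_smul] at h3
    exact h3.symm

theorem move_of [CharP F 2] (hQ : Nondeg Q) {M : V ≃ₗ[F] V} (hM : M ∈ O Q) {u x x' : V} (hu : Q u = 0)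
    (h0 : u ≠ 0) (hMu : M u = u) (hx : polar Q u x = 0) (hx' : polar Q u x' = 0)
    (e : tE Q (M u) (M x) = tE Q u x') : ∃ c : F, M x = x' + c • u := by
  have h1 : polar Q u (M x) = 0 := by
    have := polar_map hM u x
    rw [hMu, hx] at this
    exact this
  rw [hMu] at e
  exact (tE_eq_iff hQ hu h0 hx' h1).1 e.symm

theorem perp_of_comm [CharP F 2] (hQ : Nondeg Q) {u v w x : V} (h3 : Ln3 Q u v w) (hx : polar Q u x = 0)
    (e : tE Q v w * tE Q u x = tE Q u x * tE Q v w) : polar Q v x = 0 ∧ polar Q w x = 0 := by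
  have h1 := tE_conj (tE Q v w) u x
  rw [e, mul_inv_cancel_right, coe_tE] at h1
  have hvu : polar Q v u = 0 := h3.uv.perp'
  have hwu : polar Q w u = 0 := h3.uw.perp'
  have e1 : T Q v w u = u := T_fix hvu hwu
  rw [e1] at h1
  have hp : polar Q u (T Q v w x) = 0 := by
    have := polar_map' (tE Q v w) u x
    rw [coe_tE, e1, hx] at this
    exact this
  obtain ⟨c, hc⟩ := (tE_eq_iff hQ h3.uv.qu h3.uv.ne hx hp).1 h1
  rw [T_apply2 h3.uv.qw h3.perp, h3.uw.qw, zero_mul, add_zero] at hc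
  have h4 : (-c) • u + polar Q w x • v + polar Q v x • w = 0 := by
    have : polar Q v x • w + polar Q w x • v = c • u := by
      rw [add_assoc] at hc
      exact add_left_cancel hc
    rw [neg_smul, ← this]; abel
  have := Ln3.coeff h3 h4
  exact ⟨this.2.2, this.2.1⟩

theorem Z_ne [CharP F 2] (hQ : Nondeg Q) (S : Sit Q t j) {u v : V} (hl : Ln Q u v) : j (tE Q u v) ≠ 1 := by
  intro e
  rw [← map_one j] at e
  exact T_ne_one hQ hl (congrArg Subtype.val (S.inj e))

theorem tE_lin [CharP F 2] {u v : V} (hl : Ln Q u v) (a b : F) :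
    tE Q u (a • u + b • v) = tE Q u (b • v) := by
  rw [add_comm]
  exact tE_add_smul hl.qu (by rw [polar_smul_right, hl.perp, smul_zero]) a

/-- **uniqueness of `y_l`** -/
theorem IsY.uniq [CharP F 2] (S : Sit Q t j) (KF : KFacts Q) (h2 : ∀ c : F, c = 0 ∨ c = 1) {u v : V}
    {y y' : G} (hl : Ln Q u v) (h : IsY t j u v y) (h' : IsY t j u v y') :
    y' = y ∨ y' = y * j (tE Q u v) := by
  have hQ := KF.nondeg
  set Z := j (tE Q u v) with hZ
  have hZZ : Z * Z = 1 := by rw [hZ, ← map_mul, tE_mul_self hl.qu hl.perp, map_one]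
  have hyZ : y * Z * y⁻¹ = Z := by rw [← h.comm_self hl, mul_inv_cancel_right]
  set g := y * y' with hg
  have hgt : g * t = t * g := by
    apply mul_inv_eq_iff_eq_mul.1
    rw [hg, cj, h'.tt, cm, h.tt, hyZ, ← hZ, mul_assoc, hZZ, mul_one]
  have hgk : ∀ k : ↥(E Q), (k : V ≃ₗ[F] V) u = u → (k : V ≃ₗ[F] V) v = v → g * j k * g⁻¹ = j k := by
    intro k h1 h3
    rw [hg, cj, ← h'.cc k h1 h3, mul_inv_cancel_right, ← h.cc k h1 h3, mul_inv_cancel_right]
  obtain ⟨M, hM⟩ := Act.ex S h2 hgt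
  have hMk : ∀ a b, Q a = 0 → polar Q a b = 0 → T Q a b u = u → T Q a b v = v →
      tE Q (M a) (M b) = tE Q a b := by
    intro a b h1 h3 h4 h5
    have := hM.conj a b h1 h3
    rw [hgk _ h4 h5] at this
    exact (S.inj this).symm
  have hx0 : ∀ x, polar Q u x = 0 → polar Q v x = 0 → tE Q (M u) (M x) = tE Q u x := fun x h1 h3 =>
    hMk u x hl.qu h1 (T_apply_self hl.qu h1) (T_fix hl.perp (by rw [polar_comm, h3]))
  obtain ⟨w, hw⟩ := KF.exLn3 hl
  have hMu : M u = u := fix_of_lines hQ h2 hM.mem hl hw.uw hl hw.uw hw.ind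
    (hx0 v hl.perp (polar_self_of_sing hl.qw)) (hx0 w hw.uw.perp hw.perp)
  have key : ∀ x, polar Q u x = 0 → ∃ c : F, M x = x + c • u := by
    intro x hx
    rcases h2 (polar Q v x) with h0 | h1
    · exact move_of hQ hM.mem hl.qu hl.ne hMu hx hx (hx0 x hx h0)
    · obtain ⟨a, b, e⟩ := KF.perp2 (y := M x - x) hl (by
        intro s hs
        obtain ⟨c, hc⟩ := move_of hQ hM.mem hl.qu hl.ne hMu hs.uw.perp hs.uw.perp
          (hx0 s hs.uw.perp hs.perp)
        have e1 : s = M s - c • u := by rw [hc]; abel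
        have e2 : polar Q (M x) u = 0 := by
          have := polar_map hM.mem x u
          rw [hMu] at this
          rw [this, polar_comm, hx]
        rw [polar_sub_left]
        conv_lhs => rw [e1]
        rw [polar_sub_right, polar_smul_right, e2, polar_map hM.mem, polar_sub_right,
          polar_smul_right, polar_comm Q x u, hx]
        have e3 : polar Q x (M s) = polar Q x s := by
          rw [hc, polar_add_right, polar_smul_right, polar_comm Q x u, hx]; simp
        rw [e3]; simp)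
      have e1 : M x = x + (a • u + b • v) := by rw [← e]; abel
      have e2 := congrArg Q e1
      rw [mem_O.1 hM.mem, Q_add, hl.Q_mem (mem_L.2 ⟨a, b, rfl⟩), polar_add_right, polar_smul_right,
        polar_smul_right, polar_comm Q x u, hx, polar_comm Q x v, h1] at e2
      have hb : b = 0 := by simpa using e2
      rw [hb, zero_smul, add_zero] at e1
      exact ⟨a, e1⟩
  obtain ⟨τ, y0, hτ, hy0, e0⟩ := cR S KF h2 hgt hl.qu hl.ne (by
    intro x hx
    obtain ⟨c, hc⟩ := key x hx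
    rw [hM.conj u x hl.qu hx, hMu, hc, tE_add_smul hl.qu hx])
  have hτj : ∀ k, τ * j k = j k * τ := by
    intro k
    rcases hτ with rfl | rfl
    · rw [one_mul, mul_one]
    · exact S.tj k
  have hy1 : ∀ s, Ln3 Q u v s → polar Q v y0 = 0 ∧ polar Q s y0 = 0 := by
    intro s hs
    apply perp_of_comm hQ hs hy0
    apply S.inj
    rw [map_mul, map_mul]
    have h3 := hgk (tE Q v s) (T_fix hl.perp' hs.uw.perp') (T_apply_self hl.qw hs.perp)
    rw [mul_inv_eq_iff_eq_mul, e0] at h3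
    have h4 : τ * (j (tE Q v s) * j (tE Q u y0)) = τ * (j (tE Q u y0) * j (tE Q v s)) := by
      rw [← mul_assoc, ← mul_assoc, h3, hτj, mul_assoc]
    exact mul_left_cancel h4
  obtain ⟨a, b, e1⟩ := KF.perp2 (y := y0) hl (fun s hs => by
    rw [polar_comm]; exact (hy1 s hs).2)
  rw [e1, tE_lin hl] at e0
  have e2 : y' = y * (τ * j (tE Q u (b • v))) := by
    rw [← e0, hg, ← mul_assoc, h.sq, one_mul]
  rcases hτ with hτ | hτ
  · rcases h2 b with rfl | rfl
    · left
      rw [e2, hτ, zero_smul, tE_zero_right, map_one, mul_one, mul_one]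
    · right
      rw [e2, hτ, one_smul, one_mul]
  · exfalso
    apply Z_ne hQ S hl
    rw [← hZ]
    have e3 : y * j (tE Q u (b • v)) * y⁻¹ = j (tE Q u (b • v)) := by
      rcases h2 b with rfl | rfl
      · rw [zero_smul, tE_zero_right, map_one, mul_one, mul_inv_cancel]
      · rw [one_smul, ← hZ, hyZ]
    set B := j (tE Q u (b • v)) with hB
    have hBB : B * B = 1 := by
      rw [hB, ← map_mul, tE_mul_self hl.qu (by rw [polar_smul_right, hl.perp, smul_zero]), map_one]
    have hBt : t * B = B * t := S.tj _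
    have hZB : Z * B = B * Z := by
      rw [hB, hZ, ← map_mul, ← map_mul,
        tE_comm hl.qu hl.perp (by rw [polar_smul_right, hl.perp, smul_zero])]
    have e4 := h'.sq
    rw [e2, hτ] at e4
    have e5 : y * (t * B) * (y * (t * B)) = (y * (t * B) * y⁻¹) * (t * B) := by
      rw [h.inv_eq]; group
    rw [e5, cm, h.tt, e3, ← hZ] at e4
    have e6 : t * Z * B * (t * B) = Z := by
      have hZt : t * Z = Z * t := S.tj _
      calc t * Z * B * (t * B) = Z * t * B * (B * t) := by rw [hZt, hBt]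
        _ = Z * (t * (B * B) * t) := by group
        _ = Z := by rw [hBB, mul_one, S.tt, mul_one]
    rw [e6] at e4
    exact e4

/-! ### The two cases -/

theorem ln_add [CharP F 2] {u v : V} (h : Ln Q u v) : Ln Q u (v + u) where
  qu := h.qu
  qw := by rw [Q_add, h.qw, h.qu, h.perp']; simp
  perp := by rw [polar_add_right, h.perp, polar_self_of_sing h.qu]; simp
  ne := h.ne
  ind := by
    intro c hc
    apply h.ind (c - 1)
    rw [sub_smul, one_smul, ← hc]; abel

/-- everything we assume -/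
structure Ctx (t : G) (j : ↥(E Q) →* G) : Prop where
  S : Sit Q t j
  KF : KFacts Q
  h2 : ∀ c : F, c = 0 ∨ c = 1
  hd : 8 ≤ Module.finrank F V
  hex : ∀ u v, Ln Q u v → ∃ y, IsY t j u v y

def C0 (t : G) (j : ↥(E Q) →* G) : Prop := ∀ (u v : V) (y : G) (k : ↥(E Q)), Ln Q u v → IsY t j u v y →
  (k : V ≃ₗ[F] V) u = u → (k : V ≃ₗ[F] V) v = v + u → j k * y = y * j k

def C1 (t : G) (j : ↥(E Q) →* G) : Prop := ∀ (u v : V) (y : G) (k : ↥(E Q)), Ln Q u v → IsY t j u v y →
  (k : V ≃ₗ[F] V) u = u → (k : V ≃ₗ[F] V) v = v + u → j k * y * (j k)⁻¹ = y * j (tE Q u v)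

theorem add_add_self [CharP F 2] (v u : V) : v + u + u = v := by
  rw [add_assoc, add_self' (F := F), add_zero]

theorem step [CharP F 2] (H : Ctx t j) {u v : V} {y : G} {k : ↥(E Q)} (hl : Ln Q u v) (h : IsY t j u v y)
    (hu : (k : V ≃ₗ[F] V) u = u) (hv : (k : V ≃ₗ[F] V) v = v + u) :
    j k * y * (j k)⁻¹ = y ∨ j k * y * (j k)⁻¹ = y * j (tE Q u v) := by
  have h1 := h.conj H.S k
  rw [hu, hv] at h1
  have h3 := h1.add (ln_add hl)
  rw [add_add_self (F := F)] at h3
  exact h.uniq H.S H.KF H.h2 hl h3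

theorem tE_add_self [CharP F 2] {u v : V} (hl : Ln Q u v) : tE Q u (v + u) = tE Q u v := by
  have := tE_add_smul hl.qu hl.perp (1 : F)
  rwa [one_smul] at this

theorem indep [CharP F 2] (H : Ctx t j) {u v : V} {y y' : G} {k k' : ↥(E Q)} (hl : Ln Q u v)
    (h : IsY t j u v y) (h' : IsY t j u v y')
    (hu : (k : V ≃ₗ[F] V) u = u) (hv : (k : V ≃ₗ[F] V) v = v + u)
    (hu' : (k' : V ≃ₗ[F] V) u = u) (hv' : (k' : V ≃ₗ[F] V) v = v + u)
    (e : j k * y * (j k)⁻¹ = y * j (tE Q u v)) : j k' * y' * (j k')⁻¹ = y' * j (tE Q u v) := by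
  have h1 := h.cc (k⁻¹ * k') (by
      show (k⁻¹ : V ≃ₗ[F] V) ((k' : V ≃ₗ[F] V) u) = u
      rw [hu']
      conv_lhs => rw [← hu]
      exact (k : V ≃ₗ[F] V).symm_apply_apply u) (by
      show (k⁻¹ : V ≃ₗ[F] V) ((k' : V ≃ₗ[F] V) v) = v
      rw [hv', ← hv]; exact (k : V ≃ₗ[F] V).symm_apply_apply v)
  rw [map_mul, map_inv] at h1
  have h3 : j k' * y * (j k')⁻¹ = y * j (tE Q u v) := by
    rw [← e]
    calc j k' * y * (j k')⁻¹ = j k * ((j k)⁻¹ * j k' * y) * (j k')⁻¹ := by group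
      _ = j k * (y * ((j k)⁻¹ * j k')) * (j k')⁻¹ := by rw [h1]
      _ = j k * y * (j k)⁻¹ := by group
  have h4 : j k' * j (tE Q u v) * (j k')⁻¹ = j (tE Q u v) := by
    rw [← map_inv, ← map_mul, ← map_mul, tE_conj, hu', hv', tE_add_self hl]
  rcases h.uniq H.S H.KF H.h2 hl h' with rfl | rfl
  · exact h3
  · rw [cm, h3, h4]

theorem trans2 (H : Ctx t j) {u v u' v' : V} (h : Ln Q u v) (h' : Ln Q u' v') : ∃ k : ↥(E Q),
    (k : V ≃ₗ[F] V) u = u' ∧ (k : V ≃ₗ[F] V) v = v' := by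
  obtain ⟨w, hw⟩ := H.KF.exLn3 h
  obtain ⟨w', hw'⟩ := H.KF.exLn3 h'
  obtain ⟨k, h1, h2, -⟩ := H.KF.trans3 hw hw'
  exact ⟨k, h1, h2⟩

theorem dicho [CharP F 2] (H : Ctx t j) : C0 t j ∨ C1 t j := by
  by_contra hcon
  obtain ⟨h0, h1⟩ := not_or.1 hcon
  unfold C0 at h0
  unfold C1 at h1
  push Not at h0 h1
  obtain ⟨u, v, y, k, hl, hy, hu, hv, e⟩ := h0
  obtain ⟨u', v', y', k', hl', hy', hu', hv', e'⟩ := h1
  have e1 : j k * y * (j k)⁻¹ = y * j (tE Q u v) := by
    rcases step H hl hy hu hv with h | h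
    · exact absurd (mul_inv_eq_iff_eq_mul.1 h) e
    · exact h
  obtain ⟨m, hm, hm'⟩ := trans2 H hl hl'
  have h3 := hy.conj H.S m
  rw [hm, hm'] at h3
  apply e'
  refine indep H (k := m * k * m⁻¹) hl' h3 hy' ?_ ?_ hu' hv' ?_
  · show (m : V ≃ₗ[F] V) ((k : V ≃ₗ[F] V) ((m⁻¹ : V ≃ₗ[F] V) u')) = u'
    have : (m⁻¹ : V ≃ₗ[F] V) u' = u := by
      rw [← hm]; exact (m : V ≃ₗ[F] V).symm_apply_apply u
    rw [this, hu, hm]
  · show (m : V ≃ₗ[F] V) ((k : V ≃ₗ[F] V) ((m⁻¹ : V ≃ₗ[F] V) v')) = v' + u'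
    have : (m⁻¹ : V ≃ₗ[F] V) v' = v := by
      rw [← hm']; exact (m : V ≃ₗ[F] V).symm_apply_apply v
    rw [this, hv, map_add, hm, hm']
  · have e2 : j m * j (tE Q u v) * (j m)⁻¹ = j (tE Q u' v') := by
      rw [← map_inv, ← map_mul, ← map_mul, tE_conj, hm, hm']
    rw [← e2, ← cm, ← e1, map_mul, map_mul, map_inv]
    group

theorem exists_tr [CharP F 2] (H : Ctx t j) {u v : V} (hl : Ln Q u v) : ∃ z, polar Q u z = 0 ∧
    polar Q v z = 1 := by
  obtain ⟨z, h1, h3⟩ := exists_sep H.KF.nondeg hl.ind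
  exact ⟨z, h1, h3⟩

theorem tr_apply [CharP F 2] {u v z : V} (hl : Ln Q u v) (h1 : polar Q u z = 0) (h3 : polar Q v z = 1) :
    T Q u z u = u ∧ T Q u z v = v + u := by
  refine ⟨T_apply_self hl.qu h1, ?_⟩
  rw [T_apply2 hl.qu h1, hl.perp, polar_comm Q z v, h3]
  simp

theorem cent_of_C0 [CharP F 2] (H : Ctx t j) (h0 : C0 t j) {u v : V} {y : G} {k : ↥(E Q)} (hl : Ln Q u v)
    (hy : IsY t j u v y) (hk : k * tE Q u v = tE Q u v * k) : j k * y = y * j k := by
  have hl2 : Ln Q (v + u) u := (ln_add hl).symm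
  have hl3 : Ln Q (u + v) v := (ln_add hl.symm).symm
  have hy3 : IsY t j (u + v) v y := ((hy.swap hl).add hl.symm).swap (ln_add hl.symm)
  have two : u + u = 0 := add_self' (F := F) u
  have two' : v + v = 0 := add_self' (F := F) v
  -- the cases
  have c3 : ∀ k : ↥(E Q), (k : V ≃ₗ[F] V) u = u + v → (k : V ≃ₗ[F] V) v = v → j k * y = y * j k :=
    fun k h1 h3 => h0 v u y k hl.symm (hy.swap hl) h3 h1
  have c4 : ∀ k : ↥(E Q), (k : V ≃ₗ[F] V) u = v → (k : V ≃ₗ[F] V) v = u → j k * y = y * j k := by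
    intro k h1 h3
    refine h0 (u + v) v y k hl3 hy3 ?_ ?_
    · rw [map_add, h1, h3, add_comm]
    · rw [h3, add_comm u v, ← add_assoc, two', zero_add]
  obtain ⟨z, hz, hz'⟩ := exists_tr H hl
  obtain ⟨t1, t2⟩ := tr_apply hl hz hz'
  have c1 := h0 u v y (tE Q u z) hl hy t1 t2
  have red : ∀ k : ↥(E Q), j (tE Q u z * k) * y = y * j (tE Q u z * k) → j k * y = y * j k := by
    intro k hk
    rw [map_mul, mul_assoc, ← mul_assoc y, ← c1, mul_assoc] at hk
    exact mul_left_cancel hk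
  have c5 : ∀ k : ↥(E Q), (k : V ≃ₗ[F] V) u = v → (k : V ≃ₗ[F] V) v = u + v → j k * y = y * j k := by
    intro k h1 h3
    apply red
    apply c3
    · show T Q u z ((k : V ≃ₗ[F] V) u) = u + v
      rw [h1, t2, add_comm]
    · show T Q u z ((k : V ≃ₗ[F] V) v) = v
      rw [h3, map_add, t1, t2, add_comm v u, ← add_assoc, two, zero_add]
  have c6 : ∀ k : ↥(E Q), (k : V ≃ₗ[F] V) u = u + v → (k : V ≃ₗ[F] V) v = u → j k * y = y * j k := by
    intro k h1 h3
    apply red
    apply c4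
    · show T Q u z ((k : V ≃ₗ[F] V) u) = v
      rw [h1, map_add, t1, t2, add_comm v u, ← add_assoc, two, zero_add]
    · show T Q u z ((k : V ≃ₗ[F] V) v) = u
      rw [h3, t1]
  -- the line is preserved
  have e : tE Q ((k : V ≃ₗ[F] V) u) ((k : V ≃ₗ[F] V) v) = tE Q u v := by
    rw [← tE_conj, hk, mul_inv_cancel_right]
  have hD : L F ((k : V ≃ₗ[F] V) u) ((k : V ≃ₗ[F] V) v) = L F u v := by
    have e1 := congrArg (fun k : ↥(E Q) => D (k : V ≃ₗ[F] V)) e
    simp only [coe_tE] at e1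
    rwa [D_T H.KF.nondeg (hl.map (mem_O' k)), D_T H.KF.nondeg hl] at e1
  have m1 : (k : V ≃ₗ[F] V) u ∈ L F u v := by rw [← hD]; exact left_mem_L _ _
  have m2 : (k : V ≃ₗ[F] V) v ∈ L F u v := by rw [← hD]; exact right_mem_L _ _
  have hm := hl.map (mem_O' k)
  have n1 := hm.ne
  have n2 := hm.ne'
  have n3 : (k : V ≃ₗ[F] V) v ≠ (k : V ≃ₗ[F] V) u := by
    have := hm.ind 1
    rwa [one_smul] at this
  obtain ⟨a, b, h1⟩ := mem_L.1 m1
  obtain ⟨c, d, h3⟩ := mem_L.1 m2
  rcases H.h2 a with rfl | rfl <;> rcases H.h2 b with rfl | rfl <;> rcases H.h2 c with rfl | rfl <;>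
    rcases H.h2 d with rfl | rfl <;> simp only [zero_smul, one_smul, zero_add, add_zero] at h1 h3
  · exact absurd h1.symm n1
  · exact absurd h1.symm n1
  · exact absurd h1.symm n1
  · exact absurd h1.symm n1
  · exact absurd h3.symm n2
  · exact absurd (h3.symm.trans h1) n3
  · exact c4 k h1.symm h3.symm
  · exact c5 k h1.symm h3.symm
  · exact absurd h3.symm n2
  · exact hy.cc k h1.symm h3.symm
  · exact absurd (h3.symm.trans h1) n3
  · exact h0 u v y k hl hy h1.symm (by rw [← h3, add_comm])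
  · exact absurd h3.symm n2
  · exact c3 k h1.symm h3.symm
  · exact c6 k h1.symm h3.symm
  · exact absurd (h3.symm.trans h1) n3

/-! ### Case C1: the action on `R_u` -/

section one
variable [CharP F 2]

theorem RR {u x y : V} (hu : Q u = 0) (hx : polar Q u x = 0) (hy : polar Q u y = 0) :
    j (tE Q u x) * j (tE Q u y) = j (tE Q u (x + y)) := by
  rw [← map_mul, tE_mul hu hx hy]

theorem RRself {u x : V} (hu : Q u = 0) (hx : polar Q u x = 0) :
    j (tE Q u x) * j (tE Q u x) = 1 := by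
  rw [← map_mul, tE_mul_self hu hx, map_one]

theorem RRcomm {u x y : V} (hu : Q u = 0) (hx : polar Q u x = 0) (hy : polar Q u y = 0) :
    j (tE Q u x) * j (tE Q u y) = j (tE Q u y) * j (tE Q u x) := by
  rw [← map_mul, ← map_mul, tE_comm hu hx hy]

theorem commR {u v z : V} {y : G} (hl : Ln Q u v) (hy : IsY t j u v y) (hz : polar Q u z = 0)
    (hvz : polar Q v z = 0) : j (tE Q u z) * y = y * j (tE Q u z) :=
  hy.cc _ (T_apply_self hl.qu hz) (T_fix hl.perp (by rw [polar_comm, hvz]))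

/-- action of `y_l` on `R_u` in case C1 -/
theorem actR (H : Ctx t j) (h1 : C1 t j) {u v z : V} {y : G} (hl : Ln Q u v) (hy : IsY t j u v y)
    (hz : polar Q u z = 0) :
    y * j (tE Q u z) * y⁻¹ = j (tE Q u (z + polar Q v z • v)) := by
  rcases H.h2 (polar Q v z) with h | h
  · rw [h, zero_smul, add_zero, ← commR hl hy hz h, mul_inv_cancel_right]
  · obtain ⟨t1, t2⟩ := tr_apply hl hz h
    have e := h1 u v y (tE Q u z) hl hy t1 t2
    rw [h, one_smul, add_comm z v, ← RR hl.qu hl.perp hz]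
    have e2 : j (tE Q u z) * y = y * (j (tE Q u v) * j (tE Q u z)) := by
      rw [← mul_assoc, ← e, inv_mul_cancel_right]
    calc y * j (tE Q u z) * y⁻¹ = y⁻¹ * (j (tE Q u z) * y) := by rw [hy.inv_eq, mul_assoc]
      _ = j (tE Q u v) * j (tE Q u z) := by rw [e2, inv_mul_cancel_left]

theorem ln_sum {u v w : V} (h : Ln3 Q u v w) : Ln Q u (v + w) where
  qu := h.uv.qu
  qw := by rw [Q_add, h.uv.qw, h.uw.qw, h.perp]; simp
  perp := by rw [polar_add_right, h.uv.perp, h.uw.perp]; simp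
  ne := h.uv.ne
  ind := by
    intro c hc
    apply h.ind
    refine mem_L.2 ⟨c, -1, ?_⟩
    rw [← hc]; module

theorem PP (h2 : ∀ c : F, c = 0 ∨ c = 1) {v w x : V} (hv : Q v = 0) (hw : Q w = 0) (h : polar Q v w = 0) :
    T Q v w x = x + polar Q v x • w + polar Q w x • v := by
  rw [T_apply2 hv h, hw, zero_mul, add_zero]

theorem L1 (H : Ctx t j) (h1 : C1 t j) {u v w : V} {y1 y2 y3 : G} (h : Ln3 Q u v w)
    (hy1 : IsY t j u v y1) (hy2 : IsY t j u w y2) (hy3 : IsY t j u (v + w) y3) :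
    ∃ (τ : G) (b c : F), (τ = 1 ∨ τ = t) ∧
      y1 * y2 * y3 = τ * j (tE Q v w) * j (tE Q u (b • v + c • w)) := by
  have hQ := H.KF.nondeg
  have S := H.S
  have : FiniteDimensional F V := Module.finite_of_finrank_pos (by have := H.hd; omega)
  have hs := ln_sum h
  have hvw := h.perp
  have hwv : polar Q w v = 0 := by rw [polar_comm, hvw]
  have hvv : polar Q v v = 0 := polar_self_of_sing h.uv.qw
  have hww : polar Q w w = 0 := polar_self_of_sing h.uw.qw
  have hvu := h.uv.perp'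
  have hwu := h.uw.perp'
  set P := j (tE Q v w) with hP
  have hPt : P * t * P⁻¹ = t := by rw [hP, ← S.tj, mul_inv_cancel_right]
  have hPP : P * P = 1 := by rw [hP, ← map_mul, tE_mul_self h.uv.qw h.perp, map_one]
  set g := P * (y1 * y2 * y3) with hg
  have two : (2 : F) = 0 := CharTwo.two_eq_zero
  have hgt : g * t = t * g := by
    apply mul_inv_eq_iff_eq_mul.1
    have e1 : w + (v + w) = v := by rw [add_comm, add_assoc, add_self' (F := F), add_zero]
    have f2 : y2 * (t * j (tE Q u (v + w))) * y2⁻¹ = t * j (tE Q u v) := by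
      rw [cm, hy2.tt, actR H h1 h.uw hy2 hs.perp, polar_add_right, hwv, hww,
        add_zero, zero_smul, add_zero, mul_assoc t, RR h.uw.qu h.uw.perp hs.perp, e1]
    have f1 : y1 * (t * j (tE Q u v)) * y1⁻¹ = t := by
      rw [cm, hy1.tt, actR H h1 h.uv hy1 h.uv.perp, hvv, zero_smul, add_zero, mul_assoc t,
        RRself h.uv.qu h.uv.perp, mul_one]
    rw [hg, cj, cj, cj, hy3.tt, f2, f1, hPt]
  obtain ⟨τ, y0, hτ, hy0, e0⟩ := cR S H.KF H.h2 hgt h.uv.qu h.uv.ne (by
    intro x hx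
    have p1 : polar Q u (x + polar Q (v + w) x • (v + w)) = 0 := by
      rw [polar_add_right, polar_smul_right, hs.perp, hx]; simp
    have p2 : polar Q u (x + polar Q (v + w) x • (v + w) + polar Q w x • w) = 0 := by
      rw [polar_add_right, p1, polar_smul_right, h.uw.perp]; simp
    have q1 : polar Q w (x + polar Q (v + w) x • (v + w)) = polar Q w x := by
      rw [polar_add_right, polar_smul_right, polar_add_right, hwv, hww]; simp
    have q2 : polar Q v (x + polar Q (v + w) x • (v + w) + polar Q w x • w) = polar Q v x := by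
      rw [polar_add_right, polar_add_right, polar_smul_right, polar_smul_right, polar_add_right, hvw, hvv]
      simp
    rw [hg, cj, cj, cj, actR H h1 hs hy3 hx, actR H h1 h.uw hy2 p1, q1, actR H h1 h.uv hy1 p2, q2, hP,
      ← map_inv, ← map_mul, ← map_mul, tE_conj, coe_tE, T_fix hvu hwu]
    congr 2
    rw [PP H.h2 h.uv.qw h.uw.qw hvw]
    simp only [polar_add_right, polar_smul_right, polar_add_left, hvw, hwv, hvv, hww, add_zero,
      smul_eq_mul, mul_zero]
    have : x + (polar Q v x + polar Q w x) • (v + w) + polar Q w x • w + polar Q v x • v +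
        polar Q v x • w + polar Q w x • v = x + ((2 : F) * (polar Q v x + polar Q w x)) • (v + w) := by
      module
    rw [this, two, zero_mul, zero_smul, add_zero])
  have hτj : ∀ k, τ * j k = j k * τ := by
    intro k
    rcases hτ with rfl | rfl
    · rw [one_mul, mul_one]
    · exact S.tj k
  have hyy : y1 * y2 * y3 = τ * P * j (tE Q u y0) := by
    calc y1 * y2 * y3 = P * g := by rw [hg, ← mul_assoc P P, hPP, one_mul]
      _ = P * (τ * j (tE Q u y0)) := by rw [e0]
      _ = τ * P * j (tE Q u y0) := by rw [← mul_assoc, hP, hτj]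
  have hcomm : ∀ k : ↥(E Q), (k : V ≃ₗ[F] V) u = u → (k : V ≃ₗ[F] V) v = v → (k : V ≃ₗ[F] V) w = w →
      k * tE Q u y0 = tE Q u y0 * k := by
    intro k ku kv kw
    apply S.inj
    rw [map_mul, map_mul]
    have kP : j k * P = P * j k := by
      rw [hP, ← map_mul, ← map_mul]
      congr 1
      have := tE_conj k v w
      rw [kv, kw] at this
      exact mul_inv_eq_iff_eq_mul.1 this
    have k1 := hy1.cc k ku kv
    have k2 := hy2.cc k ku kw
    have k3 := hy3.cc k ku (by rw [map_add, kv, kw])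
    have k4 : j k * g = g * j k := by
      rw [hg]
      calc j k * (P * (y1 * y2 * y3)) = j k * P * (y1 * y2 * y3) := by group
        _ = P * (j k * y1) * y2 * y3 := by rw [kP]; group
        _ = P * y1 * (j k * y2) * y3 := by rw [k1]; group
        _ = P * y1 * y2 * (j k * y3) := by rw [k2]; group
        _ = P * (y1 * y2 * y3) * j k := by rw [k3]; group
    rw [e0] at k4
    have k5 : τ * (j k * j (tE Q u y0)) = τ * (j (tE Q u y0) * j k) := by
      rw [← mul_assoc, hτj, mul_assoc, k4, mul_assoc]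
    exact mul_left_cancel k5
  have hvy := perp_of_comm hQ h hy0 (hcomm (tE Q v w) (T_fix hvu hwu) (T_apply_self h.uv.qw hvw)
    (T_fix hvw hww))
  have hmem : y0 ∈ Submodule.span F {u, v, w} := by
    by_contra hn
    obtain ⟨s, hs1, hs2⟩ := exists_sep_sub hQ hn
    have su := hs2 u (Submodule.subset_span (by simp))
    have sv := hs2 v (Submodule.subset_span (by simp))
    have sw := hs2 w (Submodule.subset_span (by simp))
    have hk := hcomm (tE Q v s) (T_fix hvu (by rw [polar_comm, su])) (T_apply_self h.uv.qw sv)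
      (T_fix hvw (by rw [polar_comm, sw]))
    have e1 := tE_conj (tE Q v s) u y0
    have e2 : T Q v s u = u := T_fix hvu (by rw [polar_comm, su])
    rw [hk, mul_inv_cancel_right, coe_tE, e2] at e1
    have e3 : T Q v s y0 = y0 + (1 : F) • v := by
      rw [T_apply2 h.uv.qw sv, hvy.1, zero_smul, mul_zero, polar_comm Q s, hs1, add_zero, add_zero]
    rw [e3] at e1
    obtain ⟨c, hc⟩ := (tE_eq_iff hQ h.uv.qu h.uv.ne hy0 (by
      rw [polar_add_right, polar_smul_right, hy0, h.uv.perp]; simp)).1 e1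
    have e4 := add_left_cancel hc
    rw [one_smul] at e4
    exact h.uv.ind c e4
  obtain ⟨a, x, hx, e2⟩ := Submodule.mem_span_insert.1 hmem
  obtain ⟨b, c, rfl⟩ := Submodule.mem_span_pair.1 hx
  refine ⟨τ, b, c, hτ, ?_⟩
  rw [hyy, e2, add_comm, tE_add_smul h.uv.qu (by
    rw [polar_add_right, polar_smul_right, polar_smul_right, h.uv.perp, h.uw.perp]; simp)]

/-- the sign -/
def Eps (t : G) (j : ↥(E Q) →* G) (τ : G) : Prop := ∀ (u v w : V) (y1 y2 y3 : G), Ln3 Q u v w →
  IsY t j u v y1 → IsY t j u w y2 → IsY t j u (v + w) y3 →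
  ∃ b c : F, y1 * y2 * y3 = τ * j (tE Q v w) * j (tE Q u (b • v + c • w))

theorem uniq' (H : Ctx t j) {u v : V} {y y' : G} (hl : Ln Q u v) (h : IsY t j u v y)
    (h' : IsY t j u v y') : ∃ a : F, y' = y * j (tE Q u (a • v)) := by
  rcases h.uniq H.S H.KF H.h2 hl h' with e | e
  · exact ⟨0, by rw [zero_smul, tE_zero_right, map_one, mul_one, e]⟩
  · exact ⟨1, by rw [one_smul, e]⟩

theorem eps (H : Ctx t j) (h1 : C1 t j) : Eps t j (1 : G) ∨ Eps t j t := by
  obtain ⟨u0, hu0, hu0'⟩ := H.KF.sing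
  obtain ⟨v0, h0⟩ := H.KF.exLn hu0 hu0'
  obtain ⟨w0, h0'⟩ := H.KF.exLn3 h0
  obtain ⟨z1, hz1⟩ := H.hex u0 v0 h0
  obtain ⟨z2, hz2⟩ := H.hex u0 w0 h0'.uw
  obtain ⟨z3, hz3⟩ := H.hex u0 (v0 + w0) (ln_sum h0')
  obtain ⟨τ, b, c, hτ, e⟩ := L1 H h1 h0' hz1 hz2 hz3
  have key : Eps t j τ := by
    intro u v w y1 y2 y3 h hy1 hy2 hy3
    obtain ⟨k, ku, kv, kw⟩ := H.KF.trans3 h0' h
    have g1 := hz1.conj H.S k
    have g2 := hz2.conj H.S k
    have g3 := hz3.conj H.S k
    rw [ku, kv] at g1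
    rw [ku, kw] at g2
    rw [ku, map_add, kv, kw] at g3
    obtain ⟨a1, e1⟩ := uniq' H h.uv g1 hy1
    obtain ⟨a2, e2⟩ := uniq' H h.uw g2 hy2
    obtain ⟨a3, e3⟩ := uniq' H (ln_sum h) g3 hy3
    have hτk : j k * τ * (j k)⁻¹ = τ := by
      rcases hτ with rfl | rfl
      · rw [mul_one, mul_inv_cancel]
      · rw [← H.S.tj, mul_inv_cancel_right]
    have e4 : (j k * z1 * (j k)⁻¹) * (j k * z2 * (j k)⁻¹) * (j k * z3 * (j k)⁻¹) =
        τ * j (tE Q v w) * j (tE Q u (b • v + c • w)) := by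
      rw [← cm, ← cm, e, cm, cm, hτk, ← map_inv, ← map_mul, ← map_mul, ← map_mul, ← map_mul, tE_conj,
        tE_conj, kv, kw, ku, map_add, map_smul, map_smul, kv, kw]
    set x1 := j k * z1 * (j k)⁻¹ with hx1
    set x2 := j k * z2 * (j k)⁻¹ with hx2
    set x3 := j k * z3 * (j k)⁻¹ with hx3
    have hwv : polar Q w v = 0 := by rw [polar_comm, h.perp]
    have hvv : polar Q v v = 0 := polar_self_of_sing h.uv.qw
    have hww : polar Q w w = 0 := polar_self_of_sing h.uw.qw
    have p1 : polar Q u (a1 • v) = 0 := by rw [polar_smul_right, h.uv.perp, smul_zero]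
    have p2 : polar Q u (a2 • w) = 0 := by rw [polar_smul_right, h.uw.perp, smul_zero]
    have p3 : polar Q u (a3 • (v + w)) = 0 := by rw [polar_smul_right, (ln_sum h).perp, smul_zero]
    have p4 : polar Q u (b • v + c • w) = 0 := by
      rw [polar_add_right, polar_smul_right, polar_smul_right, h.uv.perp, h.uw.perp]; simp
    have c1 : j (tE Q u (a1 • v)) * x2 = x2 * j (tE Q u (a1 • v)) := commR h.uw g2 p1 (by
      rw [polar_smul_right, hwv, smul_zero])
    have c2 : j (tE Q u (a1 • v + a2 • w)) * x3 = x3 * j (tE Q u (a1 • v + a2 • w)) :=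
      commR (ln_sum h) g3 (by rw [polar_add_right, p1, p2, add_zero]) (by
        simp only [polar_add_left, polar_add_right, polar_smul_right, hwv, hvv, hww, h.perp, smul_zero,
          add_zero])
    refine ⟨b + a1 + a3, c + a2 + a3, ?_⟩
    rw [e1, e2, e3]
    calc x1 * j (tE Q u (a1 • v)) * (x2 * j (tE Q u (a2 • w))) * (x3 * j (tE Q u (a3 • (v + w))))
        = x1 * (j (tE Q u (a1 • v)) * x2) * j (tE Q u (a2 • w)) * x3 * j (tE Q u (a3 • (v + w))) := by group
      _ = x1 * x2 * (j (tE Q u (a1 • v)) * j (tE Q u (a2 • w))) * x3 * j (tE Q u (a3 • (v + w))) := by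
          rw [c1]; group
      _ = x1 * x2 * (j (tE Q u (a1 • v + a2 • w)) * x3) * j (tE Q u (a3 • (v + w))) := by
          rw [RR h.uv.qu p1 p2]; group
      _ = x1 * x2 * x3 * (j (tE Q u (a1 • v + a2 • w)) * j (tE Q u (a3 • (v + w)))) := by
          rw [c2]; group
      _ = τ * j (tE Q v w) * (j (tE Q u (b • v + c • w)) * j (tE Q u (a1 • v + a2 • w + a3 • (v + w)))) := by
          rw [e4, RR h.uv.qu (by rw [polar_add_right, p1, p2, add_zero]) p3]; group
      _ = _ := by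
          rw [RR h.uv.qu p4 (by rw [polar_add_right, polar_add_right, p1, p2, p3, add_zero, add_zero])]
          congr 3
          module
  rcases hτ with rfl | rfl
  · exact Or.inl key
  · exact Or.inr key

theorem tE_sum {v w : V} (h : Ln Q v w) : tE Q (v + w) w = tE Q v w := by
  have h1 := ln_add h.symm
  rw [← tE_swap h1.qu h1.qw h1.perp, tE_add_self h.symm, tE_swap h.qw h.qu h.perp']

theorem Ln3.vw {u v w : V} (h : Ln3 Q u v w) : Ln Q v w where
  qu := h.uv.qw
  qw := h.uw.qw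
  perp := h.perp
  ne := h.uv.ne'
  ind := by
    intro c hc
    apply h.ind
    rw [hc]
    exact Submodule.smul_mem _ _ (right_mem_L _ _)

theorem L3 (H : Ctx t j) {τ : G} (hτ : τ = 1 ∨ τ = t) (hE : Eps t j τ)
    {u v w : V} {y1 y2 : G} {k : ↥(E Q)} (h : Ln3 Q u v w) (hy1 : IsY t j u v y1) (hy2 : IsY t j u w y2)
    (ku : (k : V ≃ₗ[F] V) u = u) (kv : (k : V ≃ₗ[F] V) v = v + w) (kw : (k : V ≃ₗ[F] V) w = w) :
    ∃ c : F, y1 * y2 * (j k * y1 * (j k)⁻¹) = τ * j (tE Q v w) * j (tE Q u (c • w)) := by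
  have S := H.S
  have hy3 := hy1.conj S k
  rw [ku, kv] at hy3
  obtain ⟨b, c, e⟩ := hE u v w y1 y2 _ h hy1 hy2 hy3
  set y3 := j k * y1 * (j k)⁻¹ with h3
  have hwv : polar Q w v = 0 := by rw [polar_comm, h.perp]
  have hvv : polar Q v v = 0 := polar_self_of_sing h.uv.qw
  have hww : polar Q w w = 0 := polar_self_of_sing h.uw.qw
  have e2 : j k * y2 * (j k)⁻¹ = y2 := by rw [hy2.cc k ku kw, mul_inv_cancel_right]
  have e3 : j k * y3 * (j k)⁻¹ = y1 := by
    rw [h3, ← cj, ← map_mul, hy1.cc (k * k) (by rw [coe_mul', ku, ku]) (by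
      rw [coe_mul', kv, map_add, kv, kw, add_add_self (F := F)]), mul_inv_cancel_right]
  have hτk : j k * τ * (j k)⁻¹ = τ := by
    rcases hτ with rfl | rfl
    · rw [mul_one, mul_inv_cancel]
    · rw [← S.tj, mul_inv_cancel_right]
  have hττ : τ⁻¹ = τ := by
    rcases hτ with rfl | rfl
    · exact inv_one
    · exact inv_eq_of_mul_eq_one_left S.tt
  have hτj : ∀ k, τ * j k = j k * τ := by
    intro k
    rcases hτ with rfl | rfl
    · rw [one_mul, mul_one]
    · exact S.tj k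
  have p1 : ∀ b c : F, polar Q u (b • v + c • w) = 0 := by
    intro b c
    rw [polar_add_right, polar_smul_right, polar_smul_right, h.uv.perp, h.uw.perp]; simp
  have e4 : y3 * y2 * y1 = τ * j (tE Q v w) * j (tE Q u (b • (v + w) + c • w)) := by
    have e5 : j k * (y1 * y2 * y3) * (j k)⁻¹ = y3 * y2 * y1 := by rw [cm, cm, ← h3, e2, e3]
    rw [← e5, e, cm, cm, hτk, ← map_inv, ← map_mul, ← map_mul, ← map_mul, ← map_mul, tE_conj,
        tE_conj, kv, kw, ku, map_add, map_smul, map_smul, kv, kw, tE_sum (Ln3.vw h)]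
  have e6 : y3 * y2 * y1 = τ * j (tE Q v w) * j (tE Q u (b • v + c • w)) := by
    have e7 : y3 * y2 * y1 = (y1 * y2 * y3)⁻¹ := by
      rw [mul_inv_rev (y1 * y2) y3, mul_inv_rev y1 y2, hy1.inv_eq, hy2.inv_eq, hy3.inv_eq, mul_assoc]
    rw [e7, e, mul_inv_rev, mul_inv_rev, hττ, ← map_inv, ← map_inv, tE_inv h.uv.qu (p1 b c),
      tE_inv h.uv.qw h.perp, ← hτj, mul_assoc τ, ← mul_assoc _ τ, ← hτj, mul_assoc τ]
    congr 1
    rw [← map_mul, ← map_mul]
    congr 1
    have := tE_conj (tE Q v w) u (b • v + c • w)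
    rw [coe_tE, T_fix h.uv.perp' h.uw.perp', map_add, map_smul, map_smul, T_apply_self h.uv.qw h.perp,
      T_fix h.perp hww] at this
    exact (mul_inv_eq_iff_eq_mul.1 this).symm
  rw [e6, mul_assoc, mul_assoc] at e4
  have e8 := S.inj (mul_left_cancel (mul_left_cancel e4))
  obtain ⟨a, ha⟩ := (tE_eq_iff H.KF.nondeg h.uv.qu h.uv.ne (p1 b c) (by
    rw [polar_add_right, polar_smul_right, polar_smul_right, polar_add_right, h.uv.perp, h.uw.perp]
    simp)).1 e8
  have hb : b = 0 := by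
    have : (-a) • u + b • w = 0 := by
      have h5 : b • w - a • u = (b • (v + w) + c • w) - (b • v + c • w + a • u) := by module
      rw [ha, sub_self] at h5
      rw [← h5]; module
    exact (h.uw.coeff this).2
  refine ⟨c, ?_⟩
  rw [e, hb, zero_smul, zero_add]

/-- facts on `W = P R(x)` -/
theorem L4aux (H : Ctx t j) {u v w : V} {y1 y2 : G} (h : Ln3 Q u v w)
    (hy1 : IsY t j u v y1) (hy2 : IsY t j u w y2) (b c : F) :
    ∃ W : G, W = j (tE Q v w) * j (tE Q u (b • v + c • w)) ∧ W * y1 = y1 * W ∧ W * y2 = y2 * W ∧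
      W * W = 1 ∧ t * W = W * t := by
  have hwv : polar Q w v = 0 := by rw [polar_comm, h.perp]
  have hvv : polar Q v v = 0 := polar_self_of_sing h.uv.qw
  have hww : polar Q w w = 0 := polar_self_of_sing h.uw.qw
  have p1 : ∀ b c : F, polar Q u (b • v + c • w) = 0 := by
    intro b c
    rw [polar_add_right, polar_smul_right, polar_smul_right, h.uv.perp, h.uw.perp]; simp
  refine ⟨_, rfl, ?_, ?_, ?_, ?_⟩
  · rw [mul_assoc, commR h.uv hy1 (p1 b c) (by
      simp only [polar_add_right, polar_smul_right, hvv, h.perp]; simp), ← mul_assoc,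
      hy1.cc _ (T_fix h.uv.perp' h.uw.perp') (T_apply_self h.uv.qw h.perp), mul_assoc]
  · rw [mul_assoc, commR h.uw hy2 (p1 b c) (by
      simp only [polar_add_right, polar_smul_right, hww, hwv]; simp), ← mul_assoc,
      hy2.cc _ (T_fix h.uv.perp' h.uw.perp') (T_fix h.perp hww), mul_assoc]
  · have e1 : j (tE Q v w) * j (tE Q u (b • v + c • w)) = j (tE Q u (b • v + c • w)) * j (tE Q v w) := by
      rw [← map_mul, ← map_mul]
      congr 1
      have := tE_conj (tE Q v w) u (b • v + c • w)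
      rw [coe_tE, T_fix h.uv.perp' h.uw.perp', map_add, map_smul, map_smul, T_apply_self h.uv.qw h.perp,
        T_fix h.perp hww] at this
      exact (mul_inv_eq_iff_eq_mul.1 this)
    calc j (tE Q v w) * j (tE Q u (b • v + c • w)) * (j (tE Q v w) * j (tE Q u (b • v + c • w)))
        = j (tE Q v w) * j (tE Q u (b • v + c • w)) * (j (tE Q u (b • v + c • w)) * j (tE Q v w)) := by
          rw [e1]
      _ = j (tE Q v w) * (j (tE Q u (b • v + c • w)) * j (tE Q u (b • v + c • w))) * j (tE Q v w) := by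
          group
      _ = 1 := by rw [RRself h.uv.qu (p1 b c), mul_one, RRself h.uv.qw h.perp]
  · rw [← mul_assoc, H.S.tj, mul_assoc, H.S.tj, mul_assoc]

theorem L4_one (H : Ctx t j) (hE : Eps t j (1 : G)) {u v w : V} {y1 y2 : G} (h : Ln3 Q u v w)
    (hy1 : IsY t j u v y1) (hy2 : IsY t j u w y2) : y1 * y2 = y2 * y1 := by
  obtain ⟨y3, hy3⟩ := H.hex u (v + w) (ln_sum h)
  obtain ⟨b, c, e⟩ := hE u v w y1 y2 y3 h hy1 hy2 hy3
  obtain ⟨W, hW, c1, c2, c3, c4⟩ := L4aux H h hy1 hy2 b c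
  rw [one_mul, ← hW] at e
  have e3 : y3 = y2 * y1 * W := by
    rw [← e]
    calc y3 = (y2 * (y1 * y1) * y2) * y3 := by rw [hy1.sq, mul_one, hy2.sq, one_mul]
      _ = _ := by group
  have e4 := hy3.sq
  rw [e3] at e4
  have e5 : y2 * y1 * W * (y2 * y1 * W) = y2 * y1 * (y2 * y1) := by
    calc y2 * y1 * W * (y2 * y1 * W) = y2 * y1 * (W * y2) * y1 * W := by group
      _ = y2 * y1 * y2 * (W * y1) * W := by rw [c2]; group
      _ = y2 * y1 * y2 * y1 * (W * W) := by rw [c1]; group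
      _ = _ := by rw [c3]; group
  rw [e5] at e4
  have e6 := eq_inv_of_mul_eq_one_left e4
  rw [mul_inv_rev, hy1.inv_eq, hy2.inv_eq] at e6
  exact e6.symm

theorem L4_t (H : Ctx t j) (h1 : C1 t j) (hE : Eps t j t) {u v w : V} {y1 y2 : G} (h : Ln3 Q u v w)
    (hy1 : IsY t j u v y1) (hy2 : IsY t j u w y2) :
    y2 * y1 * (y2 * y1) = j (tE Q u (v + w)) := by
  obtain ⟨y3, hy3⟩ := H.hex u (v + w) (ln_sum h)
  obtain ⟨b, c, e⟩ := hE u v w y1 y2 y3 h hy1 hy2 hy3
  obtain ⟨W, hW, c1, c2, c3, c4⟩ := L4aux H h hy1 hy2 b c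
  rw [mul_assoc t, ← hW] at e
  have hwv : polar Q w v = 0 := by rw [polar_comm, h.perp]
  have e3 : y3 = y2 * y1 * (t * W) := by
    rw [← e]
    calc y3 = (y2 * (y1 * y1) * y2) * y3 := by rw [hy1.sq, mul_one, hy2.sq, one_mul]
      _ = _ := by group
  have e4 := hy3.sq
  rw [e3] at e4
  have e5 : y2 * y1 * (t * W) * (y2 * y1 * (t * W)) = (y2 * y1 * t * (y2 * y1)⁻¹) * (y2 * y1 * (y2 * y1)) * t := by
    calc y2 * y1 * (t * W) * (y2 * y1 * (t * W)) = y2 * y1 * t * (W * y2) * y1 * t * W := by group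
      _ = y2 * y1 * t * y2 * (W * y1) * t * W := by rw [c2]; group
      _ = y2 * y1 * t * y2 * y1 * W * (t * W) := by rw [c1]; group
      _ = y2 * y1 * t * y2 * y1 * (W * W) * t := by rw [c4]; group
      _ = _ := by rw [c3]; group
  have e6 : y2 * y1 * t * (y2 * y1)⁻¹ = t * j (tE Q u (v + w)) := by
    rw [cj, hy1.tt, cm, hy2.tt, actR H h1 h.uw hy2 h.uv.perp, hwv, zero_smul, add_zero, mul_assoc,
      RR h.uv.qu h.uw.perp h.uv.perp, add_comm]
  rw [e5, e6] at e4
  set B := y2 * y1 * (y2 * y1) with hB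
  set R := j (tE Q u (v + w)) with hR
  have hRR : R * R = 1 := RRself h.uv.qu (ln_sum h).perp
  have e7 : R * B = 1 := by
    have : t * (R * B) * t = 1 := by rw [← e4]; group
    have e8 : R * B = t⁻¹ * (t * (R * B) * t) * t⁻¹ := by group
    rw [e8, this, mul_one, ← mul_inv_rev, H.S.tt, inv_one]
  have e9 := eq_inv_of_mul_eq_one_right e7
  rw [e9]
  exact inv_eq_of_mul_eq_one_left hRR

theorem Ln3.swap12 {u v w : V} (h : Ln3 Q u v w) : Ln3 Q v u w where
  uv := h.uv.symm
  uw := Ln3.vw h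
  perp := h.uw.perp
  ind := by
    intro hm
    apply h.ind
    obtain ⟨a, b, e⟩ := mem_L.1 hm
    exact mem_L.2 ⟨b, a, by rw [← e, add_comm]⟩

theorem Ln3.swap23 {u v w : V} (h : Ln3 Q u v w) : Ln3 Q u w v where
  uv := h.uw
  uw := h.uv
  perp := by rw [polar_comm, h.perp]
  ind := by
    intro hm
    obtain ⟨a, b, e⟩ := mem_L.1 hm
    have : (-a) • u + (1 : F) • v + (-b) • w = 0 := by rw [← e]; module
    exact one_ne_zero (Ln3.coeff h this).2.1

theorem Ln3.add3 {u v w : V} (h : Ln3 Q u v w) : Ln3 Q u v (v + w) where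
  uv := h.uv
  uw := ln_sum h
  perp := by rw [polar_add_right, h.perp, polar_self_of_sing h.uv.qw, add_zero]
  ind := by
    intro hm
    apply h.ind
    have : w = (v + w) - v := by abel
    rw [this]
    exact Submodule.sub_mem _ hm (right_mem_L _ _)

theorem sep3 [FiniteDimensional F V] (hQ : Nondeg Q) {u v w : V} (h : Ln3 Q u v w) :
    ∃ b, polar Q w b = 0 ∧ polar Q u b = 0 ∧ polar Q v b = 1 := by
  obtain ⟨b, hb, hb'⟩ := exists_sep_sub hQ (S := L F u w) (x := v) (Ln3.swap23 h).ind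
  exact ⟨b, hb' _ (right_mem_L _ _), hb' _ (left_mem_L _ _), hb⟩

/-- **e = 0 is impossible** -/
theorem no_one (H : Ctx t j) (h1 : C1 t j) (hE : Eps t j (1 : G)) : False := by
  have hQ := H.KF.nondeg
  have : FiniteDimensional F V := Module.finite_of_finrank_pos (by have := H.hd; omega)
  obtain ⟨u, hu0, hu0'⟩ := H.KF.sing
  obtain ⟨v, h0⟩ := H.KF.exLn hu0 hu0'
  obtain ⟨w, h⟩ := H.KF.exLn3 h0
  obtain ⟨b, b1, b2, b3⟩ := sep3 hQ h
  obtain ⟨d, d1, d2, d3⟩ := sep3 hQ (Ln3.swap12 h)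
  have S := H.S
  have hww : polar Q w w = 0 := polar_self_of_sing h.uw.qw
  have hvv : polar Q v v = 0 := polar_self_of_sing h.uv.qw
  have huu : polar Q u u = 0 := polar_self_of_sing h.uv.qu
  have hwu := h.uw.perp'
  have hwv : polar Q w v = 0 := by rw [polar_comm, h.perp]
  set x := tE Q w b with hx
  set z := tE Q w d with hz
  have xu : (x : V ≃ₗ[F] V) u = u := T_fix hwu (by rw [polar_comm, b2])
  have xw : (x : V ≃ₗ[F] V) w = w := T_apply_self h.uw.qw b1
  have xv : (x : V ≃ₗ[F] V) v = v + w := by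
    rw [hx, coe_tE, T_apply2 h.uw.qw b1, hwv, polar_comm Q b v, b3]; simp
  have zv : (z : V ≃ₗ[F] V) v = v := T_fix hwv (by rw [polar_comm, d2])
  have zw : (z : V ≃ₗ[F] V) w = w := T_apply_self h.uw.qw d1
  have zu : (z : V ≃ₗ[F] V) u = u + w := by
    rw [hz, coe_tE, T_apply2 h.uw.qw d1, hwu, polar_comm Q d u, d3]; simp
  have xz : j x * j z = j z * j x := by
    rw [← map_mul, ← map_mul, hx, hz, tE_comm h.uw.qw b1 d1]
  obtain ⟨Y, hY⟩ := H.hex u v h.uv
  obtain ⟨a, ha⟩ := H.hex u w h.uw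
  obtain ⟨c, hc⟩ := H.hex v w (Ln3.vw h)
  obtain ⟨β, e1⟩ := L3 H (Or.inl rfl) hE h hY ha xu xv xw
  obtain ⟨γ, e2⟩ := L3 H (Or.inl rfl) hE (Ln3.swap12 h) (hY.swap h.uv) hc zv zu zw
  rw [one_mul] at e1 e2
  have hY1 := hY.conj S x
  have hY2 := hY.conj S z
  rw [xu, xv] at hY1
  rw [zu, zv] at hY2
  have hYu : Ln Q (u + w) v := (ln_sum (Ln3.swap12 h)).symm
  have hY2' := hY2.swap hYu
  set Y1 := j x * Y * (j x)⁻¹ with hY1d
  set Y2 := j z * Y * (j z)⁻¹ with hY2d
  set Y3 := j z * Y1 * (j z)⁻¹ with hY3d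
  have hY3e : j x * Y2 * (j x)⁻¹ = Y3 := by
    rw [hY3d, hY1d, hY2d, ← cj, ← cj, xz]
  -- commutations
  have k1 : Y * Y1 = Y1 * Y := L4_one H hE (Ln3.add3 h) hY hY1
  have k2 : Y * Y2 = Y2 * Y := L4_one H hE (Ln3.add3 (Ln3.swap12 h)) (hY.swap h.uv) hY2'
  have k3 : Y1 * Y2 = Y2 * Y1 := by
    have g1 := (hY1.add (ln_sum h)).swap (ln_add (ln_sum h))
    have g2 := (hY2'.add (ln_sum (Ln3.swap12 h))).swap (ln_add (ln_sum (Ln3.swap12 h)))
    have ep : v + w + u = u + w + v := by abel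
    rw [ep] at g1
    refine L4_one H hE ?_ g1 g2
    have l1 := (ln_add (ln_sum h)).symm
    rw [ep] at l1
    refine ⟨l1, (ln_add (ln_sum (Ln3.swap12 h))).symm, h.uv.perp, ?_⟩
    intro hm
    obtain ⟨p, q, e⟩ := mem_L.1 hm
    have e3 : (p + q) • u + (p - 1) • v + p • w = 0 := by
      have : (p + q) • u + (p - 1) • v + p • w = (p • (u + w + v) + q • u) - v := by module
      rw [this, e, sub_self]
    have e4 := Ln3.coeff h e3
    rw [e4.2.2] at e4
    have := e4.2.1
    simp at this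
  -- the constants
  have pβ : polar Q u (β • w) = 0 := by rw [polar_smul_right, h.uw.perp, smul_zero]
  have pγ : polar Q v (γ • w) = 0 := by rw [polar_smul_right, h.perp, smul_zero]
  have hZuw : j (tE Q u w) * j (tE Q u w) = 1 := RRself h.uv.qu h.uw.perp
  -- conjugates of the constants
  have f1 : j z * (j (tE Q v w) * j (tE Q u (β • w))) * (j z)⁻¹ = j (tE Q v w) * j (tE Q u (β • w)) := by
    rw [cm, ← map_inv, ← map_mul, ← map_mul, ← map_mul, ← map_mul, tE_conj, tE_conj, zv, zw, zu,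
      map_smul, zw]
    congr 2
    rcases H.h2 β with rfl | rfl
    · rw [zero_smul, tE_zero_right, tE_zero_right]
    · rw [one_smul, tE_sum h.uw]
  have f2 : j x * (j (tE Q u w) * j (tE Q v (γ • w))) * (j x)⁻¹ = j (tE Q u w) * j (tE Q v (γ • w)) := by
    rw [cm, ← map_inv, ← map_mul, ← map_mul, ← map_mul, ← map_mul, tE_conj, tE_conj, xv, xw, xu,
      map_smul, xw]
    congr 2
    rcases H.h2 γ with rfl | rfl
    · rw [zero_smul, tE_zero_right, tE_zero_right]
    · rw [one_smul, tE_sum (Ln3.vw h)]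
  have g1 : j z * a * (j z)⁻¹ = a * j (tE Q w u) :=
    h1 w u a z h.uw.symm (ha.swap h.uw) zw zu
  have g2 : j x * c * (j x)⁻¹ = c * j (tE Q w v) :=
    h1 w v c x (Ln3.vw h).symm (hc.swap (Ln3.vw h)) xw xv
  set c1 := j (tE Q v w) * j (tE Q u (β • w)) with hc1
  set c2 := j (tE Q u w) * j (tE Q v (γ • w)) with hc2
  have e1' : Y2 * (a * j (tE Q w u)) * Y3 = c1 := by
    rw [← f1, ← e1, cm, cm, g1]
  have e2' : Y1 * (c * j (tE Q w v)) * Y3 = c2 := by
    rw [← f2, ← e2, cm, cm, g2, hY3e]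
  -- commutation of the constants
  have comm4 : ∀ {p q : V} {y : G}, Ln Q p q → IsY t j p q y → ∀ {r s : V}, T Q r s p = p → T Q r s q = q →
      j (tE Q r s) * y = y * j (tE Q r s) := fun hl hy _ _ h3 h4 => hy.cc _ h3 h4
  have fvu : T Q v w u = u := T_fix h.uv.perp' hwu
  have fvv : T Q v w v = v := T_apply_self h.uv.qw h.perp
  have fvw : T Q v w w = w := T_fix h.perp hww
  have fuu : T Q u w u = u := T_apply_self h.uv.qu h.uw.perp
  have fuv : T Q u w v = v := T_fix h.uv.perp hwv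
  have fuw : T Q u w w = w := T_fix h.uw.perp hww
  have m1 : ∀ y, j (tE Q v w) * y = y * j (tE Q v w) → j (tE Q u w) * y = y * j (tE Q u w) →
      c1 * y = y * c1 ∧ c2 * y = y * c2 := by
    intro y y1 y2
    constructor
    · rcases H.h2 β with e | e
      · rw [hc1, e, zero_smul, tE_zero_right, map_one, mul_one, y1]
      · rw [hc1, e, one_smul, mul_assoc, y2, ← mul_assoc, y1, mul_assoc]
    · rcases H.h2 γ with e | e
      · rw [hc2, e, zero_smul, tE_zero_right, map_one, mul_one, y2]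
      · rw [hc2, e, one_smul, mul_assoc, y1, ← mul_assoc, y2, mul_assoc]
  have mY := m1 Y (hY.cc _ fvu fvv) (hY.cc _ fuu fuv)
  have mY1 := m1 Y1 (hY1.cc _ fvu (by rw [coe_tE, map_add, fvv, fvw]))
    (hY1.cc _ fuu (by rw [coe_tE, map_add, fuv, fuw]))
  have mY2 := m1 Y2 (hY2.cc _ (by rw [coe_tE, map_add, fvu, fvw]) fvv)
    (hY2.cc _ (by rw [coe_tE, map_add, fuu, fuw]) fuv)
  have cc1 : c1 * c1 = 1 := by
    have e : j (tE Q v w) * j (tE Q u w) = j (tE Q u w) * j (tE Q v w) := by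
      have := tE_comm h.uw.qw hwv hwu
      rw [tE_swap h.uw.qw h.uv.qw hwv, tE_swap h.uw.qw h.uv.qu hwu] at this
      rw [← map_mul, ← map_mul, this]
    have e5 : c1 * c1 = (c1 * j (tE Q v w)) * j (tE Q u (β • w)) := by rw [hc1]; group
    rw [e5, (m1 _ rfl e.symm).1, hc1, ← mul_assoc, RRself h.uv.qw h.perp, one_mul,
      RRself h.uv.qu pβ]
  have cc2 : c2 * c2 = 1 := by
    have e : j (tE Q v w) * j (tE Q u w) = j (tE Q u w) * j (tE Q v w) := by
      have := tE_comm h.uw.qw hwv hwu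
      rw [tE_swap h.uw.qw h.uv.qw hwv, tE_swap h.uw.qw h.uv.qu hwu] at this
      rw [← map_mul, ← map_mul, this]
    have e5 : c2 * c2 = (c2 * j (tE Q u w)) * j (tE Q v (γ • w)) := by rw [hc2]; group
    rw [e5, (m1 _ e rfl).2, hc2, ← mul_assoc, RRself h.uv.qu h.uw.perp, one_mul,
      RRself h.uv.qw pγ]
  -- z1 = z2
  clear_value Y3 Y2 Y1 c1 c2
  have i0 := hY.inv_eq
  have i1 : Y1⁻¹ = Y1 := hY1.inv_eq
  have i2 : Y2⁻¹ = Y2 := hY2.inv_eq
  have r1 : j (tE Q w u) = Y1 * Y * Y2 * Y3⁻¹ := by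
    have e3 : a = Y⁻¹ * c1 * Y1⁻¹ := by rw [← e1]; group
    have e4 : j (tE Q w u) = a⁻¹ * Y2⁻¹ * c1 * Y3⁻¹ := by rw [← e1']; group
    have e5 : c1⁻¹ = c1 := inv_eq_of_mul_eq_one_left cc1
    rw [e4, e3, mul_inv_rev, mul_inv_rev, inv_inv, inv_inv, e5, i2]
    calc Y1 * (c1 * Y) * Y2 * c1 * Y3⁻¹ = Y1 * Y * (c1 * Y2) * c1 * Y3⁻¹ := by rw [mY.1]; group
      _ = Y1 * Y * Y2 * (c1 * c1) * Y3⁻¹ := by rw [mY2.1]; group
      _ = _ := by rw [cc1, mul_one]
  have r2 : j (tE Q w v) = Y2 * Y * Y1 * Y3⁻¹ := by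
    have e3 : c = Y⁻¹ * c2 * Y2⁻¹ := by rw [← e2]; group
    have e4 : j (tE Q w v) = c⁻¹ * Y1⁻¹ * c2 * Y3⁻¹ := by rw [← e2']; group
    have e5 : c2⁻¹ = c2 := inv_eq_of_mul_eq_one_left cc2
    rw [e4, e3, mul_inv_rev, mul_inv_rev, inv_inv, inv_inv, e5, i1]
    calc Y2 * (c2 * Y) * Y1 * c2 * Y3⁻¹ = Y2 * Y * (c2 * Y1) * c2 * Y3⁻¹ := by rw [mY.2]; group
      _ = Y2 * Y * Y1 * (c2 * c2) * Y3⁻¹ := by rw [mY1.2]; group
      _ = _ := by rw [cc2, mul_one]
  have r3 : Y1 * Y * Y2 = Y2 * Y * Y1 := by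
    rw [mul_assoc, k2, ← mul_assoc, k3, mul_assoc, ← k1, mul_assoc]
  rw [r3, ← r2] at r1
  obtain ⟨s, hs⟩ := (tE_eq_iff hQ h.uw.qw h.uw.ne' hwu hwv).1 (S.inj r1)
  have e6 : s • w + (1 : F) • u + (-1 : F) • v = 0 := by rw [hs]; module
  have e7 : (1 : F) • u + (-1 : F) • v + s • w = 0 := by rw [← e6]; abel
  exact one_ne_zero (Ln3.coeff h e7).1

theorem dual3 [FiniteDimensional F V] (hQ : Nondeg Q) {u v w f : V} (h : Ln3 Q u v w) (hf : Hyp Q u f)
    (fv : polar Q f v = 0) (fw : polar Q f w = 0) : ∃ x, Hyp Q v x ∧ polar Q u x = 0 ∧ polar Q w x = 0 ∧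
      polar Q f x = 0 := by
  obtain ⟨y0, hy0, hy0'⟩ := exists_sep_sub hQ (S := Submodule.span F {u, w, f}) (x := v) (by
      intro hm
      obtain ⟨c1, x, hx, e⟩ := Submodule.mem_span_insert.1 hm
      obtain ⟨c2, c3, rfl⟩ := Submodule.mem_span_pair.1 hx
      have h5 : c3 = 0 := by
        have h6 := congrArg (fun x => polar Q u x) e
        simp only [polar_add_right, polar_smul_right, h.uv.perp, h.uw.perp, hf.pair,
          polar_self_of_sing h.uv.qu, smul_eq_mul, mul_zero, mul_one, add_zero, zero_add] at h6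
        exact h6.symm
      rw [h5, zero_smul, add_zero] at e
      have e1 : c1 • u + (-1 : F) • v + c2 • w = 0 := by rw [e]; module
      have := (Ln3.coeff h e1).2.1
      simp at this)
  have y1 := hy0' u (Submodule.subset_span (by simp))
  have y2 := hy0' w (Submodule.subset_span (by simp))
  have y3 := hy0' f (Submodule.subset_span (by simp))
  have hwv : polar Q w v = 0 := by rw [polar_comm, h.perp]
  refine ⟨y0 + (-Q y0) • v, ⟨h.uv.qw, ?_, ?_⟩, ?_, ?_, ?_⟩
  · rw [Q_add, QuadraticMap.map_smul, h.uv.qw, polar_smul_right, polar_comm Q y0 v, hy0]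
    simp
  · rw [polar_add_right, polar_smul_right, polar_self_of_sing h.uv.qw, hy0]
    simp
  · rw [polar_add_right, polar_smul_right, y1, h.uv.perp]; simp
  · rw [polar_add_right, polar_smul_right, y2, hwv]; simp
  · rw [polar_add_right, polar_smul_right, y3, fv]; simp

/-- **e = 1 is impossible** -/
theorem no_t [Finite F] (H : Ctx t j) (h1 : C1 t j) (hE : Eps t j t) : False := by
  have hQ := H.KF.nondeg
  have hd := H.hd
  have : FiniteDimensional F V := Module.finite_of_finrank_pos (by omega)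
  obtain ⟨u, hu0, hu0'⟩ := H.KF.sing
  obtain ⟨v, h0⟩ := H.KF.exLn hu0 hu0'
  obtain ⟨w, h⟩ := H.KF.exLn3 h0
  obtain ⟨f, hf, fv, fw⟩ := exists_dual hQ h
  obtain ⟨x, hx, ux, wx, fx⟩ := dual3 hQ h hf fv fw
  obtain ⟨w', hw'⟩ := hQ.exists_polar_eq h.uw.ne' 1
  obtain ⟨s, hs0, hs⟩ := exists_perp_ne (Q := Q) ![u, v, w, x, f, w'] (by omega)
  have su := hs 0
  have sv := hs 1
  have sw := hs 2
  have sx := hs 3
  have sf := hs 4
  have sw' := hs 5
  simp only [Matrix.cons_val_zero, Matrix.cons_val_one, Matrix.cons_val] at su sv sw sx sf sw'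
  have S := H.S
  have two : (2 : F) = 0 := CharTwo.two_eq_zero
  have hww : polar Q w w = 0 := polar_self_of_sing h.uw.qw
  have hvv : polar Q v v = 0 := polar_self_of_sing h.uv.qw
  have huu : polar Q u u = 0 := polar_self_of_sing h.uv.qu
  have hxx : polar Q x x = 0 := polar_self_of_sing hx.right
  have hwu := h.uw.perp'
  have hvu := h.uv.perp'
  have huv := h.uv.perp
  have huw := h.uw.perp
  have hvw := h.perp
  have hwv : polar Q w v = 0 := by rw [polar_comm, h.perp]
  have xu : polar Q x u = 0 := by rw [polar_comm, ux]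
  have xw : polar Q x w = 0 := by rw [polar_comm, wx]
  have vx := hx.pair
  have xv : polar Q x v = 1 := hx.pair'
  have uf := hf.pair
  have vf : polar Q v f = 0 := by rw [polar_comm, fv]
  have wf : polar Q w f = 0 := by rw [polar_comm, fw]
  have xf : polar Q x f = 0 := by rw [polar_comm, fx]
  have lux : Ln Q u x := ⟨h.uv.qu, hx.right, ux, h.uv.ne, fun c hc => by
    rw [hc, polar_smul_right, hvu, smul_zero] at vx
    exact zero_ne_one vx⟩
  have h3 : Ln3 Q u x w := ⟨lux, h.uw, xw, fun hm => by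
    obtain ⟨a, b, e⟩ := mem_L.1 hm
    have e1 := congrArg (fun z => polar Q v z) e
    simp only [polar_add_right, polar_smul_right, hvu, vx, hvw, smul_eq_mul, mul_zero, mul_one,
      zero_add] at e1
    rw [e1, zero_smul, add_zero] at e
    exact h.uw.ind a e.symm⟩
  have wxs : polar Q w (x + s) = 0 := by rw [polar_add_right, wx, sw, add_zero]
  -- the element `m = T w (x+s)` and `P = T v w`
  set m := tE Q w (x + s) with hm
  have mu : (m : V ≃ₗ[F] V) u = u := T_fix hwu (by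
    rw [polar_add_left, xu, polar_comm Q s, su, add_zero])
  have mw : (m : V ≃ₗ[F] V) w = w := T_apply_self h.uw.qw wxs
  have mx : (m : V ≃ₗ[F] V) x = x := T_fix wx (by
    rw [polar_add_left, hxx, polar_comm Q s, sx, add_zero])
  have mf : (m : V ≃ₗ[F] V) f = f := T_fix wf (by
    rw [polar_add_left, xf, polar_comm Q s, sf, add_zero])
  have mv : (m : V ≃ₗ[F] V) v = v + w := by
    rw [hm, coe_tE, T_apply2 h.uw.qw wxs, hwv, polar_add_left, xv, polar_comm Q s, sv]; simp
  set p := tE Q v w with hp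
  have pu : (p : V ≃ₗ[F] V) u = u := T_fix hvu hwu
  have pw : (p : V ≃ₗ[F] V) w = w := T_fix hvw hww
  have px : (p : V ≃ₗ[F] V) x = x + w := by
    rw [hp, coe_tE, PP H.h2 h.uv.qw h.uw.qw hvw, vx, wx]; simp
  obtain ⟨y1, hy1⟩ := H.hex u v h.uv
  obtain ⟨y2, hy2⟩ := H.hex u w h.uw
  obtain ⟨y3, hy3⟩ := H.hex u x lux
  have i1 := hy1.inv_eq
  have i2 := hy2.inv_eq
  have i3 := hy3.inv_eq
  have s1 := hy1.sq
  have s2 := hy2.sq
  have s3 := hy3.sq
  obtain ⟨c1, eA⟩ := L3 H (Or.inr rfl) hE h hy1 hy2 mu mv mw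
  obtain ⟨c2, eB⟩ := L3 H (Or.inr rfl) hE h3 hy3 hy2 pu px pw
  have eC := L4_t H h1 hE (Ln3.swap23 h3) hy2 hy3
  have eD := L4_t H h1 hE h hy1 hy2
  have E2 := hy2.cc m mu mw
  have E3 := hy3.cc m mu mx
  -- `R`
  have pvw : polar Q u (v + w) = 0 := (ln_sum h).perp
  have pwx : polar Q u (w + x) = 0 := by rw [polar_add_right, huw, ux, add_zero]
  have C' : y3 * y2 * y3 = j (tE Q u (w + x)) * y2 := by
    rw [← eC]
    calc y3 * y2 * y3 = y3 * y2 * y3 * (y2 * y2) := by rw [s2, mul_one]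
      _ = _ := by group
  have D' : y1 * y2 * y1 = j (tE Q u (v + w)) * y2 := by
    rw [commR h.uw hy2 pvw (by rw [polar_add_right, hwv, hww, add_zero]), ← eD]
    calc y1 * y2 * y1 = (y2 * y2) * y1 * y2 * y1 := by rw [s2, one_mul]
      _ = _ := by group
  set k := y3 * y1 * y3 with hk
  have ki : k⁻¹ = k := by
    rw [hk, mul_inv_rev, mul_inv_rev, i1, i3, mul_assoc]
  have ux' : polar Q u x = 0 := ux
  -- `k` on `R_u`
  have kR : ∀ z, polar Q u z = 0 →
      k * j (tE Q u z) * k⁻¹ = j (tE Q u (z + polar Q (v + x) z • (v + x))) := by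
    intro z hz
    have p1 : polar Q u (z + polar Q x z • x) = 0 := by
      rw [polar_add_right, polar_smul_right, hz, ux]; simp
    have q1 : polar Q v (z + polar Q x z • x) = polar Q v z + polar Q x z := by
      rw [polar_add_right, polar_smul_right, vx, smul_eq_mul, mul_one]
    have p2 : polar Q u (z + polar Q x z • x + (polar Q v z + polar Q x z) • v) = 0 := by
      rw [polar_add_right, p1, polar_smul_right, huv]; simp
    have q2 : polar Q x (z + polar Q x z • x + (polar Q v z + polar Q x z) • v) = polar Q v z := by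
      rw [polar_add_right, polar_add_right, polar_smul_right, polar_smul_right, hxx, xv]
      have : polar Q x z + polar Q x z • (0 : F) + (polar Q v z + polar Q x z) • (1 : F) =
        polar Q v z + 2 * polar Q x z := by simp only [smul_eq_mul]; ring
      rw [this, two, zero_mul, add_zero]
    rw [hk, cj, cj, actR H h1 lux hy3 hz, actR H h1 h.uv hy1 p1, q1, actR H h1 lux hy3 p2, q2]
    congr 2
    rw [polar_add_left]
    have : z + polar Q x z • x + (polar Q v z + polar Q x z) • v + polar Q v z • x =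
      z + (polar Q v z + polar Q x z) • (v + x) := by module
    rw [this]
  have kt : k * t = t * k := by
    apply mul_inv_eq_iff_eq_mul.1
    have f1 : y1 * (t * j (tE Q u x)) * y1⁻¹ = t * j (tE Q u x) := by
      rw [cm, hy1.tt, actR H h1 h.uv hy1 ux, vx, one_smul, mul_assoc t,
        RR h.uv.qu huv (by rw [polar_add_right, ux, huv, add_zero])]
      congr 3
      rw [add_comm x v, ← add_assoc, add_self' (F := F), zero_add]
    have f3 : y3 * (t * j (tE Q u x)) * y3⁻¹ = t := by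
      rw [cm, hy3.tt, actR H h1 lux hy3 ux, hxx, zero_smul, add_zero, mul_assoc t,
        RRself h.uv.qu ux, mul_one]
    rw [hk, cj, cj, hy3.tt, f1, f3]
  -- `k` and `y2`
  have A1 : y1 * j (tE Q u (w + x)) * y1 = j (tE Q u (w + x + v)) := by
    have := actR H h1 h.uv hy1 pwx
    rwa [i1, polar_add_right, hvw, vx, zero_add, one_smul] at this
  have A3 : y3 * j (tE Q u x) * y3 = j (tE Q u x) := by
    have := actR H h1 lux hy3 ux
    rwa [i3, hxx, zero_smul, add_zero] at this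
  have kk : k * k = 1 := by
    nth_rewrite 1 [← ki]
    exact inv_mul_cancel k
  have e1 : w + x + v + (v + w) = x := by
    have : w + x + v + (v + w) = x + (w + w) + (v + v) := by abel
    rw [this, add_self' (F := F), add_self' (F := F), add_zero, add_zero]
  have e2 : x + (w + x) = w := by
    have : x + (w + x) = w + (x + x) := by abel
    rw [this, add_self' (F := F), add_zero]
  have e3 : w + (w + x) = x := by
    rw [← add_assoc, add_self' (F := F), zero_add]
  have ky2 : k * y2 * k = j (tE Q u w) * y2 := by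
    calc k * y2 * k = y3 * (y1 * (y3 * y2 * y3) * y1) * y3 := by rw [hk]; group
      _ = y3 * (y1 * j (tE Q u (w + x)) * (y1 * y1) * y2 * y1) * y3 := by rw [C', s1]; group
      _ = y3 * ((y1 * j (tE Q u (w + x)) * y1) * (y1 * y2 * y1)) * y3 := by group
      _ = y3 * ((j (tE Q u (w + x + v)) * j (tE Q u (v + w))) * y2) * y3 := by rw [A1, D']; group
      _ = y3 * (j (tE Q u x) * (y3 * y3) * y2) * y3 := by
          rw [RR h.uv.qu (by rw [polar_add_right, pwx, huv, add_zero]) pvw, e1, s3, mul_one]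
      _ = (y3 * j (tE Q u x) * y3) * (y3 * y2 * y3) := by group
      _ = j (tE Q u x) * j (tE Q u (w + x)) * y2 := by rw [A3, C']; group
      _ = j (tE Q u w) * y2 := by rw [RR h.uv.qu ux pwx, e2]
  have ky2' : k * y2 = j (tE Q u w) * y2 * k := by
    rw [← ky2, mul_assoc (k * y2), kk, mul_one]
  have kw : k * j (tE Q u w) = j (tE Q u w) * k := by
    have := kR w huw
    rw [polar_add_left, hvw, xw, add_zero, zero_smul, add_zero] at this
    exact mul_inv_eq_iff_eq_mul.1 this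
  have y2w : j (tE Q u w) * y2 = y2 * j (tE Q u w) := commR h.uw hy2 huw hww
  have y2wx : j (tE Q u (w + x)) * y2 = y2 * j (tE Q u (w + x)) := commR h.uw hy2 pwx (by
    rw [polar_add_right, hww, wx, add_zero])
  have c1w : polar Q u (c1 • w) = 0 := by rw [polar_smul_right, huw, smul_zero]
  have y3c : j (tE Q u (c1 • w)) * y3 = y3 * j (tE Q u (c1 • w)) := commR lux hy3 c1w (by
    rw [polar_smul_right, xw, smul_zero])
  have ty3 : y3 * t = t * j (tE Q u x) * y3 := by
    rw [← hy3.tt, inv_mul_cancel_right]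
  have ty2 : y2 * t = t * j (tE Q u w) * y2 := by
    rw [← hy2.tt, inv_mul_cancel_right]
  -- (**)
  have star : k * j (tE Q u x) * (j m * k * (j m)⁻¹) =
      j (tE Q x w) * j (tE Q u (c2 • w)) * j p * j (tE Q u (c1 • w)) := by
    set J := j (tE Q x w) * j (tE Q u (c2 • w)) with hJ
    set X := j m * k * (j m)⁻¹ with hX
    have eB' : j p * y3 = y2 * y3 * t * J * j p := by
      have : y3 * y2 * (j p * y3 * (j p)⁻¹) = t * J := by rw [eB, hJ, mul_assoc]
      calc j p * y3 = (y2 * (y3 * y3) * y2) * (j p * y3 * (j p)⁻¹) * j p := by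
            rw [s3, mul_one, s2]; group
        _ = y2 * y3 * (y3 * y2 * (j p * y3 * (j p)⁻¹)) * j p := by group
        _ = y2 * y3 * t * J * j p := by rw [this]; group
    have l1 : y3 * (y1 * y2 * (j m * y1 * (j m)⁻¹)) * y3 = y2 * (k * j (tE Q u x) * X) := by
      have E3' : (j m)⁻¹ * y3 = y3 * (j m)⁻¹ := by
        rw [inv_mul_eq_iff_eq_mul, ← mul_assoc, E3, mul_inv_cancel_right]
      calc y3 * (y1 * y2 * (j m * y1 * (j m)⁻¹)) * y3
          = y3 * y1 * (y3 * y3) * y2 * (y3 * y3) * j m * y1 * ((j m)⁻¹ * y3) := by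
            rw [s3, mul_one, mul_one]; group
        _ = k * (y3 * y2 * y3) * (y3 * j m) * y1 * (y3 * (j m)⁻¹) := by rw [E3', hk]; group
        _ = k * (j (tE Q u (w + x)) * y2) * X := by rw [C', ← E3, hX, hk]; group
        _ = (k * y2) * j (tE Q u (w + x)) * X := by rw [y2wx]; group
        _ = y2 * (j (tE Q u w) * k) * j (tE Q u (w + x)) * X := by rw [ky2', y2w]; group
        _ = y2 * k * (j (tE Q u w) * j (tE Q u (w + x))) * X := by rw [← kw]; group
        _ = y2 * (k * j (tE Q u x) * X) := by rw [RR h.uv.qu huw pwx, e3]; group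
    have l2 : y3 * (t * j (tE Q v w) * j (tE Q u (c1 • w))) * y3 = y2 * (J * j p * j (tE Q u (c1 • w))) := by
      rw [← hp]
      calc y3 * (t * j p * j (tE Q u (c1 • w))) * y3 = y3 * t * j p * (j (tE Q u (c1 • w)) * y3) := by group
        _ = (y3 * t) * (j p * y3) * j (tE Q u (c1 • w)) := by rw [y3c]; group
        _ = t * j (tE Q u x) * (y3 * y2 * y3) * t * J * j p * j (tE Q u (c1 • w)) := by
            rw [ty3, eB']; group
        _ = t * (j (tE Q u x) * j (tE Q u (w + x))) * (y2 * t) * J * j p * j (tE Q u (c1 • w)) := by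
            rw [C']; group
        _ = (t * j (tE Q u w)) * (t * j (tE Q u w)) * y2 * J * j p * j (tE Q u (c1 • w)) := by
            rw [RR h.uv.qu ux pwx, e2, ty2]; group
        _ = y2 * (J * j p * j (tE Q u (c1 • w))) := by
            have : (t * j (tE Q u w)) * (t * j (tE Q u w)) = 1 := by
              calc (t * j (tE Q u w)) * (t * j (tE Q u w)) = t * (j (tE Q u w) * t) * j (tE Q u w) := by group
                _ = (t * t) * (j (tE Q u w) * j (tE Q u w)) := by rw [← S.tj]; group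
                _ = 1 := by rw [S.tt, RRself h.uv.qu huw, one_mul]
            rw [this]; group
    rw [eA, l2] at l1
    exact (mul_left_cancel l1).symm
  -- the maps
  obtain ⟨M, hM⟩ := Act.ex S H.h2 kt
  have hMR : ∀ z, polar Q u z = 0 → tE Q (M u) (M z) = tE Q u (z + polar Q (v + x) z • (v + x)) := by
    intro z hz
    have := hM.conj u z h.uv.qu hz
    rw [kR z hz] at this
    exact (S.inj this).symm
  have ax : polar Q (v + x) v = 1 := by rw [polar_add_left, hvv, xv, zero_add]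
  have aw : polar Q (v + x) w = 0 := by rw [polar_add_left, hvw, xw, zero_add]
  have pa : polar Q u (v + x) = 0 := by rw [polar_add_right, huv, ux, zero_add]
  have hMu : M u = u := by
    have m1 := hMR v huv
    have m2 := hMR w huw
    rw [ax, one_smul, ← add_assoc, add_self' (F := F), zero_add] at m1
    rw [aw, zero_smul, add_zero] at m2
    exact fix_of_lines hQ H.h2 hM.mem h.uv h.uw lux h.uw h3.ind m1 m2
  have hMz : ∀ z, polar Q u z = 0 → ∃ c : F, M z = z + polar Q (v + x) z • (v + x) + c • u := by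
    intro z hz
    exact move_of hQ hM.mem h.uv.qu h.uv.ne hMu hz (by
      rw [polar_add_right, polar_smul_right, hz, pa]; simp) (hMR z hz)
  have a1 := (hM.mul (Act.jK S (tE Q u x))).mul (((Act.jK S m).mul hM).mul (Act.jK S m).inv)
  have a2 := (((Act.jK S (tE Q x w)).mul (Act.jK S (tE Q u (c2 • w)))).mul (Act.jK S p)).mul
    (Act.jK S (tE Q u (c1 • w)))
  rw [star] at a1
  have a3 := Act.uniq S H.KF hd a1 a2
  have a4 := congrArg (fun g : V ≃ₗ[F] V => g f) a3
  have b1 : (M * ((tE Q u x : ↥(E Q)) : V ≃ₗ[F] V) * ((m : V ≃ₗ[F] V) * M * (m : V ≃ₗ[F] V)⁻¹)) f =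
      M (T Q u x ((m : V ≃ₗ[F] V) (M ((m : V ≃ₗ[F] V)⁻¹ f)))) := rfl
  have b2 : (((tE Q x w : ↥(E Q)) : V ≃ₗ[F] V) * ((tE Q u (c2 • w) : ↥(E Q)) : V ≃ₗ[F] V) *
      (p : V ≃ₗ[F] V) * ((tE Q u (c1 • w) : ↥(E Q)) : V ≃ₗ[F] V)) f =
      T Q x w (T Q u (c2 • w) ((p : V ≃ₗ[F] V) (T Q u (c1 • w) f))) := rfl
  have a5 : M (T Q u x ((m : V ≃ₗ[F] V) (M ((m : V ≃ₗ[F] V)⁻¹ f)))) =
      T Q x w (T Q u (c2 • w) ((p : V ≃ₗ[F] V) (T Q u (c1 • w) f))) := by
    rw [← b1, ← b2]; exact a4
  have mf' : (m : V ≃ₗ[F] V)⁻¹ f = f := by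
    conv_lhs => rw [← mf]
    exact (m : V ≃ₗ[F] V).symm_apply_apply f
  -- right side
  have c2w : polar Q u (c2 • w) = 0 := by rw [polar_smul_right, huw, smul_zero]
  have qw := h.uw.qw
  have r1 : T Q u (c1 • w) f = f + c1 • w := by
    rw [T_apply2 h.uv.qu c1w, uf, one_smul, polar_smul_left, wf, QuadraticMap.map_smul, qw]
    simp
  have r2 : (p : V ≃ₗ[F] V) (f + c1 • w) = f + c1 • w := by
    rw [map_add, map_smul, pw]
    congr 1
    exact T_fix vf wf
  have r3 : T Q u (c2 • w) (f + c1 • w) = f + c2 • w + c1 • w := by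
    rw [map_add, map_smul, T_fix huw (by rw [polar_smul_left, hww, smul_zero]),
      T_apply2 h.uv.qu c2w, uf, one_smul, polar_smul_left, wf, QuadraticMap.map_smul, qw]
    simp
  have r4 : T Q x w (f + c2 • w + c1 • w) = f + c2 • w + c1 • w := by
    rw [map_add, map_add, map_smul, map_smul, T_fix xw hww, T_fix xf wf]
  rw [r1, r2, r3, r4, mf'] at a5
  -- left side
  obtain ⟨β, hβ⟩ : ∃ β, M f = f + β := ⟨M f - f, by abel⟩
  have uβ : polar Q u β = 0 := by
    have := polar_map hM.mem u f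
    rw [hMu, hβ, polar_add_right, uf] at this
    exact add_eq_left.1 this
  have l1 : (m : V ≃ₗ[F] V) β = β + polar Q w β • (x + s) +
      (polar Q (x + s) β + Q (x + s) * polar Q w β) • w := by
    rw [hm, coe_tE, T_apply2 qw wxs]
  set r := polar Q (x + s) β + Q (x + s) * polar Q w β with hr
  have umβ : polar Q u (β + polar Q w β • (x + s) + r • w) = 0 := by
    rw [polar_add_right, polar_add_right, uβ, polar_smul_right, polar_smul_right, polar_add_right, ux, su,
      huw]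
    simp
  have l2 : ∃ r' : F, T Q u x (f + (β + polar Q w β • (x + s) + r • w)) =
      f + (β + polar Q w β • (x + s) + r • w) + x + r' • u := by
    refine ⟨polar Q x (f + (β + polar Q w β • (x + s) + r • w)) + Q x * 1, ?_⟩
    have e5 : polar Q u (f + (β + polar Q w β • (x + s) + r • w)) = 1 := by
      rw [polar_add_right, uf, umβ, add_zero]
    rw [T_apply2 h.uv.qu ux, e5, one_smul]
  obtain ⟨r', hr'⟩ := l2
  rw [hβ, map_add, mf, l1, hr'] at a5
  set z := β + polar Q w β • (x + s) + r • w + x with hz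
  have uz : polar Q u z = 0 := by rw [hz, polar_add_right, umβ, ux, add_zero]
  obtain ⟨c, hc⟩ := hMz z uz
  have l3 : f + (β + polar Q w β • (x + s) + r • w) + x + r' • u = f + z + r' • u := by
    rw [hz]; abel
  rw [l3, map_add, map_add, map_smul, hMu, hβ, hc] at a5
  have l4 : polar Q w β • (x + s) + x + polar Q (v + x) z • (v + x) + (r - c2 - c1) • w + (c + r') • u =
      0 := by
    have e5 : f + β + (z + polar Q (v + x) z • (v + x) + c • u) + r' • u - (f + c2 • w + c1 • w) =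
        (β + β) + (polar Q w β • (x + s) + x + polar Q (v + x) z • (v + x) + (r - c2 - c1) • w +
          (c + r') • u) := by
      rw [hz]; module
    rw [a5, sub_self, add_self' (F := F), zero_add] at e5
    exact e5.symm
  have n1 : polar Q (v + x) z = 0 := by
    have := congrArg (fun y => polar Q x y) l4
    simp only [polar_add_right, polar_smul_right, hxx, sx, xv, xw, xu, polar_zero_right, smul_eq_mul, mul_zero,
      mul_one, add_zero, zero_add] at this
    exact this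
  rw [n1, zero_smul, add_zero] at l4
  have n2 : polar Q w β + 1 = 0 := by
    have := congrArg (fun y => polar Q v y) l4
    simp only [polar_add_right, polar_smul_right, vx, sv, hvw, hvu, polar_zero_right, smul_eq_mul, mul_zero,
      mul_one, add_zero] at this
    exact this
  have n3 : polar Q w β = 1 := by
    rw [← sub_eq_zero, sub_eq_add_neg, CharTwo.neg_eq]
    exact n2
  rw [n3, one_smul] at l4
  have l5 : s + (r - c2 - c1) • w + (c + r') • u = 0 := by
    have e5 : x + s + x + (r - c2 - c1) • w + (c + r') • u = (x + x) + (s + (r - c2 - c1) • w + (c + r') • u) := by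
      abel
    rw [l4, add_self' (F := F), zero_add] at e5
    exact e5.symm
  have n4 : c + r' = 0 := by
    have := congrArg (fun y => polar Q f y) l5
    simp only [polar_add_right, polar_smul_right, sf, fw, hf.pair', polar_zero_right, smul_eq_mul, mul_zero,
      mul_one, add_zero, zero_add] at this
    exact this
  rw [n4, zero_smul, add_zero] at l5
  have n5 : r - c2 - c1 = 0 := by
    have := congrArg (fun y => polar Q w' y) l5
    simp only [polar_add_right, polar_smul_right, sw', polar_comm Q w' w, hw', polar_zero_right, smul_eq_mul,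
      mul_one, zero_add] at this
    exact this
  rw [n5, zero_smul, add_zero] at l5
  exact hs0 l5

theorem cent' [Finite F] (H : Ctx t j) {u v : V} {y : G} {k : ↥(E Q)} (hl : Ln Q u v)
    (hy : IsY t j u v y) (hk : k * tE Q u v = tE Q u v * k) : j k * y = y * j k := by
  rcases dicho H with h0 | h1
  · exact cent_of_C0 H h0 hl hy hk
  · rcases eps H h1 with h | h
    · exact (no_one H h1 h).elim
    · exact (no_t H h1 h).elim

/-- **The field `cent` of `Face.Dbl` over the field with two elements.** -/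
theorem cent [Finite F] (hQ : Nondeg Q) (hd : 8 ≤ Module.finrank F V) (h2 : ∀ c : F, c = 0 ∨ c = 1)
    (S : Sit Q t j) (hex : ∀ u v, Ln Q u v → ∃ y, IsY t j u v y) {u v : V} {y : G} {k : ↥(E Q)}
    (hl : Ln Q u v) (hy : IsY t j u v y) (hk : k * tE Q u v = tE Q u v * k) : j k * y = y * j k :=
  cent' ⟨S, kfacts hQ hd, h2, hd, hex⟩ hl hy hk

end one

end Cfsg.Agent.OddHalf.Orth.COne
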