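import Mathlib

/-!
# ODD D7, `q = 2`, row M9: the group computations (abstract)

* `rho_dich` : `g² = 1` and `g y₁ g⁻¹ = y₁ y_b ρ`, `ρ ∈ {1,t}{1,z₁}ζ` give `ρ = ζ` or `ρ = t z₁ ζ`;
* `plane_comm` : comparison of `(g y₁ g⁻¹)^{g'}` and `(g' y₁ g'⁻¹)^g`;
* `k_t`, `k_v` : the element `y_p y_q y_p` commutes with `t`; conjugation by `y_v`.
-/

set_option autoImplicit false

namespace Cfsg.Agent.OddHalf.Orth.CentAbs

variable {G : Type*} [Group G]

theorem conj_mul3 (g a b c : G) : g * (a * b * c) * g⁻¹ = (g * a * g⁻¹) * (g * b * g⁻¹) * (g * c * g⁻¹) := by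
  group

/-- the first step -/
theorem step_one {g y1 yb ρ : G} (gg : g * g = 1) (hy1 : g * y1 * g⁻¹ = y1 * yb * ρ)
    (hyb : g * yb * g⁻¹ = yb) : yb * ρ * yb * (g * ρ * g⁻¹) = 1 := by
  have gi : g⁻¹ = g := inv_eq_of_mul_eq_one_left gg
  have e1 : g * (g * y1 * g⁻¹) * g⁻¹ = y1 := by
    have : g * (g * y1 * g⁻¹) * g⁻¹ = (g * g) * y1 * (g⁻¹ * g⁻¹) := by group
    rw [this, gg, gi, gg]; group
  rw [hy1, conj_mul3, hy1, hyb] at e1
  have : y1 * (yb * ρ * yb * (g * ρ * g⁻¹)) = y1 := by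
    conv_rhs => rw [← e1]
    group
  exact mul_eq_left.1 this

/-- **(ii)** -/
theorem rho_dich {t g y1 yb z1 zb ζ s r ρ : G} (tt : t * t = 1) (gg : g * g = 1)
    (hy1 : g * y1 * g⁻¹ = y1 * yb * ρ) (hyb : g * yb * g⁻¹ = yb) (hρ : ρ = s * r * ζ)
    (hs : s = 1 ∨ s = t) (hr : r = 1 ∨ r = z1) (z11 : z1 * z1 = 1) (zz : ζ * ζ = 1) (ybb : yb * yb = 1)
    (hzb : zb ≠ 1) (ty : yb * t * yb = t * zb) (tg : g * t * g⁻¹ = t) (zg : g * z1 * g⁻¹ = z1 * zb)
    (ζg : g * ζ * g⁻¹ = ζ) (zy : z1 * yb = yb * z1) (ζy : ζ * yb = yb * ζ)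
    (ζz : ζ * z1 = z1 * ζ) (tz : t * z1 = z1 * t) (tζ : t * ζ = ζ * t) (zbt : zb * t = t * zb)
    (zbz : zb * z1 = z1 * zb) (zbζ : zb * ζ = ζ * zb) : ρ = ζ ∨ ρ = t * z1 * ζ := by
  have h := step_one gg hy1 hyb
  rcases hs with hs | hs
  · rcases hr with hr | hr
    · left; rw [hρ, hs, hr]; group
    · exfalso
      apply hzb
      rw [hρ, conj_mul3, ζg, hs, hr, zg] at h
      rw [← h]
      calc zb = (yb * yb) * ((z1 * z1) * (ζ * ζ)) * zb := by rw [ybb, z11, zz]; group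
        _ = yb * (yb * z1) * z1 * ζ * ζ * zb := by group
        _ = yb * (z1 * yb) * z1 * ζ * ζ * zb := by rw [zy]
        _ = yb * z1 * (yb * z1) * ζ * ζ * zb := by group
        _ = yb * z1 * (z1 * yb) * ζ * ζ * zb := by rw [zy]
        _ = yb * z1 * z1 * (yb * ζ) * ζ * zb := by group
        _ = yb * z1 * z1 * (ζ * yb) * ζ * zb := by rw [ζy]
        _ = yb * z1 * (z1 * ζ) * yb * (ζ * zb) := by group
        _ = yb * z1 * (ζ * z1) * yb * (zb * ζ) := by rw [ζz, zbζ]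
        _ = yb * z1 * ζ * (z1 * yb) * zb * ζ := by group
        _ = yb * z1 * ζ * (yb * z1) * zb * ζ := by rw [zy]
        _ = _ := by group
  · rcases hr with hr | hr
    · exfalso
      apply hzb
      rw [hρ, conj_mul3, ζg, hs, hr, tg] at h
      rw [← h]
      calc zb = t * (t * zb) := by rw [← mul_assoc, tt, one_mul]
        _ = t * (zb * t) := by rw [zbt]
        _ = (t * zb) * t * (ζ * ζ) := by rw [zz]; group
        _ = (yb * t * yb) * t * (ζ * ζ) := by rw [ty]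
        _ = yb * t * yb * (t * ζ) * ζ := by group
        _ = yb * t * yb * (ζ * t) * ζ := by rw [tζ]
        _ = yb * t * (yb * ζ) * t * ζ := by group
        _ = yb * t * (ζ * yb) * t * ζ := by rw [ζy]
        _ = _ := by group
    · right; rw [hρ, hs, hr]

/-- the alternatives of `rho_dich` in uniform form: the same `e` for `g'` and for `y_a` -/
theorem rho_unif {t g' ya z1 za ζ ρ : G} (h : ρ = ζ ∨ ρ = t * z1 * ζ)
    (tya : t * ya = ya * za * t) (zy : z1 * ya = ya * z1) (ζy : ζ * ya = ya * ζ)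
    (tg : g' * t * g'⁻¹ = t) (zg : g' * z1 * g'⁻¹ = z1 * za) (ζg : g' * ζ * g'⁻¹ = ζ)
    (zaζ : za * ζ = ζ * za) (zat : za * t = t * za) (zaz : za * z1 = z1 * za) :
    ∃ e, (e = 1 ∨ e = za) ∧ g' * ρ * g'⁻¹ = ρ * e ∧ ρ * ya = ya * ρ * e := by
  rcases h with rfl | rfl
  · exact ⟨1, Or.inl rfl, by rw [ζg, mul_one], by rw [ζy, mul_one]⟩
  · refine ⟨za, Or.inr rfl, ?_, ?_⟩
    · rw [conj_mul3, tg, zg, ζg]
      calc t * (z1 * za) * ζ = t * z1 * (za * ζ) := by group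
        _ = t * z1 * ζ * za := by rw [zaζ]; group
    · calc t * z1 * ζ * ya = t * z1 * (ζ * ya) := by group
        _ = t * (z1 * ya) * ζ := by rw [ζy]; group
        _ = (t * ya) * z1 * ζ := by rw [zy]; group
        _ = ya * (za * t) * z1 * ζ := by rw [tya]; group
        _ = ya * t * (za * z1) * ζ := by rw [zat]; group
        _ = ya * t * z1 * (za * ζ) := by rw [zaz]; group
        _ = ya * (t * z1 * ζ) * za := by rw [zaζ]; group

/-- **(iii)** -/
theorem plane_comm {g g' y1 ya yb za zb ρ ρ' e e' : G} (hgg : g * g' = g' * g)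
    (h1 : g * y1 * g⁻¹ = y1 * yb * ρ) (h2 : g' * y1 * g'⁻¹ = y1 * ya * ρ')
    (hya : g * ya * g⁻¹ = ya * za) (hyb : g' * yb * g'⁻¹ = yb * zb)
    (hρ : g' * ρ * g'⁻¹ = ρ * e) (hρ' : g * ρ' * g⁻¹ = ρ' * e')
    (c : ρ * ya = ya * ρ * e) (c' : ρ' * yb = yb * ρ' * e')
    (k1 : ρ * ρ' = ρ' * ρ) (k2 : e * ρ' = ρ' * e) (k3 : e' * ρ = ρ * e') (k4 : e * e' = e' * e)
    (k5 : za * ρ' = ρ' * za) (k6 : za * e' = e' * za) (k7 : zb * ρ = ρ * zb) (k8 : zb * e = e * zb)
    (k9 : za * e = e * za) (k10 : za * ρ = ρ * za) (k11 : zb * e' = e' * zb) (k12 : zb * ρ' = ρ' * zb) :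
    ya * yb * zb = yb * ya * za := by
  have e1 : g' * (g * y1 * g⁻¹) * g'⁻¹ = g * (g' * y1 * g'⁻¹) * g⁻¹ := by
    calc g' * (g * y1 * g⁻¹) * g'⁻¹ = (g' * g) * y1 * (g' * g)⁻¹ := by group
      _ = (g * g') * y1 * (g * g')⁻¹ := by rw [hgg]
      _ = _ := by group
  rw [h1, h2, conj_mul3, conj_mul3, h1, h2, hya, hyb, hρ, hρ'] at e1
  have e2 : ya * ρ' * (yb * zb) * (ρ * e) = yb * ρ * (ya * za) * (ρ' * e') := by
    have : y1 * (ya * ρ' * (yb * zb) * (ρ * e)) = y1 * (yb * ρ * (ya * za) * (ρ' * e')) := by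
      calc y1 * (ya * ρ' * (yb * zb) * (ρ * e)) = y1 * ya * ρ' * (yb * zb) * (ρ * e) := by group
        _ = _ := by rw [e1]; group
    exact mul_left_cancel this
  have l : ya * ρ' * (yb * zb) * (ρ * e) = (ya * yb * zb) * (ρ * ρ' * e * e') := by
    calc ya * ρ' * (yb * zb) * (ρ * e) = ya * (ρ' * yb) * (zb * ρ) * e := by group
      _ = ya * (yb * ρ' * e') * (ρ * zb) * e := by rw [c', k7]
      _ = ya * yb * ρ' * (e' * ρ) * (zb * e) := by group
      _ = ya * yb * ρ' * (ρ * e') * (e * zb) := by rw [k3, k8]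
      _ = ya * yb * (ρ' * ρ) * (e' * e) * zb := by group
      _ = ya * yb * (ρ * ρ') * (e * e') * zb := by rw [k1, k4]
      _ = ya * yb * ρ * ρ' * e * (e' * zb) := by group
      _ = ya * yb * ρ * ρ' * e * (zb * e') := by rw [k11]
      _ = ya * yb * ρ * ρ' * (e * zb) * e' := by group
      _ = ya * yb * ρ * ρ' * (zb * e) * e' := by rw [k8]
      _ = ya * yb * ρ * (ρ' * zb) * e * e' := by group
      _ = ya * yb * ρ * (zb * ρ') * e * e' := by rw [k12]
      _ = ya * yb * (ρ * zb) * ρ' * e * e' := by group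
      _ = ya * yb * (zb * ρ) * ρ' * e * e' := by rw [k7]
      _ = _ := by group
  have r : yb * ρ * (ya * za) * (ρ' * e') = (yb * ya * za) * (ρ * ρ' * e * e') := by
    calc yb * ρ * (ya * za) * (ρ' * e') = yb * (ρ * ya) * (za * ρ') * e' := by group
      _ = yb * (ya * ρ * e) * (ρ' * za) * e' := by rw [c, k5]
      _ = yb * ya * ρ * (e * ρ') * (za * e') := by group
      _ = yb * ya * ρ * (ρ' * e) * (e' * za) := by rw [k2, k6]
      _ = yb * ya * ρ * ρ' * e * (e' * za) := by group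
      _ = yb * ya * ρ * ρ' * e * (za * e') := by rw [k6]
      _ = yb * ya * ρ * ρ' * (e * za) * e' := by group
      _ = yb * ya * ρ * ρ' * (za * e) * e' := by rw [k9]
      _ = yb * ya * ρ * (ρ' * za) * e * e' := by group
      _ = yb * ya * ρ * (za * ρ') * e * e' := by rw [k5]
      _ = yb * ya * (ρ * za) * ρ' * e * e' := by group
      _ = yb * ya * (za * ρ) * ρ' * e * e' := by rw [k10]
      _ = _ := by group
  rw [l, r] at e2
  exact mul_right_cancel e2

/-- `(y_p z_p)(y_q z_q)(y_p z_p) = y_p y_q y_p` -/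
theorem k_core {yp yq zp zq : G} (h : zp * yq = yq * zq * zp) (zpp : zp * zp = 1) (zqq : zq * zq = 1)
    (c : zp * zq = zq * zp) (cp : zp * yp = yp * zp) :
    (yp * zp) * (yq * zq) * (yp * zp) = yp * yq * yp := by
  calc (yp * zp) * (yq * zq) * (yp * zp) = yp * (zp * yq) * zq * yp * zp := by group
    _ = yp * yq * zq * (zp * zq) * yp * zp := by rw [h]; group
    _ = yp * yq * (zq * zq) * zp * yp * zp := by rw [c]; group
    _ = yp * yq * (zp * yp) * zp := by rw [zqq]; group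
    _ = yp * yq * yp * (zp * zp) := by rw [cp]; group
    _ = _ := by rw [zpp, mul_one]

/-- `y_p y_q y_p` commutes with `t` -/
theorem k_t {t yp yq zp zq : G} (tt : t * t = 1) (hp : t * yp * t = yp * zp) (hq : t * yq * t = yq * zq)
    (h : zp * yq = yq * zq * zp) (zpp : zp * zp = 1) (zqq : zq * zq = 1)
    (c : zp * zq = zq * zp) (cp : zp * yp = yp * zp) : (yp * yq * yp) * t = t * (yp * yq * yp) := by
  have e : t * (yp * yq * yp) * t = yp * yq * yp := by
    calc t * (yp * yq * yp) * t = t * yp * 1 * yq * 1 * yp * t := by group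
      _ = t * yp * (t * t) * yq * (t * t) * yp * t := by rw [tt]
      _ = (t * yp * t) * (t * yq * t) * (t * yp * t) := by group
      _ = yp * yq * yp := by rw [hp, hq, k_core h zpp zqq c cp]
  calc (yp * yq * yp) * t = (t * (yp * yq * yp) * t) * t := by rw [e]
    _ = t * (yp * yq * yp) * (t * t) := by group
    _ = _ := by rw [tt, mul_one]

/-- `y_v (y_p y_q y_p) y_v⁻¹ = z_v (y_p y_q y_p)` -/
theorem k_v {yv yp yq zv zp zq : G} (h1 : yv * yp * yv⁻¹ = yp * zp * zv) (h2 : yv * yq * yv⁻¹ = yq * zq * zv)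
    (h : zp * yq = yq * zq * zp) (zpp : zp * zp = 1) (zqq : zq * zq = 1) (zvv : zv * zv = 1)
    (c : zp * zq = zq * zp) (cp : zp * yp = yp * zp)
    (v1 : zv * yp = yp * zv) (v2 : zv * yq = yq * zv) (v3 : zv * zp = zp * zv) (v4 : zv * zq = zq * zv) :
    yv * (yp * yq * yp) * yv⁻¹ = (yp * yq * yp) * zv := by
  rw [conj_mul3, h1, h2]
  have w1 : zv * (yq * zq) = (yq * zq) * zv := by
    calc zv * (yq * zq) = (zv * yq) * zq := by group
      _ = yq * (zv * zq) := by rw [v2]; group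
      _ = _ := by rw [v4]; group
  have w2 : zv * (yp * zp) = (yp * zp) * zv := by
    calc zv * (yp * zp) = (zv * yp) * zp := by group
      _ = yp * (zv * zp) := by rw [v1]; group
      _ = _ := by rw [v3]; group
  calc yp * zp * zv * (yq * zq * zv) * (yp * zp * zv)
      = yp * zp * (zv * (yq * zq)) * (zv * (yp * zp)) * zv := by group
    _ = yp * zp * (yq * zq * zv) * (yp * zp * zv) * zv := by rw [w1, w2]
    _ = yp * zp * (yq * zq) * (zv * (yp * zp)) * (zv * zv) := by group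
    _ = (yp * zp) * (yq * zq) * (yp * zp) * zv := by rw [w2, zvv]; group
    _ = _ := by rw [k_core h zpp zqq c cp]

end Cfsg.Agent.OddHalf.Orth.CentAbs
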