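import Cfsg.Agent.OddHalf.Orth.Star

/-!
# ODD D7, `K = Ω(V)`: `V*_u` is abelian if the doubled root groups are additive
-/

set_option autoImplicit false

namespace Cfsg.Agent.OddHalf.Orth.Face

open QuadraticMap Cfsg.Agent.LieClassical.OrthCore Cfsg.Agent.LieClassical.OrthTrans
  Cfsg.Agent.ClassicalGeometry.OrthAutBasic Cfsg.Agent.ClassicalGeometry.OrthAutRoot Cfsg.Agent.OddHalf.Orth

variable {F V : Type*} [Field F] [AddCommGroup V] [Module F V] {Q : QuadraticForm F V}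

namespace Ln3

theorem coeff {u v w : V} (h : Ln3 Q u v w) {a b c : F} (e : a • u + b • v + c • w = 0) :
    a = 0 ∧ b = 0 ∧ c = 0 := by
  by_cases hc : c = 0
  · subst hc
    rw [zero_smul, add_zero] at e
    obtain ⟨h1, h2⟩ := h.uv.coeff e
    exact ⟨h1, h2, rfl⟩
  · exfalso
    apply h.ind
    rw [mem_L]
    refine ⟨-(c⁻¹ * a), -(c⁻¹ * b), ?_⟩
    have h1 : w = c⁻¹ • (c • w) := by rw [smul_smul, inv_mul_cancel₀ hc, one_smul]
    have h2 : c • w = -(a • u + b • v) := by rw [eq_neg_iff_add_eq_zero, add_comm]; exact e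
    rw [h1, h2]
    module

theorem of_coeff {u v w : V} (huv : Ln Q u v) (huw : Ln Q u w) (hvw : polar Q v w = 0)
    (h : ∀ a b c : F, a • u + b • v + c • w = 0 → c = 0) : Ln3 Q u v w := by
  refine ⟨huv, huw, hvw, ?_⟩
  intro hw
  obtain ⟨a, b, e⟩ := mem_L.1 hw
  have := h a b (-1) (by rw [e]; module)
  simp at this

theorem symm {u v w : V} (h : Ln3 Q u v w) : Ln3 Q u w v := by
  refine of_coeff h.uw h.uv (by rw [polar_comm]; exact h.perp) ?_
  intro a b c e
  exact (h.coeff (a := a) (b := c) (c := b) (by rw [← e]; module)).2.1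

theorem rot {u v w : V} (h : Ln3 Q u v w) : Ln3 Q v u w := by
  have hvw : Ln Q v w := by
    refine ⟨h.uv.qw, h.uw.qw, h.perp, h.uv.ne', ?_⟩
    intro c hc
    apply h.ind
    rw [mem_L]
    exact ⟨0, c, by rw [hc]; module⟩
  refine of_coeff h.uv.symm hvw h.uw.perp ?_
  intro a b c e
  exact (h.coeff (a := b) (b := a) (c := c) (by rw [← e]; module)).2.2

theorem vw {u v w : V} (h : Ln3 Q u v w) : Ln Q v w := h.rot.uw

theorem smul2 {u v w : V} (h : Ln3 Q u v w) {c : F} (hc : c ≠ 0) : Ln3 Q u (c • v) w := by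
  refine of_coeff (h.uv.smul_right hc) h.uw (by rw [polar_smul_left, h.perp, smul_zero]) ?_
  intro a b d e
  exact (h.coeff (a := a) (b := b * c) (c := d) (by rw [← e]; module)).2.2

theorem add {u v w : V} (h : Ln3 Q u v w) : Ln Q u (v + w) := by
  refine ⟨h.uv.qu, ?_, ?_, h.uv.ne, ?_⟩
  · rw [Q_add, h.uv.qw, h.uw.qw, h.perp]; simp
  · rw [polar_add_right, h.uv.perp, h.uw.perp, add_zero]
  · intro c hc
    have := (h.coeff (a := -c) (b := 1) (c := 1) (by
      rw [one_smul, one_smul, add_assoc, hc]; module)).2.1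
    exact one_ne_zero this

theorem map {u v w : V} (h : Ln3 Q u v w) {g : V ≃ₗ[F] V} (hg : g ∈ O Q) : Ln3 Q (g u) (g v) (g w) := by
  refine of_coeff (h.uv.map hg) (h.uw.map hg) (by rw [polar_map hg]; exact h.perp) ?_
  intro a b c e
  refine (h.coeff (a := a) (b := b) (c := c) ?_).2.2
  apply g.injective
  rw [map_zero, ← e, map_add, map_add, map_smul, map_smul, map_smul]

end Ln3

end Cfsg.Agent.OddHalf.Orth.Face

namespace Cfsg.Agent.OddHalf.Orth.Star

open QuadraticMap Cfsg.Agent.LieClassical.OrthCore Cfsg.Agent.LieClassical.OrthTrans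
  Cfsg.Agent.ClassicalGeometry.OrthAutBasic Cfsg.Agent.ClassicalGeometry.OrthAutRoot Cfsg.Agent.OddHalf.Orth
  Cfsg.Agent.OddHalf.Orth.Face

variable {F V : Type*} [Field F] [AddCommGroup V] [Module F V] {Q : QuadraticForm F V}
variable {G : Type*} [Group G] {t : G} {j : ↥(E Q) →* G} {W : V → V → Subgroup G}

variable (D : Dbl Q t j W)
include D

/-- `ph` on `W u v`, with coefficient. -/
theorem ph_W {u v : V} (h : Ln Q u v) {f : G} (hf : f ∈ W u v) : ∃ c : F, ph t f = j (tE Q u (c • v)) :=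
  D.phi h hf

theorem surj_W {u v : V} (h : Ln Q u v) (c : F) : ∃ f ∈ W u v, ph t f = j (tE Q u (c • v)) := D.surj c h

theorem W_fix {u v : V} (h : Ln Q u v) {f : G} (hf : f ∈ W u v) (h1 : ph t f = 1) : f ∈ Ru Q j u := by
  obtain ⟨c, rfl⟩ := D.fix h hf ((ph_eq_one D.tt).1 h1)
  exact Ru_mem (by rw [polar_smul_right, h.perp, smul_zero])

theorem ph_W_conj {u v : V} {f : G} {c : F} (hf : ph t f = j (tE Q u (c • v)))
    (k : ↥(E Q)) : ph t (j k * f * (j k)⁻¹) =
      j (tE Q ((k : V ≃ₗ[F] V) u) (c • (k : V ≃ₗ[F] V) v)) := by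
  rw [ph_conj (D.tj k), hf, D.rconj, map_smul]

/-- Injectivity of `x ↦ T u x` modulo `u`. -/
theorem r_inj (hK : KFacts Q) {u x y : V} (hu : Q u = 0) (hu0 : u ≠ 0) (hx : polar Q u x = 0)
    (hy : polar Q u y = 0) (e : j (tE Q u x) = j (tE Q u y)) : ∃ c : F, y = x + c • u :=
  (tE_eq_iff hK.nondeg hu hu0 hx hy).1 (D.inj e)

/-- The basic step: a commutator `[f,g] ∈ R_u`, `f ∈ W u v`, is fixed by `x = T v s` if `g^x ∈ g p R_u` with `p`
commuting with `f`. -/
theorem step [CharP F 2] (hK : KFacts Q) {u v s : V} (h3 : Ln3 Q u v s) {f g p r : G}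
    (hf : f ∈ W u v) (hg : g ∈ Vs Q W u) (hp : p ∈ Vs Q W u) (hr : r ∈ Ru Q j u) (hpf : p * f = f * p)
    (hgx : j (tE Q v s) * g * (j (tE Q v s))⁻¹ = g * p * r)
    {y : V} (hy : polar Q u y = 0) (hc : f⁻¹ * g⁻¹ * f * g = j (tE Q u y)) :
    polar Q v y = 0 ∧ polar Q s y = 0 := by
  have hu := h3.uv.qu
  have hfV := mem_Vs h3.uv hf
  have hfx : j (tE Q v s) * f * (j (tE Q v s))⁻¹ = f := by
    rw [D.cent h3.uv hf (k := tE Q v s), mul_inv_cancel_right]
    rw [tE_swap h3.uv.qu h3.uv.qw h3.uv.perp]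
    exact tE_comm h3.uv.qw h3.perp h3.uv.perp'
  have h1 : j (tE Q v s) * j (tE Q u y) * (j (tE Q v s))⁻¹ = j (tE Q u y) := by
    have hcc := Vs_comm D hu hp (Ru_mem (j := j) hy)
    calc j (tE Q v s) * j (tE Q u y) * (j (tE Q v s))⁻¹
        = (j (tE Q v s) * f * (j (tE Q v s))⁻¹)⁻¹ * (j (tE Q v s) * g * (j (tE Q v s))⁻¹)⁻¹ *
          (j (tE Q v s) * f * (j (tE Q v s))⁻¹) * (j (tE Q v s) * g * (j (tE Q v s))⁻¹) := by
          rw [← hc]; group
      _ = f⁻¹ * (r⁻¹ * (p⁻¹ * g⁻¹ * f * g * p)) * r := by rw [hfx, hgx]; group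
      _ = f⁻¹ * ((p⁻¹ * g⁻¹ * f * g * p) * r⁻¹) * r := by
          rw [Vs_comm D hu (mul_mem (mul_mem (mul_mem (mul_mem (inv_mem hp) (inv_mem hg)) hfV) hg) hp)
            (Ru_inv hu hr)]
      _ = (p * f)⁻¹ * g⁻¹ * f * g * p := by group
      _ = (f * p)⁻¹ * g⁻¹ * f * g * p := by rw [hpf]
      _ = p⁻¹ * (f⁻¹ * g⁻¹ * f * g * p) := by group
      _ = p⁻¹ * (p * j (tE Q u y)) := by rw [hc, hcc]
      _ = _ := by group
  rw [D.rconj, coe_tE] at h1
  have h2 : T Q v s u = u := by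
    rw [T_apply2 h3.uv.qw h3.perp, h3.uv.perp', polar_comm Q s u, h3.uw.perp]; simp
  have h4 : T Q v s y = y + polar Q v y • s + polar Q s y • v := by
    rw [T_apply2 h3.uv.qw h3.perp, h3.uw.qw, zero_mul, add_zero]
  have h5 : polar Q u (T Q v s y) = 0 := by
    rw [h4, polar_add_right, polar_add_right, polar_smul_right, polar_smul_right, h3.uw.perp, h3.uv.perp, hy]
    simp
  rw [h2] at h1
  obtain ⟨c, e⟩ := r_inj D hK hu h3.uv.ne h5 hy h1
  rw [h4] at e
  have h6 : c • u + polar Q s y • v + polar Q v y • s = 0 := by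
    have : y = y + (c • u + polar Q s y • v + polar Q v y • s) := by
      conv_lhs => rw [e]
      module
    exact left_eq_add.1 this
  exact ⟨(h3.coeff h6).2.2, (h3.coeff h6).2.1⟩

/-- perpendicular lines through `u`, first half -/
theorem comm_perp_aux [CharP F 2] (hK : KFacts Q) {u v w : V} (hA : Ad Q t j W u) (h3 : Ln3 Q u v w) {f g : G}
    (hf : f ∈ W u v) (hg : g ∈ W u w) : ∃ b : F, f⁻¹ * g⁻¹ * f * g = j (tE Q u (b • v)) := by
  have hu := h3.uv.qu
  have hgV := mem_Vs h3.uw hg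
  obtain ⟨y, hy, hc⟩ := comm_gen D hK h3.uv h3.uw hf hg
  have key : ∀ s, Ln3 Q u v s → polar Q y s = 0 := by
    intro s hs
    obtain ⟨β, hβ⟩ := ph_W D h3.uw hg
    have h2 : T Q v s u = u := by
      rw [T_apply2 hs.uv.qw hs.perp, hs.uv.perp', polar_comm Q s u, hs.uw.perp]; simp
    have h4 : T Q v s w = w + polar Q s w • v := by
      rw [T_apply2 hs.uv.qw hs.perp, hs.uw.qw, zero_mul, add_zero, h3.perp, zero_smul, add_zero]
    have hm := D.conj (tE Q v s) h3.uw hg
    have hp := ph_W_conj D hβ (tE Q v s)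
    rw [coe_tE, h2, h4] at hm hp
    rw [polar_comm]
    by_cases hγ : polar Q s w = 0
    · rw [hγ, zero_smul, add_zero] at hm hp
      have hm' : g⁻¹ * (j (tE Q v s) * g * (j (tE Q v s))⁻¹) ∈ W u w := mul_mem (inv_mem hg) hm
      have hr := W_fix D h3.uw hm' (by
        rw [Vs_ph_mul D hu (inv_mem hgV) (mem_Vs h3.uw hm), Vs_ph_inv D hu hgV, hp, hβ, inv_mul_cancel])
      exact (step D hK hs hf hgV (one_mem _) hr (by rw [one_mul, mul_one]) (by group) hy hc).2
    · obtain ⟨f', hf', hf1⟩ := surj_W D h3.uv (β * polar Q s w)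
      have h3' := h3.smul2 hγ
      have hf2 : f' ∈ W u (polar Q s w • v) := by rw [D.smul h3.uv hγ]; exact hf'
      rw [add_comm] at hm hp
      obtain ⟨r, hr, e⟩ := hA h3' hf2 hg hm (by
        rw [hp, hf1, hβ, ← map_mul, tE_mul hu (by rw [polar_smul_right, h3.uv.perp, smul_zero])
          (by rw [polar_smul_right, h3.uw.perp, smul_zero]), smul_add, smul_smul])
      exact (step D hK hs hf hgV (mem_Vs h3.uv hf') hr (D.com h3.uv hf' hf) e hy hc).2
  obtain ⟨a, b, e⟩ := hK.perp2 h3.uv key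
  refine ⟨b, ?_⟩
  rw [hc, e, add_comm, tE_add_smul hu (by rw [polar_smul_right, h3.uv.perp, smul_zero])]

theorem comm_perp [CharP F 2] (hK : KFacts Q) {u v w : V} (hA : Ad Q t j W u) (h3 : Ln3 Q u v w) {f g : G}
    (hf : f ∈ W u v) (hg : g ∈ W u w) : f * g = g * f := by
  have hu := h3.uv.qu
  obtain ⟨b, hb⟩ := comm_perp_aux D hK hA h3 hf hg
  obtain ⟨b', hb'⟩ := comm_perp_aux D hK hA h3.symm hg hf
  have p1 : polar Q u (b • v) = 0 := by rw [polar_smul_right, h3.uv.perp, smul_zero]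
  have p2 : polar Q u (b' • w) = 0 := by rw [polar_smul_right, h3.uw.perp, smul_zero]
  have e : j (tE Q u (b • v)) = j (tE Q u (b' • w)) := by
    have h1 : j (tE Q u (b' • w)) = (j (tE Q u (b • v)))⁻¹ := by rw [← hb, ← hb']; group
    rw [h1, ← map_inv, tE_inv hu p1]
  obtain ⟨c, hc⟩ := r_inj D hK hu h3.uv.ne p1 p2 e
  have h0 := h3.coeff (a := -c) (b := -b) (c := b') (by rw [hc]; module)
  have hb0 : b = 0 := neg_eq_zero.1 h0.2.1
  rw [hb0, zero_smul, tE_zero_right, map_one] at hb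
  calc f * g = g * f * (f⁻¹ * g⁻¹ * f * g) := by group
    _ = g * f := by rw [hb, mul_one]

/-- non-perpendicular lines through `u`, first half -/
theorem comm_hyp_aux [CharP F 2] (hK : KFacts Q) {u v w : V} (hA : Ad Q t j W u) (h1 : Ln Q u v) (h2 : Ln Q u w)
    (hvw : polar Q v w ≠ 0) {f g : G}
    (hf : f ∈ W u v) (hg : g ∈ W u w) : ∃ b : F, f⁻¹ * g⁻¹ * f * g = j (tE Q u (b • v)) := by
  have hu := h1.qu
  have hgV := mem_Vs h2 hg
  obtain ⟨y, hy, hc⟩ := comm_gen D hK h1 h2 hf hg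
  have key : ∀ s, Ln3 Q u v s → polar Q w s = 0 → polar Q v y = 0 ∧ polar Q s y = 0 := by
    intro s hs hws
    obtain ⟨β, hβ⟩ := ph_W D h2 hg
    have e2 : T Q v s u = u := by
      rw [T_apply2 hs.uv.qw hs.perp, hs.uv.perp', polar_comm Q s u, hs.uw.perp]; simp
    have e4 : T Q v s w = polar Q v w • s + w := by
      rw [T_apply2 hs.uv.qw hs.perp, hs.uw.qw, zero_mul, add_zero, polar_comm Q s w, hws, zero_smul, add_zero,
        add_comm]
    have hm := D.conj (tE Q v s) h2 hg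
    have hp := ph_W_conj D hβ (tE Q v s)
    rw [coe_tE, e2, e4] at hm hp
    obtain ⟨g', hg', hg1⟩ := surj_W D hs.uw (β * polar Q v w)
    have h3' : Ln3 Q u (polar Q v w • s) w := by
      refine Ln3.of_coeff (hs.uw.smul_right hvw) h2 (by rw [polar_smul_left, polar_comm Q s w, hws, smul_zero]) ?_
      intro a b c e
      have : polar Q v (a • u + b • polar Q v w • s + c • w) = 0 := by rw [e, polar_zero_right]
      rw [polar_add_right, polar_add_right, polar_smul_right, polar_smul_right, polar_smul_right,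
        polar_smul_right, h1.perp', hs.perp] at this
      simpa [hvw] using this
    have hg2 : g' ∈ W u (polar Q v w • s) := by rw [D.smul hs.uw hvw]; exact hg'
    obtain ⟨r, hr, e⟩ := hA h3' hg2 hg hm (by
      rw [hp, hg1, hβ, ← map_mul, tE_mul hu (by rw [polar_smul_right, hs.uw.perp, smul_zero])
        (by rw [polar_smul_right, h2.perp, smul_zero]), smul_add, smul_smul])
    exact step D hK hs hf hgV (mem_Vs hs.uw hg') hr (comm_perp D hK hA hs hf hg').symm e hy hc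
  obtain ⟨a, b, c, e⟩ := hK.perp3 h1 h2 hvw (fun s hs hws => by rw [polar_comm]; exact (key s hs hws).2)
  have hc0 : c = 0 := by
    obtain ⟨s, hs, hws⟩ := hK.ex3 h1 h2 hvw
    have h5 := (key s hs hws).1
    rw [e, polar_add_right, polar_add_right, polar_smul_right, polar_smul_right, polar_smul_right, h1.perp',
      polar_self2] at h5
    simpa [hvw] using h5
  refine ⟨b, ?_⟩
  rw [hc, e, hc0, zero_smul, add_zero, add_comm,
    tE_add_smul hu (by rw [polar_smul_right, h1.perp, smul_zero])]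

theorem comm_hyp [CharP F 2] (hK : KFacts Q) {u v w : V} (hA : Ad Q t j W u) (h1 : Ln Q u v) (h2 : Ln Q u w)
    (hvw : polar Q v w ≠ 0) {f g : G} (hf : f ∈ W u v) (hg : g ∈ W u w) : f * g = g * f := by
  have hu := h1.qu
  obtain ⟨b, hb⟩ := comm_hyp_aux D hK hA h1 h2 hvw hf hg
  obtain ⟨b', hb'⟩ := comm_hyp_aux D hK hA h2 h1 (by rw [polar_comm]; exact hvw) hg hf
  have p1 : polar Q u (b • v) = 0 := by rw [polar_smul_right, h1.perp, smul_zero]
  have p2 : polar Q u (b' • w) = 0 := by rw [polar_smul_right, h2.perp, smul_zero]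
  have e : j (tE Q u (b • v)) = j (tE Q u (b' • w)) := by
    have h1 : j (tE Q u (b' • w)) = (j (tE Q u (b • v)))⁻¹ := by rw [← hb, ← hb']; group
    rw [h1, ← map_inv, tE_inv hu p1]
  obtain ⟨c, hc⟩ := r_inj D hK hu h1.ne p1 p2 e
  have h5 : polar Q w (b' • w) = polar Q w (b • v + c • u) := by rw [hc]
  rw [polar_add_right, polar_smul_right, polar_smul_right, polar_smul_right, polar_self2, h2.perp',
    polar_comm Q w v] at h5
  have hb0 : b = 0 := by simpa [hvw] using h5.symm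
  rw [hb0, zero_smul, tE_zero_right, map_one] at hb
  calc f * g = g * f * (f⁻¹ * g⁻¹ * f * g) := by group
    _ = g * f := by rw [hb, mul_one]

theorem comm_W [CharP F 2] (hK : KFacts Q) {u v w : V} (hA : Ad Q t j W u) (h1 : Ln Q u v) (h2 : Ln Q u w)
    {f g : G} (hf : f ∈ W u v) (hg : g ∈ W u w) : f * g = g * f := by
  by_cases hvw : polar Q v w = 0
  · by_cases hL : w ∈ L F u v
    · obtain ⟨a, b, rfl⟩ := mem_L.1 hL
      have hb : b ≠ 0 := by
        rintro rfl
        exact h2.ind a (by rw [zero_smul, add_zero])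
      have e : W u (a • u + b • v) = W u v := by
        rw [add_comm, D.add a (h1.smul_right hb), D.smul h1 hb]
      rw [e] at hg
      exact D.com h1 hf hg
    · exact comm_perp D hK hA ⟨h1, h2, hvw, hL⟩ hf hg
  · exact comm_hyp D hK hA h1 h2 hvw hf hg

/-- `V*_u` is abelian. -/
theorem Vs_ab_of [CharP F 2] (hK : KFacts Q) {u : V} (hA : Ad Q t j W u) {f g : G} (hf : f ∈ Vs Q W u)
    (hg : g ∈ Vs Q W u) : f * g = g * f := by
  have key : ∀ {x : G}, x ∈ {w | ∃ v, Ln Q u v ∧ w ∈ W u v} → ∀ {y : G}, y ∈ Vs Q W u → x * y = y * x := by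
    rintro x ⟨v, hv, hx⟩ y hy
    rw [Vs] at hy
    induction hy using Subgroup.closure_induction with
    | mem w hw =>
      obtain ⟨v', hv', hw⟩ := hw
      exact comm_W D hK hA hv hv' hx hw
    | one => rw [mul_one, one_mul]
    | mul a b _ _ iha ihb => rw [← mul_assoc, iha, mul_assoc, ihb, mul_assoc]
    | inv a _ iha => rw [eq_inv_mul_iff_mul_eq, ← mul_assoc, ← iha, mul_inv_cancel_right]
  rw [Vs] at hf
  induction hf using Subgroup.closure_induction with
  | mem w hw => exact key hw hg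
  | one => rw [mul_one, one_mul]
  | mul a b _ _ iha ihb => rw [mul_assoc, ihb, ← mul_assoc, iha, mul_assoc]
  | inv a _ iha => rw [inv_mul_eq_iff_eq_mul, ← mul_assoc, iha, mul_inv_cancel_right]

theorem t_notin_of_ad [CharP F 2] (hK : KFacts Q) {u : V} (hu : Q u = 0) (hu0 : u ≠ 0) (hA : Ad Q t j W u) :
    t ∉ Vs Q W u := by
  intro ht
  obtain ⟨v, hv⟩ := hK.exLn hu hu0
  obtain ⟨f, hf, hf1⟩ := surj_W D hv 1
  have h1 := (ph_eq_one D.tt).2 (Vs_ab_of D hK hA (mem_Vs hv hf) ht)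
  rw [h1, one_smul] at hf1
  have h2 : j (tE Q u 0) = j (tE Q u v) := by rw [tE_zero_right, map_one]; exact hf1
  obtain ⟨c, hc⟩ := r_inj D hK hu hu0 (polar_zero_right _ _) hv.perp h2
  exact hv.ind c (by rw [hc, zero_add])

end Cfsg.Agent.OddHalf.Orth.Star
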