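import Cfsg.Agent.OddHalf.Orth.KPar
import Cfsg.Agent.OddHalf.Orth.StarAb

/-!
# ODD D7, `K = Ω(V)`, `F = 𝔽₂`: two K-facts for `CentTwo.lean` (row M9)

* `plane_iso`, `plane_cent` : an isometry commuting with the elements `T a x` of `K` fixing a totally singular plane
  `⟨u,v,w⟩` pointwise (`a` in the plane, `x` in `⟨u,v,w⟩^⊥`) is `T v (c w) * T u (a v + b w)`;
* `refl_cent` : an isometry acting on `R_u` as the reflection `r_{p+q}` and commuting with the `T s x`,
  `s, x ∈ ⟨u,p,q⟩^⊥`, is `r_{p+q} * T u y` with `y ∈ ⟨u,p,q⟩`.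
-/

set_option autoImplicit false

namespace Cfsg.Agent.OddHalf.Orth.CentK

open QuadraticMap Cfsg.Agent.LieClassical.OrthCore Cfsg.Agent.LieClassical.OrthTrans
  Cfsg.Agent.LieClassical.OrthSimple Cfsg.Agent.ClassicalGeometry.OrthAutBasic
  Cfsg.Agent.ClassicalGeometry.OrthAutRoot Cfsg.Agent.ClassicalGeometry.OrthAutSylow Cfsg.Agent.OddHalf.Orth
  Face Sem'

variable {F V : Type*} [Field F] [AddCommGroup V] [Module F V] {Q : QuadraticForm F V}

/-- `T` on `u^⊥` -/
theorem T_perp [CharP F 2] {u w y : V} (hu : Q u = 0) (hw : polar Q u w = 0) (hy : polar Q u y = 0) :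
    T Q u w y = y + polar Q w y • u := by
  rw [T_apply2 hu hw, hy]; simp

/-- an element perpendicular to `⟨u,v,w⟩^⊥` -/
theorem mem_of_perp [FiniteDimensional F V] (hQ : Nondeg Q) {u v w y : V}
    (H : ∀ x, polar Q u x = 0 → polar Q v x = 0 → polar Q w x = 0 → polar Q y x = 0) :
    ∃ a b c : F, y = a • u + b • v + c • w := by
  by_contra hcon
  push Not at hcon
  have hm : y ∉ Submodule.span F {u, v, w} := by
    intro hm
    obtain ⟨a, x, hx, e⟩ := Submodule.mem_span_insert.1 hm
    obtain ⟨b, c, rfl⟩ := Submodule.mem_span_pair.1 hx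
    exact hcon a b c (by rw [e, add_assoc])
  obtain ⟨x, hx, hx'⟩ := exists_sep_sub hQ hm
  have h1 := H x (hx' u (Submodule.subset_span (by simp))) (hx' v (Submodule.subset_span (by simp)))
    (hx' w (Submodule.subset_span (by simp)))
  rw [hx] at h1
  exact one_ne_zero h1

theorem notMem_L {u v w : V} (h : Ln3 Q u v w) : v ∉ L F u w := by
  intro hm
  obtain ⟨a, b, e⟩ := mem_L.1 hm
  by_cases hb : b = 0
  · rw [hb, zero_smul, add_zero] at e
    exact h.uv.ind a e.symm
  · apply h.ind
    refine mem_L.2 ⟨-(b⁻¹ * a), b⁻¹, ?_⟩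
    have : b⁻¹ • v = b⁻¹ • (a • u) + w := by
      rw [← e, smul_add, smul_smul b⁻¹ b, inv_mul_cancel₀ hb, one_smul]
    rw [this]
    module

theorem plane_iso [CharP F 2] [FiniteDimensional F V] (hQ : Nondeg Q) {u v w : V} (h : Ln3 Q u v w)
    {g : V ≃ₗ[F] V} (hg : g ∈ O Q)
    (hfix : ∀ x, polar Q u x = 0 → polar Q v x = 0 → polar Q w x = 0 → g x = x) :
    ∃ a b c : F, g = T Q v (c • w) * T Q u (a • v + b • w) := by
  have vw : polar Q v w = 0 := h.perp
  have wv : polar Q w v = 0 := polar_zero_of_comm vw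
  have uv := h.uv.perp
  have vu := h.uv.perp'
  have uw := h.uw.perp
  have wu := h.uw.perp'
  have qu := h.uv.qu
  have qv := h.uv.qw
  have qw := h.uw.qw
  have uu : polar Q u u = 0 := polar_self2 u
  have vv : polar Q v v = 0 := polar_self2 v
  have ww : polar Q w w = 0 := polar_self2 w
  have gu : g u = u := hfix u uu vu wu
  have gv : g v = v := hfix v uv vv wv
  have gw : g w = w := hfix w uw vw ww
  obtain ⟨v', h1, h2⟩ := exists_sep_sub hQ (notMem_L h)
  have uv' := h2 u (left_mem_L _ _)
  have wv' := h2 w (right_mem_L _ _)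
  obtain ⟨w', h3, h4⟩ := exists_sep_sub hQ h.ind
  have uw' := h4 u (left_mem_L _ _)
  have vw' := h4 v (right_mem_L _ _)
  -- `g y - y` lies in the plane
  have key : ∀ y, ∃ a b c : F, g y = y + (a • u + b • v + c • w) := by
    intro y
    obtain ⟨a, b, c, e⟩ := mem_of_perp hQ (u := u) (v := v) (w := w) (y := g y - y) (by
      intro x hx1 hx2 hx3
      have e1 := polar_map hg y x
      rw [hfix x hx1 hx2 hx3] at e1
      rw [polar_sub_left, e1, sub_self])
    exact ⟨a, b, c, by rw [← e]; abel⟩
  obtain ⟨a1, b1, c1, e1⟩ := key v'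
  obtain ⟨a2, b2, c2, e2⟩ := key w'
  have vp := polar_comm Q v' u
  have vp1 := polar_comm Q v' v
  have vp2 := polar_comm Q v' w
  have wp := polar_comm Q w' u
  have wp1 := polar_comm Q w' v
  have wp2 := polar_comm Q w' w
  have hb1 : b1 = 0 := by
    have e3 := mem_O.1 hg v'
    rw [e1, Q_add, Q_add, Q_add] at e3
    simp only [QuadraticMap.map_smul, polar_add_right, polar_add_left, polar_smul_right, polar_smul_left, qu, qv, qw,
      uv, uw, vw, vp, vp1, vp2, uv', wv', h1, smul_eq_mul, mul_zero, mul_one, add_zero, zero_add] at e3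
    simpa using e3
  have hc2 : c2 = 0 := by
    have e3 := mem_O.1 hg w'
    rw [e2, Q_add, Q_add, Q_add] at e3
    simp only [QuadraticMap.map_smul, polar_add_right, polar_add_left, polar_smul_right, polar_smul_left, qu, qv, qw,
      uv, uw, vw, wp, wp1, wp2, uw', vw', h3, smul_eq_mul, mul_zero, mul_one, add_zero, zero_add] at e3
    simpa using e3
  have hbc : b2 + c1 = 0 := by
    have e3 := polar_map hg v' w'
    rw [e1, e2] at e3
    simp only [polar_add_right, polar_add_left, polar_smul_right, polar_smul_left, uu, vv, ww,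
      uv, uw, vw, vu, wu, wv, vp, vp1, vp2, wp, wp1, wp2, uv', wv', uw', vw', h1, h3, smul_eq_mul, mul_zero, mul_one,
      add_zero, zero_add] at e3
    linear_combination e3
  have hcb : b2 = c1 := by
    have := CharTwo.add_self_eq_zero c1
    linear_combination hbc - this
  subst hb1 hc2 hcb
  rw [zero_smul, add_zero] at e1 e2
  have qcw : Q (b2 • w) = 0 := by rw [QuadraticMap.map_smul, qw, smul_zero]
  have pcw : polar Q v (b2 • w) = 0 := by rw [polar_smul_right, vw, smul_zero]
  -- `g1 = T v (b2 w) * g`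
  have g1 : ∀ x, polar Q u x = 0 → ∃ c : F, (T Q v (b2 • w) * g) x = x + c • u := by
    intro x hx
    set x0 := x - polar Q v x • v' - polar Q w x • w' with hx0
    have f1 : polar Q u x0 = 0 := by
      rw [hx0, polar_sub_right, polar_sub_right, polar_smul_right, polar_smul_right, hx, uv', uw']; simp
    have f2 : polar Q v x0 = 0 := by
      rw [hx0, polar_sub_right, polar_sub_right, polar_smul_right, polar_smul_right, h1, vw']; simp
    have f3 : polar Q w x0 = 0 := by
      rw [hx0, polar_sub_right, polar_sub_right, polar_smul_right, polar_smul_right, wv', h3]; simp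
    have ex : x = x0 + polar Q v x • v' + polar Q w x • w' := by rw [hx0]; abel
    refine ⟨polar Q v x * a1 + polar Q w x * a2, ?_⟩
    show T Q v (b2 • w) (g x) = _
    have e4 : g x = x0 + polar Q v x • (v' + (a1 • u + b2 • w)) + polar Q w x • (w' + (a2 • u + b2 • v)) := by
      conv_lhs => rw [ex]
      rw [map_add, map_add, map_smul, map_smul, hfix x0 f1 f2 f3, e1, e2]
    have t0 : T Q v (b2 • w) x0 = x0 := T_fix f2 (by rw [polar_smul_left, f3, smul_zero])
    have tu : T Q v (b2 • w) u = u := T_fix vu (by rw [polar_smul_left, wu, smul_zero])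
    have tv : T Q v (b2 • w) v = v := T_apply_self qv pcw
    have tw : T Q v (b2 • w) w = w := T_fix vw (by rw [polar_smul_left, ww, smul_zero])
    have tv' : T Q v (b2 • w) v' = v' + b2 • w := by
      rw [T_apply2 qv pcw, h1, qcw, polar_smul_left, wv']; simp
    have tw' : T Q v (b2 • w) w' = w' + b2 • v := by
      rw [T_apply2 qv pcw, vw', qcw, polar_smul_left, h3]; simp
    rw [e4]
    simp only [map_add, map_smul, t0, tu, tv, tw, tv', tw']
    have ad : ∀ y : V, y + y = 0 := add_self' (F := F)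
    have r1 := ad (polar Q v x • b2 • w)
    have r2 := ad (polar Q w x • b2 • v)
    have : x0 + polar Q v x • (v' + b2 • w + (a1 • u + b2 • w)) + polar Q w x • (w' + b2 • v + (a2 • u + b2 • v)) =
        x0 + polar Q v x • v' + polar Q w x • w' + (polar Q v x * a1 + polar Q w x * a2) • u
        + (polar Q v x • b2 • w + polar Q v x • b2 • w) + (polar Q w x • b2 • v + polar Q w x • b2 • v) := by
      module
    rw [this, r1, r2, add_zero, add_zero, ← ex]
  obtain ⟨y, hy, e⟩ := eq_T_of_trivial hQ (mul_mem (T_mem_O v (b2 • w)) hg) qu h.uv.ne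
    (by
      show T Q v (b2 • w) (g u) = u
      rw [gu]
      exact T_fix vu (by rw [polar_smul_left, wu, smul_zero])) g1
  obtain ⟨a, b, c, ey⟩ := mem_of_perp hQ (u := u) (v := v) (w := w) (y := y) (by
    intro x hx1 hx2 hx3
    have e5 : (T Q v (b2 • w) * g) x = x := by
      show T Q v (b2 • w) (g x) = x
      rw [hfix x hx1 hx2 hx3]
      exact T_fix hx2 (by rw [polar_smul_left, hx3, smul_zero])
    rw [e, T_perp qu hy hx1] at e5
    have e6 : polar Q y x • u = 0 := by
      have := congrArg (fun z => z - x) e5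
      simpa using this
    exact (smul_eq_zero.1 e6).resolve_right h.uv.ne)
  refine ⟨b, c, b2, ?_⟩
  have pvw : polar Q u (b • v + c • w) = 0 := by
    rw [polar_add_right, polar_smul_right, polar_smul_right, uv, uw]; simp
  have ey' : y = (b • v + c • w) + a • u := by rw [ey]; abel
  rw [ey', T_add_smul qu pvw] at e
  rw [← e, ← mul_assoc, T_mul qv pcw pcw, add_self' (F := F), T_zero_right, one_mul]

/-- the centraliser of the pointwise stabiliser of a totally singular plane -/
theorem plane_cent [CharP F 2] [FiniteDimensional F V] (hQ : Nondeg Q) (h2 : ∀ c : F, c = 0 ∨ c = 1)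
    {u v w : V} (h : Ln3 Q u v w) {g : V ≃ₗ[F] V} (hg : g ∈ O Q)
    (H : ∀ s x, (s = u ∨ s = v ∨ s = w) → polar Q u x = 0 → polar Q v x = 0 → polar Q w x = 0 →
      tE Q (g s) (g x) = tE Q s x) :
    ∃ a b c : F, g = T Q v (c • w) * T Q u (a • v + b • w) := by
  have vw : polar Q v w = 0 := h.perp
  have wv : polar Q w v = 0 := polar_zero_of_comm vw
  have uu : polar Q u u = 0 := polar_self2 u
  have vv : polar Q v v = 0 := polar_self2 v
  have ww : polar Q w w = 0 := polar_self2 w
  have S : Sem Q g.toAddEquiv (RingEquiv.refl F) := ⟨fun a v => map_smul g a v, fun v => mem_O.1 hg v⟩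
  have hvw : Ln Q v w := h.vw
  -- a vector of `⟨u,v,w⟩` on two lines is fixed
  have fx : ∀ {a b c : V}, Ln Q a b → Ln Q a c → c ∉ L F a b → tE Q (g a) (g b) = tE Q a b →
      tE Q (g a) (g c) = tE Q a c → g a = a := by
    intro a b c h1 h3 hn e1 e2
    obtain ⟨d, hd⟩ := eq_smul_of_lines hQ S h1 h3 hn e1 e2
    have hd' : g a = d • a := hd
    rcases h2 d with h0 | h0
    · exfalso
      rw [h0, zero_smul] at hd'
      exact h1.ne (g.injective (by rw [hd', map_zero]))
    · rw [hd', h0, one_smul]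
  have gu : g u = u := fx h.uv h.uw h.ind (H u v (Or.inl rfl) h.uv.perp vv wv)
    (H u w (Or.inl rfl) h.uw.perp vw ww)
  have gv : g v = v := fx h.rot.uv h.rot.uw h.rot.ind (H v u (Or.inr (Or.inl rfl)) uu h.uv.perp' h.uw.perp')
    (H v w (Or.inr (Or.inl rfl)) h.uw.perp vw ww)
  apply plane_iso hQ h hg
  intro x hx1 hx2 hx3
  obtain ⟨c, hc⟩ := of_tE hQ (lam := 1) h.uv.qu h.uv.ne hx1 S (by rw [one_smul]; exact gu)
    (H u x (Or.inl rfl) hx1 hx2 hx3)
  obtain ⟨d, hd⟩ := of_tE hQ (lam := 1) h.uv.qw h.uv.ne' hx2 S (by rw [one_smul]; exact gv)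
    (H v x (Or.inr (Or.inl rfl)) hx1 hx2 hx3)
  rw [one_smul] at hc hd
  have e1 : c • u + (-d) • v = 0 := by
    have : x + c • u = x + d • v := by rw [← hc, hd]
    have := add_left_cancel this
    rw [this]; module
  have := (h.uv.coeff e1).1
  have hc' : g x = x + c • u := hc
  rw [hc', this, zero_smul, add_zero]

/-- `C_{ΓO(V)}` of the elements of `K` fixing `u, p, q`, for isometries acting on `R_u` as `r_{p+q}` -/
theorem refl_cent [Finite F] [CharP F 2] (hQ : Nondeg Q) (hd : 8 ≤ Module.finrank F V) {u p q : V}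
    (hup : Ln Q u p) (huq : Ln Q u q) (hpq : polar Q p q = 1) {hz : Q (p + q) ≠ 0} {g : V ≃ₗ[F] V}
    (hg : g ∈ O Q)
    (H1 : ∀ x, polar Q u x = 0 → tE Q (g u) (g x) = tE Q u (refl Q (p + q) hz x))
    (H2 : ∀ s x, Q s = 0 → polar Q u s = 0 → polar Q p s = 0 → polar Q q s = 0 → polar Q u x = 0 →
      polar Q p x = 0 → polar Q q x = 0 → polar Q s x = 0 → tE Q (g s) (g x) = tE Q s x) :
    ∃ a b c : F, g = refl Q (p + q) hz * T Q u (a • u + b • p + c • q) := by
  have : FiniteDimensional F V := Module.finite_of_finrank_pos (by omega)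
  have Ru : refl Q (p + q) hz u = u := refl_fix hz (by rw [polar_add_left, hup.perp', huq.perp', add_zero])
  have hRg : refl Q (p + q) hz * g ∈ O Q := mul_mem (refl_mem_O hz) hg
  have S : Sem Q (refl Q (p + q) hz * g).toAddEquiv (RingEquiv.refl F) :=
    ⟨fun a v => map_smul (refl Q (p + q) hz * g) a v, fun v => mem_O.1 hRg v⟩
  obtain ⟨y, hy, e⟩ := cent1 hQ hd S hup.qu hup.ne (by
    intro x hx
    have e1 : T Q (g u) (g x) = T Q u (refl Q (p + q) hz x) := congrArg Subtype.val (H1 x hx)
    apply Subtype.ext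
    show T Q (refl Q (p + q) hz (g u)) (refl Q (p + q) hz (g x)) = T Q u x
    rw [← T_conj (refl_mem_O hz), e1, T_conj (refl_mem_O hz), Ru]
    congr 1
    have := congrArg (fun f : V ≃ₗ[F] V => f x) (refl_mul_self hz)
    exact this)
  have eg : refl Q (p + q) hz * g = T Q u y := LinearEquiv.ext e
  have eg' : g = refl Q (p + q) hz * T Q u y := by
    rw [← eg, ← mul_assoc, refl_mul_self, one_mul]
  obtain ⟨u', h⟩ := exists_LF3 hQ hup huq (by rw [hpq]; exact one_ne_zero)
  rw [hpq, inv_one, one_smul] at h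
  have h1 : pW Q u p u' q y = 0 := perp_W hQ (by omega) h fun w hw hq h0 => by
    obtain ⟨w', hw', hww⟩ := (W4_ns hQ h).exists_hyp (In.iff_mem.1 hw) h0 hq
    have hN := (W4_ns hQ h).perp2 hww (In.iff_mem.1 hw) hw'
    have hdim := NS.finrank_perp2 (Q := Q) (W4 Q u p u' q) w w'
    have hdim' := W4_dim Q u p u' q
    obtain ⟨x, hx, hqx⟩ := hN.exists_nonsing (by omega)
    have hx1 := In.iff_mem.2 (Submodule.mem_inf.1 hx).1
    have hx2 := mem_perp2.1 (Submodule.mem_inf.1 hx).2
    have hw1 := In.iff_mem.2 hw'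
    have gw : g w = w + polar Q y w • u := by
      rw [eg']
      show refl Q (p + q) hz (T Q u y w) = _
      rw [T_perp hup.qu hy hw.u, map_add, map_smul, Ru, refl_fix hz (by rw [polar_add_left, hw.v, hw.v', add_zero])]
    have gx : g x = x + polar Q y x • u := by
      rw [eg']
      show refl Q (p + q) hz (T Q u y x) = _
      rw [T_perp hup.qu hy hx1.u, map_add, map_smul, Ru,
        refl_fix hz (by rw [polar_add_left, hx1.v, hx1.v', add_zero])]
    have e1 := congrArg (fun f : ↥(E Q) => (f : V ≃ₗ[F] V) u')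
      (H2 w x hq hw.u hw.v hw.v' hx1.u hx1.v hx1.v' hx2.1)
    simp only [coe_tE] at e1
    rw [gw, gx] at e1
    have r1 : polar Q w u = 0 := hw.ru
    have r2 : polar Q x u = 0 := hx1.ru
    rw [T_fix (polar_zero_of_comm hw.u') (polar_zero_of_comm hx1.u')] at e1
    generalize polar Q y w = α at *
    generalize polar Q y x = β at *
    have q1 : Q (w + α • u) = 0 := by
      rw [Q_add, QuadraticMap.map_smul, hq, h.qu, polar_smul_right, r1]; simp
    have q2 : polar Q (w + α • u) (x + β • u) = 0 := by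
      simp only [polar_add_left, polar_add_right, polar_smul_left, polar_smul_right, hx2.1, r1, hx1.u, h.uu,
        smul_eq_mul, mul_zero, add_zero]
    have q3 : Q (x + β • u) = Q x := by
      rw [Q_add, QuadraticMap.map_smul, h.qu, polar_smul_right, r2]; simp
    have q4 : polar Q (w + α • u) u' = α := by
      rw [polar_add_left, polar_smul_left, polar_zero_of_comm hw.u', h.uu']; simp
    have q5 : polar Q (x + β • u) u' = β := by
      rw [polar_add_left, polar_smul_left, polar_zero_of_comm hx1.u', h.uu']; simp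
    rw [T_apply2 q1 q2, q3, q4, q5] at e1
    have e2 : α • (x + β • u) + (β + Q x * α) • (w + α • u) = 0 := by
      have := congrArg (fun z => z - u') e1
      simp only [sub_self] at this
      rw [← this]; abel
    have e3 := congrArg (fun z => polar Q z w') e2
    simp only [polar_add_left, polar_smul_left, polar_zero_left, hww.pair, hw1.u,
      polar_zero_of_comm hx2.2, smul_eq_mul, mul_zero, mul_one, add_zero, zero_add] at e3
    rw [e3, zero_smul, add_zero] at e2
    have e4 := congrArg Q e2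
    rw [QuadraticMap.map_smul, q3, QuadraticMap.map_zero] at e4
    have e5 : α * α = 0 := (mul_eq_zero.1 e4).resolve_right hqx
    exact mul_self_eq_zero.1 e5
  have e2 := decomp (Q := Q) u p u' q y
  rw [h1, hy, zero_smul, add_zero, zero_add] at e2
  refine ⟨polar Q u' y, polar Q q y, polar Q p y, ?_⟩
  rw [← e2]
  exact eg'

end Cfsg.Agent.OddHalf.Orth.CentK
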