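import Cfsg.Agent.OddHalf.D7Ex.Wab

/-!
# Two doubled root groups at 60 degrees commute, `q > 2`: the version for one pair

`PW t Xr Xs Xa Wr Ws`: the facts for two root groups `Xr`, `Xs` at 60 degrees, `Xa` the root group of `r - s`.
`PW.comm60`: `[Wr, Ws] = 1`; `PW.ab`: `Wr` is abelian. The proof is the proof of `D7Ex/Wab.lean` (helper657); the input
`stepB` (proved there from `K2`) is a field.
-/

set_option autoImplicit false

namespace Cfsg.Agent.OddHalf.Orth.WabPair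

open Subgroup
open Cfsg.Agent.OddHalf.D7Ex.PreW (d d_conj d_mul comm_of_d eq_t)

variable {G : Type*} [Group G]

/-- The facts for two root groups at 60 degrees. -/
structure PW (t : G) (Xr Xs Xa Wr Ws : Subgroup G) : Prop where
  tt : t * t = 1
  tr : ∀ x ∈ Xr, t * x = x * t
  ts : ∀ x ∈ Xs, t * x = x * t
  sqr : ∀ x ∈ Xr, x * x = 1
  sqs : ∀ x ∈ Xs, x * x = 1
  XWr : Xr ≤ Wr
  XWs : Xs ≤ Ws
  Wsqr : ∀ w ∈ Wr, w * w ∈ Xr
  Wsqs : ∀ w ∈ Ws, w * w ∈ Xs
  brkr : ∀ w ∈ Wr, w⁻¹ * (t * w * t) ∈ Xr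
  brks : ∀ w ∈ Ws, w⁻¹ * (t * w * t) ∈ Xs
  centr : ∀ w ∈ Wr, t * w = w * t → w ∈ Xr
  cents : ∀ w ∈ Ws, t * w = w * t → w ∈ Xs
  surjr : ∀ x ∈ Xr, ∃ w ∈ Wr, w⁻¹ * (t * w * t) = x
  surjs : ∀ x ∈ Xs, ∃ w ∈ Ws, w⁻¹ * (t * w * t) = x
  rr : ∀ w ∈ Wr, ∀ x ∈ Xr, w * x = x * w
  rs : ∀ w ∈ Wr, ∀ x ∈ Xs, w * x = x * w
  sr : ∀ w ∈ Ws, ∀ x ∈ Xr, w * x = x * w
  ss : ∀ w ∈ Ws, ∀ x ∈ Xs, w * x = x * w
  ra : ∀ w ∈ Wr, ∀ x ∈ Xa, w * x = x * w
  inf : ∀ x ∈ Xr, x ∈ Xs → x = 1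
  neg : ∀ x ∈ Xa, ∀ y ∈ Xs, x * y * x⁻¹ * y⁻¹ ∈ Xr
  sur : ∀ y ∈ Xs, y ≠ 1 → ∀ z ∈ Xr, ∃ x ∈ Xa, x * y * x⁻¹ * y⁻¹ = z
  stepB : ∀ {g u w : G}, g ∈ Xa → u ∈ Ws → w ∈ Wr → d t w = g * d t u * g⁻¹ * (d t u)⁻¹ →
    ∃ x ∈ Xr, ∃ y ∈ Xs, g * u * g⁻¹ = x * y * (u * w) ∨ g * u * g⁻¹ = t * (x * y) * (u * w)

namespace PW

variable {t : G} {Xr Xs Xa Xb Wr Ws : Subgroup G}

theorem d_eq_oner (h : PW t Xr Xs Xa Wr Ws) {w : G} (hw : w ∈ Wr) (hd : d t w = 1) : w ∈ Xr :=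
  h.centr w hw (eq_t h.tt hd)

theorem d_eq_ones (h : PW t Xr Xs Xa Wr Ws) {w : G} (hw : w ∈ Ws) (hd : d t w = 1) : w ∈ Xs :=
  h.cents w hw (eq_t h.tt hd)

theorem inv_Xr (h : PW t Xr Xs Xa Wr Ws) {x : G} (hx : x ∈ Xr) : x⁻¹ = x :=
  inv_eq_of_mul_eq_one_left (h.sqr x hx)

theorem inv_Xs (h : PW t Xr Xs Xa Wr Ws) {x : G} (hx : x ∈ Xs) : x⁻¹ = x :=
  inv_eq_of_mul_eq_one_left (h.sqs x hx)

/-- (C) -/
theorem stepC_aux (h : PW t Xr Xs Xa Wr Ws) {u w : G}
    (hu : u ∈ Ws) (hw : w ∈ Wr) {g x y : G} (hg : g ∈ Xa) (hx : x ∈ Xr) (hy : y ∈ Xs) :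
    (g * u * g⁻¹ = x * y * (u * w) → w * u * w⁻¹ * u⁻¹ ∈ Xr) ∧
    (g * u * g⁻¹ = t * (x * y) * (u * w) → ∃ x ∈ Xr, w * u * w⁻¹ * u⁻¹ = x * d t u) := by
  have hduX : d t u ∈ Xs := h.brks u hu
  have hdwX : d t w ∈ Xr := h.brkr w hw
  -- commuting facts
  have hXrXs : ∀ x ∈ Xr, ∀ y ∈ Xs, x * y = y * x := fun x hx y hy =>
    h.rs x (h.XWr hx) y hy
  have cu : ∀ x ∈ Xr, u * x = x * u := fun x hx => h.sr u hu x hx
  have cu' : ∀ x ∈ Xs, u * x = x * u := fun x hx => h.ss u hu x hx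
  have cw : ∀ x ∈ Xr, w * x = x * w := fun x hx => h.rr w hw x hx
  have cw' : ∀ x ∈ Xs, w * x = x * w := fun x hx => h.rs w hw x hx
  have hu2 := h.Wsqs u hu
  have hw2 := h.Wsqr w hw
  -- `g u² g⁻¹ = z u²`, `z ∈ Xr`
  have hz := h.neg g hg (u * u) hu2
  obtain ⟨z, hzd⟩ : ∃ z, z = g * (u * u) * g⁻¹ * (u * u)⁻¹ := ⟨_, rfl⟩
  rw [← hzd] at hz
  have hsq : (g * u * g⁻¹) * (g * u * g⁻¹) = z * (u * u) := by rw [hzd]; group
  have hxx := h.sqr x hx
  have hyy := h.sqs y hy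
  -- the square of `x y u w`
  have hq : (x * y * (u * w)) * (x * y * (u * w)) = (u * w) * (u * w) := by
    have c1 : (u * w) * x = x * (u * w) := by rw [mul_assoc, cw x hx, ← mul_assoc, cu x hx, mul_assoc]
    have c2 : (u * w) * y = y * (u * w) := by rw [mul_assoc, cw' y hy, ← mul_assoc, cu' y hy, mul_assoc]
    calc (x * y * (u * w)) * (x * y * (u * w)) = x * y * ((u * w) * x) * y * (u * w) := by group
      _ = x * (y * x) * ((u * w) * y) * (u * w) := by rw [c1]; group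
      _ = x * (x * y) * (y * (u * w)) * (u * w) := by rw [c2, hXrXs x hx y hy]
      _ = (x * x) * (y * y) * ((u * w) * (u * w)) := by group
      _ = _ := by rw [hxx, hyy, one_mul, one_mul]
  have hw2' : (w * w)⁻¹ ∈ Xr := inv_mem hw2
  -- from `(u w)² = k u²`, `k` commuting with `u`, `w`: `[w, u] = k (w w)⁻¹`
  have key : ∀ k : G, k * u = u * k → (u * w) * (u * w) = k * (u * u) →
      w * u * w⁻¹ * u⁻¹ = k * (w * w)⁻¹ := by
    intro k hk e
    have e1 : w * u = k * u * w⁻¹ := by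
      have e2 : u * (w * u) = u * (k * u * w⁻¹) := by
        calc u * (w * u) = (u * w) * (u * w) * w⁻¹ := by group
          _ = (k * u) * u * w⁻¹ := by rw [e]; group
          _ = (u * k) * u * w⁻¹ := by rw [hk]
          _ = u * (k * u * w⁻¹) := by group
      exact mul_left_cancel e2
    calc w * u * w⁻¹ * u⁻¹ = k * (u * (w * w)⁻¹) * u⁻¹ := by rw [e1]; group
      _ = k * (w * w)⁻¹ := by rw [cu _ hw2']; group
  refine ⟨fun hB => ?_, fun hB => ?_⟩
  · rw [hB, hq] at hsq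
    rw [key z (cu z hz).symm hsq]
    exact mul_mem hz hw2'
  · have tinv : t⁻¹ = t := inv_eq_of_mul_eq_one_left h.tt
    -- `(t x y u w)² = (t (x y u w) t) (x y u w)`
    have htx : t * x = x * t := h.tr x hx
    have hty : t * y = y * t := h.ts y hy
    have htu : t * u * t = u * d t u := by unfold d; group
    have htw : t * w * t = w * d t w := by unfold d; group
    have hq2 : (t * (x * y) * (u * w)) * (t * (x * y) * (u * w)) =
        (d t u * d t w) * ((x * y * (u * w)) * (x * y * (u * w))) := by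
      have e1 : t * (x * y) = (x * y) * t := by rw [← mul_assoc, htx, mul_assoc, hty, ← mul_assoc]
      have e2 : (t * (x * y) * (u * w)) * t = x * y * ((t * u * t) * (t * w * t)) := by
        calc (t * (x * y) * (u * w)) * t = x * y * (t * u * 1 * w * t) := by rw [e1]; group
          _ = x * y * (t * u * (t * t) * w * t) := by rw [h.tt]
          _ = _ := by group
      have e3 : (t * u * t) * (t * w * t) = (d t u * d t w) * (u * w) := by
        rw [htu, htw]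
        calc u * d t u * (w * d t w) = (u * d t u) * (d t w * w) := by rw [cw _ hdwX]
          _ = (d t u * u) * (d t w * w) := by rw [cu' _ hduX]
          _ = d t u * (u * d t w) * w := by group
          _ = _ := by rw [cu _ hdwX]; group
      have e4 : x * y * (d t u * d t w) = (d t u * d t w) * (x * y) := by
        have c1 : x * d t u = d t u * x := hXrXs x hx _ hduX
        have c2 : x * d t w = d t w * x :=
          h.rr x (h.XWr hx) _ hdwX
        have c3 : y * d t u = d t u * y :=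
          h.ss y (h.XWs hy) _ hduX
        have c4 : y * d t w = d t w * y := (hXrXs _ hdwX y hy).symm
        calc x * y * (d t u * d t w) = x * (y * d t u) * d t w := by group
          _ = (x * d t u) * (y * d t w) := by rw [c3]; group
          _ = d t u * (x * d t w) * y := by rw [c1, c4]; group
          _ = _ := by rw [c2]; group
      calc (t * (x * y) * (u * w)) * (t * (x * y) * (u * w)) =
          ((t * (x * y) * (u * w)) * t) * ((x * y) * (u * w)) := by group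
        _ = x * y * ((d t u * d t w) * (u * w)) * ((x * y) * (u * w)) := by rw [e2, e3]
        _ = (x * y * (d t u * d t w)) * (u * w) * ((x * y) * (u * w)) := by group
        _ = _ := by rw [e4]; group
    rw [hB, hq2, hq] at hsq
    -- `(u w)² = (d u d w)⁻¹ z u²`
    have hzk : (d t u * d t w)⁻¹ * z * u = u * ((d t u * d t w)⁻¹ * z) := by
      have c1 : u * (d t u * d t w)⁻¹ = (d t u * d t w)⁻¹ * u := by
        rw [mul_inv_rev, ← mul_assoc, cu _ (inv_mem hdwX), mul_assoc, cu' _ (inv_mem hduX), mul_assoc]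
      rw [← mul_assoc, c1, mul_assoc, ← cu z hz, mul_assoc]
    have hsq' : (u * w) * (u * w) = (d t u * d t w)⁻¹ * z * (u * u) := by
      rw [mul_assoc _ z, ← hsq]; group
    refine ⟨d t w * z * (w * w)⁻¹, mul_mem (mul_mem hdwX hz) hw2', ?_⟩
    rw [key _ hzk hsq', mul_inv_rev, h.inv_Xr hdwX, h.inv_Xs hduX]
    have c5 := hXrXs _ (mul_mem hz hw2') _ hduX
    calc d t w * d t u * z * (w * w)⁻¹ = d t w * (d t u * (z * (w * w)⁻¹)) := by group
      _ = d t w * ((z * (w * w)⁻¹) * d t u) := by rw [c5]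
      _ = _ := by group

/-- (C) -/
theorem stepC (h : PW t Xr Xs Xa Wr Ws) {u w : G}
    (hu : u ∈ Ws) (hw : w ∈ Wr) (hdu : d t u ≠ 1) :
    w * u * w⁻¹ * u⁻¹ ∈ Xr ∨ ∃ x ∈ Xr, w * u * w⁻¹ * u⁻¹ = x * d t u := by
  have hduX : d t u ∈ Xs := h.brks u hu
  have hdwX : d t w ∈ Xr := h.brkr w hw
  obtain ⟨g, hg, e⟩ := h.sur (d t u) hduX hdu (d t w) hdwX
  obtain ⟨x, hx, y, hy, hB⟩ := h.stepB hg hu hw e.symm
  have h2 := h.stepC_aux hu hw hg hx hy
  rcases hB with hB | hB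
  · exact Or.inl (h2.1 hB)
  · exact Or.inr (h2.2 hB)

/-- `[Wr, Ws] = 1` -/
theorem comm60 (h : PW t Xr Xs Xa Wr Ws) (h' : PW t Xs Xr Xb Ws Wr)
    (hsw : ∀ x ∈ Xr, ∀ y ∈ Xs, x ≠ 1 → y ≠ 1 → ∃ n : G, n * t = t * n ∧
      n * x * n⁻¹ = y ∧ n * y * n⁻¹ = x ∧ (∀ w ∈ Wr, n * w * n⁻¹ ∈ Ws) ∧ (∀ w ∈ Ws, n * w * n⁻¹ ∈ Wr))
    (h3 : ∀ x ∈ Xr, ∃ y ∈ Xr, y ≠ 1 ∧ y ≠ x) {u w : G}
    (hu : u ∈ Ws) (hw : w ∈ Wr) : w * u = u * w := by
  have hXrXs : ∀ x ∈ Xr, ∀ y ∈ Xs, x * y = y * x := fun x hx y hy =>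
    h.rs x (h.XWr hx) y hy
  -- the possible values
  have val : ∀ u ∈ Ws, ∀ w ∈ Wr, d t u ≠ 1 → d t w ≠ 1 →
      w * u * w⁻¹ * u⁻¹ = 1 ∨ w * u * w⁻¹ * u⁻¹ = d t w * d t u := by
    intro u hu w hw hdu hdw
    have hduX : d t u ∈ Xs := h.brks u hu
    have hdwX : d t w ∈ Xr := h.brkr w hw
    have c1 := h.stepC hu hw hdu
    have c2 := h'.stepC hw hu hdw
    have e0 : u * w * u⁻¹ * w⁻¹ = (w * u * w⁻¹ * u⁻¹)⁻¹ := by group
    rw [e0] at c2
    obtain ⟨c, hc⟩ : ∃ c, c = w * u * w⁻¹ * u⁻¹ := ⟨_, rfl⟩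
    rw [← hc] at c1 c2 ⊢
    -- the swap
    obtain ⟨n, hnt, hn1, hn2, hnr, hns⟩ := hsw _ hdwX _ hduX hdw hdu
    have hcc : n * c * n⁻¹ = c⁻¹ := by
      -- `n w n⁻¹ = u y`, `n u n⁻¹ = w x`
      have d1 : d t (n * w * n⁻¹) = d t u := by rw [d_conj hnt]; exact hn1
      have d2 : d t (n * u * n⁻¹) = d t w := by rw [d_conj hnt]; exact hn2
      have hy : (n * w * n⁻¹) * u⁻¹ ∈ Xs :=
        h.cents _ (mul_mem (hnr w hw) (inv_mem hu)) (comm_of_d h.tt d1).symm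
      have hx : (n * u * n⁻¹) * w⁻¹ ∈ Xr :=
        h.centr _ (mul_mem (hns u hu) (inv_mem hw)) (comm_of_d h.tt d2).symm
      obtain ⟨y, hy'⟩ : ∃ y, y = (n * w * n⁻¹) * u⁻¹ := ⟨_, rfl⟩
      obtain ⟨x, hx'⟩ : ∃ x, x = (n * u * n⁻¹) * w⁻¹ := ⟨_, rfl⟩
      rw [← hy'] at hy
      rw [← hx'] at hx
      have ew : n * w * n⁻¹ = y * u := by rw [hy']; group
      have eu : n * u * n⁻¹ = x * w := by rw [hx']; group
      have cux : u * x = x * u := h.sr u hu x hx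
      have cwx : w * x = x * w := h.rr w hw x hx
      have cwy : w * y = y * w := h.rs w hw y hy
      have cuy : u * y = y * u := h.ss u hu y hy
      have cxy : x * y = y * x := hXrXs x hx y hy
      calc n * c * n⁻¹ = (n * w * n⁻¹) * (n * u * n⁻¹) * (n * w * n⁻¹)⁻¹ * (n * u * n⁻¹)⁻¹ := by
            rw [hc]; group
        _ = (y * u) * (x * w) * (y * u)⁻¹ * (x * w)⁻¹ := by rw [ew, eu]
        _ = y * (u * x) * w * (u⁻¹ * y⁻¹) * (x * w)⁻¹ := by group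
        _ = y * x * u * w * u⁻¹ * y⁻¹ * (x * w)⁻¹ := by rw [cux]; group
        _ = (x * y) * u * w * u⁻¹ * y⁻¹ * (w⁻¹ * x⁻¹) := by rw [← cxy]; group
        _ = x * (y * (u * w * u⁻¹)) * y⁻¹ * w⁻¹ * x⁻¹ := by group
        _ = x * ((u * w * u⁻¹) * y) * y⁻¹ * w⁻¹ * x⁻¹ := by
          have : y * (u * w * u⁻¹) = (u * w * u⁻¹) * y := by
            calc y * (u * w * u⁻¹) = (y * u) * w * u⁻¹ := by group
              _ = u * (y * w) * u⁻¹ := by rw [← cuy]; group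
              _ = u * w * (y * u) * u⁻¹ * u⁻¹ := by rw [← cwy]; group
              _ = u * w * (u * y) * u⁻¹ * u⁻¹ := by rw [← cuy]
              _ = u * w * u * (y * (u⁻¹ * u⁻¹)) := by group
              _ = u * w * u * ((u⁻¹ * u⁻¹) * y) := by
                rw [h.ss _ (mul_mem (inv_mem hu) (inv_mem hu)) y hy]
              _ = _ := by group
          rw [this]
        _ = (x * (u * w * u⁻¹ * w⁻¹)) * x⁻¹ := by group
        _ = ((u * w * u⁻¹ * w⁻¹) * x) * x⁻¹ := by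
          have : x * (u * w * u⁻¹ * w⁻¹) = (u * w * u⁻¹ * w⁻¹) * x := by
            have c1 : x * u = u * x := cux.symm
            have c2 : x * w = w * x := cwx.symm
            have c3 : x * u⁻¹ = u⁻¹ * x :=
              (h.sr _ (inv_mem hu) x hx).symm
            have c4 : x * w⁻¹ = w⁻¹ * x :=
              (h.rr _ (inv_mem hw) x hx).symm
            calc x * (u * w * u⁻¹ * w⁻¹) = (x * u) * w * u⁻¹ * w⁻¹ := by group
              _ = u * (x * w) * u⁻¹ * w⁻¹ := by rw [c1]; group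
              _ = u * w * (x * u⁻¹) * w⁻¹ := by rw [c2]; group
              _ = u * w * u⁻¹ * (x * w⁻¹) := by rw [c3]; group
              _ = _ := by rw [c4]; group
          rw [this]
        _ = c⁻¹ := by rw [hc]; group
    -- `c ∈ {1, x, y, xy}`
    have hcr : c ∈ Xr ∨ ∃ a ∈ Xr, c = a * d t u := c1
    have hcs : c ∈ Xs ∨ ∃ b ∈ Xs, c = b * d t w := by
      rcases c2 with h2 | ⟨b, hb, e⟩
      · left; exact (inv_mem_iff).1 h2
      · right
        refine ⟨b⁻¹, inv_mem hb, ?_⟩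
        have : c = (b * d t w)⁻¹ := by rw [← e, inv_inv]
        rw [this, mul_inv_rev, h.inv_Xr hdwX]
        exact hXrXs _ hdwX _ (inv_mem hb)
    have hcc' : ∀ v : G, v * v = 1 → c = v → n * v * n⁻¹ = v := by
      intro v hv e
      rw [← e, hcc, e]
      exact inv_eq_of_mul_eq_one_left hv
    rcases hcr with h1 | ⟨a, ha, h1⟩
    · rcases hcs with h2 | ⟨b, hb, h2⟩
      · left; exact h.inf c h1 h2
      · -- `c = d w`
        have hb1 : b = 1 := by
          apply h.inf b _ hb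
          have : b = c * (d t w)⁻¹ := by rw [h2]; group
          rw [this]; exact mul_mem h1 (inv_mem hdwX)
        rw [hb1, one_mul] at h2
        exfalso
        have h3 := hcc' _ (h.sqr _ hdwX) h2
        rw [hn1] at h3
        exact hdu (h.inf _ (h3 ▸ hdwX) hduX)
    · rcases hcs with h2 | ⟨b, hb, h2⟩
      · -- `c = d u`
        have ha1 : a = 1 := by
          apply h.inf a ha
          have : a = c * (d t u)⁻¹ := by rw [h1]; group
          rw [this]; exact mul_mem h2 (inv_mem hduX)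
        rw [ha1, one_mul] at h1
        exfalso
        have h3 := hcc' _ (h.sqs _ hduX) h1
        rw [hn2] at h3
        exact hdu (h.inf _ (h3 ▸ hdwX) hduX)
      · right
        -- `a d u = b d w`
        have h3 : (d t w)⁻¹ * a = b * (d t u)⁻¹ := by
          have h4 : a * d t u = b * d t w := h1.symm.trans h2
          have h5 : a = b * d t w * (d t u)⁻¹ := by rw [← h4]; group
          have h7 : (d t w)⁻¹ * b = b * (d t w)⁻¹ := hXrXs _ (inv_mem hdwX) _ hb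
          calc (d t w)⁻¹ * a = ((d t w)⁻¹ * b) * (d t w * (d t u)⁻¹) := by rw [h5]; group
            _ = b * (d t u)⁻¹ := by rw [h7]; group
        have h4 : (d t w)⁻¹ * a = 1 := h.inf _ (mul_mem (inv_mem hdwX) ha)
          (h3 ▸ mul_mem hb (inv_mem hduX))
        rw [h1, ← inv_mul_eq_one.1 h4]
  by_cases hdu : d t u = 1
  · exact h.rs w hw u (h.d_eq_ones hu hdu)
  by_cases hdw : d t w = 1
  · exact (h.sr u hu w (h.d_eq_oner hw hdw)).symm
  have hduX : d t u ∈ Xs := h.brks u hu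
  have hdwX : d t w ∈ Xr := h.brkr w hw
  obtain ⟨y, hy, hy1, hyx⟩ := h3 _ hdwX
  obtain ⟨w', hw', e'⟩ := h.surjr y hy
  have e'' : d t w' = y := e'
  have cdu : ∀ v ∈ Wr, v * d t u = d t u * v := fun v hv => h.rs v hv _ hduX
  have cX : ∀ v ∈ Wr, ∀ x ∈ Xr, v * x = x * v := fun v hv x hx =>
    h.rr v hv x hx
  have hd2 : d t (w * w') = d t w * y := by
    rw [d_mul h.tt (cX w' hw' _ hdwX).symm, e'']
  have hd2' : d t (w * w') ≠ 1 := by
    rw [hd2]
    intro h1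
    apply hyx
    have h2 : y = (d t w)⁻¹ := eq_inv_of_mul_eq_one_right h1
    rw [h2, h.inv_Xr hdwX]
  have hy1' : d t w' ≠ 1 := by rw [e'']; exact hy1
  have v1 := val u hu w hw hdu hdw
  have v2 := val u hu w' hw' hdu hy1'
  have v3 := val u hu (w * w') (mul_mem hw hw') hdu hd2'
  have hc : w * (w' * u * w'⁻¹ * u⁻¹) = (w' * u * w'⁻¹ * u⁻¹) * w := by
    rcases v2 with h2 | h2
    · rw [h2, mul_one, one_mul]
    · rw [h2, e'', ← mul_assoc, cX w hw y hy, mul_assoc, cdu w hw, ← mul_assoc]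
  have e3 : (w * w') * u * (w * w')⁻¹ * u⁻¹ = (w' * u * w'⁻¹ * u⁻¹) * (w * u * w⁻¹ * u⁻¹) := by
    calc (w * w') * u * (w * w')⁻¹ * u⁻¹ = w * (w' * u * w'⁻¹ * u⁻¹) * (u * w⁻¹ * u⁻¹) := by group
      _ = _ := by rw [hc]; group
  rw [e3, hd2] at v3
  rw [e''] at v2
  have hdudu := h.sqs _ hduX
  have c12 : ∀ x ∈ Xr, d t u * x = x * d t u := fun x hx => (hXrXs x hx _ hduX).symm
  suffices hh : w * u * w⁻¹ * u⁻¹ = 1 by
    calc w * u = (w * u * w⁻¹ * u⁻¹) * (u * w) := by group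
      _ = u * w := by rw [hh, one_mul]
  rcases v1 with v1 | v1
  · exact v1
  exfalso
  rcases v2 with v2 | v2
  · rw [v1, v2, one_mul] at v3
    rcases v3 with v3 | v3
    · -- `d w d u = 1`
      have h1 : d t w = (d t u)⁻¹ := eq_inv_of_mul_eq_one_left v3
      exact hdw (h.inf _ hdwX (h1 ▸ inv_mem hduX))
    · have h1 := mul_right_cancel v3
      exact hy1 (left_eq_mul.1 h1)
  · rw [v1, v2] at v3
    have e4 : y * d t u * (d t w * d t u) = d t w * y := by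
      calc y * d t u * (d t w * d t u) = y * (d t u * d t w) * d t u := by group
        _ = y * (d t w * d t u) * d t u := by rw [c12 _ hdwX]
        _ = (y * d t w) * (d t u * d t u) := by group
        _ = y * d t w := by rw [hdudu, mul_one]
        _ = d t w * y := cX y (h.XWr hy) _ hdwX
    rw [e4] at v3
    rcases v3 with v3 | v3
    · exact hd2' (by rw [hd2]; exact v3)
    · exact hdu (left_eq_mul.1 v3)

/-- `Wr` is abelian. -/
theorem ab (h : PW t Xr Xs Xa Wr Ws) (h' : PW t Xs Xr Xb Ws Wr)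
    (hsw : ∀ x ∈ Xr, ∀ y ∈ Xs, x ≠ 1 → y ≠ 1 → ∃ n : G, n * t = t * n ∧
      n * x * n⁻¹ = y ∧ n * y * n⁻¹ = x ∧ (∀ w ∈ Wr, n * w * n⁻¹ ∈ Ws) ∧ (∀ w ∈ Ws, n * w * n⁻¹ ∈ Wr))
    (h3 : ∀ x ∈ Xr, ∃ y ∈ Xr, y ≠ 1 ∧ y ≠ x) (h3s : ∀ x ∈ Xs, ∃ y ∈ Xs, y ≠ 1 ∧ y ≠ x) {v w : G}
    (hv : v ∈ Wr) (hw : w ∈ Wr) : v * w = w * v := by
  have cX : ∀ v ∈ Wr, ∀ x ∈ Xr, v * x = x * v := fun v hv x hx =>
    h.rr v hv x hx
  have hdwX : d t w ∈ Xr := h.brkr w hw
  by_cases hdw : d t w = 1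
  · exact cX v hv w (h.d_eq_oner hw hdw)
  -- `u ∈ Ws` with `d u ≠ 1`
  obtain ⟨y, hy, hy1, -⟩ := h3s 1 (one_mem _)
  obtain ⟨u, hu, e⟩ := h.surjs y hy
  have e' : d t u = y := e
  obtain ⟨g, hg, e2⟩ := h.sur y hy hy1 (d t w) hdwX
  rw [← e'] at e2
  obtain ⟨x, hx, z, hz, hB⟩ := h.stepB hg hu hw e2.symm
  have cg : v * g = g * v := h.ra v hv g hg
  have cu : v * u = u * v := h.comm60 h' hsw h3 hu hv
  have cgi : v * g⁻¹ = g⁻¹ * v :=
    h.ra v hv _ (inv_mem hg)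
  have cx : v * x = x * v := cX v hv x hx
  have cz : v * z = z * v := h.rs v hv z hz
  have c1 : v * (g * u * g⁻¹) = (g * u * g⁻¹) * v := by
    calc v * (g * u * g⁻¹) = (v * g) * u * g⁻¹ := by group
      _ = g * (v * u) * g⁻¹ := by rw [cg]; group
      _ = g * u * (v * g⁻¹) := by rw [cu]; group
      _ = _ := by rw [cgi]; group
  have cxz : v * (x * z) = (x * z) * v := by rw [← mul_assoc, cx, mul_assoc, cz, mul_assoc]
  rcases hB with hB | hB
  · rw [hB] at c1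
    have c2 : x * z * u * (v * w) = x * z * u * (w * v) := by
      calc x * z * u * (v * w) = x * z * (u * v) * w := by group
        _ = (x * z * v) * u * w := by rw [← cu]; group
        _ = v * (x * z * (u * w)) := by rw [← cxz]; group
        _ = x * z * (u * w) * v := c1
        _ = _ := by group
    exact mul_left_cancel c2
  · -- `τ = t` : impossible, square (B)
    exfalso
    have hcomm : w * u = u * w := h.comm60 h' hsw h3 hu hw
    obtain ⟨a, ha', e3⟩ := (h.stepC_aux hu hw hg hx hz).2 hB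
    have e4 : w * u * w⁻¹ * u⁻¹ = 1 := by rw [hcomm]; group
    rw [e4] at e3
    have h2 : a = (d t u)⁻¹ := eq_inv_of_mul_eq_one_left e3.symm
    have hduX : d t u ∈ Xs := h.brks u hu
    have h3 := h.inf a ha' (h2 ▸ inv_mem hduX)
    apply hy1
    rw [← e']
    rw [h3, one_mul] at e3
    exact e3.symm

end PW

end Cfsg.Agent.OddHalf.Orth.WabPair
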