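import Cfsg.Agent.OddHalf.Orth.Star
import Cfsg.Agent.OddHalf.Orth.KPl
import Cfsg.Agent.OddHalf.Orth.WabPair
import Cfsg.Agent.OddHalf.Orth.FlagDef

/-!
# From one doubled root group to `Dbl` (ODD D7, `K = Ω(V)`)

* `BaseW Q t j u v W0` : `W0` is a doubled root group for the line `⟨u, v⟩`, normalised by the stabiliser of the line;
* `Wt` : the transport to all lines; `PreD` = `Dbl` with `sqX` (squares lie in `X`) instead of `com` and `sq`;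
  `BaseW.preD`;
* `PreD.dbl_big` : `q > 2`: `W u v` is abelian (proof of `D7Ex/Wab.lean`), so `PreD → Dbl`;
* `PreD.dbl_two` : `q = 2`: `PreD → Dbl` if `w * w = 1`.
-/

set_option autoImplicit false
set_option linter.unusedSectionVars false

namespace Cfsg.Agent.OddHalf.Orth.ExBase

open QuadraticMap Cfsg.Agent.LieClassical.OrthCore Cfsg.Agent.LieClassical.OrthTrans
  Cfsg.Agent.ClassicalGeometry.OrthAutBasic Cfsg.Agent.ClassicalGeometry.OrthAutRoot Cfsg.Agent.OddHalf.Orth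
  Cfsg.Agent.OddHalf.Orth.Star Cfsg.Agent.OddHalf.Orth.Face Cfsg.Agent.OddHalf.Orth.FlagDef

variable {F V : Type*} [Field F] [AddCommGroup V] [Module F V] {Q : QuadraticForm F V}
variable {G : Type*} [Group G] {t : G} {j : ↥(E Q) →* G} {W : V → V → Subgroup G}

/-- A doubled root group for one line. -/
structure BaseW (Q : QuadraticForm F V) (t : G) (j : ↥(E Q) →* G) (u v : V) (W0 : Subgroup G) : Prop where
  X_le : ∀ c : F, j (tE Q u (c • v)) ∈ W0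
  phi : ∀ w ∈ W0, ∃ c : F, w⁻¹ * (t * w * t) = j (tE Q u (c • v))
  surj : ∀ c : F, ∃ w ∈ W0, w⁻¹ * (t * w * t) = j (tE Q u (c • v))
  fix : ∀ w ∈ W0, w * t = t * w → ∃ c : F, w = j (tE Q u (c • v))
  cent : ∀ w ∈ W0, ∀ k : ↥(E Q), k * tE Q u v = tE Q u v * k → j k * w = w * j k
  norm : ∀ k ∈ NL Q u v, ∀ w ∈ W0, j k * w * (j k)⁻¹ ∈ W0
  sqX : ∀ w ∈ W0, ∃ c : F, w * w = j (tE Q u (c • v))

/-- `Dbl` without commutativity. -/
structure PreD (Q : QuadraticForm F V) (t : G) (j : ↥(E Q) →* G) (W : V → V → Subgroup G) : Prop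
    extends Sit Q t j where
  swap : ∀ {u v}, Ln Q u v → W u v = W v u
  add : ∀ {u v} (c : F), Ln Q u v → W u (v + c • u) = W u v
  smul : ∀ {u v} {c : F}, Ln Q u v → c ≠ 0 → W u (c • v) = W u v
  X_le : ∀ {u v} (c : F), Ln Q u v → j (tE Q u (c • v)) ∈ W u v
  phi : ∀ {u v w}, Ln Q u v → w ∈ W u v → ∃ c : F, w⁻¹ * (t * w * t) = j (tE Q u (c • v))
  surj : ∀ {u v} (c : F), Ln Q u v → ∃ w ∈ W u v, w⁻¹ * (t * w * t) = j (tE Q u (c • v))
  fix : ∀ {u v w}, Ln Q u v → w ∈ W u v → w * t = t * w → ∃ c : F, w = j (tE Q u (c • v))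
  cent : ∀ {u v w} {k : ↥(E Q)}, Ln Q u v → w ∈ W u v → k * tE Q u v = tE Q u v * k → j k * w = w * j k
  conj : ∀ {u v w} (k : ↥(E Q)), Ln Q u v → w ∈ W u v →
    j k * w * (j k)⁻¹ ∈ W ((k : V ≃ₗ[F] V) u) ((k : V ≃ₗ[F] V) v)
  sqX : ∀ {u v w}, Ln Q u v → w ∈ W u v → ∃ c : F, w * w = j (tE Q u (c • v))

/-! ### Transport -/

section transport

open Classical in
/-- The transport of `W0` to all lines. -/
noncomputable def Wt (j : ↥(E Q) →* G) (u0 v0 : V) (W0 : Subgroup G) (u v : V) : Subgroup G :=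
  if h : ∃ k : ↥(E Q), (k : V ≃ₗ[F] V) u0 = u ∧ (k : V ≃ₗ[F] V) v0 = v then
    W0.map (MulAut.conj (j h.choose)).toMonoidHom else ⊥

theorem map_L {u v : V} (k : ↥(E Q)) {x : V} (hx : x ∈ L F u v) :
    (k : V ≃ₗ[F] V) x ∈ L F ((k : V ≃ₗ[F] V) u) ((k : V ≃ₗ[F] V) v) := by
  obtain ⟨a, b, rfl⟩ := mem_L.1 hx
  rw [map_add, map_smul, map_smul]
  exact mem_L.2 ⟨a, b, rfl⟩

variable {u0 v0 : V} {W0 : Subgroup G}

theorem exists_k (hK : KFacts Q) (h0 : Ln Q u0 v0) {u v : V} (h : Ln Q u v) :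
    ∃ k : ↥(E Q), (k : V ≃ₗ[F] V) u0 = u ∧ (k : V ≃ₗ[F] V) v0 = v := by
  obtain ⟨w, hw⟩ := hK.exLn3 h0
  obtain ⟨w', hw'⟩ := hK.exLn3 h
  obtain ⟨k, h1, h2, -⟩ := hK.trans3 hw hw'
  exact ⟨k, h1, h2⟩

theorem mem_Wt (hK : KFacts Q) (B : BaseW Q t j u0 v0 W0) (h0 : Ln Q u0 v0) {u v : V} (h : Ln Q u v)
    {k : ↥(E Q)} (h1 : (k : V ≃ₗ[F] V) u0 ∈ L F u v) (h2 : (k : V ≃ₗ[F] V) v0 ∈ L F u v) {g : G} :
    g ∈ Wt j u0 v0 W0 u v ↔ (j k)⁻¹ * g * j k ∈ W0 := by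
  have hex := exists_k hK h0 h
  rw [Wt, dif_pos hex]
  obtain ⟨e1, e2⟩ := hex.choose_spec
  obtain ⟨k', hk'⟩ : ∃ k', k' = hex.choose := ⟨_, rfl⟩
  rw [← hk'] at e1 e2 ⊢
  have hn : k'⁻¹ * k ∈ NL Q u0 v0 := by
    have key : ∀ x : V, (k : V ≃ₗ[F] V) x ∈ L F u v → ((k'⁻¹ * k : ↥(E Q)) : V ≃ₗ[F] V) x ∈ L F u0 v0 := by
      intro x hx
      obtain ⟨a, b, e⟩ := mem_L.1 hx
      refine mem_L.2 ⟨a, b, ?_⟩
      show a • u0 + b • v0 = (k' : V ≃ₗ[F] V).symm ((k : V ≃ₗ[F] V) x)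
      rw [← e, eq_comm, LinearEquiv.symm_apply_eq, map_add, map_smul, map_smul, e1, e2]
    exact mem_NL_of h0 (key _ h1) (key _ h2)
  constructor
  · rintro ⟨x, hx, rfl⟩
    have h3 := B.norm _ (inv_mem hn) x hx
    have e : (j k)⁻¹ * (MulAut.conj (j k')).toMonoidHom x * j k =
        j (k'⁻¹ * k)⁻¹ * x * (j (k'⁻¹ * k)⁻¹)⁻¹ := by
      show (j k)⁻¹ * (j k' * x * (j k')⁻¹) * j k = _
      rw [mul_inv_rev, inv_inv, map_mul, map_inv]
      group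
    rw [e]
    exact h3
  · intro h3
    refine ⟨_, B.norm _ hn _ h3, ?_⟩
    show j k' * (j (k'⁻¹ * k) * ((j k)⁻¹ * g * j k) * (j (k'⁻¹ * k))⁻¹) * (j k')⁻¹ = g
    rw [map_mul, map_inv]
    group

/-- **The transport.** -/
theorem BaseW.preD (S : Sit Q t j) (hK : KFacts Q) (B : BaseW Q t j u0 v0 W0) (h0 : Ln Q u0 v0) :
    PreD Q t j (Wt j u0 v0 W0) := by
  have hL : ∀ {u v x : V}, x ∈ L F u v → ∀ {u' v' : V}, u ∈ L F u' v' → v ∈ L F u' v' → x ∈ L F u' v' := by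
    intro u v x hx u' v' hu hv
    obtain ⟨a, b, rfl⟩ := mem_L.1 hx
    exact add_mem (Submodule.smul_mem _ _ hu) (Submodule.smul_mem _ _ hv)
  -- equality of two transports
  have heq : ∀ {u v u' v' : V}, Ln Q u v → Ln Q u' v' → u ∈ L F u' v' → v ∈ L F u' v' →
      Wt j u0 v0 W0 u v = Wt j u0 v0 W0 u' v' := by
    intro u v u' v' h h' hu hv
    obtain ⟨k, e1, e2⟩ := exists_k hK h0 h
    ext g
    rw [mem_Wt hK B h0 h (k := k) (by rw [e1]; exact left_mem_L _ _) (by rw [e2]; exact right_mem_L _ _),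
      mem_Wt hK B h0 h' (k := k) (by rw [e1]; exact hu) (by rw [e2]; exact hv)]
  have hmem : ∀ {u v : V} {k : ↥(E Q)}, (k : V ≃ₗ[F] V) u0 = u → (k : V ≃ₗ[F] V) v0 = v → Ln Q u v →
      ∀ {g : G}, g ∈ Wt j u0 v0 W0 u v ↔ (j k)⁻¹ * g * j k ∈ W0 := by
    intro u v k e1 e2 h g
    exact mem_Wt hK B h0 h (by rw [e1]; exact left_mem_L _ _) (by rw [e2]; exact right_mem_L _ _)
  have hX : ∀ (k : ↥(E Q)) (c : F), j k * j (tE Q u0 (c • v0)) * (j k)⁻¹ =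
      j (tE Q ((k : V ≃ₗ[F] V) u0) (c • (k : V ≃ₗ[F] V) v0)) := by
    intro k c
    rw [S.rconj, map_smul]
  have ht : ∀ k : ↥(E Q), (j k)⁻¹ * t = t * (j k)⁻¹ := by
    intro k
    have := S.tj k⁻¹
    rw [map_inv] at this
    exact this.symm
  refine ⟨S, ?_, ?_, ?_, ?_, ?_, ?_, ?_, ?_, ?_, ?_⟩
  · intro u v h
    exact heq h h.symm (right_mem_L _ _) (left_mem_L _ _)
  · intro u v c h
    have hv : v + c • u ∈ L F u v := mem_L.2 ⟨c, 1, by rw [one_smul, add_comm]⟩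
    have h' : Ln Q u (v + c • u) := by
      refine ⟨h.qu, h.Q_mem hv, h.polar_mem (left_mem_L _ _) hv, h.ne, fun d e => ?_⟩
      have : (c - d) • u + (1 : F) • v = 0 := by
        rw [sub_smul, one_smul, ← e]; abel
      exact one_ne_zero (h.coeff this).2
    exact heq h' h (left_mem_L _ _) hv
  · intro u v c h hc
    exact heq (h.smul_right hc) h (left_mem_L _ _) (Submodule.smul_mem _ _ (right_mem_L _ _))
  · intro u v c h
    obtain ⟨k, e1, e2⟩ := exists_k hK h0 h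
    rw [hmem e1 e2 h]
    have h3 := B.X_le c
    have e : (j k)⁻¹ * j (tE Q u (c • v)) * j k = j (tE Q u0 (c • v0)) := by
      rw [← e1, ← e2, ← hX]; group
    rw [e]
    exact h3
  · intro u v w h hw
    obtain ⟨k, e1, e2⟩ := exists_k hK h0 h
    rw [hmem e1 e2 h] at hw
    obtain ⟨c, hc⟩ := B.phi _ hw
    refine ⟨c, ?_⟩
    rw [← e1, ← e2, ← hX, ← hc]
    calc w⁻¹ * (t * w * t) = w⁻¹ * (t * w * (t * (j k * (j k)⁻¹))) := by rw [mul_inv_cancel, mul_one]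
      _ = j k * ((j k)⁻¹ * w⁻¹ * (t * w) * (t * j k)) * (j k)⁻¹ := by group
      _ = j k * ((j k)⁻¹ * w⁻¹ * (t * w) * (j k * t)) * (j k)⁻¹ := by rw [S.tj k]
      _ = j k * (((j k)⁻¹ * w⁻¹ * j k) * (((j k)⁻¹ * t) * w * j k * t)) * (j k)⁻¹ := by group
      _ = j k * (((j k)⁻¹ * w * j k)⁻¹ * (t * ((j k)⁻¹ * w * j k) * t)) * (j k)⁻¹ := by
        rw [ht k]; group
  · intro u v c h
    obtain ⟨k, e1, e2⟩ := exists_k hK h0 h
    obtain ⟨w, hw, e⟩ := B.surj c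
    refine ⟨j k * w * (j k)⁻¹, ?_, ?_⟩
    · rw [hmem e1 e2 h]
      have e' : (j k)⁻¹ * (j k * w * (j k)⁻¹) * j k = w := by group
      rw [e']; exact hw
    · rw [← e1, ← e2, ← hX, ← e]
      calc (j k * w * (j k)⁻¹)⁻¹ * (t * (j k * w * (j k)⁻¹) * t) =
          j k * w⁻¹ * (j k)⁻¹ * ((t * j k) * w * ((j k)⁻¹ * t)) := by group
        _ = j k * w⁻¹ * (j k)⁻¹ * ((j k * t) * w * (t * (j k)⁻¹)) := by rw [ht k, S.tj k]
        _ = _ := by group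
  · intro u v w h hw hc
    obtain ⟨k, e1, e2⟩ := exists_k hK h0 h
    rw [hmem e1 e2 h] at hw
    obtain ⟨c, e⟩ := B.fix _ hw (by
      calc (j k)⁻¹ * w * j k * t = (j k)⁻¹ * w * (t * j k) := by rw [S.tj k]; group
        _ = (j k)⁻¹ * (w * t) * j k := by group
        _ = ((j k)⁻¹ * t) * w * j k := by rw [hc]; group
        _ = _ := by rw [ht k]; group)
    refine ⟨c, ?_⟩
    rw [← e1, ← e2, ← hX, ← e]
    group
  · intro u v w a h hw ha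
    obtain ⟨k, e1, e2⟩ := exists_k hK h0 h
    rw [hmem e1 e2 h] at hw
    have h3 := B.cent _ hw (k⁻¹ * a * k) (by
      have e3 : k * tE Q u0 v0 * k⁻¹ = tE Q u v := by rw [tE_conj, e1, e2]
      have e4 : tE Q u0 v0 = k⁻¹ * tE Q u v * k := by rw [← e3]; group
      rw [e4]
      calc k⁻¹ * a * k * (k⁻¹ * tE Q u v * k) = k⁻¹ * (a * tE Q u v) * k := by group
        _ = _ := by rw [ha]; group)
    rw [map_mul, map_mul, map_inv] at h3
    calc j a * w = j k * ((j k)⁻¹ * j a * j k * ((j k)⁻¹ * w * j k)) * (j k)⁻¹ := by group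
      _ = j k * ((j k)⁻¹ * w * j k * ((j k)⁻¹ * j a * j k)) * (j k)⁻¹ := by rw [h3]
      _ = w * j a := by group
  · intro u v w a h hw
    obtain ⟨k, e1, e2⟩ := exists_k hK h0 h
    rw [hmem e1 e2 h] at hw
    have e3 : ((a * k : ↥(E Q)) : V ≃ₗ[F] V) u0 = (a : V ≃ₗ[F] V) u := by rw [← e1]; rfl
    have e4 : ((a * k : ↥(E Q)) : V ≃ₗ[F] V) v0 = (a : V ≃ₗ[F] V) v := by rw [← e2]; rfl
    rw [hmem e3 e4 (h.map (mem_O' a))]
    have e5 : (j (a * k))⁻¹ * (j a * w * (j a)⁻¹) * j (a * k) = (j k)⁻¹ * w * j k := by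
      rw [map_mul]; group
    rw [e5]; exact hw
  · intro u v w h hw
    obtain ⟨k, e1, e2⟩ := exists_k hK h0 h
    rw [hmem e1 e2 h] at hw
    obtain ⟨c, e⟩ := B.sqX _ hw
    refine ⟨c, ?_⟩
    rw [← e1, ← e2, ← hX, ← e]
    group

end transport

end Cfsg.Agent.OddHalf.Orth.ExBase
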