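import Cfsg.Agent.OddHalf.Orth.CentK
import Cfsg.Agent.OddHalf.Orth.CentAbs
import Cfsg.Agent.OddHalf.Orth.ExBase

/-!
# ODD D7, `K = Ω(V)`, `F = 𝔽₂`: `[W_l, P_l] = 1` (row M9; text: bb ODD #12614)

`Dbl0` = `Face.Dbl` with `cent` only for elements of `K` fixing `u` AND `v`. `Dbl0.dbl` : `Dbl0 → Dbl` (no hypothesis on
`C_G(t)` besides `Sit`: a reflection in `C_G(t)` is allowed).

If an element of `K` inducing a transposition on `l` moved `y_l` (`Odd1`), then `y_v y_w y_v` would act as a reflection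
(`k_refl`), and two such products give a contradiction (`not_odd1`); `plane` : `y_a y_b z_b = y_b y_a z_a`.
-/

set_option autoImplicit false

namespace Cfsg.Agent.OddHalf.Orth.CentTwo

open QuadraticMap Cfsg.Agent.LieClassical.OrthCore Cfsg.Agent.LieClassical.OrthTrans
  Cfsg.Agent.ClassicalGeometry.OrthAutBasic Cfsg.Agent.ClassicalGeometry.OrthAutRoot Cfsg.Agent.OddHalf.Orth
  Cfsg.Agent.OddHalf.Orth.Face Cfsg.Agent.OddHalf.Orth.CentK Sem'

variable {F V : Type*} [Field F] [AddCommGroup V] [Module F V] {Q : QuadraticForm F V}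
variable {G : Type*} [Group G] {t : G} {j : ↥(E Q) →* G} {W : V → V → Subgroup G}

/-- Doubled long root groups, `cent` only for the elements fixing `u` and `v`. -/
structure Dbl0 (Q : QuadraticForm F V) (t : G) (j : ↥(E Q) →* G) (W : V → V → Subgroup G) : Prop
    extends Sit Q t j where
  swap : ∀ {u v}, Ln Q u v → W u v = W v u
  add : ∀ {u v} (c : F), Ln Q u v → W u (v + c • u) = W u v
  smul : ∀ {u v} {c : F}, Ln Q u v → c ≠ 0 → W u (c • v) = W u v
  X_le : ∀ {u v} (c : F), Ln Q u v → j (tE Q u (c • v)) ∈ W u v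
  phi : ∀ {u v w}, Ln Q u v → w ∈ W u v → ∃ c : F, w⁻¹ * (t * w * t) = j (tE Q u (c • v))
  surj : ∀ {u v} (c : F), Ln Q u v → ∃ w ∈ W u v, w⁻¹ * (t * w * t) = j (tE Q u (c • v))
  fix : ∀ {u v w}, Ln Q u v → w ∈ W u v → w * t = t * w → ∃ c : F, w = j (tE Q u (c • v))
  cent0 : ∀ {u v w} {k : ↥(E Q)}, Ln Q u v → w ∈ W u v → (k : V ≃ₗ[F] V) u = u → (k : V ≃ₗ[F] V) v = v →
    j k * w = w * j k
  conj : ∀ {u v w} (k : ↥(E Q)), Ln Q u v → w ∈ W u v →
    j k * w * (j k)⁻¹ ∈ W ((k : V ≃ₗ[F] V) u) ((k : V ≃ₗ[F] V) v)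
  sq : ∀ {u v w}, Ln Q u v → w ∈ W u v → w * w = 1

/-- `y` is a lift: `y ∈ W u v`, `[y, t] = z_{uv}`. -/
structure IsY (Q : QuadraticForm F V) (t : G) (j : ↥(E Q) →* G) (W : V → V → Subgroup G) (u v : V) (y : G) :
    Prop where
  mem : y ∈ W u v
  eq : t * y * t = y * j (tE Q u v)

/-- `g ∈ C_G(t)` acts on `V` as the isometry `m`. -/
structure AO (Q : QuadraticForm F V) (t : G) (j : ↥(E Q) →* G) (g : G) (m : V ≃ₗ[F] V) : Prop where
  ct : g * t = t * g
  mO : m ∈ O Q
  act : ∀ s x, Q s = 0 → polar Q s x = 0 → g * j (tE Q s x) * g⁻¹ = j (tE Q (m s) (m x))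

namespace AO

theorem exists_AO (S : Sit Q t j) (h2 : ∀ c : F, c = 0 ∨ c = 1) {g : G} (hg : g * t = t * g) :
    ∃ m, AO Q t j g m := by
  obtain ⟨M, σ, S', hact⟩ := S.act g hg
  have hσ : ∀ a, σ a = a := by
    intro a
    rcases h2 a with rfl | rfl
    · exact map_zero σ
    · exact map_one σ
  exact ⟨toLin S' hσ, hg, toLin_mem S' hσ, fun s x hs hx => hact s x hs hx⟩

theorem mul {g g' : G} {m m' : V ≃ₗ[F] V} (A : AO Q t j g m) (A' : AO Q t j g' m') :
    AO Q t j (g * g') (m * m') where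
  ct := by rw [mul_assoc, A'.ct, ← mul_assoc, A.ct, mul_assoc]
  mO := mul_mem A.mO A'.mO
  act := by
    intro s x hs hx
    have e : g * g' * j (tE Q s x) * (g * g')⁻¹ = g * (g' * j (tE Q s x) * g'⁻¹) * g⁻¹ := by group
    rw [e, A'.act s x hs hx, A.act _ _ (by rw [mem_O.1 A'.mO, hs]) (by rw [polar_map A'.mO, hx])]
    rfl

theorem of_j (S : Sit Q t j) (k : ↥(E Q)) : AO Q t j (j k) (k : V ≃ₗ[F] V) where
  ct := (S.tj k).symm
  mO := mem_O' k
  act := fun s x _ _ => S.rconj k s x

theorem eq_j (S : Sit Q t j) {g : G} {m : V ≃ₗ[F] V} (A : AO Q t j g m) {k : ↥(E Q)}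
    (hk : m = (k : V ≃ₗ[F] V)) : g = j k ∨ g = t * j k :=
  S.of_act A.ct A.act (fun v => by rw [hk])

end AO

namespace Dbl0

variable (D : Dbl0 Q t j W)
include D

theorem exY {u v : V} (h : Ln Q u v) : ∃ y, IsY Q t j W u v y := by
  obtain ⟨w, hw, e⟩ := D.surj 1 h
  rw [one_smul] at e
  exact ⟨w, hw, inv_mul_eq_iff_eq_mul.1 e⟩

theorem sqY {u v : V} (h : Ln Q u v) {y : G} (hy : IsY Q t j W u v y) : y * y = 1 := D.sq h hy.mem

theorem invY {u v : V} (h : Ln Q u v) {y : G} (hy : IsY Q t j W u v y) : y⁻¹ = y :=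
  inv_eq_of_mul_eq_one_left (D.sqY h hy)

theorem comm0 {u v s x : V} (h : Ln Q u v) {y : G} (hy : IsY Q t j W u v y) (h1 : T Q s x u = u)
    (h2 : T Q s x v = v) : j (tE Q s x) * y = y * j (tE Q s x) := D.cent0 h hy.mem h1 h2

theorem conjY {u v : V} (h : Ln Q u v) {y : G} (hy : IsY Q t j W u v y) (k : ↥(E Q)) :
    IsY Q t j W ((k : V ≃ₗ[F] V) u) ((k : V ≃ₗ[F] V) v) (j k * y * (j k)⁻¹) where
  mem := D.conj k h hy.mem
  eq := by
    have h1 := D.tj k
    have h3 : (j k)⁻¹ * t = t * (j k)⁻¹ := by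
      have := D.tj k⁻¹
      rw [map_inv] at this
      exact this.symm
    rw [← D.toSit.rconj k u v]
    calc t * (j k * y * (j k)⁻¹) * t = (t * j k) * y * ((j k)⁻¹ * t) := by group
      _ = (j k * t) * y * (t * (j k)⁻¹) := by rw [h1, h3]
      _ = j k * (t * y * t) * (j k)⁻¹ := by group
      _ = _ := by rw [hy.eq]; group

section two
variable [CharP F 2]

theorem zz {s x : V} (hs : Q s = 0) (hx : polar Q s x = 0) : j (tE Q s x) * j (tE Q s x) = 1 := by
  rw [← map_mul, tE_mul_self hs hx, map_one]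

theorem zy {u v : V} (h : Ln Q u v) {y : G} (hy : IsY Q t j W u v y) :
    j (tE Q u v) * y = y * j (tE Q u v) :=
  D.comm0 h hy (T_apply_self h.qu h.perp) (T_fix h.perp (polar_self2 v))

theorem swapY {u v : V} (h : Ln Q u v) {y : G} (hy : IsY Q t j W u v y) : IsY Q t j W v u y where
  mem := by rw [← D.swap h]; exact hy.mem
  eq := by rw [hy.eq, tE_swap h.qu h.qw h.perp]

theorem addY {u v : V} (h : Ln Q u v) {y : G} : IsY Q t j W u (v + u) y ↔ IsY Q t j W u v y := by
  have e1 := D.add 1 h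
  have e2 := tE_add_smul (Q := Q) h.qu h.perp 1
  rw [one_smul] at e1 e2
  constructor
  · rintro ⟨h1, h3⟩
    rw [e1] at h1
    rw [e2] at h3
    exact ⟨h1, h3⟩
  · rintro ⟨h1, h3⟩
    refine ⟨?_, ?_⟩
    · rw [e1]; exact h1
    · rw [e2]; exact h3

theorem uniq (h2 : ∀ c : F, c = 0 ∨ c = 1) {u v : V} (h : Ln Q u v) {y y' : G} (hy : IsY Q t j W u v y)
    (hy' : IsY Q t j W u v y') : y' = y ∨ y' = y * j (tE Q u v) := by
  have z1 := D.zy h hy
  have z2 := D.zy h hy'
  have zz := D.zz (Q := Q) h.qu h.perp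
  have iy := D.invY h hy
  have e : (y * y') * t = t * (y * y') := by
    have e1 : t * (y * y') * t = y * y' := by
      calc t * (y * y') * t = t * y * (1 : G) * y' * t := by group
        _ = t * y * (t * t) * y' * t := by rw [D.tt]
        _ = (t * y * t) * (t * y' * t) := by group
        _ = y * (j (tE Q u v) * y') * j (tE Q u v) := by rw [hy.eq, hy'.eq]; group
        _ = y * y' * (j (tE Q u v) * j (tE Q u v)) := by rw [z2]; group
        _ = _ := by rw [zz, mul_one]
    calc (y * y') * t = t * (y * y') * t * t := by rw [e1]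
      _ = t * (y * y') * (t * t) := by group
      _ = _ := by rw [D.tt, mul_one]
  obtain ⟨c, hc⟩ := D.fix h (mul_mem hy.mem hy'.mem) e
  have e2 : y' = y * (y * y') := by rw [← mul_assoc, D.sqY h hy, one_mul]
  rcases h2 c with rfl | rfl
  · left
    rw [e2, hc, zero_smul, tE_zero_right, map_one, mul_one]
  · right
    rw [e2, hc, one_smul]

/-- conjugation by an element inducing a transvection of the line -/
theorem conj_or (h2 : ∀ c : F, c = 0 ∨ c = 1) {u v x : V} (h : Ln Q u v) (hx : polar Q u x = 0)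
    (hvx : polar Q v x = 1) {y : G} (hy : IsY Q t j W u v y) :
    j (tE Q u x) * y * (j (tE Q u x))⁻¹ = y ∨ j (tE Q u x) * y * (j (tE Q u x))⁻¹ = y * j (tE Q u v) := by
  have h1 := D.conjY h hy (tE Q u x)
  rw [coe_tE, T_apply_self h.qu hx, T_perp h.qu hx h.perp, polar_comm Q x v, hvx, one_smul, D.addY h] at h1
  exact D.uniq h2 h hy h1

end two

end Dbl0

/-- elements of `K` inducing a transposition on `l` move `y_l` -/
def Odd1 (Q : QuadraticForm F V) (t : G) (j : ↥(E Q) →* G) (W : V → V → Subgroup G) : Prop :=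
  ∀ {u v x : V} {y : G}, Ln Q u v → polar Q u x = 0 → polar Q v x = 1 → IsY Q t j W u v y →
    j (tE Q u x) * y * (j (tE Q u x))⁻¹ = y * j (tE Q u v)

/-- elements of `K` inducing a transposition on `l` centralise `y_l` -/
def Even1 (Q : QuadraticForm F V) (t : G) (j : ↥(E Q) →* G) (W : V → V → Subgroup G) : Prop :=
  ∀ {u v x : V} {y : G}, Ln Q u v → polar Q u x = 0 → polar Q v x = 1 → IsY Q t j W u v y →
    j (tE Q u x) * y = y * j (tE Q u x)

theorem dich [CharP F 2] (D : Dbl0 Q t j W) (hK : KFacts Q) (h2 : ∀ c : F, c = 0 ∨ c = 1) :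
    Even1 Q t j W ∨ Odd1 Q t j W := by
  by_cases hE : Even1 Q t j W
  · exact Or.inl hE
  right
  rw [Even1] at hE
  push Not at hE
  obtain ⟨u0, v0, x0, y0, h0, hx0, hvx0, hy0, hne⟩ := hE
  have e0 : j (tE Q u0 x0) * y0 * (j (tE Q u0 x0))⁻¹ = y0 * j (tE Q u0 v0) := by
    rcases D.conj_or h2 h0 hx0 hvx0 hy0 with h | h
    · exact (hne (mul_inv_eq_iff_eq_mul.1 h)).elim
    · exact h
  intro u v x y h hx hvx hy
  obtain ⟨k, k1, k2⟩ := ExBase.exists_k hK h0 h
  have hy1 := D.conjY h0 hy0 k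
  rw [k1, k2] at hy1
  have qx : polar Q u ((k : V ≃ₗ[F] V) x0) = 0 := by rw [← k1, polar_map', hx0]
  have qvx : polar Q v ((k : V ≃ₗ[F] V) x0) = 1 := by rw [← k2, polar_map', hvx0]
  have e1 : j (tE Q u ((k : V ≃ₗ[F] V) x0)) * (j k * y0 * (j k)⁻¹) * (j (tE Q u ((k : V ≃ₗ[F] V) x0)))⁻¹ =
      (j k * y0 * (j k)⁻¹) * j (tE Q u v) := by
    have a1 := D.toSit.rconj k u0 x0
    have a2 := D.toSit.rconj k u0 v0
    rw [k1] at a1
    rw [k1, k2] at a2
    rw [← a1, ← a2]
    calc j k * j (tE Q u0 x0) * (j k)⁻¹ * (j k * y0 * (j k)⁻¹) * (j k * j (tE Q u0 x0) * (j k)⁻¹)⁻¹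
        = j k * (j (tE Q u0 x0) * y0 * (j (tE Q u0 x0))⁻¹) * (j k)⁻¹ := by group
      _ = _ := by rw [e0]; group
  -- the element `tE u (k x0)` moves `y` too
  have zc : j (tE Q u ((k : V ≃ₗ[F] V) x0)) * j (tE Q u v) = j (tE Q u v) * j (tE Q u ((k : V ≃ₗ[F] V) x0)) := by
    rw [← map_mul, tE_comm h.qu qx h.perp, map_mul]
  have e2 : j (tE Q u ((k : V ≃ₗ[F] V) x0)) * y * (j (tE Q u ((k : V ≃ₗ[F] V) x0)))⁻¹ = y * j (tE Q u v) := by
    rcases D.uniq h2 h hy1 hy with e | e
    · rw [e]; exact e1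
    · rw [e]
      generalize j (tE Q u ((k : V ≃ₗ[F] V) x0)) = r at *
      generalize j k * y0 * (j k)⁻¹ = y1 at *
      calc r * (y1 * j (tE Q u v)) * r⁻¹ = r * y1 * (j (tE Q u v) * r⁻¹) := by group
        _ = r * y1 * (r⁻¹ * (r * j (tE Q u v)) * r⁻¹) := by group
        _ = r * y1 * (r⁻¹ * (j (tE Q u v) * r) * r⁻¹) := by rw [zc]
        _ = (r * y1 * r⁻¹) * j (tE Q u v) := by group
        _ = _ := by rw [e1]
  -- `tE u x = tE u (x + k x0) * tE u (k x0)`
  have q1 : polar Q u (x + (k : V ≃ₗ[F] V) x0) = 0 := by rw [polar_add_right, hx, qx, add_zero]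
  have q2 : polar Q (x + (k : V ≃ₗ[F] V) x0) v = 0 := by
    rw [polar_comm, polar_add_right, hvx, qvx, CharTwo.add_self_eq_zero]
  have e3 : tE Q u x = tE Q u (x + (k : V ≃ₗ[F] V) x0) * tE Q u ((k : V ≃ₗ[F] V) x0) := by
    rw [tE_mul h.qu q1 qx, add_assoc, add_self' (F := F), add_zero]
  have e4 := D.comm0 h hy (T_apply_self h.qu q1) (T_fix h.perp q2)
  have e5 : j (tE Q u (x + (k : V ≃ₗ[F] V) x0)) * j (tE Q u v) =
      j (tE Q u v) * j (tE Q u (x + (k : V ≃ₗ[F] V) x0)) := by
    rw [← map_mul, tE_comm h.qu q1 h.perp, map_mul]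
  rw [e3, map_mul]
  generalize j (tE Q u ((k : V ≃ₗ[F] V) x0)) = r at *
  generalize j (tE Q u (x + (k : V ≃ₗ[F] V) x0)) = r' at *
  calc r' * r * y * (r' * r)⁻¹ = r' * (r * y * r⁻¹) * r'⁻¹ := by group
    _ = (r' * y) * j (tE Q u v) * r'⁻¹ := by rw [e2]; group
    _ = y * (r' * j (tE Q u v)) * r'⁻¹ := by rw [e4]; group
    _ = _ := by rw [e5]; group

/-! ### `Even1` gives `cent` -/

theorem exists_dual2 [FiniteDimensional F V] (hQ : Nondeg Q) {u v : V} (h : Ln Q u v) :
    ∃ x, polar Q u x = 0 ∧ polar Q v x = 1 := by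
  obtain ⟨x, h1, h2⟩ := exists_sep_sub hQ (S := Submodule.span F {u}) (x := v) (by
    intro hm
    obtain ⟨c, hc⟩ := Submodule.mem_span_singleton.1 hm
    exact h.ind c hc.symm)
  exact ⟨x, h2 u (Submodule.mem_span_singleton_self u), h1⟩

theorem cent_of_even [CharP F 2] [FiniteDimensional F V] (D : Dbl0 Q t j W) (hQ : Nondeg Q)
    (h2 : ∀ c : F, c = 0 ∨ c = 1) (Ev : Even1 Q t j W) {u v : V} {w : G} {k : ↥(E Q)} (h : Ln Q u v)
    (hw : w ∈ W u v) (hk : k * tE Q u v = tE Q u v * k) : j k * w = w * j k := by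
  -- `w` is in `⟨z⟩` or a lift
  obtain ⟨c, hc⟩ := D.phi h hw
  rcases h2 c with rfl | rfl
  · rw [zero_smul, tE_zero_right, map_one, inv_mul_eq_one] at hc
    obtain ⟨d, hd⟩ := D.fix h hw (by
      calc w * t = (t * w * t) * t := by rw [← hc]
        _ = t * w * (t * t) := by group
        _ = t * w := by rw [D.tt, mul_one])
    rcases h2 d with rfl | rfl
    · rw [zero_smul, tE_zero_right, map_one] at hd
      rw [hd, mul_one, one_mul]
    · rw [one_smul] at hd
      rw [hd, ← map_mul, hk, map_mul]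
  rw [one_smul, inv_mul_eq_iff_eq_mul] at hc
  have hy : IsY Q t j W u v w := ⟨hw, hc⟩
  obtain ⟨x, hx, hvx⟩ := exists_dual2 hQ h
  obtain ⟨x', hx', hvx'⟩ := exists_dual2 hQ h.symm
  have cu := Ev h hx hvx hy
  have cv := Ev h.symm hx' hvx' (D.swapY h hy)
  have tu : T Q u x u = u := T_apply_self h.qu hx
  have tv : T Q u x v = v + u := by
    rw [T_perp h.qu hx h.perp, polar_comm Q x v, hvx, one_smul]
  have su : T Q v x' u = u + v := by
    rw [T_perp h.qw hx' h.perp', polar_comm Q x' u, hvx', one_smul]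
  have sv : T Q v x' v = v := T_apply_self h.qw hx'
  -- the case `k u = u`
  have key : ∀ k : ↥(E Q), (k : V ≃ₗ[F] V) u = u → (k : V ≃ₗ[F] V) v ∈ L F u v → j k * w = w * j k := by
    intro k k1 k2
    obtain ⟨a, b, e⟩ := mem_L.1 k2
    have hb : b = 1 := by
      rcases h2 b with rfl | rfl
      · exfalso
        rw [zero_smul, add_zero] at e
        have : (k : V ≃ₗ[F] V) v = (k : V ≃ₗ[F] V) (a • u) := by rw [map_smul, k1, e]
        exact h.ind a ((k : V ≃ₗ[F] V).injective this)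
      · rfl
    subst hb
    rw [one_smul] at e
    rcases h2 a with rfl | rfl
    · rw [zero_smul, zero_add] at e
      exact D.cent0 h hw k1 e.symm
    · rw [one_smul] at e
      have c1 : j (tE Q u x * k) * w = w * j (tE Q u x * k) := by
        refine D.cent0 h hw ?_ ?_
        · show T Q u x ((k : V ≃ₗ[F] V) u) = u
          rw [k1, tu]
        · show T Q u x ((k : V ≃ₗ[F] V) v) = v
          rw [← e, map_add, tu, tv, add_comm v u, ← add_assoc, add_self' (F := F), zero_add]
      rw [map_mul] at c1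
      have c2 : j (tE Q u x) * (j k * w) = j (tE Q u x) * (w * j k) := by
        rw [← mul_assoc, c1, ← mul_assoc, ← cu, mul_assoc]
      exact mul_left_cancel c2
  have S : Sem Q (k : V ≃ₗ[F] V).toAddEquiv (RingEquiv.refl F) :=
    ⟨fun a v => map_smul (k : V ≃ₗ[F] V) a v, fun v => Q_map k v⟩
  have hml := mem_line hQ S h (by
    have e1 := tE_conj k u v
    rw [hk, mul_inv_cancel_right] at e1
    exact e1.symm)
  have m1 : (k : V ≃ₗ[F] V) u ∈ L F u v := hml.1
  have m2 : (k : V ≃ₗ[F] V) v ∈ L F u v := hml.2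
  have hL1 : ∀ y ∈ L F u v, T Q u x y ∈ L F u v := by
    intro y hy
    obtain ⟨a, b, rfl⟩ := mem_L.1 hy
    rw [map_add, map_smul, map_smul, tu, tv]
    exact add_mem (Submodule.smul_mem _ _ (left_mem_L _ _))
      (Submodule.smul_mem _ _ (add_mem (right_mem_L _ _) (left_mem_L _ _)))
  have hL2 : ∀ y ∈ L F u v, T Q v x' y ∈ L F u v := by
    intro y hy
    obtain ⟨a, b, rfl⟩ := mem_L.1 hy
    rw [map_add, map_smul, map_smul, su, sv]
    exact add_mem (Submodule.smul_mem _ _ (add_mem (left_mem_L _ _) (right_mem_L _ _)))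
      (Submodule.smul_mem _ _ (right_mem_L _ _))
  obtain ⟨a, b, e⟩ := mem_L.1 m1
  rcases h2 b with rfl | rfl
  · rcases h2 a with rfl | rfl
    · exfalso
      rw [zero_smul, zero_smul, add_zero] at e
      exact h.ne ((k : V ≃ₗ[F] V).injective (by rw [← e, map_zero]))
    · rw [one_smul, zero_smul, add_zero] at e
      exact key k e.symm m2
  · rcases h2 a with rfl | rfl
    · rw [one_smul, zero_smul, zero_add] at e
      have c1 := key (tE Q v x' * (tE Q u x * k)) (by
        show T Q v x' (T Q u x ((k : V ≃ₗ[F] V) u)) = u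
        rw [← e, tv, map_add, su, sv, add_comm u v, ← add_assoc, add_self' (F := F), zero_add])
        (hL2 _ (hL1 _ m2))
      rw [map_mul, map_mul] at c1
      have c2 : j (tE Q v x') * (j (tE Q u x) * (j k * w)) = j (tE Q v x') * (j (tE Q u x) * (w * j k)) := by
        calc j (tE Q v x') * (j (tE Q u x) * (j k * w)) = j (tE Q v x') * (j (tE Q u x) * j k) * w := by group
          _ = w * j (tE Q v x') * j (tE Q u x) * j k := by rw [c1]; group
          _ = j (tE Q v x') * (w * j (tE Q u x)) * j k := by rw [← cv]; group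
          _ = _ := by rw [← cu]; group
      exact mul_left_cancel (mul_left_cancel c2)
    · rw [one_smul, one_smul] at e
      have c1 := key (tE Q v x' * k) (by
        show T Q v x' ((k : V ≃ₗ[F] V) u) = u
        rw [← e, map_add, su, sv, add_assoc, add_self' (F := F), add_zero]) (hL2 _ m2)
      rw [map_mul] at c1
      have c2 : j (tE Q v x') * (j k * w) = j (tE Q v x') * (w * j k) := by
        calc j (tE Q v x') * (j k * w) = j (tE Q v x') * j k * w := by group
          _ = w * j (tE Q v x') * j k := by rw [c1]; group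
          _ = _ := by rw [← cv]; group
      exact mul_left_cancel c2

/-! ### The plane lemma -/

/-- (A), first half -/
theorem rho_exists [CharP F 2] [FiniteDimensional F V] (D : Dbl0 Q t j W) (hQ : Nondeg Q)
    (h2 : ∀ c : F, c = 0 ∨ c = 1) {u a b a' : V} (h3 : Ln3 Q u a b) (ha1 : polar Q a a' = 1)
    (ha2 : polar Q u a' = 0) (ha3 : polar Q b a' = 0) {y1 yb : G} (hy1 : IsY Q t j W a b y1)
    (hyb : IsY Q t j W u b yb) :
    ∃ (ρ : G) (α β : F), j (tE Q u a') * y1 * (j (tE Q u a'))⁻¹ = y1 * yb * ρ ∧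
      (ρ = j (tE Q u (α • a + β • b)) ∨ ρ = t * j (tE Q a b) * j (tE Q u (α • a + β • b))) := by
  have hab : Ln Q a b := h3.vw
  have uu : polar Q u u = 0 := polar_self2 u
  have aa : polar Q a a = 0 := polar_self2 a
  have bb : polar Q b b = 0 := polar_self2 b
  have ua := h3.uv.perp
  have ub := h3.uw.perp
  have au := h3.uv.perp'
  have bu := h3.uw.perp'
  have ab : polar Q a b = 0 := hab.perp
  have ba := hab.perp'
  have Tu : T Q u a' u = u := T_apply_self h3.uv.qu ha2
  have Ta : T Q u a' a = a + u := by rw [T_perp h3.uv.qu ha2 ua, polar_comm Q a' a, ha1, one_smul]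
  have Tb : T Q u a' b = b := T_fix ub (polar_zero_of_comm ha3)
  have hy1' := D.conjY hab hy1 (tE Q u a')
  rw [coe_tE, Ta, Tb] at hy1'
  have hab' : Ln Q (a + u) b := by
    have := hab.map (mem_O' (tE Q u a'))
    rwa [coe_tE, Ta, Tb] at this
  -- `z(a+u, b) = z(a,b) z(u,b)`
  have ez : tE Q (a + u) b = tE Q a b * tE Q u b := by
    rw [tE_swap hab'.qu hab'.qw hab'.perp, ← tE_mul hab.qw ba bu, tE_swap hab.qw hab.qu ba,
      tE_swap h3.uw.qw h3.uw.qu bu]
  have zc : j (tE Q a b) * yb = yb * j (tE Q a b) :=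
    D.comm0 h3.uw hyb (T_fix au bu) (T_fix ab bb)
  have zc2 : j (tE Q u b) * y1 = y1 * j (tE Q u b) :=
    D.comm0 hab hy1 (T_fix ua ba) (T_fix ub bb)
  have zc3 : j (tE Q u b) * j (tE Q a b) = j (tE Q a b) * j (tE Q u b) := by
    rw [← map_mul, ← map_mul, tE_comm_of (T_fix ua ba) (T_fix ub bb)]
  obtain ⟨A, hA⟩ : ∃ A, A = j (tE Q u a') * y1 * (j (tE Q u a'))⁻¹ := ⟨_, rfl⟩
  rw [← hA] at hy1' ⊢
  have tA : t * A * t = A * (j (tE Q a b) * j (tE Q u b)) := by rw [hy1'.eq, ez, map_mul]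
  have tB : t * (y1 * yb) * t = (y1 * yb) * (j (tE Q a b) * j (tE Q u b)) := by
    calc t * (y1 * yb) * t = t * y1 * 1 * yb * t := by group
      _ = t * y1 * (t * t) * yb * t := by rw [D.tt]
      _ = (t * y1 * t) * (t * yb * t) := by group
      _ = y1 * (j (tE Q a b) * yb) * j (tE Q u b) := by rw [hy1.eq, hyb.eq]; group
      _ = _ := by rw [zc]; group
  have zA : (j (tE Q a b) * j (tE Q u b)) * A = A * (j (tE Q a b) * j (tE Q u b)) := by
    rw [← map_mul, ← ez]; exact D.zy hab' hy1'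
  have zB : (j (tE Q a b) * j (tE Q u b)) * (y1 * yb) = (y1 * yb) * (j (tE Q a b) * j (tE Q u b)) := by
    have w1 := D.zy hab hy1
    have w2 := D.zy h3.uw hyb
    calc (j (tE Q a b) * j (tE Q u b)) * (y1 * yb) = j (tE Q a b) * (j (tE Q u b) * y1) * yb := by group
      _ = (j (tE Q a b) * y1) * j (tE Q u b) * yb := by rw [zc2]; group
      _ = y1 * j (tE Q a b) * (j (tE Q u b) * yb) := by rw [w1]; group
      _ = y1 * (j (tE Q a b) * yb) * j (tE Q u b) := by rw [w2]; group
      _ = _ := by rw [zc]; group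
  obtain ⟨ρ, hρ⟩ : ∃ ρ, ρ = (y1 * yb)⁻¹ * A := ⟨_, rfl⟩
  have eA : A = y1 * yb * ρ := by rw [hρ]; group
  have tρ : ρ * t = t * ρ := by
    generalize j (tE Q a b) * j (tE Q u b) = z at *
    have e1 : t * ρ * t = ρ := by
      have e2 : t * ρ * t = (t * (y1 * yb) * t)⁻¹ * (t * A * t) := by
        have ti : t⁻¹ = t := inv_eq_of_mul_eq_one_left D.tt
        rw [hρ]
        calc t * ((y1 * yb)⁻¹ * A) * t = t * (y1 * yb)⁻¹ * 1 * A * t := by group
          _ = t⁻¹ * (y1 * yb)⁻¹ * (t⁻¹ * t) * A * t := by rw [ti, D.tt]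
          _ = (t * (y1 * yb) * t)⁻¹ * (t * A * t) := by group
      rw [e2, tA, tB, ← zA, hρ]
      calc (y1 * yb * z)⁻¹ * (z * A) = (z⁻¹ * (y1 * yb)⁻¹ * z) * A := by group
        _ = ((y1 * yb)⁻¹ * (z⁻¹ * z)) * A := by
          have : z⁻¹ * (y1 * yb)⁻¹ = (y1 * yb)⁻¹ * z⁻¹ := by rw [← mul_inv_rev, ← mul_inv_rev, zB]
          rw [this]; group
        _ = _ := by group
    calc ρ * t = (t * ρ * t) * t := by rw [e1]
      _ = t * ρ * (t * t) := by group
      _ = _ := by rw [D.tt, mul_one]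
  obtain ⟨m, hm⟩ := AO.exists_AO D.toSit h2 tρ
  obtain ⟨α, β, c, e⟩ := plane_cent hQ h2 h3 hm.mO (by
    intro s x hs hux hax hbx
    have hqs : Q s = 0 := by rcases hs with rfl | rfl | rfl; exacts [h3.uv.qu, hab.qu, hab.qw]
    have hus : polar Q u s = 0 := by rcases hs with rfl | rfl | rfl; exacts [uu, ua, ub]
    have has : polar Q a s = 0 := by rcases hs with rfl | rfl | rfl; exacts [au, aa, ab]
    have hbs : polar Q b s = 0 := by rcases hs with rfl | rfl | rfl; exacts [bu, ba, bb]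
    have hsx : polar Q s x = 0 := by rcases hs with rfl | rfl | rfl; exacts [hux, hax, hbx]
    have f1 : T Q s x u = u := T_fix (polar_zero_of_comm hus) (polar_zero_of_comm hux)
    have f2 : T Q s x a = a := T_fix (polar_zero_of_comm has) (polar_zero_of_comm hax)
    have f3 : T Q s x b = b := T_fix (polar_zero_of_comm hbs) (polar_zero_of_comm hbx)
    have c1 := D.comm0 hab hy1 f2 f3
    have c2 := D.comm0 h3.uw hyb f1 f3
    have c3 := D.comm0 hab' hy1' (by rw [map_add, f1, f2]) f3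
    apply D.inj
    rw [← hm.act s x hqs hsx, hρ]
    generalize j (tE Q s x) = r at *
    have c4 : r * (y1 * yb) = (y1 * yb) * r := by rw [← mul_assoc, c1, mul_assoc, c2, ← mul_assoc]
    have c5 : (y1 * yb)⁻¹ * r = r * (y1 * yb)⁻¹ := by
      rw [inv_mul_eq_iff_eq_mul, ← mul_assoc, ← c4, mul_inv_cancel_right]
    calc (y1 * yb)⁻¹ * A * r * ((y1 * yb)⁻¹ * A)⁻¹ = (y1 * yb)⁻¹ * (A * r) * A⁻¹ * (y1 * yb) := by group
      _ = ((y1 * yb)⁻¹ * r) * (y1 * yb) := by rw [← c3]; group
      _ = r := by rw [c5]; group)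
  have pab : polar Q u (α • a + β • b) = 0 := by
    rw [polar_add_right, polar_smul_right, polar_smul_right, ua, ub]; simp
  obtain ⟨s, r, hs, hr, hsr⟩ : ∃ s r, (s = 1 ∨ s = t) ∧ (r = 1 ∨ r = j (tE Q a b)) ∧
      ρ = s * r * j (tE Q u (α • a + β • b)) := by
    have hr : j (tE Q a (c • b)) = 1 ∨ j (tE Q a (c • b)) = j (tE Q a b) := by
      rcases h2 c with rfl | rfl
      · left; rw [zero_smul, tE_zero_right, map_one]
      · right; rw [one_smul]
    rcases hm.eq_j D.toSit (k := tE Q a (c • b) * tE Q u (α • a + β • b)) e with h | h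
    · exact ⟨1, _, Or.inl rfl, hr, by rw [h, map_mul, one_mul]⟩
    · exact ⟨t, _, Or.inr rfl, hr, by rw [h, map_mul, mul_assoc]⟩
  refine ⟨ρ, α, β, eA, ?_⟩
  have zb1 : j (tE Q u b) ≠ 1 := by
    intro h
    rw [← map_one j] at h
    have h4 := D.inj h
    obtain ⟨b', hb1, hb2⟩ := exists_sep_sub hQ h3.ind
    have h5 := congrArg (fun f : ↥(E Q) => (f : V ≃ₗ[F] V) b') h4
    simp only [coe_tE] at h5
    rw [T_perp h3.uw.qu ub (hb2 u (left_mem_L _ _)), hb1, one_smul] at h5
    have h6 : b' + u = b' := h5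
    exact h3.uw.ne (add_eq_left.1 h6)
  have ti : t⁻¹ = t := inv_eq_of_mul_eq_one_left D.tt
  refine CentAbs.rho_dich (t := t) (g := j (tE Q u a')) (y1 := y1) (yb := yb) (z1 := j (tE Q a b))
    (zb := j (tE Q u b)) (s := s) (r := r) D.tt (D.zz h3.uv.qu ha2) (hA ▸ eA) ?_ hsr hs hr (D.zz hab.qu ab)
    (D.zz h3.uv.qu pab) (D.sqY h3.uw hyb) zb1 ?_ ?_ ?_ ?_ zc ?_ ?_ (D.tj _) (D.tj _) (D.tj _).symm
    zc3 ?_
  · rw [D.comm0 h3.uw hyb Tu Tb, mul_inv_cancel_right]
  · have e1 : t * yb = yb * j (tE Q u b) * t := by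
      rw [← hyb.eq, mul_assoc, D.tt, mul_one]
    rw [mul_assoc, e1]
    calc yb * (yb * j (tE Q u b) * t) = (yb * yb) * (j (tE Q u b) * t) := by group
      _ = t * j (tE Q u b) := by rw [D.sqY h3.uw hyb, one_mul, ← D.tj]
  · rw [← D.tj, mul_inv_cancel_right]
  · rw [D.toSit.rconj, coe_tE, Ta, Tb, ez, map_mul]
  · rw [D.toSit.rconj, coe_tE, Tu]
    rw [map_add, map_smul, map_smul, Ta, Tb]
    congr 1
    have : α • (a + u) + β • b = (α • a + β • b) + α • u := by module
    rw [this, tE_add_smul h3.uv.qu pab]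
  · exact D.comm0 h3.uw hyb (T_apply_self h3.uv.qu pab) (T_fix ub (by
      rw [polar_add_left, polar_smul_left, polar_smul_left, ab, bb]; simp))
  · rw [← map_mul, ← map_mul, tE_comm_of (T_fix ua (by
      rw [polar_add_left, polar_smul_left, polar_smul_left, aa, ba]; simp)) (T_fix ub (by
      rw [polar_add_left, polar_smul_left, polar_smul_left, ab, bb]; simp))]
  · rw [← map_mul, ← map_mul, tE_comm h3.uv.qu ub pab]

/-- **(A)** `y_a y_b z_b = y_b y_a z_a` -/
theorem plane [CharP F 2] [FiniteDimensional F V] (D : Dbl0 Q t j W) (hQ : Nondeg Q)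
    (h2 : ∀ c : F, c = 0 ∨ c = 1) (Od : Odd1 Q t j W) {u a b : V} (h3 : Ln3 Q u a b) {ya yb : G}
    (hya : IsY Q t j W u a ya) (hyb : IsY Q t j W u b yb) :
    ya * yb * j (tE Q u b) = yb * ya * j (tE Q u a) := by
  have hab : Ln Q a b := h3.vw
  have aa : polar Q a a = 0 := polar_self2 a
  have bb : polar Q b b = 0 := polar_self2 b
  have ua := h3.uv.perp
  have ub := h3.uw.perp
  have au := h3.uv.perp'
  have bu := h3.uw.perp'
  have ab : polar Q a b = 0 := hab.perp
  have ba := hab.perp'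
  have qu := h3.uv.qu
  obtain ⟨a', ha1, hu1⟩ := exists_sep_sub hQ (notMem_L h3)
  have ha2 := hu1 u (left_mem_L _ _)
  have ha3 := hu1 b (right_mem_L _ _)
  obtain ⟨b', hb1, hu2⟩ := exists_sep_sub hQ h3.ind
  have hb2 := hu2 u (left_mem_L _ _)
  have hb3 := hu2 a (right_mem_L _ _)
  obtain ⟨y1, hy1⟩ := D.exY hab
  obtain ⟨ρ, α, β, e1, d1⟩ := rho_exists D hQ h2 h3 ha1 ha2 ha3 hy1 hyb
  obtain ⟨ρ', α', β', e2, d2⟩ := rho_exists D hQ h2 h3.symm hb1 hb2 hb3 (D.swapY hab hy1) hya
  rw [tE_swap hab.qw hab.qu ba] at d2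
  -- values
  have Tu : T Q u a' u = u := T_apply_self qu ha2
  have Ta : T Q u a' a = a + u := by rw [T_perp qu ha2 ua, polar_comm Q a' a, ha1, one_smul]
  have Tb : T Q u a' b = b := T_fix ub (polar_zero_of_comm ha3)
  have Su : T Q u b' u = u := T_apply_self qu hb2
  have Sb : T Q u b' b = b + u := by rw [T_perp qu hb2 ub, polar_comm Q b' b, hb1, one_smul]
  have Sa : T Q u b' a = a := T_fix ua (polar_zero_of_comm hb3)
  have g_ya := Od h3.uv ha2 ha1 hya
  have g'_yb := Od h3.uw hb2 hb1 hyb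
  have pc : ∀ c d : F, polar Q u (c • a + d • b) = 0 := fun c d => by
    rw [polar_add_right, polar_smul_right, polar_smul_right, ua, ub]; simp
  have pc' : ∀ c d : F, polar Q u (c • b + d • a) = 0 := fun c d => by
    rw [polar_add_right, polar_smul_right, polar_smul_right, ua, ub]; simp
  have fa : ∀ c d : F, T Q u (c • a + d • b) a = a := fun c d => T_fix ua (by
    rw [polar_add_left, polar_smul_left, polar_smul_left, aa, ba]; simp)
  have fb : ∀ c d : F, T Q u (c • a + d • b) b = b := fun c d => T_fix ub (by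
    rw [polar_add_left, polar_smul_left, polar_smul_left, ab, bb]; simp)
  have fa' : ∀ c d : F, T Q u (c • b + d • a) a = a := fun c d => T_fix ua (by
    rw [polar_add_left, polar_smul_left, polar_smul_left, aa, ba]; simp)
  have fb' : ∀ c d : F, T Q u (c • b + d • a) b = b := fun c d => T_fix ub (by
    rw [polar_add_left, polar_smul_left, polar_smul_left, ab, bb]; simp)
  have z1a : j (tE Q a b) * ya = ya * j (tE Q a b) := D.comm0 h3.uv hya (T_fix au bu) (T_fix aa ba)
  have z1b : j (tE Q a b) * yb = yb * j (tE Q a b) := D.comm0 h3.uw hyb (T_fix au bu) (T_fix ab bb)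
  have zaz1 : j (tE Q u a) * j (tE Q a b) = j (tE Q a b) * j (tE Q u a) := by
    rw [← map_mul, ← map_mul, tE_comm_of (T_fix ua aa) (T_fix ub ab)]
  have zbz1 : j (tE Q u b) * j (tE Q a b) = j (tE Q a b) * j (tE Q u b) := by
    rw [← map_mul, ← map_mul, tE_comm_of (T_fix ua ba) (T_fix ub bb)]
  have hya' : t * ya = ya * j (tE Q u a) * t := by
    rw [← hya.eq, mul_assoc, D.tt, mul_one]
  have hyb' : t * yb = yb * j (tE Q u b) * t := by
    rw [← hyb.eq, mul_assoc, D.tt, mul_one]
  have jt : ∀ k : ↥(E Q), j k * t * (j k)⁻¹ = t := fun k => by rw [← D.tj, mul_inv_cancel_right]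
  have Rc : ∀ x y : V, polar Q u x = 0 → polar Q u y = 0 →
      j (tE Q u x) * j (tE Q u y) = j (tE Q u y) * j (tE Q u x) := fun x y hx hy => by
    rw [← map_mul, ← map_mul, tE_comm qu hx hy]
  have ezg : j (tE Q u b') * j (tE Q a b) * (j (tE Q u b'))⁻¹ = j (tE Q a b) * j (tE Q u a) := by
    rw [D.toSit.rconj, coe_tE, Sa, Sb, ← tE_mul hab.qu ab au, map_mul, tE_swap h3.uv.qw qu au]
  have ezg' : j (tE Q u a') * j (tE Q a b) * (j (tE Q u a'))⁻¹ = j (tE Q a b) * j (tE Q u b) := by
    have hq : Q (a + u) = 0 := by rw [Q_add, hab.qu, qu, au]; simp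
    have hp : polar Q (a + u) b = 0 := by rw [polar_add_left, ab, ub, add_zero]
    rw [D.toSit.rconj, coe_tE, Ta, Tb, tE_swap hq hab.qw hp, ← tE_mul hab.qw ba bu, map_mul,
      tE_swap hab.qw hab.qu ba, tE_swap h3.uw.qw qu bu]
  obtain ⟨e, he, k1, k2⟩ := CentAbs.rho_unif (t := t) (g' := j (tE Q u b')) (ya := ya) (z1 := j (tE Q a b))
    (za := j (tE Q u a)) d1 hya' z1a (D.comm0 h3.uv hya (T_apply_self qu (pc α β)) (fa α β)) (jt _) ezg
    (by
      rw [← Rc _ _ (pc α β) hb2, mul_inv_cancel_right]) (Rc _ _ ua (pc α β)) (D.tj _).symm zaz1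
  obtain ⟨e', he', k1', k2'⟩ := CentAbs.rho_unif (t := t) (g' := j (tE Q u a')) (ya := yb) (z1 := j (tE Q a b))
    (za := j (tE Q u b)) d2 hyb' z1b (D.comm0 h3.uw hyb (T_apply_self qu (pc' α' β')) (fb' α' β')) (jt _) ezg'
    (by
      rw [← Rc _ _ (pc' α' β') ha2, mul_inv_cancel_right]) (Rc _ _ ub (pc' α' β')) (D.tj _).symm zbz1
  -- everything in `⟨t⟩ × Z_π` commutes
  have cen : ∀ x : G, x = j (tE Q u a) ∨ x = j (tE Q u b) → x * ρ = ρ * x ∧ x * ρ' = ρ' * x := by
    intro x hx
    have a1 : x * j (tE Q a b) = j (tE Q a b) * x := by rcases hx with rfl | rfl; exacts [zaz1, zbz1]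
    have a2 : x * t = t * x := by rcases hx with rfl | rfl; exacts [(D.tj _).symm, (D.tj _).symm]
    have a3 : ∀ y, polar Q u y = 0 → x * j (tE Q u y) = j (tE Q u y) * x := by
      intro y hy
      rcases hx with rfl | rfl; exacts [Rc _ _ ua hy, Rc _ _ ub hy]
    constructor
    · rcases d1 with rfl | rfl
      · exact a3 _ (pc α β)
      · have a4 := a3 _ (pc α β)
        generalize j (tE Q u (α • a + β • b)) = ζ at *
        calc x * (t * j (tE Q a b) * ζ) = (x * t) * j (tE Q a b) * ζ := by group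
          _ = t * (x * j (tE Q a b)) * ζ := by rw [a2]; group
          _ = t * j (tE Q a b) * (x * ζ) := by rw [a1]; group
          _ = _ := by rw [a4]; group
    · rcases d2 with rfl | rfl
      · exact a3 _ (pc' α' β')
      · have a4 := a3 _ (pc' α' β')
        generalize j (tE Q u (α' • b + β' • a)) = ζ at *
        calc x * (t * j (tE Q a b) * ζ) = (x * t) * j (tE Q a b) * ζ := by group
          _ = t * (x * j (tE Q a b)) * ζ := by rw [a2]; group
          _ = t * j (tE Q a b) * (x * ζ) := by rw [a1]; group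
          _ = _ := by rw [a4]; group
  have hρρ : ρ * ρ' = ρ' * ρ := by
    have c1 : ∀ y, polar Q u y = 0 → (T Q u y a = a) → (T Q u y b = b) →
        j (tE Q u y) * j (tE Q a b) = j (tE Q a b) * j (tE Q u y) := by
      intro y hy y1 y2
      rw [← map_mul, ← map_mul, tE_comm_of y1 y2]
    have c2 := c1 _ (pc α β) (fa α β) (fb α β)
    have c3 := c1 _ (pc' α' β') (fa' α' β') (fb' α' β')
    have c4 := Rc _ _ (pc α β) (pc' α' β')
    have c5 := (D.tj (tE Q u (α • a + β • b)))
    have c6 := (D.tj (tE Q u (α' • b + β' • a)))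
    rcases d1 with rfl | rfl <;> rcases d2 with rfl | rfl
    · exact c4
    · generalize j (tE Q u (α • a + β • b)) = ζ at *
      generalize j (tE Q u (α' • b + β' • a)) = ζ' at *
      calc ζ * (t * j (tE Q a b) * ζ') = (ζ * t) * j (tE Q a b) * ζ' := by group
        _ = t * (ζ * j (tE Q a b)) * ζ' := by rw [← c5]; group
        _ = t * j (tE Q a b) * (ζ * ζ') := by rw [c2]; group
        _ = _ := by rw [c4]; group
    · generalize j (tE Q u (α • a + β • b)) = ζ at *
      generalize j (tE Q u (α' • b + β' • a)) = ζ' at *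
      symm
      calc ζ' * (t * j (tE Q a b) * ζ) = (ζ' * t) * j (tE Q a b) * ζ := by group
        _ = t * (ζ' * j (tE Q a b)) * ζ := by rw [← c6]; group
        _ = t * j (tE Q a b) * (ζ' * ζ) := by rw [c3]; group
        _ = _ := by rw [← c4]; group
    · have c7 := D.tj (tE Q a b)
      generalize j (tE Q u (α • a + β • b)) = ζ at *
      generalize j (tE Q u (α' • b + β' • a)) = ζ' at *
      generalize j (tE Q a b) = z at *
      have w1 : ζ * (t * z) = (t * z) * ζ := by
        rw [← mul_assoc, ← c5, mul_assoc, c2, ← mul_assoc]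
      have w2 : ζ' * (t * z) = (t * z) * ζ' := by
        rw [← mul_assoc, ← c6, mul_assoc, c3, ← mul_assoc]
      calc t * z * ζ * (t * z * ζ') = (t * z) * (ζ * (t * z)) * ζ' := by group
        _ = (t * z) * (t * z) * (ζ * ζ') := by rw [w1]; group
        _ = (t * z) * (t * z) * (ζ' * ζ) := by rw [c4]
        _ = (t * z) * ((t * z) * ζ') * ζ := by group
        _ = (t * z) * (ζ' * (t * z)) * ζ := by rw [← w2]
        _ = _ := by group
  have ce : ∀ x : G, x * j (tE Q u a) = j (tE Q u a) * x → x * e = e * x := by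
    intro x hx
    rcases he with rfl | rfl
    · rw [mul_one, one_mul]
    · exact hx
  have ce' : ∀ x : G, x * j (tE Q u b) = j (tE Q u b) * x → x * e' = e' * x := by
    intro x hx
    rcases he' with rfl | rfl
    · rw [mul_one, one_mul]
    · exact hx
  have cab := Rc _ _ ua ub
  have ca := cen _ (Or.inl rfl)
  have cb := cen _ (Or.inr rfl)
  have gg : j (tE Q u a') * j (tE Q u b') = j (tE Q u b') * j (tE Q u a') := Rc _ _ ha2 hb2
  exact CentAbs.plane_comm (g := j (tE Q u a')) (g' := j (tE Q u b')) (ρ := ρ) (ρ' := ρ') (e := e) (e' := e')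
    gg e1 e2 g_ya g'_yb k1 k1' k2 k2' hρρ (ce _ ca.2.symm).symm (ce' _ cb.1.symm).symm
    (ce' _ (ce _ cab.symm).symm) ca.2 (ce' _ cab) cb.1 (ce _ cab.symm) (ce _ rfl) ca.1 (ce' _ rfl) cb.2

/-! ### The reflections -/

section refl
variable [CharP F 2] [FiniteDimensional F V] (D : Dbl0 Q t j W) (h2 : ∀ c : F, c = 0 ∨ c = 1)
  (Od : Odd1 Q t j W)
include D h2 Od

/-- `y_p` acts on `R_u` as the symplectic transvection with centre `p` -/
theorem act_y {u p x : V} (hup : Ln Q u p) {yp : G} (hyp : IsY Q t j W u p yp) (hx : polar Q u x = 0) :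
    yp * j (tE Q u x) * yp⁻¹ = j (tE Q u (x + polar Q p x • p)) := by
  rcases h2 (polar Q p x) with h | h
  · rw [h, zero_smul, add_zero, ← D.comm0 hup hyp (T_apply_self hup.qu hx) (T_fix hup.perp (polar_zero_of_comm h)),
      mul_inv_cancel_right]
  · rw [h, one_smul]
    have e1 := Od hup hx h hyp
    have e2 : j (tE Q u p) * j (tE Q u x) = j (tE Q u (x + p)) := by
      rw [← map_mul, tE_mul hup.qu hup.perp hx, add_comm]
    have e3 := D.zy hup hyp
    have e4 := D.invY hup hyp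
    rw [← e2]
    have e5 : j (tE Q u x) * yp = yp * j (tE Q u p) * j (tE Q u x) := mul_inv_eq_iff_eq_mul.1 e1
    calc yp * j (tE Q u x) * yp⁻¹ = yp⁻¹ * (j (tE Q u x) * yp) := by rw [e4]; group
      _ = _ := by rw [e5]; group

/-- **(B)** `y_p y_q y_p` acts on `V` as a reflection -/
theorem k_refl [Finite F] (hQ : Nondeg Q) (hd : 8 ≤ Module.finrank F V) {u p q : V} (hup : Ln Q u p)
    (huq : Ln Q u q) (hpq : polar Q p q = 1) {yp yq : G} (hyp : IsY Q t j W u p yp)
    (hyq : IsY Q t j W u q yq) :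
    ∃ (a : V) (ha : Q a ≠ 0), (a = p + q ∨ a = p + q + u) ∧ AO Q t j (yp * yq * yp) (refl Q a ha) := by
  have pp : polar Q p p = 0 := polar_self2 p
  have qq : polar Q q q = 0 := polar_self2 q
  have uu : polar Q u u = 0 := polar_self2 u
  have qp : polar Q q p = 1 := by rw [polar_comm]; exact hpq
  have up := hup.perp
  have uq := huq.perp
  have pu := hup.perp'
  have qu' := huq.perp'
  have Qz : Q (p + q) = 1 := by rw [Q_add, hup.qw, huq.qw, hpq]; simp
  have hz : Q (p + q) ≠ 0 := by rw [Qz]; exact one_ne_zero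
  have uz : polar Q u (p + q) = 0 := by rw [polar_add_right, up, uq, add_zero]
  have Rap : ∀ x, refl Q (p + q) hz x = x + (polar Q p x + polar Q q x) • (p + q) := by
    intro x
    rw [refl_apply2, Qz, inv_one, one_mul, polar_add_left]
  -- `z_p y_q = y_q z_q z_p`
  have hzq : j (tE Q u p) * yq = yq * j (tE Q u q) * j (tE Q u p) :=
    mul_inv_eq_iff_eq_mul.1 (Od huq up qp hyq)
  have zpp := D.zz hup.qu up
  have zqq := D.zz huq.qu uq
  have zpq : j (tE Q u p) * j (tE Q u q) = j (tE Q u q) * j (tE Q u p) := by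
    rw [← map_mul, ← map_mul, tE_comm hup.qu up uq]
  have hkt := CentAbs.k_t D.tt hyp.eq hyq.eq hzq zpp zqq zpq (D.zy hup hyp)
  obtain ⟨m, hm⟩ := AO.exists_AO D.toSit h2 hkt
  have kk : (yp * yq * yp) * (yp * yq * yp) = 1 := by
    calc (yp * yq * yp) * (yp * yq * yp) = yp * yq * (yp * yp) * yq * yp := by group
      _ = yp * (yq * yq) * yp := by rw [D.sqY hup hyp]; group
      _ = yp * yp := by rw [D.sqY huq hyq, mul_one]
      _ = 1 := D.sqY hup hyp
  -- the action on `R_u`
  have H1 : ∀ x, polar Q u x = 0 → tE Q (m u) (m x) = tE Q u (refl Q (p + q) hz x) := by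
    intro x hx
    apply D.inj
    rw [← hm.act u x hup.qu hx]
    have e1 := act_y D h2 Od hup hyp hx
    have hx1 : polar Q u (x + polar Q p x • p) = 0 := by
      rw [polar_add_right, polar_smul_right, hx, up]; simp
    have e2 := act_y D h2 Od huq hyq hx1
    have hx2 : polar Q u (x + polar Q p x • p + polar Q q (x + polar Q p x • p) • q) = 0 := by
      rw [polar_add_right, polar_smul_right, hx1, uq]; simp
    have e3 := act_y D h2 Od hup hyp hx2
    have e4 : yp * yq * yp * j (tE Q u x) * (yp * yq * yp)⁻¹ =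
        yp * (yq * (yp * j (tE Q u x) * yp⁻¹) * yq⁻¹) * yp⁻¹ := by group
    rw [e4, e1, e2, e3, Rap]
    congr 2
    simp only [polar_add_right, polar_smul_right, pp, qp, hpq, smul_eq_mul, mul_one, mul_zero, add_zero]
    generalize polar Q p x = α
    generalize polar Q q x = β
    have c2 := CharTwo.add_self_eq_zero α
    have : x + α • p + (β + α) • q + (α + (β + α)) • p = x + (α + β) • (p + q) + (α + α) • p := by module
    rw [this, c2, zero_smul, add_zero]
  have H2 : ∀ s x, Q s = 0 → polar Q u s = 0 → polar Q p s = 0 → polar Q q s = 0 → polar Q u x = 0 →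
      polar Q p x = 0 → polar Q q x = 0 → polar Q s x = 0 → tE Q (m s) (m x) = tE Q s x := by
    intro s x hs us ps qs ux px qx sx
    apply D.inj
    rw [← hm.act s x hs sx]
    have f1 : T Q s x u = u := T_fix (polar_zero_of_comm us) (polar_zero_of_comm ux)
    have c1 := D.comm0 hup hyp f1 (T_fix (polar_zero_of_comm ps) (polar_zero_of_comm px))
    have c2 := D.comm0 huq hyq f1 (T_fix (polar_zero_of_comm qs) (polar_zero_of_comm qx))
    generalize j (tE Q s x) = r at *
    calc yp * yq * yp * r * (yp * yq * yp)⁻¹ = yp * yq * (yp * r) * (yp * yq * yp)⁻¹ := by group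
      _ = yp * (yq * r) * yp * (yp * yq * yp)⁻¹ := by rw [← c1]; group
      _ = (yp * r) * yq * yp * (yp * yq * yp)⁻¹ := by rw [← c2]; group
      _ = r := by rw [← c1]; group
  obtain ⟨a0, b0, c0, e⟩ := refl_cent hQ hd hup huq hpq (hz := hz) hm.mO H1 H2
  have e' : m = refl Q (p + q) hz * T Q u (b0 • p + c0 • q) := by
    have : a0 • u + b0 • p + c0 • q = (b0 • p + c0 • q) + a0 • u := by abel
    rw [this, T_add_smul hup.qu (by
      rw [polar_add_right, polar_smul_right, polar_smul_right, up, uq]; simp)] at e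
    exact e
  have Ru : refl Q (p + q) hz u = u := refl_fix hz (polar_zero_of_comm uz)
  have Rp : refl Q (p + q) hz p = q := by
    rw [Rap, pp, qp, zero_add, one_smul, ← add_assoc, add_self' (F := F), zero_add]
  have Rq : refl Q (p + q) hz q = p := by
    rw [Rap, qq, hpq, add_zero, one_smul, add_comm p q, ← add_assoc, add_self' (F := F), zero_add]
  -- the mixed cases are impossible
  have bad : ∀ y, polar Q u y = 0 → m = refl Q (p + q) hz * T Q u y → refl Q (p + q) hz y + y = p + q → False := by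
    intro y hy hmy hRy
    have hRyu : polar Q u (refl Q (p + q) hz y) = 0 := by
      have := polar_map (refl_mem_O hz) u y
      rw [Ru, hy] at this
      exact this
    have e1 : m * m = T Q u (p + q) := by
      have e2 := T_conj (refl_mem_O hz) u y
      rw [Ru, refl_inv] at e2
      rw [hmy]
      calc refl Q (p + q) hz * T Q u y * (refl Q (p + q) hz * T Q u y)
          = (refl Q (p + q) hz * T Q u y * refl Q (p + q) hz) * T Q u y := by group
        _ = _ := by rw [e2, T_mul hup.qu hRyu hy, hRy]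
    have hA := hm.mul hm
    rw [kk, e1] at hA
    have hp1 : polar Q (p + q) p = 1 := by rw [polar_add_left, pp, qp, zero_add]
    rcases hA.eq_j D.toSit (k := tE Q u (p + q)) rfl with h | h
    · rw [← map_one j] at h
      have h4 := D.inj h
      have h5 := congrArg (fun f : ↥(E Q) => (f : V ≃ₗ[F] V) p) h4
      simp only [coe_tE] at h5
      rw [T_perp hup.qu uz up, hp1, one_smul] at h5
      have h6 : p = p + u := h5
      exact hup.ne (left_eq_add.1 h6)
    · refine D.tK (tE Q u (p + q))⁻¹ ?_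
      rw [map_inv, eq_comm, ← mul_eq_one_iff_eq_inv]
      exact h.symm
  rcases h2 b0 with rfl | rfl <;> rcases h2 c0 with rfl | rfl
  · refine ⟨p + q, hz, Or.inl rfl, ?_⟩
    rw [zero_smul, zero_smul, add_zero, T_zero_right, mul_one] at e'
    rw [← e']; exact hm
  · exfalso
    rw [zero_smul, one_smul, zero_add] at e'
    exact bad q uq e' (by rw [Rq])
  · exfalso
    rw [zero_smul, one_smul, add_zero] at e'
    exact bad p up e' (by rw [Rp, add_comm])
  · have Qz' : Q (p + q + u) = 1 := by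
      rw [Q_add, Qz, hup.qu, polar_zero_of_comm uz]; simp
    refine ⟨p + q + u, by rw [Qz']; exact one_ne_zero, Or.inr rfl, ?_⟩
    rw [one_smul, one_smul] at e'
    have e2 : m = refl Q (p + q + u) (by rw [Qz']; exact one_ne_zero) := by
      rw [e']
      ext x
      show refl Q (p + q) hz (T Q u (p + q) x) = _
      rw [T_apply2 hup.qu uz, refl_apply2, refl_apply2, Qz, Qz', inv_one, one_mul, one_mul, one_mul]
      simp only [polar_add_left, polar_add_right, polar_smul_right, pp, qq, qp, hpq, pu, qu', uu, up, uq]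
      generalize polar Q u x = α
      generalize polar Q p x = β
      generalize polar Q q x = γ
      have c2 : (2 : F) = 0 := CharTwo.two_eq_zero
      have e3 : β + γ + α * (0 + 1 + (1 + 0)) + (β + γ + α) * (0 + 0) = β + γ := by
        linear_combination α * c2
      simp only [smul_eq_mul]
      rw [e3]
      module
    rw [← e2]; exact hm

end refl

/-! ### The contradiction -/

theorem conj3 {G : Type*} [Group G] (g a b : G) :
    g * (a * b * a) * g⁻¹ = (g * a * g⁻¹) * (g * b * g⁻¹) * (g * a * g⁻¹) := by group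

/-- **`c = 0`** -/
theorem not_odd1 [Finite F] [CharP F 2] (D : Dbl0 Q t j W) (hQ : Nondeg Q) (hd : 8 ≤ Module.finrank F V)
    (h2 : ∀ c : F, c = 0 ∨ c = 1) {u0 p0 : V} (h0 : Ln Q u0 p0) (Od : Odd1 Q t j W) : False := by
  have : FiniteDimensional F V := Module.finite_of_finrank_pos (by omega)
  -- the configuration
  obtain ⟨u', q, h⟩ := exists_LF hQ h0
  obtain ⟨v, f, hv, hf, hvf⟩ := (W4_ns hQ h).exists_pair (by have := W4_dim Q u0 p0 u' q; omega)
  generalize u0 = u at *
  generalize p0 = p at *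
  have iv := In.iff_mem.2 hv
  have jf := In.iff_mem.2 hf
  have pp : polar Q p p = 0 := polar_self2 p
  have qq : polar Q q q = 0 := polar_self2 q
  have uu : polar Q u u = 0 := polar_self2 u
  have vv : polar Q v v = 0 := polar_self2 v
  have ff : polar Q f f = 0 := polar_self2 f
  have pq : polar Q p q = 1 := h.vv'
  have qp : polar Q q p = 1 := h.v'v
  have up := h.uv
  have uq := h.uv'
  have pu := h.vu
  have qu := h.v'u
  have uv := iv.u
  have vu := iv.ru
  have pv := iv.v
  have vp := iv.rv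
  have qv := iv.v'
  have vq := iv.rv'
  have uf := jf.u
  have fu := jf.ru
  have pf := jf.v
  have fp := jf.rv
  have qf := jf.v'
  have fq := jf.rv'
  have vf : polar Q v f = 1 := hvf.pair
  have fv : polar Q f v = 1 := hvf.pair'
  have Qu := h.qu
  have Qp := h.qv
  have Qq := h.qv'
  have Qv : Q v = 0 := hvf.left
  have Qf : Q f = 0 := hvf.right
  have lup : Ln Q u p := h.ln
  have luq : Ln Q u q := ⟨Qu, Qq, uq, lup.ne, fun c hc => by
    have := congrArg (polar Q p) hc
    rw [pq, polar_smul_right, pu, smul_zero] at this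
    exact one_ne_zero this⟩
  have luv : Ln Q u v := ⟨Qu, Qv, uv, lup.ne, fun c hc => by
    have := congrArg (polar Q f) hc
    rw [fv, polar_smul_right, fu, smul_zero] at this
    exact one_ne_zero this⟩
  have l3p : Ln3 Q u v p := ⟨luv, lup, vp, fun hm => by
    obtain ⟨a, b, e⟩ := mem_L.1 hm
    have := congrArg (polar Q q) e
    rw [polar_add_right, polar_smul_right, polar_smul_right, qu, qv, qp] at this
    simp at this⟩
  have l3q : Ln3 Q u v q := ⟨luv, luq, vq, fun hm => by
    obtain ⟨a, b, e⟩ := mem_L.1 hm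
    have := congrArg (polar Q p) e
    rw [polar_add_right, polar_smul_right, polar_smul_right, pu, pv, pq] at this
    simp at this⟩
  obtain ⟨yp, hyp⟩ := D.exY lup
  obtain ⟨yq, hyq⟩ := D.exY luq
  obtain ⟨yv, hyv⟩ := D.exY luv
  -- `k`
  obtain ⟨a, ha, haz, hk⟩ := k_refl D h2 Od hQ hd lup luq pq hyp hyq
  have af : polar Q a f = 0 := by
    rcases haz with rfl | rfl
    · rw [polar_add_left, pf, qf, add_zero]
    · rw [polar_add_left, polar_add_left, pf, qf, uf, add_zero, add_zero]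
  have az : polar Q a (p + q) = 0 := by
    have c2 := CharTwo.add_self_eq_zero (1 : F)
    rcases haz with rfl | rfl
    · exact polar_self2 _
    · simp only [polar_add_left, polar_add_right, pp, pq, qp, qq, up, uq, add_zero, zero_add]
      exact c2
  have au : polar Q a u = 0 := by
    rcases haz with rfl | rfl
    · rw [polar_add_left, pu, qu, add_zero]
    · rw [polar_add_left, polar_add_left, pu, qu, uu, add_zero, add_zero]
  have fz : polar Q f (p + q) = 0 := by rw [polar_add_right, fp, fq, add_zero]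
  -- `g = tE f (p+q)` commutes with `k`
  have kg : (yp * yq * yp) * j (tE Q f (p + q)) = j (tE Q f (p + q)) * (yp * yq * yp) := by
    have e := hk.act f (p + q) Qf fz
    rw [refl_fix ha af, refl_fix ha az] at e
    exact mul_inv_eq_iff_eq_mul.1 e
  have gu : T Q f (p + q) u = u := T_fix fu (by rw [polar_add_left, pu, qu, add_zero])
  have gp : T Q f (p + q) p = p + f := by
    rw [T_perp Qf fz fp, polar_add_left, pp, qp, zero_add, one_smul]
  have gq : T Q f (p + q) q = q + f := by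
    rw [T_perp Qf fz fq, polar_add_left, pq, qq, add_zero, one_smul]
  have hyw := D.conjY lup hyp (tE Q f (p + q))
  have hyw' := D.conjY luq hyq (tE Q f (p + q))
  have luw := lup.map (mem_O' (tE Q f (p + q)))
  have luw' := luq.map (mem_O' (tE Q f (p + q)))
  rw [coe_tE, gu, gp] at hyw luw
  rw [coe_tE, gu, gq] at hyw' luw'
  obtain ⟨yw, hyw0⟩ : ∃ y, y = j (tE Q f (p + q)) * yp * (j (tE Q f (p + q)))⁻¹ := ⟨_, rfl⟩
  obtain ⟨yw', hyw0'⟩ : ∃ y, y = j (tE Q f (p + q)) * yq * (j (tE Q f (p + q)))⁻¹ := ⟨_, rfl⟩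
  rw [← hyw0] at hyw
  rw [← hyw0'] at hyw'
  have kw : yp * yq * yp = yw * yw' * yw := by
    rw [hyw0, hyw0', ← conj3, ← kg, mul_inv_cancel_right]
  have vw : polar Q v (p + f) = 1 := by rw [polar_add_right, vp, vf, zero_add]
  have vw' : polar Q v (q + f) = 1 := by rw [polar_add_right, vq, vf, zero_add]
  obtain ⟨a1, ha1, haz1, hk1⟩ := k_refl D h2 Od hQ hd luv luw vw hyv hyw
  obtain ⟨a2, ha2, haz2, hk2⟩ := k_refl D h2 Od hQ hd luv luw' vw' hyv hyw'
  -- conjugation by `y_v`
  have yvi := D.invY luv hyv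
  have yv2 := D.sqY luv hyv
  have E1 : yv * (yp * yq * yp) * yv⁻¹ = (yv * yw * yv) * (yv * yw' * yv) * (yv * yw * yv) := by
    rw [kw, conj3, yvi]
  have zc : ∀ x, polar Q u x = 0 → j (tE Q u v) * j (tE Q u x) = j (tE Q u x) * j (tE Q u v) := fun x hx => by
    rw [← map_mul, ← map_mul, tE_comm Qu uv hx]
  have vyp : j (tE Q u v) * yp = yp * j (tE Q u v) := D.comm0 lup hyp (T_fix uu vu) (T_fix up vp)
  have vyq : j (tE Q u v) * yq = yq * j (tE Q u v) := D.comm0 luq hyq (T_fix uu vu) (T_fix uq vq)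
  have pyv : j (tE Q u p) * yv = yv * j (tE Q u p) := D.comm0 luv hyv (T_fix uu pu) (T_fix uv pv)
  have qyv : j (tE Q u q) * yv = yv * j (tE Q u q) := D.comm0 luv hyv (T_fix uu qu) (T_fix uv qv)
  have conjv : ∀ {r : V} {yr : G}, Ln3 Q u v r → IsY Q t j W u r yr → j (tE Q u r) * yv = yv * j (tE Q u r) →
      yv * yr * yv⁻¹ = yr * j (tE Q u r) * j (tE Q u v) := by
    intro r yr h3 hyr hry
    have e1 := plane D hQ h2 Od h3 hyv hyr
    have e2 := D.zy luv hyv
    have e3 := D.zz (Q := Q) Qu h3.uw.perp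
    have e4 := zc r h3.uw.perp
    calc yv * yr * yv⁻¹ = (yv * yr * j (tE Q u r)) * (j (tE Q u r))⁻¹ * yv⁻¹ := by group
      _ = yr * (yv * j (tE Q u v)) * (j (tE Q u r))⁻¹ * yv⁻¹ := by rw [e1]; group
      _ = yr * j (tE Q u v) * (yv * (j (tE Q u r))⁻¹) * yv⁻¹ := by rw [← e2]; group
      _ = yr * j (tE Q u v) * (j (tE Q u r))⁻¹ := by
          have : yv * (j (tE Q u r))⁻¹ = (j (tE Q u r))⁻¹ * yv := by
            rw [eq_inv_mul_iff_mul_eq, ← mul_assoc, hry, mul_inv_cancel_right]
          rw [this]; group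
      _ = yr * (j (tE Q u v) * j (tE Q u r)) := by
          rw [inv_eq_of_mul_eq_one_left e3]; group
      _ = _ := by rw [e4]; group
  have hzq : j (tE Q u p) * yq = yq * j (tE Q u q) * j (tE Q u p) :=
    mul_inv_eq_iff_eq_mul.1 (Od luq up qp hyq)
  have E2 := CentAbs.k_v (conjv l3p hyp pyv) (conjv l3q hyq qyv) hzq (D.zz Qu up) (D.zz Qu uq) (D.zz Qu uv)
    (by rw [← map_mul, ← map_mul, tE_comm Qu up uq]) (D.zy lup hyp) vyp vyq (zc p up) (zc q uq)
  have A1 := (hk1.mul hk2).mul hk1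
  have A2 := hk.mul (AO.of_j D.toSit (tE Q u v))
  rw [← E1] at A1
  rw [← E2] at A2
  have e1 := A1.act f (p + q) Qf fz
  have e2 := A2.act f (p + q) Qf fz
  rw [e1] at e2
  have e3 := D.inj e2
  -- values of the reflections
  have c2 : (2 : F) = 0 := CharTwo.two_eq_zero
  have Qw : Q (v + (p + f)) = 1 := by
    rw [Q_add, Q_add, Qv, Qp, Qf, pf, vw]; simp
  have Qw' : Q (v + (q + f)) = 1 := by
    rw [Q_add, Q_add, Qv, Qq, Qf, qf, vw']; simp
  have uw1 : polar Q (v + (p + f)) u = 0 := by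
    rw [polar_add_left, polar_add_left, vu, pu, fu]; simp
  have uw2 : polar Q (v + (q + f)) u = 0 := by
    rw [polar_add_left, polar_add_left, vu, qu, fu]; simp
  have Qa1 : Q a1 = 1 := by
    rcases haz1 with rfl | rfl
    · exact Qw
    · rw [Q_add, Qw, Qu, uw1]; simp
  have Qa2 : Q a2 = 1 := by
    rcases haz2 with rfl | rfl
    · exact Qw'
    · rw [Q_add, Qw', Qu, uw2]; simp
  have f1 : polar Q a1 f = 1 := by
    rcases haz1 with rfl | rfl <;> simp only [polar_add_left, vf, pf, ff, uf, add_zero]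
  have f2 : polar Q a2 f = 1 := by
    rcases haz2 with rfl | rfl <;> simp only [polar_add_left, vf, qf, ff, uf, add_zero]
  have z1 : polar Q a1 (p + q) = 1 := by
    rcases haz1 with rfl | rfl <;>
    simp only [polar_add_left, polar_add_right, vp, vq, pp, pq, fp, fq, up, uq, add_zero, zero_add]
  have z2 : polar Q a2 (p + q) = 1 := by
    rcases haz2 with rfl | rfl <;>
    simp only [polar_add_left, polar_add_right, vp, vq, qp, qq, fp, fq, up, uq, add_zero, zero_add]
  have a12 : polar Q a2 a1 = 1 := by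
    rcases haz1 with rfl | rfl <;> rcases haz2 with rfl | rfl <;>
    simp only [polar_add_left, polar_add_right, vv, vp, vf, vu, qv, qp, qf, qu, fv, fp, ff, fu, uv, up, uf, uu,
      add_zero, zero_add] <;> linear_combination c2
  have R1 : ∀ x, refl Q a1 ha1 x = x + polar Q a1 x • a1 := fun x => by rw [refl_apply2, Qa1, inv_one, one_mul]
  have R2 : ∀ x, refl Q a2 ha2 x = x + polar Q a2 x • a2 := fun x => by rw [refl_apply2, Qa2, inv_one, one_mul]
  have key : ∀ x, polar Q a1 x = 1 → polar Q a2 x = 1 →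
      (refl Q a1 ha1 * refl Q a2 ha2 * refl Q a1 ha1) x = x := by
    intro x hx1 hx2
    show refl Q a1 ha1 (refl Q a2 ha2 (refl Q a1 ha1 x)) = x
    have s1 : refl Q a1 ha1 x = x + a1 := by rw [R1, hx1, one_smul]
    have s2 : refl Q a2 ha2 (x + a1) = x + a1 := by
      rw [R2, polar_add_right, hx2, a12]
      have : (1 : F) + 1 = 0 := by linear_combination c2
      rw [this, zero_smul, add_zero]
    rw [s1, s2, R1, polar_add_right, hx1, polar_self2, add_zero, one_smul, add_assoc, add_self' (F := F), add_zero]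
  have r1 : (refl Q a ha * ((tE Q u v : ↥(E Q)) : V ≃ₗ[F] V)) f = f + u := by
    show refl Q a ha (T Q u v f) = f + u
    rw [T_perp Qu uv uf, vf, one_smul, map_add, refl_fix ha af, refl_fix ha au]
  have r2 : (refl Q a ha * ((tE Q u v : ↥(E Q)) : V ≃ₗ[F] V)) (p + q) = p + q := by
    show refl Q a ha (T Q u v (p + q)) = p + q
    have : polar Q u (p + q) = 0 := by rw [polar_add_right, up, uq, add_zero]
    rw [T_fix this (by rw [polar_add_right, vp, vq, add_zero]), refl_fix ha az]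
  rw [key f f1 f2, key (p + q) z1 z2, r1, r2] at e3
  -- apply both to `u'`
  have e4 := congrArg (fun g : ↥(E Q) => (g : V ≃ₗ[F] V) u') e3
  simp only [coe_tE] at e4
  have Qfu : Q (f + u) = 0 := by rw [Q_add, Qf, Qu, fu]; simp
  have fuz : polar Q (f + u) (p + q) = 0 := by rw [polar_add_left, fz, polar_add_right, up, uq]; simp
  have fu' : polar Q f u' = 0 := jf.ru'
  have zu' : polar Q (p + q) u' = 0 := by rw [polar_add_left, h.vu', h.v'u', add_zero]
  have Qz : Q (p + q) = 1 := by rw [Q_add, Qp, Qq, pq]; simp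
  rw [T_fix fu' zu', T_apply2 Qfu fuz, zu', Qz, polar_add_left, fu', h.uu', zero_add, one_smul, zero_add,
    one_mul, one_smul, add_assoc] at e4
  have e5 : p + q + (f + u) = 0 := left_eq_add.1 e4
  have e6 := congrArg (polar Q p) e5
  simp only [polar_add_right, pp, pq, pf, pu, polar_zero_right, add_zero, zero_add] at e6
  exact one_ne_zero e6

/-- **Row M9**: for `F = 𝔽₂` the whole `P_l` centralises `W_l`. -/
theorem Dbl0.dbl [Finite F] [CharP F 2] (D : Dbl0 Q t j W) (hQ : Nondeg Q) (hd : 8 ≤ Module.finrank F V)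
    (h2 : ∀ c : F, c = 0 ∨ c = 1) : Dbl Q t j W where
  toSit := D.toSit
  swap := D.swap
  add := D.add
  smul := D.smul
  X_le := D.X_le
  com := fun h hf hg => by
    have e1 := D.sq h hf
    have e2 := D.sq h hg
    have e3 := D.sq h (mul_mem hf hg)
    have i1 := inv_eq_of_mul_eq_one_left e1
    have i2 := inv_eq_of_mul_eq_one_left e2
    have i3 := inv_eq_of_mul_eq_one_left e3
    rw [← i3, mul_inv_rev, i1, i2]
  phi := D.phi
  surj := D.surj
  fix := D.fix
  cent := by
    have : FiniteDimensional F V := Module.finite_of_finrank_pos (by omega)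
    intro u v w k h hw hk
    rcases dich D (kfacts hQ hd) h2 with hE | hO
    · exact cent_of_even D hQ h2 hE h hw hk
    · exact (not_odd1 D hQ hd h2 h hO).elim
  conj := D.conj
  sq := fun _ _ _ _ h hw => D.sq h hw

end Cfsg.Agent.OddHalf.Orth.CentTwo
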