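import Cfsg.Agent.OddHalf.Orth.SitOf
import Cfsg.Agent.OddHalf.Orth.FlagDef
import Cfsg.Agent.Nodes.RGDOrth
import Cfsg.Agent.S0293
import Cfsg.Agent.S0294

/-!
# ODD D7, `K = Ω(V)`, characteristic 2: the flag group `U = R_0 R_1 ⋯ R_{w-1}` (section 4 of the text)

For a Witt frame `W` (`e_i, f_i`, anisotropic part `V0`):
* `VV W k` = vectors perpendicular to all `e_j, f_j`, `j < k`; `RR W i` = all `tE Q (e_i) x`, `x ∈ VV (i+1)`;
* `UU W k` = group generated by the `RR i`, `i ≥ k`; `fix`, `conj_RR` (`UU (k+1)` normalises `RR k`), `disj`,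
  `card_UU`, `isPGroup_UU`;
* `flag_minus`, `flag_plus`: in the form of `FlagDef`, for `quadFormMinus` and `quadFormPlus`, there is a flag,
  and `UK` has odd index in `↥(E Q)` and is a 2-group.
-/

set_option autoImplicit false

namespace Cfsg.Agent.OddHalf.Orth.KFlag

open QuadraticMap Cfsg.Agent.LieClassical.OrthCore Cfsg.Agent.LieClassical.OrthTrans
  Cfsg.Agent.LieClassical.OrthSimple Cfsg.Agent.LieClassical Cfsg.Agent.LieClassical.OrthForms
  Cfsg.Agent.ClassicalGeometry.OrthAutBasic Cfsg.Agent.ClassicalGeometry.OrthAutRoot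
  Cfsg.Agent.ClassicalGeometry.OrthAutSylow
  Cfsg.Agent.TitsThree Cfsg.Agent.TitsThree.Siegel Cfsg.Agent.TitsThree.SiegelGen
  Cfsg.Agent.TitsThree.KSideO Cfsg.Agent.OddHalf.Orth Cfsg.Agent.OddHalf.Orth.SitOf
  Cfsg.Agent.OddHalf.Orth.FlagDef

section General

variable {F V : Type*} [Field F] [AddCommGroup V] [Module F V] {Q : QuadraticForm F V} {w : ℕ}
  (W : WFrame (PO Q) w)

theorem pee (i j : Fin w) : polar Q (W.e i) (W.e j) = 0 := W.ee i j
theorem pff (i j : Fin w) : polar Q (W.f i) (W.f j) = 0 := W.ff i j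
theorem pef (i j : Fin w) : polar Q (W.e i) (W.f j) = if i = j then 1 else 0 := W.ef i j
theorem pfe (i j : Fin w) : polar Q (W.f i) (W.e j) = if i = j then 1 else 0 := W.fe i j
theorem Qe (i : Fin w) : Q (W.e i) = 0 := (sing_iff Q).1 (W.e_sing i)
theorem Qf (i : Fin w) : Q (W.f i) = 0 := (sing_iff Q).1 (W.f_sing i)

/-- The vectors perpendicular to all `e_j, f_j`, `j < k`. -/
def VV (k : ℕ) : Submodule F V where
  carrier := {x | ∀ j : Fin w, (j : ℕ) < k → polar Q (W.e j) x = 0 ∧ polar Q (W.f j) x = 0}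
  add_mem' {x y} hx hy j hj := by
    rw [polar_add_right, polar_add_right, (hx j hj).1, (hx j hj).2, (hy j hj).1, (hy j hj).2, add_zero]
    exact ⟨rfl, rfl⟩
  zero_mem' j hj := by rw [polar_zero_right, polar_zero_right]; exact ⟨rfl, rfl⟩
  smul_mem' c x hx j hj := by
    rw [polar_smul_right, polar_smul_right, (hx j hj).1, (hx j hj).2, smul_zero]
    exact ⟨rfl, rfl⟩

theorem mem_VV {k : ℕ} {x : V} : x ∈ VV W k ↔
    ∀ j : Fin w, (j : ℕ) < k → polar Q (W.e j) x = 0 ∧ polar Q (W.f j) x = 0 := Iff.rfl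

theorem VV_zero : VV W 0 = ⊤ := by
  rw [eq_top_iff]
  intro x _ j hj
  exact absurd hj (Nat.not_lt_zero _)

theorem e_mem {k : ℕ} {i : Fin w} (h : k ≤ i) : W.e i ∈ VV W k := fun j hj => by
  rw [pee, pfe, if_neg (by rintro rfl; omega)]
  exact ⟨rfl, rfl⟩

theorem f_mem {k : ℕ} {i : Fin w} (h : k ≤ i) : W.f i ∈ VV W k := fun j hj => by
  rw [pff, pef, if_neg (by rintro rfl; omega)]
  exact ⟨rfl, rfl⟩

theorem VV_anti {k l : ℕ} (h : k ≤ l) : VV W l ≤ VV W k := fun _ hx j hj => hx j (by omega)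

/-- `x ↦ ((x,e_k), (x,f_k), rest)` -/
def splitEquiv (k : Fin w) : VV W k ≃ F × F × VV W (k + 1) where
  toFun x := (polar Q (W.e k) x, polar Q (W.f k) x,
    ⟨x - polar Q (W.f k) x • W.e k - polar Q (W.e k) (x : V) • W.f k, fun j hj => by
      simp only [sub_eq_add_neg, ← neg_smul, polar_add_right, polar_smul_right, pee, pfe, pef, pff, smul_eq_mul,
        mul_zero, add_zero]
      by_cases hjk : j = k
      · subst hjk; simp
      · have h1 := x.2 j (by have : (j : ℕ) ≠ k := fun h => hjk (Fin.ext h); omega)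
        simp [hjk, h1.1, h1.2]⟩)
  invFun p := ⟨p.2.2 + p.2.1 • W.e k + p.1 • W.f k, by
    refine add_mem (add_mem (VV_anti W (Nat.le_succ _) p.2.2.2) ?_) ?_
    · exact (VV W k).smul_mem _ (e_mem W le_rfl)
    · exact (VV W k).smul_mem _ (f_mem W le_rfl)⟩
  left_inv x := Subtype.ext (by
    show (x : V) - polar Q (W.f k) x • W.e k - polar Q (W.e k) (x : V) • W.f k + polar Q (W.f k) (x : V) • W.e k +
      polar Q (W.e k) (x : V) • W.f k = x
    abel)
  right_inv p := by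
    obtain ⟨a, b, x, hx⟩ := p
    have h1 := hx k (Nat.lt_succ_self _)
    have h2 : polar Q (W.e k) (x + b • W.e k + a • W.f k) = a := by
      rw [polar_add_right, polar_add_right, polar_smul_right, polar_smul_right, pee, pef, if_pos rfl, h1.1]
      simp
    have h3 : polar Q (W.f k) (x + b • W.e k + a • W.f k) = b := by
      rw [polar_add_right, polar_add_right, polar_smul_right, polar_smul_right, pff, pfe, if_pos rfl, h1.2]
      simp
    refine Prod.ext h2 (Prod.ext h3 (Subtype.ext ?_))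
    show x + b • W.e k + a • W.f k - polar Q (W.f k) (x + b • W.e k + a • W.f k) • W.e k -
      polar Q (W.e k) (x + b • W.e k + a • W.f k) • W.f k = x
    rw [h2, h3]
    abel

theorem card_VV_succ [Finite F] [Finite V] (k : Fin w) :
    Nat.card (VV W k) = Nat.card F ^ 2 * Nat.card (VV W (k + 1)) := by
  rw [Nat.card_congr (splitEquiv W k), Nat.card_prod, Nat.card_prod]
  ring

/-- The layers. -/
noncomputable def RR (i : Fin w) : Subgroup ↥(E Q) :=
  TS Q (W.e i) (VV W (i + 1)) (Qe W i) fun _ hz => (hz i (Nat.lt_succ_self _)).1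

theorem mem_RR {i : Fin w} {g : ↥(E Q)} : g ∈ RR W i ↔ ∃ x ∈ VV W (i + 1), g = tE Q (W.e i) x := by
  rw [RR, mem_TS]
  constructor
  · rintro ⟨z, hz, h⟩; exact ⟨z, hz, Subtype.ext h⟩
  · rintro ⟨z, hz, h⟩; exact ⟨z, hz, congrArg Subtype.val h⟩

theorem RR_le_R (i : Fin w) : RR W i ≤ R Q (W.e i) (Qe W i) := by
  intro g hg
  obtain ⟨x, hx, rfl⟩ := (mem_RR W).1 hg
  exact tE_mem_R _ (hx i (Nat.lt_succ_self _)).1

/-- The image of `f_i` determines the element of `RR i`. -/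
theorem tE_inj {i : Fin w} {x y : V} (hx : x ∈ VV W (i + 1)) (hy : y ∈ VV W (i + 1))
    (h : T Q (W.e i) x (W.f i) = T Q (W.e i) y (W.f i)) : x = y := by
  have key : ∀ {z : V}, z ∈ VV W (i + 1) → T Q (W.e i) z (W.f i) = W.f i + z - Q z • W.e i := by
    intro z hz
    have h1 := hz i (Nat.lt_succ_self _)
    rw [T_apply (Qe W i) h1.1, pef, if_pos rfl, polar_comm, h1.2]
    simp
  rw [key hx, key hy] at h
  have h1 : x - y = (Q x - Q y) • W.e i := by
    have h2 : W.f i + x = W.f i + y - Q y • W.e i + Q x • W.e i := sub_eq_iff_eq_add.1 h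
    have h3 : x = y - Q y • W.e i + Q x • W.e i := by
      have h4 : W.f i + x = W.f i + (y - Q y • W.e i + Q x • W.e i) := by rw [h2]; abel
      exact add_left_cancel h4
    rw [sub_smul]
    conv_lhs => rw [h3]
    abel
  have h3 : polar Q (W.f i) (x - y) = 0 := (((VV W (i + 1)).sub_mem hx hy) i (Nat.lt_succ_self _)).2
  rw [h1, polar_smul_right, pfe, if_pos rfl, smul_eq_mul, mul_one] at h3
  rw [h3, zero_smul] at h1
  exact sub_eq_zero.1 h1

theorem card_RR (i : Fin w) : Nat.card (RR W i) = Nat.card (VV W (i + 1)) := by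
  refine (Nat.card_congr (Equiv.ofBijective
    (fun x : VV W (i + 1) => (⟨tE Q (W.e i) x, (mem_RR W).2 ⟨x, x.2, rfl⟩⟩ : RR W i)) ⟨?_, ?_⟩)).symm
  · intro x y h
    have h1 : tE Q (W.e i) (x : V) = tE Q (W.e i) (y : V) := congrArg Subtype.val h
    have h2 : T Q (W.e i) (x : V) = T Q (W.e i) (y : V) := congrArg Subtype.val h1
    exact Subtype.ext (tE_inj W x.2 y.2 (by rw [h2]))
  · rintro ⟨g, hg⟩
    obtain ⟨x, hx, rfl⟩ := (mem_RR W).1 hg
    exact ⟨⟨x, hx⟩, rfl⟩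

/-- The group generated by the layers `i ≥ k`. -/
noncomputable def UU (k : ℕ) : Subgroup ↥(E Q) := ⨆ i : {i : Fin w // k ≤ i}, RR W i.1

theorem RR_le_UU {k : ℕ} {i : Fin w} (h : k ≤ i) : RR W i ≤ UU W k :=
  le_iSup (fun i : {i : Fin w // k ≤ i} => RR W i.1) ⟨i, h⟩

theorem UU_anti {k l : ℕ} (h : k ≤ l) : UU W l ≤ UU W k :=
  iSup_le fun i => RR_le_UU W (le_trans h i.2)

theorem UU_succ (k : Fin w) : UU W k = RR W k ⊔ UU W (k + 1) := by
  apply le_antisymm
  · refine iSup_le ?_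
    rintro ⟨i, hi⟩
    rcases Nat.eq_or_lt_of_le hi with h | h
    · have : i = k := Fin.ext h.symm
      subst this
      exact le_sup_left
    · exact le_trans (RR_le_UU W (Nat.succ_le_of_lt h)) le_sup_right
  · exact sup_le (RR_le_UU W le_rfl) (UU_anti W (Nat.le_succ _))

theorem UU_of_le {k : ℕ} (h : w ≤ k) : UU W k = ⊥ := by
  rw [eq_bot_iff]
  refine iSup_le ?_
  rintro ⟨i, hi⟩
  exact absurd i.2 (by omega)

/-- `UU k` fixes `e_j`, `f_j`, `j < k`. -/
theorem fix {k : ℕ} {g : ↥(E Q)} (hg : g ∈ UU W k) {j : Fin w} (hj : (j : ℕ) < k) :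
    (g : V ≃ₗ[F] V) (W.e j) = W.e j ∧ (g : V ≃ₗ[F] V) (W.f j) = W.f j := by
  let S : Subgroup ↥(E Q) :=
    { carrier := {g | (g : V ≃ₗ[F] V) (W.e j) = W.e j ∧ (g : V ≃ₗ[F] V) (W.f j) = W.f j}
      one_mem' := ⟨rfl, rfl⟩
      mul_mem' := by
        rintro a b ⟨h1, h2⟩ ⟨h3, h4⟩
        refine ⟨?_, ?_⟩
        · show (a : V ≃ₗ[F] V) ((b : V ≃ₗ[F] V) (W.e j)) = _
          rw [h3, h1]
        · show (a : V ≃ₗ[F] V) ((b : V ≃ₗ[F] V) (W.f j)) = _
          rw [h4, h2]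
      inv_mem' := by
        rintro a ⟨h1, h2⟩
        refine ⟨?_, ?_⟩
        · show (a : V ≃ₗ[F] V).symm (W.e j) = _
          rw [LinearEquiv.symm_apply_eq, h1]
        · show (a : V ≃ₗ[F] V).symm (W.f j) = _
          rw [LinearEquiv.symm_apply_eq, h2] }
  have h1 : UU W k ≤ S := by
    refine iSup_le ?_
    rintro ⟨i, hi⟩ g hg
    dsimp only at hg
    obtain ⟨x, hx, rfl⟩ := (mem_RR W).1 hg
    have hi' : k ≤ (i : ℕ) := hi
    have hx1 := hx i (Nat.lt_succ_self _)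
    have hx2 := hx j (by omega)
    have hij : i ≠ j := by rintro rfl; omega
    refine ⟨?_, ?_⟩
    · show T Q (W.e i) x (W.e j) = _
      exact T_apply_fix (Qe W i) hx1.1 (pee W _ _) (by rw [polar_comm]; exact hx2.1)
    · show T Q (W.e i) x (W.f j) = _
      exact T_apply_fix (Qe W i) hx1.1 (by rw [pef, if_neg hij]) (by rw [polar_comm]; exact hx2.2)
  exact h1 hg

theorem map_VV {k : ℕ} {g : ↥(E Q)} (hg : g ∈ UU W k) {l : ℕ} (hl : l ≤ k) {x : V} (hx : x ∈ VV W l) :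
    (g : V ≃ₗ[F] V) x ∈ VV W l := by
  intro j hj
  obtain ⟨h1, h2⟩ := fix W hg (j := j) (by omega)
  obtain ⟨h3, h4⟩ := hx j hj
  refine ⟨?_, ?_⟩
  · rw [← h1, polar_map', h3]
  · rw [← h2, polar_map', h4]

/-- `UU (k+1)` normalises `RR k`. -/
theorem conj_RR {k : Fin w} {g : ↥(E Q)} (hg : g ∈ UU W (k + 1)) {r : ↥(E Q)} (hr : r ∈ RR W k) :
    g * r * g⁻¹ ∈ RR W k := by
  obtain ⟨x, hx, rfl⟩ := (mem_RR W).1 hr
  rw [tE_conj, (fix W hg (Nat.lt_succ_self _)).1]
  exact (mem_RR W).2 ⟨_, map_VV W hg le_rfl hx, rfl⟩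

theorem UU_le_normalizer (k : Fin w) : UU W (k + 1) ≤ Subgroup.normalizer (RR W k : Set ↥(E Q)) := by
  intro g hg
  rw [Subgroup.mem_normalizer_iff]
  intro r
  refine ⟨conj_RR W hg, fun h => ?_⟩
  have h1 := conj_RR W (inv_mem hg) h
  have h2 : g⁻¹ * (g * r * g⁻¹) * g⁻¹⁻¹ = r := by group
  rwa [h2] at h1

theorem disj (k : Fin w) : RR W k ⊓ UU W (k + 1) = ⊥ := by
  rw [eq_bot_iff]
  rintro g ⟨h1, h2⟩
  obtain ⟨x, hx, rfl⟩ := (mem_RR W).1 h1
  have h3 : T Q (W.e k) x (W.f k) = W.f k := (fix W h2 (Nat.lt_succ_self _)).2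
  have h4 : x = 0 := tE_inj W hx (Submodule.zero_mem _) (by
    rw [h3, T_zero_right]; rfl)
  rw [h4, tE_zero_right]
  exact Subgroup.mem_bot.2 rfl

theorem card_UU_succ (k : Fin w) : Nat.card (UU W k) = Nat.card (VV W (k + 1)) * Nat.card (UU W (k + 1)) := by
  rw [UU_succ, ← card_RR, ← Nat.card_prod]
  symm
  refine Nat.card_congr (Equiv.ofBijective (fun p : RR W k × UU W (k + 1) =>
    (⟨p.1 * p.2, mul_mem ((le_sup_left : RR W k ≤ _) p.1.2) ((le_sup_right : UU W (k + 1) ≤ _) p.2.2)⟩ :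
      ↥(RR W k ⊔ UU W (k + 1)))) ⟨?_, ?_⟩)
  · rintro ⟨a, b⟩ ⟨c, d⟩ h
    have h1 : (a : ↥(E Q)) * b = c * d := congrArg Subtype.val h
    have h2 : (c : ↥(E Q))⁻¹ * a = d * (b : ↥(E Q))⁻¹ := by
      rw [inv_mul_eq_iff_eq_mul, ← mul_assoc, eq_mul_inv_iff_mul_eq, h1]
    have h3 : (c : ↥(E Q))⁻¹ * a ∈ RR W k ⊓ UU W (k + 1) := by
      refine Subgroup.mem_inf.2 ⟨(RR W k).mul_mem ((RR W k).inv_mem c.2) a.2, ?_⟩
      rw [h2]
      exact (UU W (k + 1)).mul_mem d.2 ((UU W (k + 1)).inv_mem b.2)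
    rw [disj, Subgroup.mem_bot] at h3
    have h4 : (a : ↥(E Q)) = c := (inv_mul_eq_one.1 h3).symm
    rw [h3] at h2
    have h5 : (d : ↥(E Q)) = b := (mul_inv_eq_one.1 h2.symm)
    exact Prod.ext (Subtype.ext h4) (Subtype.ext h5.symm)
  · rintro ⟨g, hg⟩
    have h1 : g ∈ ((RR W k ⊔ UU W (k + 1) : Subgroup ↥(E Q)) : Set ↥(E Q)) := hg
    rw [sup_comm, Subgroup.coe_mul_of_left_le_normalizer_right _ _ (UU_le_normalizer W k), Set.mem_mul] at h1
    obtain ⟨u, hu, r, hr, rfl⟩ := h1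
    refine ⟨⟨⟨u * r * u⁻¹, conj_RR W hu hr⟩, ⟨u, hu⟩⟩, Subtype.ext ?_⟩
    show u * r * u⁻¹ * u = u * r
    group

/-- The order of `UU k`. -/
theorem card_UU [Finite F] [Finite V] {m : ℕ} (hV : Nat.card V = Nat.card F ^ (2 * m)) (hw : w ≤ m) :
    Nat.card (UU W 0) = Nat.card F ^ (∑ i ∈ Finset.range w, (2 * m - 2 * (i + 1))) := by
  have hq : 0 < Nat.card F := Nat.card_pos
  have hVV : ∀ k, k ≤ w → Nat.card (VV W k) = Nat.card F ^ (2 * m - 2 * k) := by
    intro k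
    induction k with
    | zero => intro _; rw [VV_zero, Nat.card_congr (Submodule.topEquiv (R := F) (M := V)).toEquiv, hV]; rfl
    | succ k ih =>
      intro hk
      have h1 := card_VV_succ W (⟨k, hk⟩ : Fin w)
      rw [ih (by omega)] at h1
      have h2 : 2 * m - 2 * k = 2 + (2 * m - 2 * (k + 1)) := by omega
      rw [h2, pow_add] at h1
      exact (Nat.eq_of_mul_eq_mul_left (by positivity) h1).symm
  have key : ∀ k, k ≤ w → Nat.card (UU W (w - k)) = Nat.card F ^ (∑ i ∈ Finset.range k, (2 * m - 2 * (w - k + i + 1))) := by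
    intro k
    induction k with
    | zero =>
      intro _
      rw [UU_of_le W (by omega), Finset.sum_range_zero, pow_zero]
      simp
    | succ k ih =>
      intro hk
      have hlt : w - (k + 1) < w := by omega
      have h1 := card_UU_succ W (⟨w - (k + 1), hlt⟩ : Fin w)
      have h2 : (w - (k + 1)) + 1 = w - k := by omega
      simp only [h2] at h1
      rw [h1, ih (by omega), hVV _ (by omega), ← pow_add, Finset.sum_range_succ']
      congr 1
      rw [add_comm]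
      congr 1
      · refine Finset.sum_congr rfl fun i _ => ?_
        omega
      · omega
  have h := key w le_rfl
  rw [Nat.sub_self] at h
  rw [h]
  congr 1
  refine Finset.sum_congr rfl fun i _ => ?_
  omega

theorem isPGroup_of_card [Finite F] {G : Type*} [Group G] (p : ℕ) [Fact p.Prime] [CharP F p] {n : ℕ}
    (h : Nat.card G = Nat.card F ^ n) : IsPGroup p G := by
  have := Fintype.ofFinite F
  obtain ⟨k, -, hk⟩ := FiniteField.card F p
  rw [Nat.card_eq_fintype_card (α := F), hk, ← pow_mul] at h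
  exact IsPGroup.of_card h

theorem sum_eq {m w : ℕ} (hw : w = m ∨ w + 1 = m) (hm : 1 ≤ m) :
    ∑ i ∈ Finset.range w, (2 * m - 2 * (i + 1)) = m * (m - 1) := by
  have key : ∀ n, ∑ i ∈ Finset.range n, (2 * (n + 1) - 2 * (i + 1)) = (n + 1) * n := by
    intro n
    induction n with
    | zero => simp
    | succ n ih =>
      rw [Finset.sum_range_succ']
      have h1 : ∀ i ∈ Finset.range n, 2 * (n + 1 + 1) - 2 * (i + 1 + 1) = 2 * (n + 1) - 2 * (i + 1) := by
        intro i _; omega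
      rw [Finset.sum_congr rfl h1, ih]
      have h2 : 2 * (n + 1 + 1) - 2 * (0 + 1) = 2 * (n + 1) := by omega
      rw [h2]; ring
  obtain ⟨n, rfl⟩ : ∃ n, m = n + 1 := ⟨m - 1, by omega⟩
  rcases hw with rfl | hw
  · rw [Finset.sum_range_succ, key]
    simp
  · have : w = n := by omega
    subst this
    rw [key]; rfl

/-! ### The form of `FlagDef` -/

/-- `e_i` as a sequence -/
noncomputable def eN (i : ℕ) : V := if h : i < w then W.e ⟨i, h⟩ else 0

/-- `f_i` as a sequence -/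
noncomputable def fN (i : ℕ) : V := if h : i < w then W.f ⟨i, h⟩ else 0

theorem eN_eq {i : ℕ} (h : i < w) : eN W i = W.e ⟨i, h⟩ := dif_pos h
theorem fN_eq {i : ℕ} (h : i < w) : fN W i = W.f ⟨i, h⟩ := dif_pos h

theorem flag : Flag Q w (eN W) (fN W) where
  hyp i hi := by
    rw [eN_eq W hi, fN_eq W hi]
    exact ⟨Qe W _, Qf W _, by rw [pef, if_pos rfl]⟩
  ee i k hi hk _ := by rw [eN_eq W hi, eN_eq W hk, pee]
  ef i k hi hk hik := by
    rw [eN_eq W hi, fN_eq W hk, pef, if_neg fun h => hik (congrArg Fin.val h)]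
  ff i k hi hk _ := by rw [fN_eq W hi, fN_eq W hk, pff]

theorem mem_Yv {i : ℕ} (hi : i < w) {x : V} : x ∈ Yv Q (eN W) (fN W) i ↔ x ∈ VV W (i + 1) := by
  constructor
  · intro h j hj
    have h1 := h j (Nat.le_of_lt_succ hj)
    rwa [eN_eq W j.2, fN_eq W j.2] at h1
  · intro h k hk
    have hk' : k < w := lt_of_le_of_lt hk hi
    rw [eN_eq W hk', fN_eq W hk']
    exact h ⟨k, hk'⟩ (Nat.lt_succ_of_le hk)

theorem RK_eq {i : ℕ} (hi : i < w) : RK Q (eN W) (fN W) i = RR W ⟨i, hi⟩ := by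
  have h : {g | ∃ y ∈ Yv Q (eN W) (fN W) i, g = tE Q (eN W i) y} = (RR W ⟨i, hi⟩ : Set ↥(E Q)) := by
    ext g
    rw [SetLike.mem_coe, mem_RR, eN_eq W hi]
    exact ⟨fun ⟨y, hy, e⟩ => ⟨y, (mem_Yv W hi).1 hy, e⟩, fun ⟨y, hy, e⟩ => ⟨y, (mem_Yv W hi).2 hy, e⟩⟩
  rw [RK, h, Subgroup.closure_eq]

theorem UK_eq : UK Q (eN W) (fN W) w = UU W 0 := by
  apply le_antisymm
  · refine iSup_le fun i => iSup_le fun hi => ?_
    rw [RK_eq W hi]
    exact RR_le_UU W (Nat.zero_le _)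
  · refine iSup_le fun i => ?_
    rw [← RK_eq W i.1.2]
    exact le_iSup₂_of_le (i.1 : ℕ) i.1.2 le_rfl

theorem isPGroup_UU [Finite F] [Finite V] (p : ℕ) [Fact p.Prime] [CharP F p] {m : ℕ}
    (hV : Nat.card V = Nat.card F ^ (2 * m)) (hw : w ≤ m) : IsPGroup p (UU W 0) :=
  isPGroup_of_card p (card_UU W hV hw)

theorem index_UU [Finite F] [Finite V] {m : ℕ} (hV : Nat.card V = Nat.card F ^ (2 * m)) (hw : w = m ∨ w + 1 = m)
    (hm : 1 ≤ m) {c : ℕ} (h : Nat.card ↥(E Q) = Nat.card F ^ (m * (m - 1)) * c) : (UU W 0).index = c := by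
  have h1 := (UU W 0).index_mul_card
  rw [card_UU W hV (by omega), sum_eq hw hm, h, mul_comm] at h1
  have hq : 0 < Nat.card F := Nat.card_pos
  exact Nat.eq_of_mul_eq_mul_left (by positivity) h1

end General

section Order

variable {F : Type*} [Field F] [Finite F] [CharP F 2]

theorem even_card : Even (Nat.card F) := by
  have := Fintype.ofFinite F
  obtain ⟨k, -, hk⟩ := FiniteField.card F 2
  rw [Nat.card_eq_fintype_card, hk]
  exact (Nat.even_pow.2 ⟨even_two, k.pos.ne'⟩)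

theorem odd_prod (n : ℕ) : Odd (∏ i ∈ Finset.range n, (Nat.card F ^ (2 * (i + 1)) - 1)) := by
  induction n with
  | zero => simp
  | succ n ih =>
    rw [Finset.prod_range_succ]
    refine ih.mul ?_
    have h1 : Even (Nat.card F ^ (2 * (n + 1))) := Nat.even_pow.2 ⟨even_card, by omega⟩
    have h2 : 1 ≤ Nat.card F ^ (2 * (n + 1)) := Nat.one_le_pow _ _ Nat.card_pos
    exact Nat.Even.sub_odd h2 h1 odd_one

theorem gcd_four {x : ℕ} (h : Odd x) : Nat.gcd 4 x = 1 := by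
  have h1 : Nat.Coprime 2 x := Nat.coprime_two_left.2 h
  exact Nat.Coprime.pow_left 2 h1

theorem card_minus {m : ℕ} (hm : 3 ≤ m) (a b : F)
    (hab : ∀ z₁ z₂ : F, z₁ ^ 2 + a * z₁ * z₂ + b * z₂ ^ 2 = 0 → z₁ = 0 ∧ z₂ = 0) :
    ∃ c, Odd c ∧ Nat.card ↥(E (minusForm m F a b)) = Nat.card F ^ ((m + 1) * (m + 1 - 1)) * c := by
  have := Fintype.ofFinite F
  have h := Cfsg.Agent.S0294.result (F := F) rfl (m + 1) (by omega) a b hab
  have h1 : Odd (Fintype.card F ^ (m + 1) + 1) := by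
    rw [← Nat.card_eq_fintype_card]
    exact (Nat.even_pow.2 ⟨even_card, by omega⟩).add_one
  rw [gcd_four h1, one_mul, mul_assoc, ← Nat.card_eq_fintype_card] at h
  have h2 := Nat.card_congr (equivE (good_minus (a := a) (b := b) (show 2 ≤ m by omega) hab)).toEquiv
  rw [coe_minusForm] at h2
  rw [← Nat.card_eq_fintype_card] at h1
  exact ⟨_, h1.mul (odd_prod _), h2.trans h⟩

theorem card_plus {m : ℕ} (hm : 4 ≤ m) :
    ∃ c, Odd c ∧ Nat.card ↥(E (plusForm m F)) = Nat.card F ^ (m * (m - 1)) * c := by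
  have := Fintype.ofFinite F
  have h := Cfsg.Agent.S0293.result (F := F) rfl m hm
  have h1 : Odd (Fintype.card F ^ m - 1) := by
    rw [← Nat.card_eq_fintype_card]
    exact Nat.Even.sub_odd (Nat.one_le_pow _ _ Nat.card_pos) (Nat.even_pow.2 ⟨even_card, by omega⟩) odd_one
  rw [gcd_four h1, one_mul, mul_assoc, ← Nat.card_eq_fintype_card] at h
  have h2 := Nat.card_congr (equivE (good_plus (F := F) (show 3 ≤ m by omega))).toEquiv
  rw [coe_plusForm] at h2
  rw [← Nat.card_eq_fintype_card] at h1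
  exact ⟨_, h1.mul (odd_prod _), h2.trans h⟩

/-- (F1), (F2) for `Ω^-(2m+2, q)`, `q` even. -/
theorem flag_minus {m : ℕ} (hm : 3 ≤ m) (a b : F)
    (hab : ∀ z₁ z₂ : F, z₁ ^ 2 + a * z₁ * z₂ + b * z₂ ^ 2 = 0 → z₁ = 0 ∧ z₂ = 0) :
    Flag (minusForm m F a b) m (eN (wminus m F a b hab)) (fN (wminus m F a b hab)) ∧
      Odd (UK (minusForm m F a b) (eN (wminus m F a b hab)) (fN (wminus m F a b hab)) m).index ∧
      IsPGroup 2 (UK (minusForm m F a b) (eN (wminus m F a b hab)) (fN (wminus m F a b hab)) m) := by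
  have hV : Nat.card ((Fin m ⊕ Fin m) ⊕ Fin 2 → F) = Nat.card F ^ (2 * (m + 1)) := by
    rw [Nat.card_fun, Nat.card_eq_fintype_card (α := (Fin m ⊕ Fin m) ⊕ Fin 2)]
    congr 1
    simp only [Fintype.card_sum, Fintype.card_fin]; omega
  have : Fact (Nat.Prime 2) := ⟨Nat.prime_two⟩
  refine ⟨flag _, ?_, ?_⟩
  · obtain ⟨c, hc, h⟩ := card_minus hm a b hab
    rw [UK_eq, index_UU _ hV (Or.inr rfl) (by omega) h]
    exact hc
  · rw [UK_eq]
    exact isPGroup_UU _ 2 hV (by omega)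

/-- (F1), (F2) for `Ω^+(2m, q)`, `q` even. -/
theorem flag_plus {m : ℕ} (hm : 4 ≤ m) :
    Flag (plusForm m F) m (eN (Cfsg.Agent.Nodes.RGDOrth.wplus m F)) (fN (Cfsg.Agent.Nodes.RGDOrth.wplus m F)) ∧
      Odd (UK (plusForm m F) (eN (Cfsg.Agent.Nodes.RGDOrth.wplus m F)) (fN (Cfsg.Agent.Nodes.RGDOrth.wplus m F)) m).index ∧
      IsPGroup 2 (UK (plusForm m F) (eN (Cfsg.Agent.Nodes.RGDOrth.wplus m F))
        (fN (Cfsg.Agent.Nodes.RGDOrth.wplus m F)) m) := by
  have hV : Nat.card (Fin m ⊕ Fin m → F) = Nat.card F ^ (2 * m) := by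
    rw [Nat.card_fun, Nat.card_eq_fintype_card (α := Fin m ⊕ Fin m)]
    congr 1
    simp only [Fintype.card_sum, Fintype.card_fin]; omega
  have : Fact (Nat.Prime 2) := ⟨Nat.prime_two⟩
  refine ⟨flag _, ?_, ?_⟩
  · obtain ⟨c, hc, h⟩ := card_plus hm (F := F)
    rw [UK_eq, index_UU _ hV (Or.inl rfl) (by omega) h]
    exact hc
  · rw [UK_eq]
    exact isPGroup_UU _ 2 hV (by omega)

end Order

end Cfsg.Agent.OddHalf.Orth.KFlag
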