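import Cfsg.Agent.OddHalf.Orth.LinesThree
import Cfsg.Agent.OddHalf.Orth.Clean
import Cfsg.Agent.OddHalf.Orth.KFace
import Cfsg.Agent.OddHalf.Orth.KFlag
import Cfsg.Agent.OddHalf.Orth.Delta

/-!
# ODD D7, `K = Ω(V)`: from the doubled long root groups to a homomorphism `G → {±1}`, clean case
-/

set_option autoImplicit false

namespace Cfsg.Agent.OddHalf.Orth.CleanMain

open QuadraticMap Cfsg.Agent.LieClassical.OrthCore Cfsg.Agent.LieClassical.OrthTrans
  Cfsg.Agent.LieClassical.OrthForms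
  Cfsg.Agent.ClassicalGeometry.OrthAutBasic Cfsg.Agent.ClassicalGeometry.OrthAutRoot Cfsg.Agent.OddHalf.Orth
  Cfsg.Agent.OddHalf.Orth.Face Cfsg.Agent.OddHalf.Orth.Star Cfsg.Agent.OddHalf.Orth.Lines
  Cfsg.Agent.OddHalf.Orth.FlagDef

variable {F V : Type*} [Field F] [AddCommGroup V] [Module F V] {Q : QuadraticForm F V}
variable {G : Type*} [Group G] {t : G} {j : ↥(E Q) →* G} {W : V → V → Subgroup G}
variable {n : ℕ} {e f : ℕ → V}

theorem grow_of [CharP F 2] [FiniteDimensional F V] (D : Full Q t j W) : Lay.Grow Q t W where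
  notin hu hu0 := D.t_notin hu hu0
  ab _ _ hf hg := (D.ab hf hg).eq
  sq _ _ hf := sqVs D hf
  norm huv hs hs0 h1 h2 hw hf := by
    have := norm_Vs D hs hs0 huv h1 h2 (inv_mem hw) hf
    rwa [inv_inv] at this

/-- The end of the clean case. -/
theorem exists_hom [Finite G] [Finite F] [CharP F 2] [FiniteDimensional F V] (hB : Big Q) (hK : KFacts Q)
    (D : Dbl Q t j W) (hF : Flag Q n e f) (hn : 3 ≤ n) (hd : HasDelta Q n e f) (hU : Odd (UK Q e f n).index)
    (hodd : Odd ((j.range ⊔ Subgroup.zpowers t).relIndex (Subgroup.centralizer ({t} : Set G)))) :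
    ∃ m : G →* ℤˣ, m t = -1 :=
  Clean.exists_hom_of hB hK D (grow_of (full_of D hK)) hF hn hd hU hodd

end Cfsg.Agent.OddHalf.Orth.CleanMain
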