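import Cfsg.Agent.OddHalf.Orth.KFlag
import Cfsg.Agent.OddHalf.Orth.Delta

/-!
# ODD D7, `K = Ω(V)`, characteristic 2: (F3) `HasDelta` for the flags of `KFlag`

`hasDelta_of_frame`: for a Witt frame. `delta_minus`, `delta_plus`: for `quadFormMinus`, `quadFormPlus`.
-/

set_option autoImplicit false

namespace Cfsg.Agent.OddHalf.Orth.DeltaInst

open QuadraticMap Cfsg.Agent.LieClassical.OrthCore Cfsg.Agent.LieClassical.OrthTrans
  Cfsg.Agent.LieClassical.OrthSimple Cfsg.Agent.LieClassical Cfsg.Agent.LieClassical.OrthForms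
  Cfsg.Agent.TitsThree Cfsg.Agent.TitsThree.Siegel Cfsg.Agent.TitsThree.SiegelGen
  Cfsg.Agent.TitsThree.KSideO Cfsg.Agent.OddHalf.Orth Cfsg.Agent.OddHalf.Orth.SitOf
  Cfsg.Agent.OddHalf.Orth.FlagDef Cfsg.Agent.OddHalf.Orth.KFlag Cfsg.Agent.OddHalf.Orth.Delta

section General

variable {F V : Type*} [Field F] [AddCommGroup V] [Module F V] {Q : QuadraticForm F V} {w : ℕ}
  (W : WFrame (PO Q) w)

/-- a singular vector perpendicular to the whole frame is zero -/
theorem aniso {y : V} (hy : y ∈ VV W w) (hq : Q y = 0) : y = 0 := by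
  obtain ⟨a, b, v, hv, hyv⟩ := W.span y
  have hev : ∀ i, polar Q (W.e i) v = 0 := fun i => W.eV0 i hv
  have hfv : ∀ i, polar Q (W.f i) v = 0 := fun i => W.fV0 i hv
  have hb : ∀ i, b i = 0 := by
    intro i
    have h1 := (hy i i.2).1
    rw [hyv, ← polarBilin_apply_apply] at h1
    simp only [map_add, map_sum, map_smul, polarBilin_apply_apply, pee, pef, hev, smul_eq_mul,
      mul_zero, Finset.sum_const_zero, zero_add, add_zero, mul_ite, mul_one] at h1
    simpa using h1
  have ha : ∀ i, a i = 0 := by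
    intro i
    have h1 := (hy i i.2).2
    rw [hyv, ← polarBilin_apply_apply] at h1
    simp only [map_add, map_sum, map_smul, polarBilin_apply_apply, pff, pfe, hfv, smul_eq_mul,
      mul_zero, Finset.sum_const_zero, add_zero, mul_ite, mul_one] at h1
    simpa using h1
  have hyv' : y = v := by
    rw [hyv]
    simp only [ha, hb, zero_smul, Finset.sum_const_zero, zero_add]
  rw [hyv'] at hq ⊢
  exact W.aniso v hv ((sing_iff Q).2 hq)

theorem hasDelta_of_frame (hQ : Nondeg Q) [Finite F] [CharP F 2] [FiniteDimensional F V] (hw : 1 ≤ w) :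
    HasDelta Q w (eN W) (fN W) := by
  refine hasDelta hQ hw (flag W) fun y hy hq => aniso W ?_ hq
  have h1 := (mem_Yv W (i := w - 1) (by omega)).1 hy
  rwa [Nat.sub_add_cancel hw] at h1

end General

variable {F : Type*} [Field F] [Finite F] [CharP F 2]

/-- (F3) for `Ω^-(2m+2, q)`, `q` even. -/
theorem delta_minus {m : ℕ} (hm : 1 ≤ m) (a b : F)
    (hab : ∀ z₁ z₂ : F, z₁ ^ 2 + a * z₁ * z₂ + b * z₂ ^ 2 = 0 → z₁ = 0 ∧ z₂ = 0) :
    HasDelta (minusForm m F a b) m (eN (wminus m F a b hab)) (fN (wminus m F a b hab)) :=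
  hasDelta_of_frame _ (nondeg_minusForm m F a b hab) hm

/-- (F3) for `Ω^+(2m, q)`, `q` even. -/
theorem delta_plus {m : ℕ} (hm : 1 ≤ m) :
    HasDelta (plusForm m F) m (eN (Cfsg.Agent.Nodes.RGDOrth.wplus m F))
      (fN (Cfsg.Agent.Nodes.RGDOrth.wplus m F)) :=
  hasDelta_of_frame _ (nondeg_plusForm m F) hm

end Cfsg.Agent.OddHalf.Orth.DeltaInst
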