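import Cfsg.Agent.OddHalf.Orth.KRho
import Cfsg.Agent.ClassicalGeometry.OrthDickson
import Cfsg.Agent.LieClassical.OrthFinite

/-!
# The centralizer `P0` of the long root group of a totally singular line

Characteristic 2, `F` finite.
* `refl_notMem_E`, `mem_E_or` : `E Q` has index 2 in `O Q`, reflections are outside;
* `mem_P0_of_comm` : an element commuting with `T u v` is in `P0`;
* `mem_P_of_fix` : an element of `E Q` fixing the line pointwise is in `P`;
* `P0_le` : `P0 ≤ P ⊔ R u ⊔ R v`; `P0_le_P` if the transvections of the line are in `P`.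
-/

set_option autoImplicit false
set_option linter.unusedSectionVars false
set_option linter.unusedVariables false

namespace Cfsg.Agent.OddHalf.Orth

open QuadraticMap Cfsg.Agent.LieClassical.OrthCore Cfsg.Agent.LieClassical.OrthTrans
  Cfsg.Agent.LieClassical.OrthSimple Cfsg.Agent.ClassicalGeometry.OrthAutBasic
  Cfsg.Agent.ClassicalGeometry.OrthAutRoot Cfsg.Agent.LieClassical.OrthFinite Face

variable {F V : Type*} [Field F] [AddCommGroup V] [Module F V] {Q : QuadraticForm F V}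

/-! ### Reflections are not in `E Q` -/

section transport
variable {V' : Type*} [AddCommGroup V'] [Module F V']

/-- transport of linear automorphisms -/
def tr (L : V ≃ₗ[F] V') : (V ≃ₗ[F] V) →* (V' ≃ₗ[F] V') where
  toFun g := (L.symm.trans g).trans L
  map_one' := by ext x; simp
  map_mul' g h := by
    ext x
    show L (g (h (L.symm x))) = L (g (L.symm (L (h (L.symm x)))))
    rw [LinearEquiv.symm_apply_apply]

theorem tr_apply (L : V ≃ₗ[F] V') (g : V ≃ₗ[F] V) (x : V') : tr L g x = L (g (L.symm x)) := rfl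

/-- transport of the form -/
def trQ (L : V ≃ₗ[F] V') (Q : QuadraticForm F V) : QuadraticForm F V' := Q.comp L.symm.toLinearMap

theorem trQ_apply (L : V ≃ₗ[F] V') (x : V') : trQ L Q x = Q (L.symm x) := rfl

theorem trQ_polar (L : V ≃ₗ[F] V') (x y : V') : polar (trQ L Q) x y = polar Q (L.symm x) (L.symm y) := by
  simp only [polar, trQ_apply, map_add]

theorem tr_mem_O (L : V ≃ₗ[F] V') {g : V ≃ₗ[F] V} (hg : g ∈ O Q) : tr L g ∈ O (trQ L Q) := by
  intro x
  rw [trQ_apply, tr_apply, LinearEquiv.symm_apply_apply, mem_O.1 hg, trQ_apply]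

theorem tr_commutator (L : V ≃ₗ[F] V') {g : V ≃ₗ[F] V} (hg : g ∈ ⁅O Q, O Q⁆) :
    tr L g ∈ ⁅O (trQ L Q), O (trQ L Q)⁆ := by
  have h1 : ⁅O Q, O Q⁆ ≤ (⁅O (trQ L Q), O (trQ L Q)⁆).comap (tr L) := by
    rw [Subgroup.commutator_le]
    intro a ha b hb
    rw [Subgroup.mem_comap, map_commutatorElement]
    exact Subgroup.commutator_mem_commutator (tr_mem_O L ha) (tr_mem_O L hb)
  exact h1 hg

theorem tr_nondeg (L : V ≃ₗ[F] V') (hQ : Nondeg Q) : Nondeg (trQ L Q) := by
  intro x hx
  have h1 : L.symm x = 0 := by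
    apply hQ
    intro y
    have := hx (L y)
    rwa [trQ_polar, LinearEquiv.symm_apply_apply] at this
  simpa using h1

end transport

theorem nondegenerate_of (hQ : Nondeg Q) : (polarBilin Q).Nondegenerate :=
  ⟨fun x hx => hQ x hx, fun y hy => hQ y fun x => by rw [polar_comm]; exact hy x⟩

/-- A reflection is not in `E Q`. -/
theorem refl_notMem_E (hG : Good Q) [FiniteDimensional F V] {a : V} (ha : Q a ≠ 0) :
    refl Q a ha ∉ E Q := by
  intro hmem
  rw [← hG.commutator_eq_E] at hmem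
  let L : V ≃ₗ[F] (Fin (Module.finrank F V) → F) := (Module.finBasis F V).equivFun
  have h1 := tr_commutator L hmem
  have hnd : Nondeg (trQ L Q) := tr_nondeg L hG.nondeg
  have ha' : trQ L Q (L a) ≠ 0 := by rw [trQ_apply, LinearEquiv.symm_apply_apply]; exact ha
  rw [← map_Omega] at h1
  obtain ⟨g, hg, e⟩ := h1
  have h2 : g = Cfsg.Agent.ClassicalGeometry.Reflection.reflIso (trQ L Q) (L a) ha' := by
    apply isometryHom_injective
    rw [e]
    apply LinearEquiv.ext
    intro x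
    rw [tr_apply, refl_apply, isometryHom_apply,
      Cfsg.Agent.ClassicalGeometry.Reflection.coe_reflIso,
      Cfsg.Agent.ClassicalGeometry.Reflection.reflectionMatrix_mulVec, map_sub, map_smul,
      LinearEquiv.apply_symm_apply, trQ_polar, trQ_apply, LinearEquiv.symm_apply_apply]
  rw [h2] at hg
  exact Cfsg.Agent.ClassicalGeometry.OrthDickson.refl_notMem_commutator (trQ L Q) (nondegenerate_of hnd)
    (Or.inr (by rw [Fintype.card_fin]; have := hG.dim; omega)) (L a) ha' hg

section two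
variable [CharP F 2] [Finite F]

/-- scaling: `r_b` for `b` scaled to the norm of `a` -/
theorem exists_scale {a b : V} (ha : Q a ≠ 0) (hb : Q b ≠ 0) : ∃ c : F, c ≠ 0 ∧ Q (c • b) = Q a := by
  obtain ⟨c, hc⟩ := exists_sqrt' (Q a * (Q b)⁻¹)
  refine ⟨c, ?_, ?_⟩
  · rintro rfl
    rw [mul_zero] at hc
    exact mul_ne_zero ha (inv_ne_zero hb) hc
  · rw [QuadraticMap.map_smul, ← hc, smul_eq_mul, mul_assoc, inv_mul_cancel₀ hb, mul_one]

/-- the product of two reflections is in `E Q` -/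
theorem refl_mul_refl_mem' (hG : Good Q) {a b : V} (ha : Q a ≠ 0) (hb : Q b ≠ 0) :
    refl Q b hb * refl Q a ha ∈ E Q := by
  obtain ⟨c, hc0, hc⟩ := exists_scale ha hb
  have hc' : Q (c • b) ≠ 0 := by rw [hc]; exact ha
  rw [← refl_smul hb hc0 hc']
  exact hG.refl_mul_refl_mem ha hc' hc.symm

/-- `E Q` has index (at most) 2 in `O Q` -/
theorem mem_E_or (hG : Good Q) [FiniteDimensional F V] {a : V} (ha : Q a ≠ 0) {g : V ≃ₗ[F] V}
    (hg : g ∈ O Q) : g ∈ E Q ∨ g * refl Q a ha ∈ E Q := by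
  rw [O_eq_closure hG.nondeg] at hg
  set r := refl Q a ha with hr
  have hrO : r ∈ O Q := refl_mem_O ha
  have hrr : r * r = 1 := refl_mul_self ha
  have hri : r⁻¹ = r := refl_inv ha
  induction hg using Subgroup.closure_induction with
  | mem x hx =>
    rcases hx with ⟨b, hb, rfl⟩ | ⟨u, w, hu, hw, rfl⟩
    · exact Or.inr (refl_mul_refl_mem' hG ha hb)
    · exact Or.inl (siegel_mem_E hu hw)
  | one => exact Or.inl (one_mem _)
  | mul x y _ _ hx hy =>
    have conj : ∀ {z : V ≃ₗ[F] V}, z ∈ E Q → r * z * r ∈ E Q := by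
      intro z hz
      have := conj_mem_E hrO hz
      rwa [hri] at this
    rcases hx with hx | hx <;> rcases hy with hy | hy
    · exact Or.inl (mul_mem hx hy)
    · exact Or.inr (by rw [mul_assoc]; exact mul_mem hx hy)
    · right
      have : x * y * r = (x * r) * (r * y * r) := by
        have e : (x * r) * (r * y * r) = x * (r * r) * y * r := by group
        rw [e, hrr, mul_one]
      rw [this]
      exact mul_mem hx (conj hy)
    · left
      have : x * y = (x * r) * (r * (y * r) * r) := by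
        have e : (x * r) * (r * (y * r) * r) = x * (r * r) * y * (r * r) := by group
        rw [e, hrr, mul_one, mul_one]
      rw [this]
      exact mul_mem hx (conj hy)
  | inv x _ hx =>
    rcases hx with hx | hx
    · exact Or.inl (inv_mem hx)
    · right
      have h1 := inv_mem hx
      rw [mul_inv_rev, hri] at h1
      have h2 := conj_mem_E hrO h1
      rw [hri] at h2
      have : x⁻¹ * r = r * (r * x⁻¹) * r := by rw [← mul_assoc, hrr, one_mul]
      rwa [this]

/-- an element of `O Q` times a reflection, or itself, is in `E Q`; not both -/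
theorem notMem_E_of_mul (hG : Good Q) [FiniteDimensional F V] {a : V} (ha : Q a ≠ 0) {g : V ≃ₗ[F] V}
    (hg : g * refl Q a ha ∈ E Q) : g ∉ E Q := by
  intro h
  apply refl_notMem_E hG ha
  have := mul_mem (inv_mem h) hg
  rwa [inv_mul_cancel_left] at this

/-- the product of two elements of `O Q` outside `E Q` is in `E Q` -/
theorem mul_mem_E (hG : Good Q) [FiniteDimensional F V] {g k : V ≃ₗ[F] V} (hg : g ∈ O Q) (hk : k ∈ O Q)
    (h1 : g ∉ E Q) (h2 : k ∉ E Q) : g * k ∈ E Q := by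
  obtain ⟨x, y, hxy⟩ := hG.exists_hyp
  have ha : Q (x + y) ≠ 0 := by
    rw [Q_add, hxy.left, hxy.right, hxy.pair]; simp
  have g1 := (mem_E_or hG ha hg).resolve_left h1
  have k1 := (mem_E_or hG ha hk).resolve_left h2
  set r := refl Q (x + y) ha with hr
  have hrr : r * r = 1 := refl_mul_self ha
  have hri : r⁻¹ = r := refl_inv ha
  have h3 := conj_mem_E (refl_mem_O ha) k1
  rw [← hr, hri] at h3
  have : g * k = (g * r) * (r * (k * r) * r) := by
    have e : (g * r) * (r * (k * r) * r) = g * (r * r) * k * (r * r) := by group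
    rw [e, hrr, mul_one, mul_one]
  rw [this]
  exact mul_mem g1 h3

end two

/-! ### `P0` -/

section P0
variable [CharP F 2] {u v u' v' : V}

/-- an element commuting with `T u v` is in `P0` -/
theorem mem_P0_of_comm (hQ : Nondeg Q) (h : LF Q u v u' v') {g : ↥(E Q)}
    (h1 : g * tE Q u v = tE Q u v * g) : g ∈ P0 Q u v h.qu h.uv := by
  have h2 : tE Q ((g : V ≃ₗ[F] V) u) ((g : V ≃ₗ[F] V) v) = tE Q u v := by
    rw [← tE_conj, h1, mul_inv_cancel_right]
  have e1 : D (T Q ((g : V ≃ₗ[F] V) u) ((g : V ≃ₗ[F] V) v)) = D (T Q u v) := by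
    have := congrArg Subtype.val h2
    rw [coe_tE, coe_tE] at this
    rw [this]
  rw [D_T hQ (h.ln.map (mem_O' g)), D_T hQ h.ln] at e1
  have hg : g ∈ NL Q u v := by
    apply mem_NL_of h.ln
    · rw [← e1]; exact left_mem_L _ _
    · rw [← e1]; exact right_mem_L _ _
  obtain ⟨d, hd, key⟩ := NL_X h hg
  have hd1 : d = 1 := by
    have h3 := key 1
    rw [one_smul, h1, mul_inv_cancel_right, mul_one] at h3
    have h4 : tE Q u ((d + 1) • v) = 1 := by
      rw [add_smul, one_smul, ← tE_mul h.qu (by rw [polar_smul_right, h.uv, smul_zero]) h.uv, ← h3,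
        tE_mul_self h.qu h.uv]
    have h5 := (tE_smul_eq_one_iff h hQ).1 h4
    rwa [add_eq_zero_iff_eq_neg, CharTwo.neg_eq] at h5
  rw [mem_P0]
  intro c
  have h3 := key c
  rw [hd1, one_mul] at h3
  exact mul_inv_eq_iff_eq_mul.1 h3

/-- elements of `P0` have determinant 1 on the line -/
theorem det_eq_one (hQ : Nondeg Q) (h : LF Q u v u' v') {g : ↥(E Q)} (hg : g ∈ P0 Q u v h.qu h.uv)
    {a b a' b' : F} (ea : (g : V ≃ₗ[F] V) u = a • u + b • v)
    (eb : (g : V ≃ₗ[F] V) v = a' • u + b' • v) : a * b' - b * a' = 1 := by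
  have h1 := mem_P0.1 hg 1
  rw [one_smul] at h1
  have h2 : tE Q ((g : V ≃ₗ[F] V) u) ((g : V ≃ₗ[F] V) v) = tE Q u v := by
    rw [← tE_conj, h1, mul_inv_cancel_right]
  have h3 : tE Q u ((a * b' - b * a') • v) = tE Q u v := by
    rw [← h2]
    apply Subtype.ext
    rw [coe_tE, coe_tE, ea, eb]
    exact (T_det h.ln a b a' b').symm
  have h4 : tE Q u ((a * b' - b * a' + 1) • v) = 1 := by
    rw [add_smul, one_smul, ← tE_mul h.qu (by rw [polar_smul_right, h.uv, smul_zero]) h.uv, h3,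
      tE_mul_self h.qu h.uv]
  have h5 := (tE_smul_eq_one_iff h hQ).1 h4
  rwa [add_eq_zero_iff_eq_neg, CharTwo.neg_eq] at h5

theorem tau_mem_P0 (h : LF Q u v u' v') (c : F) : tau Q u v' c ∈ P0 Q u v h.qu h.uv :=
  mem_P0_of_det h.ln (a := 1) (b := 0) (a' := c) (b' := 1) (by rw [tau_u h]; simp)
    (by rw [tau_v h]; rw [one_smul, add_comm]) (by simp)

theorem tau_mem_P0' (h : LF Q u v u' v') (c : F) : tau Q v u' c ∈ P0 Q u v h.qu h.uv :=
  mem_P0_of_det h.ln (a := 1) (b := c) (a' := 0) (b' := 1) (by rw [tau_v h.swap, one_smul])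
    (by rw [tau_u h.swap]; simp) (by simp)

/-- `P0` modulo transvections fixes the line pointwise -/
theorem exists_tau (hQ : Nondeg Q) (h : LF Q u v u' v') {H : Subgroup ↥(E Q)}
    (h1 : ∀ c, tau Q u v' c ∈ H) (h2 : ∀ c, tau Q v u' c ∈ H) {g : ↥(E Q)}
    (hg : g ∈ P0 Q u v h.qu h.uv) : ∃ s ∈ H, s ∈ P0 Q u v h.qu h.uv ∧
      ((s * g : ↥(E Q)) : V ≃ₗ[F] V) u = u ∧ ((s * g : ↥(E Q)) : V ≃ₗ[F] V) v = v := by
  have two0 : (2 : F) = 0 := CharTwo.two_eq_zero
  -- first column `b ≠ 0`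
  have main : ∀ g : ↥(E Q), g ∈ P0 Q u v h.qu h.uv → ∀ a b : F, b ≠ 0 →
      (g : V ≃ₗ[F] V) u = a • u + b • v → ∃ s ∈ H, s ∈ P0 Q u v h.qu h.uv ∧
      ((s * g : ↥(E Q)) : V ≃ₗ[F] V) u = u ∧ ((s * g : ↥(E Q)) : V ≃ₗ[F] V) v = v := by
    intro g hg a b hb ea
    have hP1 := tau_mem_P0 h (b⁻¹ * (a + 1))
    have hP2 := tau_mem_P0' h b
    set s1 := tau Q u v' (b⁻¹ * (a + 1)) with hs1
    set s2 := tau Q v u' b with hs2
    have e1 : ((s2 * (s1 * g) : ↥(E Q)) : V ≃ₗ[F] V) u = u := by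
      rw [coe_mul', coe_mul', ea, map_add, map_smul, map_smul, hs1, tau_u h, tau_v h, smul_add, smul_smul,
        mul_inv_cancel_left₀ hb, hs2]
      simp only [map_add, map_smul]
      rw [tau_v h.swap, tau_u h.swap]
      have : a • (u + b • v) + (b • v + (a + 1) • (u + b • v)) = u + (2 * a) • u + (2 * (a * b + b)) • v := by
        module
      rw [this, two0]; simp
    have hg2 : s2 * (s1 * g) ∈ P0 Q u v h.qu h.uv := mul_mem hP2 (mul_mem hP1 hg)
    obtain ⟨a', b', eb⟩ := mem_L.1 ((mem_NL.1 (P0_le_NL hQ h hg2) v).2 (right_mem_L _ _))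
    have hdet := det_eq_one hQ h hg2 (a := 1) (b := 0) (by rw [e1]; simp) eb.symm
    rw [one_mul, zero_mul, sub_zero] at hdet
    refine ⟨tau Q u v' a' * (s2 * s1), mul_mem (h1 _) (mul_mem (h2 _) (h1 _)),
      mul_mem (tau_mem_P0 h _) (mul_mem hP2 hP1), ?_, ?_⟩
    · have : tau Q u v' a' * (s2 * s1) * g = tau Q u v' a' * (s2 * (s1 * g)) := by group
      rw [this, coe_mul', e1, tau_u h]
    · have : tau Q u v' a' * (s2 * s1) * g = tau Q u v' a' * (s2 * (s1 * g)) := by group
      rw [this, coe_mul', ← eb, hdet, map_add, map_smul, map_smul, tau_u h, tau_v h, one_smul]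
      have : a' • u + (v + a' • u) = v + (2 * a') • u := by module
      rw [this, two0]; simp
  obtain ⟨a, b, ea⟩ := mem_L.1 ((mem_NL.1 (P0_le_NL hQ h hg) u).2 (left_mem_L _ _))
  by_cases hb : b = 0
  · have ha : a ≠ 0 := by
      rintro rfl
      rw [hb, zero_smul, zero_smul, add_zero] at ea
      have : u = 0 := (g : V ≃ₗ[F] V).injective (by rw [← ea, map_zero])
      exact h.h1.left_ne this
    obtain ⟨s, hs, hs0, k1, k2⟩ := main (tau Q v u' a⁻¹ * g) (mul_mem (tau_mem_P0' h _) hg) a 1 one_ne_zero (by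
      rw [coe_mul', ← ea, hb, zero_smul, add_zero, map_smul, tau_v h.swap, smul_add, smul_smul,
        mul_inv_cancel₀ ha])
    refine ⟨s * tau Q v u' a⁻¹, mul_mem hs (h2 _), mul_mem hs0 (tau_mem_P0' h _), ?_, ?_⟩
    · rw [mul_assoc]; exact k1
    · rw [mul_assoc]; exact k2
  · exact main g hg a b hb ea.symm

end P0

/-! ### Isometries supported on `W` -/

section ext
variable {u v u' v' : V}

/-- the form on `W` -/
def QW (Q : QuadraticForm F V) (u v u' v' : V) : QuadraticForm F ↥(W4 Q u v u' v') :=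
  Q.comp (W4 Q u v u' v').subtype

theorem QW_apply (x : ↥(W4 Q u v u' v')) : QW Q u v u' v' x = Q (x : V) := rfl

theorem QW_polar (x y : ↥(W4 Q u v u' v')) : polar (QW Q u v u' v') x y = polar Q (x : V) (y : V) := rfl

/-- the projection to `W` -/
def pr (h : LF Q u v u' v') : V →ₗ[F] ↥(W4 Q u v u' v') :=
  (pW Q u v u' v').codRestrict _ fun x => In.iff_mem.1 (pW_in h x)

theorem coe_pr (h : LF Q u v u' v') (x : V) : (pr h x : V) = pW Q u v u' v' x := rfl

/-- extension by the identity on the frame -/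
def extL (h : LF Q u v u' v') (f : ↥(W4 Q u v u' v') →ₗ[F] ↥(W4 Q u v u' v')) : V →ₗ[F] V :=
  LinearMap.id - pW Q u v u' v' + (W4 Q u v u' v').subtype ∘ₗ f ∘ₗ pr h

theorem extL_apply (h : LF Q u v u' v') (f : ↥(W4 Q u v u' v') →ₗ[F] ↥(W4 Q u v u' v')) (x : V) :
    extL h f x = x - pW Q u v u' v' x + (f (pr h x) : V) := rfl

theorem pW_extL (h : LF Q u v u' v') (f : ↥(W4 Q u v u' v') →ₗ[F] ↥(W4 Q u v u' v')) (x : V) :
    pW Q u v u' v' (extL h f x) = (f (pr h x) : V) := by
  rw [extL_apply, map_add, map_sub, pW_of_in (pW_in h x), sub_self, zero_add,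
    pW_of_in (In.iff_mem.2 (f (pr h x)).2)]

theorem pr_extL (h : LF Q u v u' v') (f : ↥(W4 Q u v u' v') →ₗ[F] ↥(W4 Q u v u' v')) (x : V) :
    pr h (extL h f x) = f (pr h x) := Subtype.ext (pW_extL h f x)

theorem extL_extL (h : LF Q u v u' v') (f g : ↥(W4 Q u v u' v') →ₗ[F] ↥(W4 Q u v u' v')) (x : V) :
    extL h f (extL h g x) = extL h (f ∘ₗ g) x := by
  rw [extL_apply, pW_extL, pr_extL, extL_apply h g, extL_apply]
  simp

theorem extL_id (h : LF Q u v u' v') (x : V) : extL h LinearMap.id x = x := by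
  rw [extL_apply, LinearMap.id_apply, coe_pr]; simp

/-- extension by the identity on the frame -/
def ext (h : LF Q u v u' v') : (↥(W4 Q u v u' v') ≃ₗ[F] ↥(W4 Q u v u' v')) →* (V ≃ₗ[F] V) where
  toFun g := LinearEquiv.ofLinearMap (extL h g.toLinearMap) (extL h g.symm.toLinearMap)
    (by
      ext x
      rw [LinearMap.comp_apply, extL_extL]
      have : g.toLinearMap ∘ₗ g.symm.toLinearMap = LinearMap.id := by ext y; simp
      rw [this, extL_id]; rfl)
    (by
      ext x
      rw [LinearMap.comp_apply, extL_extL]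
      have : g.symm.toLinearMap ∘ₗ g.toLinearMap = LinearMap.id := by ext y; simp
      rw [this, extL_id]; rfl)
  map_one' := by
    ext x
    exact extL_id h x
  map_mul' g g' := by
    ext x
    exact (extL_extL h g.toLinearMap g'.toLinearMap x).symm

theorem ext_apply (h : LF Q u v u' v') (g : ↥(W4 Q u v u' v') ≃ₗ[F] ↥(W4 Q u v u' v')) (x : V) :
    ext h g x = x - pW Q u v u' v' x + (g (pr h x) : V) := rfl

theorem ext_refl (h : LF Q u v u' v') {a : ↥(W4 Q u v u' v')} (ha : QW Q u v u' v' a ≠ 0)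
    (ha' : Q (a : V) ≠ 0) : ext h (refl (QW Q u v u' v') a ha) = refl Q (a : V) ha' := by
  apply LinearEquiv.ext
  intro x
  rw [ext_apply, refl_apply, refl_apply, QW_polar, QW_apply, coe_pr]
  have h1 : polar Q (a : V) (pW Q u v u' v' x) = polar Q (a : V) x := polar_pW (In.iff_mem.2 a.2) x
  rw [h1, Submodule.coe_sub, Submodule.coe_smul, coe_pr]
  abel

theorem ext_siegel (h : LF Q u v u' v') {s w : ↥(W4 Q u v u' v')} (hs : QW Q u v u' v' s = 0)
    (hw : polar (QW Q u v u' v') s w = 0) (hs' : Q (s : V) = 0) (hw' : polar Q (s : V) (w : V) = 0) :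
    ext h (siegel (QW Q u v u' v') s w hs hw) = siegel Q (s : V) (w : V) hs' hw' := by
  apply LinearEquiv.ext
  intro x
  have h1 : polar Q (s : V) (pW Q u v u' v' x) = polar Q (s : V) x := polar_pW (In.iff_mem.2 s.2) x
  have h2 : polar Q (w : V) (pW Q u v u' v' x) = polar Q (w : V) x := polar_pW (In.iff_mem.2 w.2) x
  rw [ext_apply, siegel_apply, siegel_apply, QW_polar, QW_polar, QW_apply, coe_pr, h1, h2]
  simp only [Submodule.coe_sub, Submodule.coe_add, Submodule.coe_smul, coe_pr]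
  abel

theorem QW_nondeg (hQ : Nondeg Q) (h : LF Q u v u' v') : Nondeg (QW Q u v u' v') := by
  intro x hx
  apply Subtype.ext
  exact eq_zero_of_in hQ h (In.iff_mem.2 x.2) fun y hy => hx ⟨y, In.iff_mem.1 hy⟩

/-- an isometry fixing the frame is an extension -/
theorem exists_ext (h : LF Q u v u' v') {g : V ≃ₗ[F] V} (hg : g ∈ O Q) (h1 : g u = u) (h2 : g v = v)
    (h3 : g u' = u') (h4 : g v' = v') : ∃ k : ↥(W4 Q u v u' v') ≃ₗ[F] ↥(W4 Q u v u' v'),
      k ∈ O (QW Q u v u' v') ∧ ext h k = g := by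
  have key : ∀ f : V ≃ₗ[F] V, f ∈ O Q → f u = u → f v = v → f u' = u' → f v' = v' →
      ∀ x ∈ W4 Q u v u' v', f x ∈ W4 Q u v u' v' := by
    intro f hf f1 f2 f3 f4 x hx
    have hx' := In.iff_mem.2 hx
    refine In.iff_mem.1 ⟨?_, ?_, ?_, ?_⟩
    · have := polar_map hf u x; rw [f1] at this; rw [this, hx'.u]
    · have := polar_map hf u' x; rw [f3] at this; rw [this, hx'.u']
    · have := polar_map hf v x; rw [f2] at this; rw [this, hx'.v]
    · have := polar_map hf v' x; rw [f4] at this; rw [this, hx'.v']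
  have k1 := key g hg h1 h2 h3 h4
  have k2 := key g⁻¹ (inv_mem hg) (by show g.symm u = u; rw [LinearEquiv.symm_apply_eq, h1])
    (by show g.symm v = v; rw [LinearEquiv.symm_apply_eq, h2])
    (by show g.symm u' = u'; rw [LinearEquiv.symm_apply_eq, h3])
    (by show g.symm v' = v'; rw [LinearEquiv.symm_apply_eq, h4])
  let k : ↥(W4 Q u v u' v') ≃ₗ[F] ↥(W4 Q u v u' v') :=
    LinearEquiv.ofLinearMap (g.toLinearMap.restrict k1) ((g⁻¹ : V ≃ₗ[F] V).toLinearMap.restrict k2)
      (by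
        ext x
        show g (g.symm (x : V)) = (x : V)
        rw [LinearEquiv.apply_symm_apply])
      (by
        ext x
        show g.symm (g (x : V)) = (x : V)
        rw [LinearEquiv.symm_apply_apply])
  have hk : ∀ x : ↥(W4 Q u v u' v'), (k x : V) = g (x : V) := fun x => rfl
  refine ⟨k, ?_, ?_⟩
  · intro x
    rw [QW_apply, QW_apply, hk]
    exact mem_O.1 hg x
  · apply LinearEquiv.ext
    intro x
    rw [ext_apply, hk, coe_pr]
    have e1 : g (x - pW Q u v u' v' x) = x - pW Q u v u' v' x := by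
      have e2 : x - pW Q u v u' v' x = polar Q u' x • u + polar Q u x • u' +
          polar Q v' x • v + polar Q v x • v' := by
        rw [pW_apply]; module
      rw [e2]
      simp only [map_add, map_smul, h1, h2, h3, h4]
    rw [← e1, ← map_add, sub_add_cancel]

end ext

/-! ### Elements fixing the line pointwise -/

section fix
variable [CharP F 2] {u v u' v' : V}

/-- `P` as a subgroup of the linear group -/
noncomputable def PV (h : LF Q u v u' v') : Subgroup (V ≃ₗ[F] V) :=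
  (P Q u v h.qu h.uv).map (E Q).subtype

theorem mem_PV {h : LF Q u v u' v'} {g : V ≃ₗ[F] V} :
    g ∈ PV h ↔ ∃ k ∈ P Q u v h.qu h.uv, (k : V ≃ₗ[F] V) = g := Iff.rfl

theorem coe_mem_PV {h : LF Q u v u' v'} {k : ↥(E Q)} :
    (k : V ≃ₗ[F] V) ∈ PV h ↔ k ∈ P Q u v h.qu h.uv := by
  rw [mem_PV]
  constructor
  · rintro ⟨k', hk', e⟩
    rwa [← Subtype.ext e]
  · exact fun hk => ⟨k, hk, rfl⟩

theorem PV_conj (h : LF Q u v u' v') {g : V ≃ₗ[F] V} (hg : g ∈ O Q) (h1 : g u = u) (h2 : g v = v)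
    {z : V ≃ₗ[F] V} (hz : z ∈ PV h) : g * z * g⁻¹ ∈ PV h := by
  obtain ⟨k, hk, rfl⟩ := mem_PV.1 hz
  have hle : P Q u v h.qu h.uv ≤ ((PV h).comap (MulAut.conj g).toMonoidHom).comap (E Q).subtype := by
    conv_lhs => rw [P]
    rw [Subgroup.closure_le]
    rintro x ⟨hx, hox⟩
    show g * (x : V ≃ₗ[F] V) * g⁻¹ ∈ PV h
    have hE : g * (x : V ≃ₗ[F] V) * g⁻¹ ∈ E Q := conj_mem_E hg x.2
    refine mem_PV.2 ⟨⟨_, hE⟩, mem_P_of_odd ?_ ?_, rfl⟩
    · rw [mem_P0]
      intro c
      apply Subtype.ext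
      show g * (x : V ≃ₗ[F] V) * g⁻¹ * T Q u (c • v) = T Q u (c • v) * (g * (x : V ≃ₗ[F] V) * g⁻¹)
      have e1 : g * T Q u (c • v) * g⁻¹ = T Q u (c • v) := by rw [T_conj hg, h1, map_smul, h2]
      have e2 : (x : V ≃ₗ[F] V) * T Q u (c • v) = T Q u (c • v) * (x : V ≃ₗ[F] V) :=
        congrArg Subtype.val (mem_P0.1 hx c)
      have e3 : g⁻¹ * T Q u (c • v) = T Q u (c • v) * g⁻¹ := by
        rw [inv_mul_eq_iff_eq_mul, ← mul_assoc, e1]
      have e4 : g * T Q u (c • v) = T Q u (c • v) * g := by rw [← mul_inv_eq_iff_eq_mul]; exact e1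
      calc g * (x : V ≃ₗ[F] V) * g⁻¹ * T Q u (c • v) = g * ((x : V ≃ₗ[F] V) * (g⁻¹ * T Q u (c • v))) := by group
        _ = g * ((x : V ≃ₗ[F] V) * T Q u (c • v)) * g⁻¹ := by rw [e3]; group
        _ = (g * T Q u (c • v)) * (x : V ≃ₗ[F] V) * g⁻¹ := by rw [e2]; group
        _ = T Q u (c • v) * (g * (x : V ≃ₗ[F] V) * g⁻¹) := by rw [e4]; group
    · rw [Subgroup.orderOf_mk, orderOf_conj', Subgroup.orderOf_coe]
      exact hox
  exact hle hk

variable [Finite F]

/-- the product of two reflections supported on `W` is in `P` -/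
theorem refl_mul_mem_PV (hP : Par Q) (h : LF Q u v u' v') {a b : V} (hWa : In Q u v u' v' a)
    (hWb : In Q u v u' v' b) (ha : Q a ≠ 0) (hb : Q b ≠ 0) : refl Q b hb * refl Q a ha ∈ PV h := by
  have := hP.fd
  obtain ⟨c, hc0, hc⟩ := exists_scale ha hb
  have hc' : Q (c • b) ≠ 0 := by rw [hc]; exact ha
  rw [← refl_smul hb hc0 hc']
  have hWb' := hWb.smul c
  generalize c • b = d at hc hc' hWb' ⊢
  have hE : refl Q d hc' * refl Q a ha ∈ E Q := hP.good.refl_mul_refl_mem ha hc' hc.symm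
  by_cases had : polar Q d a = 0
  · -- a Siegel element
    have hs : Q (a + d) = 0 := by
      rw [Q_add, hc, polar_comm Q a d, had, add_zero, CharTwo.add_self_eq_zero]
    have hsw : polar Q (a + d) ((Q a)⁻¹ • a) = 0 := by
      rw [polar_smul_right, polar_add_left, polar_self2, had, add_zero, smul_zero]
    have e : refl Q d hc' * refl Q a ha = (tE Q (a + d) ((Q a)⁻¹ • a) : V ≃ₗ[F] V) := by
      apply LinearEquiv.ext
      intro x
      show refl Q d hc' (refl Q a ha x) = T Q (a + d) ((Q a)⁻¹ • a) x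
      rw [T_apply2 hs hsw, refl_apply2, refl_apply2, hc, QuadraticMap.map_smul]
      simp only [polar_add_right, polar_add_left, polar_smul_right, polar_smul_left, had, smul_eq_mul,
        mul_zero, add_zero]
      have two0 : (2 : F) = 0 := CharTwo.two_eq_zero
      have e1 : (Q a)⁻¹ * (Q a)⁻¹ * Q a = (Q a)⁻¹ := by rw [mul_assoc, inv_mul_cancel₀ ha, mul_one]
      rw [e1]
      set l := (Q a)⁻¹
      set p := polar Q a x
      set q := polar Q d x
      have : x + (p + q) • l • a + (l * p + l * (p + q)) • (a + d) =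
          x + (l * p) • a + (l * q) • d + (2 : F) • ((l * q + l * p) • a + (l * p) • d) := by module
      rw [this, two0, zero_smul, add_zero]
    rw [e, coe_mem_PV]
    exact TW_mem_P hP h (hWa.add hWb') (hWa.smul _) hs hsw
  · rw [show refl Q d hc' * refl Q a ha = ((⟨_, hE⟩ : ↥(E Q)) : V ≃ₗ[F] V) from rfl, coe_mem_PV]
    refine mem_P_of_odd (mem_P0_of_fix h.qu h.uv ?_ ?_) ?_
    · show refl Q d hc' (refl Q a ha u) = u
      rw [refl_fix ha hWa.ru, refl_fix hc' hWb'.ru]
    · show refl Q d hc' (refl Q a ha v) = v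
      rw [refl_fix ha hWa.rv, refl_fix hc' hWb'.rv]
    · rw [Subgroup.orderOf_mk]
      exact odd_refl_mul hc' ha had

/-- an element of `E Q` fixing the frame is in `P` -/
theorem mem_P_of_frame (hP : Par Q) (h : LF Q u v u' v') {g : ↥(E Q)} (h1 : (g : V ≃ₗ[F] V) u = u)
    (h2 : (g : V ≃ₗ[F] V) v = v) (h3 : (g : V ≃ₗ[F] V) u' = u') (h4 : (g : V ≃ₗ[F] V) v' = v') :
    g ∈ P Q u v h.qu h.uv := by
  have := hP.fd
  obtain ⟨k, hk, e⟩ := exists_ext h (mem_O' g) h1 h2 h3 h4
  obtain ⟨a, haW, ha⟩ := (W4_ns hP.nd h).exists_nonsing (by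
    have := W4_dim Q u v u' v'; have := hP.d8; omega)
  have haI := In.iff_mem.2 haW
  set r := refl Q a ha with hr
  have hrO : r ∈ O Q := refl_mem_O ha
  have hrr : r * r = 1 := refl_mul_self ha
  have hri : r⁻¹ = r := refl_inv ha
  have conj : ∀ {z : V ≃ₗ[F] V}, z ∈ PV h → r * z * r ∈ PV h := by
    intro z hz
    have := PV_conj h hrO (refl_fix ha haI.ru) (refl_fix ha haI.rv) hz
    rwa [hri] at this
  have main : ext h k ∈ PV h ∨ ext h k * r ∈ PV h := by
    rw [O_eq_closure (QW_nondeg hP.nd h)] at hk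
    clear e
    induction hk using Subgroup.closure_induction with
    | mem x hx =>
      rcases hx with ⟨b, hb, rfl⟩ | ⟨s, w, hs, hw, rfl⟩
      · right
        rw [ext_refl h hb hb]
        exact refl_mul_mem_PV hP h haI (In.iff_mem.2 b.2) ha hb
      · left
        have hs' : Q (s : V) = 0 := hs
        have hw' : polar Q (s : V) (w : V) = 0 := hw
        rw [ext_siegel h hs hw hs' hw', ← T_eq hs' hw', ← coe_tE, coe_mem_PV]
        exact TW_mem_P hP h (In.iff_mem.2 s.2) (In.iff_mem.2 w.2) hs' hw'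
    | one => left; rw [map_one]; exact one_mem _
    | mul x y _ _ hx hy =>
      rw [map_mul]
      set x := ext h x
      set y := ext h y
      rcases hx with hx | hx <;> rcases hy with hy | hy
      · exact Or.inl (mul_mem hx hy)
      · exact Or.inr (by rw [mul_assoc]; exact mul_mem hx hy)
      · right
        have : x * y * r = (x * r) * (r * y * r) := by
          have e : (x * r) * (r * y * r) = x * (r * r) * y * r := by group
          rw [e, hrr, mul_one]
        rw [this]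
        exact mul_mem hx (conj hy)
      · left
        have : x * y = (x * r) * (r * (y * r) * r) := by
          have e : (x * r) * (r * (y * r) * r) = x * (r * r) * y * (r * r) := by group
          rw [e, hrr, mul_one, mul_one]
        rw [this]
        exact mul_mem hx (conj hy)
    | inv x _ hx =>
      rw [map_inv]
      set x := ext h x
      rcases hx with hx | hx
      · exact Or.inl (inv_mem hx)
      · right
        have h1 := inv_mem hx
        rw [mul_inv_rev, hri] at h1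
        have h2 := conj h1
        have : x⁻¹ * r = r * (r * x⁻¹) * r := by rw [← mul_assoc, hrr, one_mul]
        rwa [this]
  rw [e] at main
  rcases main with hm | hm
  · exact coe_mem_PV.1 hm
  · exfalso
    obtain ⟨z, -, hz⟩ := mem_PV.1 hm
    exact notMem_E_of_mul hP.good ha (g := (g : V ≃ₗ[F] V)) (by rw [← hr, ← hz]; exact z.2) g.2

/-- an element of `E Q` fixing the line pointwise is in `P` -/
theorem mem_P_of_fix (hP : Par Q) (h : LF Q u v u' v') {g : ↥(E Q)} (h1 : (g : V ≃ₗ[F] V) u = u)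
    (h2 : (g : V ≃ₗ[F] V) v = v) : g ∈ P Q u v h.qu h.uv := by
  -- move `u'` back
  have a1 : polar Q u ((g : V ≃ₗ[F] V) u') = 1 := by
    have := polar_map' g u u'; rw [h1] at this; rw [this, h.uu']
  have a2 : polar Q v ((g : V ≃ₗ[F] V) u') = 0 := by
    have := polar_map' g v u'; rw [h2] at this; rw [this, h.vu']
  have hyp1 : Hyp Q u ((g : V ≃ₗ[F] V) u') := ⟨h.qu, by rw [Q_map, h.qu'], a1⟩
  set w := u' - (g : V ≃ₗ[F] V) u' with hw
  have w1 : polar Q u w = 0 := by rw [hw, polar_sub_right, a1, h.uu', sub_self]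
  have w2 : polar Q v w = 0 := by rw [hw, polar_sub_right, a2, h.vu', sub_self]
  have hs1 : tE Q u w ∈ P Q u v h.qu h.uv := QL_le_P hP h (tE_mem_QL h.ln w1 w2)
  set g1 := tE Q u w * g with hg1
  have b1 : (g1 : V ≃ₗ[F] V) u = u := by
    rw [hg1, coe_mul', h1, coe_tE]; exact T_fix h.uu (polar_zero_of_comm w1)
  have b2 : (g1 : V ≃ₗ[F] V) v = v := by
    rw [hg1, coe_mul', h2, coe_tE]; exact T_fix h.uv (polar_zero_of_comm w2)
  have b3 : (g1 : V ≃ₗ[F] V) u' = u' := by
    rw [hg1, coe_mul', coe_tE]; exact T_partner hyp1 h.h1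
  -- move `v'` back
  have c1 : polar Q v ((g1 : V ≃ₗ[F] V) v') = 1 := by
    have := polar_map' g1 v v'; rw [b2] at this; rw [this, h.vv']
  have c2 : polar Q u ((g1 : V ≃ₗ[F] V) v') = 0 := by
    have := polar_map' g1 u v'; rw [b1] at this; rw [this, h.uv']
  have c3 : polar Q u' ((g1 : V ≃ₗ[F] V) v') = 0 := by
    have := polar_map' g1 u' v'; rw [b3] at this; rw [this, h.u'v']
  have hyp2 : Hyp Q v ((g1 : V ≃ₗ[F] V) v') := ⟨h.qv, by rw [Q_map, h.qv'], c1⟩
  set z := v' - (g1 : V ≃ₗ[F] V) v' with hz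
  have z1 : polar Q v z = 0 := by rw [hz, polar_sub_right, c1, h.vv', sub_self]
  have z2 : polar Q u z = 0 := by rw [hz, polar_sub_right, c2, h.uv', sub_self]
  have z3 : polar Q u' z = 0 := by rw [hz, polar_sub_right, c3, h.u'v', sub_self]
  have hs2 : tE Q v z ∈ P Q u v h.qu h.uv := QL_le_P hP h (tE_mem_QL' h.ln z2 z1)
  have hg2 : tE Q v z * g1 ∈ P Q u v h.qu h.uv := by
    apply mem_P_of_frame hP h
    · rw [coe_mul', b1, coe_tE]; exact T_fix h.vu (polar_zero_of_comm z2)
    · rw [coe_mul', b2, coe_tE]; exact T_fix h.vv (polar_zero_of_comm z1)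
    · rw [coe_mul', b3, coe_tE]; exact T_fix h.vu' (polar_zero_of_comm z3)
    · rw [coe_mul', coe_tE]; exact T_partner hyp2 h.h2
  have hg1P : g1 ∈ P Q u v h.qu h.uv := by
    have := mul_mem (inv_mem hs2) hg2
    rwa [inv_mul_cancel_left] at this
  have := mul_mem (inv_mem hs1) hg1P
  rwa [hg1, inv_mul_cancel_left] at this

/-- `P0 ≤ P ⊔ R u ⊔ R v` -/
theorem P0_le (hP : Par Q) (h : LF Q u v u' v') :
    P0 Q u v h.qu h.uv ≤ P Q u v h.qu h.uv ⊔ R Q u h.qu ⊔ R Q v h.qv := by
  intro g hg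
  obtain ⟨s, hs, -, h1, h2⟩ := exists_tau hP.nd h (H := P Q u v h.qu h.uv ⊔ R Q u h.qu ⊔ R Q v h.qv)
    (fun c => (le_sup_right.trans le_sup_left : R Q u h.qu ≤ _)
      (tE_mem_R h.qu (by rw [polar_smul_right, h.uv', smul_zero])))
    (fun c => (le_sup_right : R Q v h.qv ≤ _)
      (tE_mem_R h.qv (by rw [polar_smul_right, h.vu', smul_zero]))) hg
  have h3 := (le_sup_left.trans le_sup_left : P Q u v h.qu h.uv ≤ P Q u v h.qu h.uv ⊔ R Q u h.qu ⊔ R Q v h.qv)
    (mem_P_of_fix hP h h1 h2)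
  have := mul_mem (inv_mem hs) h3
  rwa [inv_mul_cancel_left] at this

/-- `P0 ≤ P` if `q > 2` -/
theorem P0_le_P (hP : Par Q) (h : LF Q u v u' v') {θ : F} (hθ : θ ≠ 0) (hθ' : θ ≠ 1) :
    P0 Q u v h.qu h.uv ≤ P Q u v h.qu h.uv := by
  intro g hg
  have hsw : P Q v u h.qv h.vu ≤ P Q u v h.qu h.uv := by
    rw [P, Subgroup.closure_le]
    rintro x ⟨hx, hox⟩
    refine mem_P_of_odd (mem_P0_of_comm hP.nd h ?_) hox
    have := mem_P0.1 hx 1
    rw [one_smul] at this
    rwa [tE_swap h.qv h.qu h.vu] at this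
  obtain ⟨s, hs, -, h1, h2⟩ := exists_tau hP.nd h (H := P Q u v h.qu h.uv)
    (fun c => tau_mem_P hP h hθ hθ' c) (fun c => hsw (tau_mem_P hP h.swap hθ hθ' c)) hg
  have := mul_mem (inv_mem hs) (mem_P_of_fix hP h h1 h2)
  rwa [inv_mul_cancel_left] at this

end fix

end Cfsg.Agent.OddHalf.Orth
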