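import Cfsg.Agent.OddHalf.Orth.ExBase

/-!
# The doubled root groups are abelian (ODD D7, `K = Ω(V)`)

* `Fr3` : a totally singular plane with a dual basis;
* `PreD.pw` : the pair `⟨u,v⟩`, `⟨u,w⟩` satisfies `WabPair.PW`;
* `PreD.dbl_big`, `PreD.dbl_two`.
-/

set_option autoImplicit false
set_option linter.unusedSectionVars false

namespace Cfsg.Agent.OddHalf.Orth.ExBase

open QuadraticMap Cfsg.Agent.LieClassical.OrthCore Cfsg.Agent.LieClassical.OrthTrans
  Cfsg.Agent.ClassicalGeometry.OrthAutBasic Cfsg.Agent.ClassicalGeometry.OrthAutRoot Cfsg.Agent.OddHalf.Orth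
  Cfsg.Agent.OddHalf.Orth.Star Cfsg.Agent.OddHalf.Orth.Face Cfsg.Agent.OddHalf.Orth.FlagDef
  Cfsg.Agent.OddHalf.Orth.WabPair
open Cfsg.Agent.OddHalf.D7Ex.PreW (d d_conj d_mul comm_of_d eq_t)

variable {F V : Type*} [Field F] [AddCommGroup V] [Module F V] {Q : QuadraticForm F V}
variable {G : Type*} [Group G] {t : G} {j : ↥(E Q) →* G} {W : V → V → Subgroup G}

/-- A totally singular plane with a dual basis. -/
structure Fr3 (Q : QuadraticForm F V) (u v w u' v' w' : V) : Prop where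
  l3 : Ln3 Q u v w
  uu : polar Q u u' = 1
  uv : polar Q u v' = 0
  uw : polar Q u w' = 0
  vu : polar Q v u' = 0
  vv : polar Q v v' = 1
  vw : polar Q v w' = 0
  wu : polar Q w u' = 0
  wv : polar Q w v' = 0
  ww : polar Q w w' = 1
  qu : Q u' = 0
  qv : Q v' = 0
  qw : Q w' = 0

theorem Ln3.swap23 {u v w : V} (h : Ln3 Q u v w) : Ln3 Q u w v where
  uv := h.uw
  uw := h.uv
  perp := by rw [polar_comm]; exact h.perp
  ind := by
    intro hv
    obtain ⟨a, b, e⟩ := mem_L.1 hv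
    by_cases hb : b = 0
    · subst hb
      rw [zero_smul, add_zero] at e
      exact h.uv.ind a e.symm
    · apply h.ind
      refine mem_L.2 ⟨-(b⁻¹ * a), b⁻¹, ?_⟩
      rw [← e, smul_add, smul_smul, smul_smul, inv_mul_cancel₀ hb, one_smul, neg_smul]
      abel

namespace Fr3

variable {u v w u' v' w' : V}

theorem swap (h : Fr3 Q u v w u' v' w') : Fr3 Q u w v u' w' v' :=
  ⟨Ln3.swap23 h.l3, h.uu, h.uw, h.uv, h.wu, h.ww, h.wv, h.vu, h.vw, h.vv, h.qu, h.qw, h.qv⟩

/-- the double perp -/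
theorem dperp (h : Fr3 Q u v w u' v' w') (hQ : Nondeg Q) {y : V}
    (hy : ∀ x, polar Q u x = 0 → polar Q v x = 0 → polar Q w x = 0 → polar Q x y = 0) :
    y = polar Q y u' • u + polar Q y v' • v + polar Q y w' • w := by
  have key : ∀ x, polar Q y x = polar Q (polar Q y u' • u + polar Q y v' • v + polar Q y w' • w) x := by
    intro x
    have h1 := hy (x - polar Q u x • u' - polar Q v x • v' - polar Q w x • w')
      (by simp only [polar_sub_right, polar_smul_right, h.uu, h.uv, h.uw]; simp)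
      (by simp only [polar_sub_right, polar_smul_right, h.vu, h.vv, h.vw]; simp)
      (by simp only [polar_sub_right, polar_smul_right, h.wu, h.wv, h.ww]; simp)
    rw [polar_comm] at h1
    simp only [polar_sub_right, polar_smul_right, smul_eq_mul] at h1
    simp only [polar_add_left, polar_smul_left, smul_eq_mul]
    linear_combination h1
  have h2 : ∀ x, polar Q (y - (polar Q y u' • u + polar Q y v' • v + polar Q y w' • w)) x = 0 := by
    intro x
    rw [polar_sub_left, ← key, sub_self]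
  exact sub_eq_zero.1 (hQ _ h2)

end Fr3

/-- The long root group in `G`. -/
noncomputable def XG (Q : QuadraticForm F V) (j : ↥(E Q) →* G) (u v : V) (hu : Q u = 0) (huv : polar Q u v = 0) : Subgroup G :=
  (X Q u v hu huv).map j

theorem mem_XG {u v : V} {hu : Q u = 0} {huv : polar Q u v = 0} {g : G} :
    g ∈ XG Q j u v hu huv ↔ ∃ c : F, g = j (tE Q u (c • v)) := by
  constructor
  · rintro ⟨k, hk, rfl⟩
    obtain ⟨c, rfl⟩ := mem_X.1 hk
    exact ⟨c, rfl⟩
  · rintro ⟨c, rfl⟩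
    exact ⟨_, mem_X.2 ⟨c, rfl⟩, rfl⟩

namespace PreD

variable {u v w u' v' w' : V} [CharP F 2]

/-- `K2` for two lines in a totally singular plane -/
theorem k2 (D : PreD Q t j W) (hK : KFacts Q) (h : Fr3 Q u v w u' v' w') {c : G} (hc : c * t = t * c)
    (h1 : ∀ x, polar Q u x = 0 → c * j (tE Q u x) = j (tE Q u x) * c)
    (h2 : ∀ x, polar Q u x = 0 → polar Q v x = 0 → polar Q w x = 0 → c * j (tE Q v x) = j (tE Q v x) * c) :
    ∃ x ∈ XG Q j u v h.l3.uv.qu h.l3.uv.perp, ∃ y ∈ XG Q j u w h.l3.uw.qu h.l3.uw.perp,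
      c = x * y ∨ c = t * (x * y) := by
  obtain ⟨y, hy, hcy⟩ := D.toSit.cR hK hc h.l3.uv.qu h.l3.uv.ne h1
  have hqv := h.l3.uv.qw
  have hvu := h.l3.uv.perp'
  have h3 : ∀ x, polar Q u x = 0 → polar Q v x = 0 → polar Q w x = 0 →
      ∃ a : F, polar Q v y • x + (polar Q x y + Q x * polar Q v y) • v = a • u := by
    intro x hx1 hx2 hx3
    have e1 : j (tE Q u y) * j (tE Q v x) = j (tE Q v x) * j (tE Q u y) := by
      rcases hcy with e | e
      · rw [← e]; exact h2 x hx1 hx2 hx3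
      · have h4 := h2 x hx1 hx2 hx3
        rw [e] at h4
        have h5 := D.tj (tE Q v x)
        calc j (tE Q u y) * j (tE Q v x) = t * (t * j (tE Q u y) * j (tE Q v x)) := by
              rw [mul_assoc t, ← mul_assoc t t, D.tt, one_mul]
          _ = t * (j (tE Q v x) * (t * j (tE Q u y))) := by rw [h4]
          _ = (t * j (tE Q v x)) * t * j (tE Q u y) := by group
          _ = (j (tE Q v x) * t) * t * j (tE Q u y) := by rw [h5]
          _ = j (tE Q v x) * (t * t) * j (tE Q u y) := by group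
          _ = _ := by rw [D.tt, mul_one]
    have e2 : tE Q v x * tE Q u y * (tE Q v x)⁻¹ = tE Q u y := by
      apply D.inj
      rw [map_mul, map_mul, map_inv, ← e1, mul_inv_cancel_right]
    rw [tE_conj, coe_tE] at e2
    have e3 : T Q v x u = u := T_fix hvu (by rw [polar_comm]; exact hx1)
    rw [e3] at e2
    have e4 : polar Q u (T Q v x y) = 0 := by
      have : polar Q (T Q v x u) (T Q v x y) = polar Q u y := polar_map' (tE Q v x) u y
      rw [e3] at this
      rw [this, hy]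
    obtain ⟨a, ha⟩ := (tE_eq_iff hK.nondeg h.l3.uv.qu h.l3.uv.ne e4 hy).1 e2
    obtain ⟨z, hz⟩ : ∃ z, z = polar Q v y • x + (polar Q x y + Q x * polar Q v y) • v := ⟨_, rfl⟩
    refine ⟨-a, ?_⟩
    rw [← hz]
    rw [T_apply2 hqv hx2, add_assoc y, ← hz, add_assoc] at ha
    rw [neg_smul]
    exact eq_neg_of_add_eq_zero_left (left_eq_add.1 ha)
  have hvy : polar Q v y = 0 := by
    by_contra h0
    obtain ⟨a, ha⟩ := h3 w h.l3.uw.perp h.l3.perp (polar_self_of_sing h.l3.uw.qw)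
    apply h.l3.ind
    refine mem_L.2 ⟨(polar Q v y)⁻¹ * a, -((polar Q v y)⁻¹ * (polar Q w y + Q w * polar Q v y)), ?_⟩
    rw [mul_smul, ← ha, smul_add, smul_smul, inv_mul_cancel₀ h0, one_smul, neg_smul, smul_smul]
    abel
  have hxy : ∀ x, polar Q u x = 0 → polar Q v x = 0 → polar Q w x = 0 → polar Q x y = 0 := by
    intro x hx1 hx2 hx3
    obtain ⟨a, ha⟩ := h3 x hx1 hx2 hx3
    rw [hvy, zero_smul, zero_add, mul_zero, add_zero] at ha
    have h4 : (-a) • u + polar Q x y • v = 0 := by rw [ha, neg_smul]; abel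
    exact (h.l3.uv.coeff h4).2
  have hyy := h.dperp hK.nondeg hxy
  obtain ⟨a, ha⟩ : ∃ a, a = polar Q y u' := ⟨_, rfl⟩
  obtain ⟨b, hb⟩ : ∃ b, b = polar Q y v' := ⟨_, rfl⟩
  obtain ⟨e, he⟩ : ∃ e, e = polar Q y w' := ⟨_, rfl⟩
  rw [← ha, ← hb, ← he] at hyy
  have hub : polar Q u (b • v) = 0 := by rw [polar_smul_right, h.l3.uv.perp, smul_zero]
  have hue : polar Q u (e • w) = 0 := by rw [polar_smul_right, h.l3.uw.perp, smul_zero]
  have hjy : j (tE Q u y) = j (tE Q u (b • v)) * j (tE Q u (e • w)) := by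
    rw [D.toSit.rmul h.l3.uv.qu hub hue, hyy]
    have e1 : a • u + b • v + e • w = (b • v + e • w) + a • u := by abel
    rw [e1, tE_add_smul h.l3.uv.qu (by rw [polar_add_right, hub, hue, add_zero])]
  refine ⟨_, mem_XG.2 ⟨b, rfl⟩, _, mem_XG.2 ⟨e, rfl⟩, ?_⟩
  rw [← hjy]
  exact hcy

/-- the action of the third root group -/
theorem Tw' (h : Fr3 Q u v w u' v' w') (c b : F) : T Q v (c • w') (b • w) = b • w + (c * b) • v := by
  have hp : polar Q v (c • w') = 0 := by rw [polar_smul_right, h.vw, smul_zero]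
  rw [T_apply2 h.l3.uv.qw hp, polar_smul_right, h.l3.perp, polar_smul_left, polar_smul_right,
    polar_comm Q w' w, h.ww, QuadraticMap.map_smul, h.qw]
  simp

theorem Tu' (h : Fr3 Q u v w u' v' w') (c : F) : T Q v (c • w') u = u :=
  T_fix h.l3.uv.perp' (by rw [polar_smul_left, polar_comm, h.uw, smul_zero])

theorem conj_w (h : Fr3 Q u v w u' v' w') (c b : F) :
    tE Q v (c • w') * tE Q u (b • w) * (tE Q v (c • w'))⁻¹ = tE Q u (b • w + (c * b) • v) := by
  rw [tE_conj, coe_tE, Tu' h, Tw' h]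

theorem smul_uv (h : Ln Q u v) (c : F) : polar Q u (c • v) = 0 := by
  rw [polar_smul_right, h.perp, smul_zero]

theorem tE_comm_uv (h : Ln Q u v) {x : V} (hx : polar Q u x = 0) :
    tE Q u x * tE Q u v = tE Q u v * tE Q u x := tE_comm h.qu hx h.perp

/-- `tE v x` commutes with `tE u v` -/
theorem tE_comm_v (h : Ln Q u v) {x : V} (hx : polar Q v x = 0) :
    tE Q v x * tE Q u v = tE Q u v * tE Q v x := by
  rw [tE_swap h.qu h.qw h.perp]
  exact tE_comm h.qw hx h.perp'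

theorem pw (D : PreD Q t j W) (hK : KFacts Q) (h : Fr3 Q u v w u' v' w') :
    PW t (XG Q j u v h.l3.uv.qu h.l3.uv.perp) (XG Q j u w h.l3.uw.qu h.l3.uw.perp)
      (XG Q j v w' h.l3.uv.qw h.vw) (W u v) (W u w) where
  tt := D.tt
  tr x hx := by obtain ⟨c, rfl⟩ := mem_XG.1 hx; exact D.tj _
  ts x hx := by obtain ⟨c, rfl⟩ := mem_XG.1 hx; exact D.tj _
  sqr x hx := by
    obtain ⟨c, rfl⟩ := mem_XG.1 hx
    rw [← map_mul, tE_mul_self h.l3.uv.qu (smul_uv h.l3.uv c), map_one]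
  sqs x hx := by
    obtain ⟨c, rfl⟩ := mem_XG.1 hx
    rw [← map_mul, tE_mul_self h.l3.uw.qu (smul_uv h.l3.uw c), map_one]
  XWr x hx := by obtain ⟨c, rfl⟩ := mem_XG.1 hx; exact D.X_le c h.l3.uv
  XWs x hx := by obtain ⟨c, rfl⟩ := mem_XG.1 hx; exact D.X_le c h.l3.uw
  Wsqr a ha := mem_XG.2 (D.sqX h.l3.uv ha)
  Wsqs a ha := mem_XG.2 (D.sqX h.l3.uw ha)
  brkr a ha := mem_XG.2 (D.phi h.l3.uv ha)
  brks a ha := mem_XG.2 (D.phi h.l3.uw ha)
  centr a ha e := mem_XG.2 (D.fix h.l3.uv ha e.symm)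
  cents a ha e := mem_XG.2 (D.fix h.l3.uw ha e.symm)
  surjr x hx := by obtain ⟨c, rfl⟩ := mem_XG.1 hx; exact D.surj c h.l3.uv
  surjs x hx := by obtain ⟨c, rfl⟩ := mem_XG.1 hx; exact D.surj c h.l3.uw
  rr a ha x hx := by
    obtain ⟨c, rfl⟩ := mem_XG.1 hx
    exact (D.cent h.l3.uv ha (tE_comm_uv h.l3.uv (smul_uv h.l3.uv c))).symm
  rs a ha x hx := by
    obtain ⟨c, rfl⟩ := mem_XG.1 hx
    exact (D.cent h.l3.uv ha (tE_comm_uv h.l3.uv (smul_uv h.l3.uw c))).symm
  sr a ha x hx := by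
    obtain ⟨c, rfl⟩ := mem_XG.1 hx
    exact (D.cent h.l3.uw ha (tE_comm_uv h.l3.uw (smul_uv h.l3.uv c))).symm
  ss a ha x hx := by
    obtain ⟨c, rfl⟩ := mem_XG.1 hx
    exact (D.cent h.l3.uw ha (tE_comm_uv h.l3.uw (smul_uv h.l3.uw c))).symm
  ra a ha x hx := by
    obtain ⟨c, rfl⟩ := mem_XG.1 hx
    exact (D.cent h.l3.uv ha (tE_comm_v h.l3.uv (by rw [polar_smul_right, h.vw, smul_zero]))).symm
  inf x hx hx' := by
    obtain ⟨c, rfl⟩ := mem_XG.1 hx
    obtain ⟨b, e⟩ := mem_XG.1 hx'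
    have e1 := D.inj e
    obtain ⟨a, ha⟩ := (tE_eq_iff hK.nondeg h.l3.uv.qu h.l3.uv.ne (smul_uv h.l3.uv c) (smul_uv h.l3.uw b)).1 e1
    have hb : b = 0 := by
      by_contra hb
      apply h.l3.ind
      refine mem_L.2 ⟨b⁻¹ * a, b⁻¹ * c, ?_⟩
      rw [mul_smul, mul_smul, ← smul_add, add_comm, ← ha, smul_smul, inv_mul_cancel₀ hb, one_smul]
    rw [hb, zero_smul] at e
    rw [e, tE_zero_right, map_one]
  neg x hx y hy := by
    obtain ⟨c, rfl⟩ := mem_XG.1 hx
    obtain ⟨b, rfl⟩ := mem_XG.1 hy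
    refine mem_XG.2 ⟨c * b, ?_⟩
    rw [← map_mul, ← map_inv, ← map_mul, ← map_inv, ← map_mul, conj_w h,
      tE_inv h.l3.uw.qu (smul_uv h.l3.uw b), tE_mul h.l3.uw.qu
        (by rw [polar_add_right, smul_uv h.l3.uw b, smul_uv h.l3.uv, add_zero]) (smul_uv h.l3.uw b)]
    congr 2
    have := add_self' (F := F) (b • w)
    calc b • w + (c * b) • v + b • w = (b • w + b • w) + (c * b) • v := by abel
      _ = _ := by rw [this, zero_add]
  sur y hy hy1 z hz := by
    obtain ⟨b, rfl⟩ := mem_XG.1 hy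
    obtain ⟨a, rfl⟩ := mem_XG.1 hz
    have hb : b ≠ 0 := by
      rintro rfl
      apply hy1
      rw [zero_smul, tE_zero_right, map_one]
    refine ⟨j (tE Q v ((a * b⁻¹) • w')), mem_XG.2 ⟨_, rfl⟩, ?_⟩
    rw [← map_mul, ← map_inv, ← map_mul, ← map_inv, ← map_mul, conj_w h,
      tE_inv h.l3.uw.qu (smul_uv h.l3.uw b), tE_mul h.l3.uw.qu
        (by rw [polar_add_right, smul_uv h.l3.uw b, smul_uv h.l3.uv, add_zero]) (smul_uv h.l3.uw b)]
    congr 2
    have := add_self' (F := F) (b • w)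
    calc b • w + (a * b⁻¹ * b) • v + b • w = (b • w + b • w) + (a * b⁻¹ * b) • v := by abel
      _ = _ := by rw [this, zero_add, mul_assoc, inv_mul_cancel₀ hb, mul_one]
  stepB {g a b} hg ha hb hd := by
    obtain ⟨c, rfl⟩ := mem_XG.1 hg
    obtain ⟨g, hgd⟩ : ∃ g, g = tE Q v (c • w') := ⟨_, rfl⟩
    rw [← hgd] at hd ⊢
    have hgt : j g * t = t * j g := (D.tj g).symm
    obtain ⟨e1, he1⟩ := D.phi h.l3.uw ha
    obtain ⟨e2, he2⟩ := D.phi h.l3.uv hb
    have hda : d t a = j (tE Q u (e1 • w)) := he1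
    have hdb : d t b = j (tE Q u (e2 • v)) := he2
    have hab : d t a * b = b * d t a := by
      rw [hda]
      exact D.cent h.l3.uv hb (tE_comm_uv h.l3.uv (smul_uv h.l3.uw e1))
    have hcomm : d t b * d t a = d t a * d t b := by
      rw [hda, hdb, ← map_mul, ← map_mul, tE_comm h.l3.uv.qu (smul_uv h.l3.uv _) (smul_uv h.l3.uw _)]
    have hd1 : d t (j g * a * (j g)⁻¹) = d t (a * b) := by
      rw [d_conj hgt, d_mul D.tt hab]
      have h1 : j g * d t a * (j g)⁻¹ = d t b * d t a := by rw [hd]; group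
      rw [h1, hcomm]
    have hc1 := comm_of_d D.tt hd1
    -- elements of `K`
    have key : ∀ k : ↥(E Q), k * tE Q u v = tE Q u v * k → k * tE Q u w = tE Q u w * k →
        k * tE Q u (c • v) = tE Q u (c • v) * k →
        (j g * a * (j g)⁻¹ * (a * b)⁻¹) * j k = j k * (j g * a * (j g)⁻¹ * (a * b)⁻¹) := by
      intro k k1 k2 k3
      have c1 := D.cent h.l3.uw ha k2
      have c2 := D.cent h.l3.uv hb k1
      have c3 : (g⁻¹ * k * g) * tE Q u w = tE Q u w * (g⁻¹ * k * g) := by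
        have e3 : g * tE Q u w * g⁻¹ = tE Q u w * tE Q u (c • v) := by
          have := conj_w h c 1
          rw [one_smul, mul_one] at this
          rw [hgd, this, tE_mul h.l3.uv.qu h.l3.uw.perp (smul_uv h.l3.uv c)]
        have e4 : k * (g * tE Q u w * g⁻¹) = (g * tE Q u w * g⁻¹) * k := by
          rw [e3, ← mul_assoc, k2, mul_assoc, k3, mul_assoc]
        calc (g⁻¹ * k * g) * tE Q u w = g⁻¹ * (k * (g * tE Q u w * g⁻¹)) * g := by group
          _ = g⁻¹ * ((g * tE Q u w * g⁻¹) * k) * g := by rw [e4]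
          _ = _ := by group
      have c4 := D.cent h.l3.uw ha c3
      rw [map_mul, map_mul, map_inv] at c4
      have c5 : j k * (j g * a * (j g)⁻¹) = (j g * a * (j g)⁻¹) * j k := by
        calc j k * (j g * a * (j g)⁻¹) = j g * (((j g)⁻¹ * j k * j g) * a) * (j g)⁻¹ := by group
          _ = j g * (a * ((j g)⁻¹ * j k * j g)) * (j g)⁻¹ := by rw [c4]
          _ = _ := by group
      have c6 : j k * (a * b) = (a * b) * j k := by rw [← mul_assoc, c1, mul_assoc, c2, mul_assoc]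
      have c7 : (a * b)⁻¹ * j k = j k * (a * b)⁻¹ := by
        rw [inv_mul_eq_iff_eq_mul, ← mul_assoc, ← c6, mul_inv_cancel_right]
      rw [mul_assoc, c7, ← mul_assoc, ← c5, mul_assoc]
    obtain ⟨x, hx, y, hy, e⟩ := D.k2 hK h hc1 (by
      intro x hx
      exact key _ (tE_comm h.l3.uv.qu hx h.l3.uv.perp) (tE_comm h.l3.uv.qu hx h.l3.uw.perp)
        (tE_comm h.l3.uv.qu hx (smul_uv h.l3.uv c))) (by
      intro x hx1 hx2 hx3
      have f1 : T Q v x u = u := T_fix h.l3.uv.perp' (by rw [polar_comm]; exact hx1)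
      have f2 : T Q v x v = v := T_fix (polar_self_of_sing h.l3.uv.qw) (by rw [polar_comm]; exact hx2)
      have f3 : T Q v x w = w := T_fix h.l3.perp (by rw [polar_comm]; exact hx3)
      exact key _ (tE_comm_of f1 f2) (tE_comm_of f1 f3) (tE_comm_of f1 (by rw [map_smul, f2])))
    refine ⟨x, hx, y, hy, ?_⟩
    rcases e with e | e
    · left; rw [← e]; group
    · right; rw [← e]; group

/-- The root groups of one line are abelian. -/
theorem com_of (D : PreD Q t j W) (hK : KFacts Q) (h : Fr3 Q u v w u' v' w') {θ : F} (h0 : θ ≠ 0) (h1 : θ ≠ 1)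
    {a b : G} (ha : a ∈ W u v) (hb : b ∈ W u v) : a * b = b * a := by
  have three : ∀ {u v : V} (hl : Ln Q u v), ∀ x ∈ XG Q j u v hl.qu hl.perp,
      ∃ y ∈ XG Q j u v hl.qu hl.perp, y ≠ 1 ∧ y ≠ x := by
    intro u v hl x hx
    have inj : ∀ {a b : F}, j (tE Q u (a • v)) = j (tE Q u (b • v)) → a = b := by
      intro a b e
      obtain ⟨c, hc⟩ := (tE_eq_iff hK.nondeg hl.qu hl.ne (smul_uv hl a) (smul_uv hl b)).1 (D.inj e)
      have h2 : c • u + (a - b) • v = 0 := by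
        rw [sub_smul, hc]; abel
      exact sub_eq_zero.1 (hl.coeff h2).2
    have one : (1 : G) = j (tE Q u ((0 : F) • v)) := by rw [zero_smul, tE_zero_right, map_one]
    obtain ⟨c, rfl⟩ := mem_XG.1 hx
    by_cases hc : c = 0
    · refine ⟨_, mem_XG.2 ⟨1, rfl⟩, ?_, ?_⟩
      · rw [one]; intro e; exact one_ne_zero (inj e)
      · intro e
        have := inj e
        rw [hc] at this
        exact one_ne_zero this
    · refine ⟨_, mem_XG.2 ⟨θ * c, rfl⟩, ?_, ?_⟩
      · rw [one]; intro e; exact mul_ne_zero h0 hc (inj e)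
      · intro e
        exact h1 (mul_right_cancel₀ hc ((inj e).trans (one_mul c).symm))
  refine (D.pw hK h).ab (D.pw hK h.swap) ?_ (three h.l3.uv) (three h.l3.uw) ha hb
  intro x hx y hy hx1 hy1
  obtain ⟨a, rfl⟩ := mem_XG.1 hx
  obtain ⟨b, rfl⟩ := mem_XG.1 hy
  have ha0 : a ≠ 0 := by
    rintro rfl
    apply hx1
    rw [zero_smul, tE_zero_right, map_one]
  have hb0 : b ≠ 0 := by
    rintro rfl
    apply hy1
    rw [zero_smul, tE_zero_right, map_one]
  have hl' : Ln3 Q u ((b * a⁻¹) • w) ((a * b⁻¹) • v) := by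
    have c1 : b * a⁻¹ ≠ 0 := mul_ne_zero hb0 (inv_ne_zero ha0)
    have c2 : a * b⁻¹ ≠ 0 := mul_ne_zero ha0 (inv_ne_zero hb0)
    have h2 := Ln3.swap23 h.l3
    refine ⟨h2.uv.smul_right c1, h2.uw.smul_right c2, ?_, ?_⟩
    · rw [polar_smul_left, polar_smul_right, h2.perp, smul_zero, smul_zero]
    · intro hm
      obtain ⟨c, d, e⟩ := mem_L.1 hm
      apply h2.ind
      refine mem_L.2 ⟨(a * b⁻¹)⁻¹ * c, (a * b⁻¹)⁻¹ * (d * (b * a⁻¹)), ?_⟩
      rw [mul_smul, mul_smul, ← smul_add, mul_smul, e, smul_smul, inv_mul_cancel₀ c2, one_smul]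
  obtain ⟨k, k1, k2, k3⟩ := hK.trans3 h.l3 hl'
  have e1 : (k : V ≃ₗ[F] V) (a • v) = b • w := by
    rw [map_smul, k2, smul_smul, mul_comm b, ← mul_assoc, mul_inv_cancel₀ ha0, one_mul]
  have e2 : (k : V ≃ₗ[F] V) (b • w) = a • v := by
    rw [map_smul, k3, smul_smul, mul_comm a, ← mul_assoc, mul_inv_cancel₀ hb0, one_mul]
  refine ⟨j k, (D.tj k).symm, ?_, ?_, ?_, ?_⟩
  · rw [D.toSit.rconj, k1, e1]
  · rw [D.toSit.rconj, k1, e2]
  · intro x hx
    have := D.conj k h.l3.uv hx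
    rw [k1, k2, D.smul h.l3.uw (mul_ne_zero hb0 (inv_ne_zero ha0))] at this
    exact this
  · intro x hx
    have := D.conj k h.l3.uw hx
    rw [k1, k3, D.smul h.l3.uv (mul_ne_zero ha0 (inv_ne_zero hb0))] at this
    exact this

/-- **`q > 2`.** -/
theorem dbl_big (D : PreD Q t j W) (hK : KFacts Q) (h : Fr3 Q u v w u' v' w') {θ : F} (h0 : θ ≠ 0) (h1 : θ ≠ 1) :
    Dbl Q t j W where
  toSit := D.toSit
  swap := D.swap
  add := D.add
  smul := D.smul
  X_le := D.X_le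
  phi := D.phi
  surj := D.surj
  fix := D.fix
  cent := D.cent
  conj := D.conj
  com {a b f g} hl hf hg := by
    obtain ⟨k, k1, k2⟩ := exists_k hK h.l3.uv hl
    have key : ∀ f ∈ W a b, (j k)⁻¹ * f * j k ∈ W u v := by
      intro f hf
      have h3 := D.conj k⁻¹ hl hf
      have e1 : ((k⁻¹ : ↥(E Q)) : V ≃ₗ[F] V) a = u := by
        show (k : V ≃ₗ[F] V).symm a = u
        rw [LinearEquiv.symm_apply_eq, k1]
      have e2 : ((k⁻¹ : ↥(E Q)) : V ≃ₗ[F] V) b = v := by
        show (k : V ≃ₗ[F] V).symm b = v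
        rw [LinearEquiv.symm_apply_eq, k2]
      rw [e1, e2, map_inv, inv_inv] at h3
      exact h3
    have h3 := D.com_of hK h h0 h1 (key f hf) (key g hg)
    calc f * g = j k * (((j k)⁻¹ * f * j k) * ((j k)⁻¹ * g * j k)) * (j k)⁻¹ := by group
      _ = j k * (((j k)⁻¹ * g * j k) * ((j k)⁻¹ * f * j k)) * (j k)⁻¹ := by rw [h3]
      _ = _ := by group
  sq hF := by
    intro _ _ _ _ _
    rcases hF θ with h | h
    · exact absurd h h0
    · exact absurd h h1

/-- **`q = 2`.** -/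
theorem dbl_two (D : PreD Q t j W) (hsq : ∀ {u v w}, Ln Q u v → w ∈ W u v → w * w = 1) : Dbl Q t j W where
  toSit := D.toSit
  swap := D.swap
  add := D.add
  smul := D.smul
  X_le := D.X_le
  phi := D.phi
  surj := D.surj
  fix := D.fix
  cent := D.cent
  conj := D.conj
  com {a b f g} hl hf hg := by
    have h1 := hsq hl hf
    have h2 := hsq hl hg
    have h3 := hsq hl (mul_mem hf hg)
    calc f * g = f * (f * g * (f * g)) * g := by rw [h3, mul_one]
      _ = (f * f) * (g * f) * (g * g) := by group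
      _ = g * f := by rw [h1, h2, one_mul, mul_one]
  sq _ := fun hl hw => hsq hl hw

end PreD

/-- squares are carried along -/
theorem sq_Wt {u0 v0 : V} {W0 : Subgroup G} (hK : KFacts Q) (B : BaseW Q t j u0 v0 W0) (h0 : Ln Q u0 v0)
    (hsq : ∀ w ∈ W0, w * w = 1) {u v : V} {w : G} (h : Ln Q u v) (hw : w ∈ Wt j u0 v0 W0 u v) : w * w = 1 := by
  obtain ⟨k, e1, e2⟩ := exists_k hK h0 h
  rw [mem_Wt hK B h0 h (k := k) (by rw [e1]; exact left_mem_L _ _) (by rw [e2]; exact right_mem_L _ _)] at hw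
  have h1 := hsq _ hw
  have h2 : (j k)⁻¹ * (w * w) * j k = 1 := by rw [← h1]; group
  calc w * w = j k * ((j k)⁻¹ * (w * w) * j k) * (j k)⁻¹ := by group
    _ = 1 := by rw [h2]; group

/-- a flag gives a totally singular plane with a dual basis -/
theorem fr3_of_flag {n : ℕ} {e f : ℕ → V} (hF : Flag Q n e f) (hn : 3 ≤ n) :
    Fr3 Q (e 0) (e 1) (e 2) (f 0) (f 1) (f 2) := by
  have fe : ∀ i k, i < n → k < n → i ≠ k → polar Q (e k) (f i) = 0 := fun i k hi hk h => hF.ef k i hk hi h.symm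
  have l : ∀ i k, i < n → k < n → i ≠ k → Ln Q (e i) (e k) := by
    intro i k hi hk h
    refine ⟨(hF.hyp i hi).left, (hF.hyp k hk).left, hF.ee i k hi hk h, (hF.hyp i hi).left_ne, fun c hc => ?_⟩
    have h1 := (hF.hyp k hk).pair
    rw [hc, polar_smul_left, hF.ef i k hi hk h, smul_zero] at h1
    exact zero_ne_one h1
  refine ⟨⟨l 0 1 (by omega) (by omega) (by omega), l 0 2 (by omega) (by omega) (by omega),
    hF.ee 1 2 (by omega) (by omega) (by omega), ?_⟩, (hF.hyp 0 (by omega)).pair,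
    hF.ef 0 1 (by omega) (by omega) (by omega), hF.ef 0 2 (by omega) (by omega) (by omega),
    hF.ef 1 0 (by omega) (by omega) (by omega), (hF.hyp 1 (by omega)).pair,
    hF.ef 1 2 (by omega) (by omega) (by omega), hF.ef 2 0 (by omega) (by omega) (by omega),
    hF.ef 2 1 (by omega) (by omega) (by omega), (hF.hyp 2 (by omega)).pair,
    (hF.hyp 0 (by omega)).right, (hF.hyp 1 (by omega)).right, (hF.hyp 2 (by omega)).right⟩
  intro hm
  obtain ⟨a, b, he⟩ := mem_L.1 hm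
  have h1 := (hF.hyp 2 (by omega)).pair
  rw [← he, polar_add_left, polar_smul_left, polar_smul_left, hF.ef 0 2 (by omega) (by omega) (by omega),
    hF.ef 1 2 (by omega) (by omega) (by omega), smul_zero, smul_zero, add_zero] at h1
  exact zero_ne_one h1

/-- **`q > 2`: from one doubled root group to `Dbl`.** -/
theorem BaseW.dbl_big [CharP F 2] {u0 v0 : V} {W0 : Subgroup G} (S : Sit Q t j) (hK : KFacts Q)
    (B : BaseW Q t j u0 v0 W0) (h0 : Ln Q u0 v0) {n : ℕ} {e f : ℕ → V} (hF : Flag Q n e f) (hn : 3 ≤ n) {θ : F}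
    (hθ : θ ≠ 0) (hθ' : θ ≠ 1) : Dbl Q t j (Wt j u0 v0 W0) :=
  (B.preD S hK h0).dbl_big hK (fr3_of_flag hF hn) hθ hθ'

/-- **`q = 2`: from one doubled root group to `Dbl`.** -/
theorem BaseW.dbl_two [CharP F 2] {u0 v0 : V} {W0 : Subgroup G} (S : Sit Q t j) (hK : KFacts Q)
    (B : BaseW Q t j u0 v0 W0) (h0 : Ln Q u0 v0) (hsq : ∀ w ∈ W0, w * w = 1) : Dbl Q t j (Wt j u0 v0 W0) :=
  (B.preD S hK h0).dbl_two fun h hw => sq_Wt hK B h0 hsq h hw

end Cfsg.Agent.OddHalf.Orth.ExBase
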