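import Mathlib
import Cfsg.Agent.OddHalf.Orth.KPl

/-!
# Elements of `P` acting on the line

* `rho` : the element of order 3 (`u → v → u + v`), `rho_mem_P`;
* `exists_torus`; `tau_mem_P` : `T u (d v') ∈ P` (`q ≥ 4`);
* `coords_conj` : the action on the coordinates of `QL`.
-/

set_option autoImplicit false
set_option linter.unusedSectionVars false
set_option linter.unusedVariables false

namespace Cfsg.Agent.OddHalf.Orth

open QuadraticMap Cfsg.Agent.LieClassical.OrthCore Cfsg.Agent.LieClassical.OrthTrans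
  Cfsg.Agent.LieClassical.OrthSimple Cfsg.Agent.ClassicalGeometry.OrthAutBasic
  Cfsg.Agent.ClassicalGeometry.OrthAutRoot Face

variable {F V : Type*} [Field F] [AddCommGroup V] [Module F V] {Q : QuadraticForm F V}

theorem mem_P0_of_det [CharP F 2] {u v : V} (h : Ln Q u v) {g : ↥(E Q)} {a b a' b' : F}
    (e1 : (g : V ≃ₗ[F] V) u = a • u + b • v) (e2 : (g : V ≃ₗ[F] V) v = a' • u + b' • v)
    (hd : a * b' - b * a' = 1) : g ∈ P0 Q u v h.qu h.perp := by
  rw [mem_P0]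
  intro c
  have h1 := tE_conj g u (c • v)
  rw [map_smul, e1, e2, show c • (a' • u + b' • v) = (c * a') • u + (c * b') • v by module] at h1
  have h2 : tE Q (a • u + b • v) ((c * a') • u + (c * b') • v) = tE Q u (c • v) := by
    apply Subtype.ext
    rw [coe_tE, coe_tE, T_det h a b (c * a') (c * b')]
    congr 2
    linear_combination c * hd
  rw [h2] at h1
  exact mul_inv_eq_iff_eq_mul.1 h1

section two
variable [CharP F 2] {u v u' v' : V}

/-- the transvection on the line -/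
noncomputable def tau (Q : QuadraticForm F V) (u v' : V) (d : F) : ↥(E Q) := tE Q u (d • v')

theorem tau_u (h : LF Q u v u' v') (d : F) : (tau Q u v' d : V ≃ₗ[F] V) u = u := by
  rw [tau, coe_tE, T_fix h.uu (by rw [polar_smul_left, h.v'u, smul_zero])]

theorem tau_v (h : LF Q u v u' v') (d : F) : (tau Q u v' d : V ≃ₗ[F] V) v = v + d • u := by
  rw [tau, coe_tE, T_apply2 h.qu (by rw [polar_smul_right, h.uv', smul_zero]), h.uv, polar_smul_left, h.v'v]
  simp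

theorem tau_u' (h : LF Q u v u' v') (d : F) : (tau Q u v' d : V ≃ₗ[F] V) u' = u' + d • v' := by
  rw [tau, coe_tE, T_apply2 h.qu (by rw [polar_smul_right, h.uv', smul_zero]), h.uu', polar_smul_left, h.v'u',
    QuadraticMap.map_smul, h.qv']
  simp

theorem tau_v' (h : LF Q u v u' v') (d : F) : (tau Q u v' d : V ≃ₗ[F] V) v' = v' := by
  rw [tau, coe_tE, T_fix h.uv' (by rw [polar_smul_left, h.v'v', smul_zero])]

theorem tau_w (h : LF Q u v u' v') (d : F) {w : V} (hw : In Q u v u' v' w) :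
    (tau Q u v' d : V ≃ₗ[F] V) w = w := by
  rw [tau, coe_tE, T_fix hw.u (by rw [polar_smul_left, hw.v', smul_zero])]

/-- the element of order 3 -/
noncomputable def rho (Q : QuadraticForm F V) (u v u' v' : V) : ↥(E Q) := tE Q u v' * tE Q v u'

theorem rho_eq (h : LF Q u v u' v') : rho Q u v u' v' = tau Q u v' 1 * tau Q v u' 1 := by
  rw [rho, tau, tau, one_smul, one_smul]

theorem rho_u (h : LF Q u v u' v') : (rho Q u v u' v' : V ≃ₗ[F] V) u = v := by
  rw [rho_eq h, coe_mul', tau_v h.swap, map_add, map_smul, tau_u h, tau_v h, one_smul, one_smul,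
    add_comm v u, ← add_assoc, add_self' (F := F), zero_add]

theorem rho_v (h : LF Q u v u' v') : (rho Q u v u' v' : V ≃ₗ[F] V) v = u + v := by
  rw [rho_eq h, coe_mul', tau_u h.swap, tau_v h, one_smul, add_comm]

theorem rho_u' (h : LF Q u v u' v') : (rho Q u v u' v' : V ≃ₗ[F] V) u' = u' + v' := by
  rw [rho_eq h, coe_mul', tau_v' h.swap, tau_u' h, one_smul]

theorem rho_v' (h : LF Q u v u' v') : (rho Q u v u' v' : V ≃ₗ[F] V) v' = u' := by
  rw [rho_eq h, coe_mul', tau_u' h.swap, map_add, map_smul, tau_v' h, tau_u' h, one_smul, one_smul,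
    add_comm u' v', ← add_assoc, add_self' (F := F), zero_add]

theorem rho_w (h : LF Q u v u' v') {w : V} (hw : In Q u v u' v' w) :
    (rho Q u v u' v' : V ≃ₗ[F] V) w = w := by
  rw [rho_eq h, coe_mul', tau_w h.swap _ hw.swap, tau_w h _ hw]

theorem rho_pow (h : LF Q u v u' v') : rho Q u v u' v' ^ 3 = 1 := by
  apply Subtype.ext
  have e3 : ∀ x : V, ((rho Q u v u' v' ^ 3 : ↥(E Q)) : V ≃ₗ[F] V) x = (rho Q u v u' v' : V ≃ₗ[F] V)
      ((rho Q u v u' v' : V ≃ₗ[F] V) ((rho Q u v u' v' : V ≃ₗ[F] V) x)) := fun x => rfl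
  have h2 : (2 : F) = 0 := CharTwo.two_eq_zero
  apply eq_one_of_frame h (mem_O' _)
  · rw [e3, rho_u h, rho_v h, map_add, rho_u h, rho_v h]
    linear_combination (norm := module) h2 • v
  · rw [e3, rho_v h, map_add, rho_u h, rho_v h, map_add, map_add, rho_u h, rho_v h]
    linear_combination (norm := module) h2 • (u + v)
  · rw [e3, rho_u' h, map_add, rho_u' h, rho_v' h, map_add, map_add, rho_u' h, rho_v' h]
    linear_combination (norm := module) h2 • (u' + v')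
  · rw [e3, rho_v' h, rho_u' h, map_add, rho_u' h, rho_v' h]
    linear_combination (norm := module) h2 • u'
  · intro w hw
    exact ⟨0, 0, by rw [e3, rho_w h hw, rho_w h hw, rho_w h hw]; simp⟩

theorem rho_mem_P (h : LF Q u v u' v') : rho Q u v u' v' ∈ P Q u v h.qu h.uv := by
  refine mem_P_of_odd (mem_P0_of_det h.ln (a := 0) (b := 1) (a' := 1) (b' := 1) ?_ ?_ ?_) ?_
  · rw [rho_u h]; simp
  · rw [rho_v h]; simp
  · rw [mul_one, mul_one, zero_sub, CharTwo.neg_eq]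
  · have h1 : orderOf (rho Q u v u' v') ∣ 3 := orderOf_dvd_of_pow_eq_one (rho_pow h)
    exact Odd.of_dvd_nat (by decide) h1

/-- diagonal elements -/
theorem exists_torus [Finite F] (hG : Good Q) (h : LF Q u v u' v') {κ κ' : F} (hκ : κ ≠ 0) (hκ' : κ' ≠ 0) :
    ∃ g : ↥(E Q), (g : V ≃ₗ[F] V) u = κ • u ∧ (g : V ≃ₗ[F] V) v = κ' • v ∧
      (g : V ≃ₗ[F] V) u' = κ⁻¹ • u' ∧ (g : V ≃ₗ[F] V) v' = κ'⁻¹ • v' ∧
      ∀ w, In Q u v u' v' w → (g : V ≃ₗ[F] V) w = w := by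
  obtain ⟨g1, a1, a2, a3⟩ := scal hG h.h1 hκ
  obtain ⟨g2, b1, b2, b3⟩ := scal hG h.h2 hκ'
  refine ⟨g1 * g2, ?_, ?_, ?_, ?_, fun w hw => ?_⟩
  · rw [coe_mul', b3 u h.vu h.v'u, a1]
  · rw [coe_mul', b1, map_smul, a3 v h.uv h.u'v]
  · rw [coe_mul', b3 u' h.vu' h.v'u', a2]
  · rw [coe_mul', b2, map_smul, a3 v' h.uv' h.u'v']
  · rw [coe_mul', b3 w hw.v hw.v', a3 w hw.u hw.u']

theorem pow_smul_fix {g : ↥(E Q)} {x : V} {κ : F} (h : (g : V ≃ₗ[F] V) x = κ • x) (n : ℕ) :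
    ((g ^ n : ↥(E Q)) : V ≃ₗ[F] V) x = κ ^ n • x := by
  induction n with
  | zero => rw [pow_zero, pow_zero, one_smul]; rfl
  | succ n ih => rw [pow_succ, coe_mul', h, map_smul, ih, smul_smul, pow_succ, mul_comm]

theorem odd_card_sub_one [Finite F] : Odd (Nat.card F - 1) := by
  have := Fintype.ofFinite F
  have h1 : Fintype.card F % 2 = 0 := FiniteField.even_card_iff_char_two.1 (ringChar.eq F 2)
  have h2 : 0 < Fintype.card F := Fintype.card_pos
  rw [Nat.card_eq_fintype_card]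
  exact ⟨(Fintype.card F - 2) / 2, by omega⟩

theorem pow_card_sub_one [Finite F] {κ : F} (hκ : κ ≠ 0) : κ ^ (Nat.card F - 1) = 1 := by
  have := Fintype.ofFinite F
  rw [Nat.card_eq_fintype_card]
  exact FiniteField.pow_card_sub_one_eq_one κ hκ

/-- a diagonal element has odd order -/
theorem torus_pow [Finite F] (h : LF Q u v u' v') {κ κ' : F} (hκ : κ ≠ 0) (hκ' : κ' ≠ 0) {g : ↥(E Q)}
    (e1 : (g : V ≃ₗ[F] V) u = κ • u) (e2 : (g : V ≃ₗ[F] V) v = κ' • v)
    (e3 : (g : V ≃ₗ[F] V) u' = κ⁻¹ • u') (e4 : (g : V ≃ₗ[F] V) v' = κ'⁻¹ • v')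
    (e5 : ∀ w, In Q u v u' v' w → (g : V ≃ₗ[F] V) w = w) : g ^ (Nat.card F - 1) = 1 := by
  apply Subtype.ext
  apply eq_one_of_frame h (mem_O' _)
  · rw [pow_smul_fix e1, pow_card_sub_one hκ, one_smul]
  · rw [pow_smul_fix e2, pow_card_sub_one hκ', one_smul]
  · rw [pow_smul_fix e3, pow_card_sub_one (inv_ne_zero hκ), one_smul]
  · rw [pow_smul_fix e4, pow_card_sub_one (inv_ne_zero hκ'), one_smul]
  · intro w hw
    refine ⟨0, 0, ?_⟩
    rw [pow_smul_fix (κ := 1) (by rw [e5 w hw, one_smul]), one_pow, one_smul]; simp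

theorem tau_mem_P [Finite F] (hP : Par Q) (h : LF Q u v u' v') {θ : F} (hθ : θ ≠ 0) (hθ' : θ ≠ 1) (d : F) :
    tau Q u v' d ∈ P Q u v h.qu h.uv := by
  obtain ⟨g, e1, e2, e3, e4, e5⟩ := exists_torus hP.good h hθ (inv_ne_zero hθ)
  have hg : g ∈ P Q u v h.qu h.uv := by
    refine mem_P_of_odd (mem_P0_of_det h.ln (a := θ) (b := 0) (a' := 0) (b' := θ⁻¹) ?_ ?_ ?_) ?_
    · rw [e1]; simp
    · rw [e2]; simp
    · rw [mul_inv_cancel₀ hθ]; simp
    · exact Odd.of_dvd_nat odd_card_sub_one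
        (orderOf_dvd_of_pow_eq_one (torus_pow h hθ (inv_ne_zero hθ) e1 e2 e3 e4 e5))
  have hne : θ * θ + 1 ≠ 0 := by
    intro h0
    have h1 : θ * θ = 1 := by rw [eq_neg_of_add_eq_zero_left h0, CharTwo.neg_eq]
    exact hθ' (eq_one_of_mul_self h1)
  set c := d * (θ * θ + 1)⁻¹ with hc
  have ht : tau Q u v' c ∈ P0 Q u v h.qu h.uv := by
    refine mem_P0_of_det h.ln (a := 1) (b := 0) (a' := c) (b' := 1) ?_ ?_ (by simp)
    · rw [tau_u h]; simp
    · rw [tau_v h]; simp [add_comm]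
  have h1 := comm_mem_P' ht hg
  have hp : ∀ a : F, polar Q u (a • v') = 0 := fun a => by rw [polar_smul_right, h.uv', smul_zero]
  have e6 : g * tau Q u v' c * g⁻¹ = tau Q u v' (θ * θ * c) := by
    rw [tau, tE_conj, map_smul, e1, e4, inv_inv, tE_smul_left θ h.qu (by
      rw [smul_smul]; exact hp _), smul_smul, smul_smul, tau]
    congr 2
    ring
  rw [e6, tau, tau, tE_inv h.qu (hp _), tE_mul h.qu (hp _) (hp _), ← add_smul] at h1
  have e7 : θ * θ * c + c = d := by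
    rw [hc]
    have : θ * θ * (d * (θ * θ + 1)⁻¹) + d * (θ * θ + 1)⁻¹ = d * ((θ * θ + 1) * (θ * θ + 1)⁻¹) := by ring
    rw [this, mul_inv_cancel₀ hne, mul_one]
  rwa [e7] at h1

/-! ### The action on the coordinates of `QL` -/

/-- `T m y`, `m` on the line, `y` perpendicular to it -/
theorem tE_line (h : LF Q u v u' v') (a b : F) {y : V} (hu : polar Q u y = 0) (hv : polar Q v y = 0) :
    tE Q (a • u + b • v) y ∈ QL Q u v ∧ xc Q u v u' v' (tE Q (a • u + b • v) y) = a • pW Q u v u' v' y ∧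
      yc Q u v u' v' (tE Q (a • u + b • v) y) = b • pW Q u v u' v' y := by
  set m := a • u + b • v with hm
  have hmL : m ∈ L F u v := mem_L.2 ⟨a, b, rfl⟩
  have hqm : Q m = 0 := h.ln.Q_mem hmL
  have hmy : polar Q m y = 0 := perp_L hu hv hmL
  have hmu : polar Q m u = 0 := h.ln.polar_mem hmL (left_mem_L _ _)
  have hmv : polar Q m v = 0 := h.ln.polar_mem hmL (right_mem_L _ _)
  have hpm : pW Q u v u' v' m = 0 := by
    rw [hm, map_add, map_smul, map_smul, pW_u h, pW_v h, smul_zero, smul_zero, add_zero]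
  refine ⟨⟨?_, ?_, fun w h1 h2 => ?_⟩, ?_, ?_⟩
  · rw [coe_tE, T_fix hmu (polar_zero_of_comm hu)]
  · rw [coe_tE, T_fix hmv (polar_zero_of_comm hv)]
  · refine ⟨polar Q y w * a, polar Q y w * b, ?_⟩
    rw [coe_tE, T_apply2 hqm hmy, perp_L h1 h2 hmL, hm]
    module
  · rw [xc, coe_tE, T_apply2 hqm hmy, map_add, map_add, map_smul, map_smul, hpm, pW_u' h, smul_zero,
      add_zero, zero_add]
    congr 1
    rw [hm, polar_add_left, polar_smul_left, polar_smul_left, h.uu', h.vu']; simp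
  · rw [yc, coe_tE, T_apply2 hqm hmy, map_add, map_add, map_smul, map_smul, hpm, pW_v' h, smul_zero,
      add_zero, zero_add]
    congr 1
    rw [hm, polar_add_left, polar_smul_left, polar_smul_left, h.uv', h.vv']; simp

/-- coordinates after conjugation -/
theorem coords_conj (h : LF Q u v u' v') {g k : ↥(E Q)} (hg : g ∈ NL Q u v) (hk : k ∈ QL Q u v)
    {a b a' b' : F} (e1 : (g : V ≃ₗ[F] V) u = a • u + b • v) (e2 : (g : V ≃ₗ[F] V) v = a' • u + b' • v) :
    xc Q u v u' v' (g * k * g⁻¹) = a • pW Q u v u' v' ((g : V ≃ₗ[F] V) (xc Q u v u' v' k)) +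
        a' • pW Q u v u' v' ((g : V ≃ₗ[F] V) (yc Q u v u' v' k)) ∧
      yc Q u v u' v' (g * k * g⁻¹) = b • pW Q u v u' v' ((g : V ≃ₗ[F] V) (xc Q u v u' v' k)) +
        b' • pW Q u v u' v' ((g : V ≃ₗ[F] V) (yc Q u v u' v' k)) := by
  obtain ⟨x, y, c, hx, hy, rfl⟩ := exists_q h hk
  rw [xc_q h hx hy, yc_q h hx hy]
  have e3 : g * q Q u v x y c * g⁻¹ = (tE Q ((g : V ≃ₗ[F] V) u) ((g : V ≃ₗ[F] V) x) *
      tE Q ((g : V ≃ₗ[F] V) v) ((g : V ≃ₗ[F] V) y)) * (g * tE Q u (c • v) * g⁻¹) := by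
    rw [← tE_conj, ← tE_conj, q]; group
  have hX : g * tE Q u (c • v) * g⁻¹ ∈ X Q u v h.qu h.uv := X_conj h hg (mem_X.2 ⟨c, rfl⟩)
  have hX' := X_le_QL h hX
  obtain ⟨x1, x2⟩ := NL_perp hg hx.u hx.v
  obtain ⟨y1, y2⟩ := NL_perp hg hy.u hy.v
  obtain ⟨A1, A2, A3⟩ := tE_line h a b x1 x2
  obtain ⟨B1, B2, B3⟩ := tE_line h a' b' y1 y2
  rw [← e1] at A1 A2 A3
  rw [← e2] at B1 B2 B3
  obtain ⟨C1, C2⟩ := (mem_X_iff h hX').1 hX
  rw [e3, xc_mul h (mul_mem A1 B1) hX', yc_mul h (mul_mem A1 B1) hX', xc_mul h A1 B1, yc_mul h A1 B1,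
    A2, A3, B2, B3, C1, C2, add_zero, add_zero]
  exact ⟨rfl, rfl⟩

/-- conjugation by an element fixing the line pointwise and preserving `W` -/
theorem coords_conj_W (h : LF Q u v u' v') {g k : ↥(E Q)} (h1 : (g : V ≃ₗ[F] V) u = u)
    (h2 : (g : V ≃ₗ[F] V) v = v) (hk : k ∈ QL Q u v) :
    xc Q u v u' v' (g * k * g⁻¹) = pW Q u v u' v' ((g : V ≃ₗ[F] V) (xc Q u v u' v' k)) ∧
      yc Q u v u' v' (g * k * g⁻¹) = pW Q u v u' v' ((g : V ≃ₗ[F] V) (yc Q u v u' v' k)) := by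
  obtain ⟨e1, e2⟩ := coords_conj h (NL_of_fix h.ln h1 h2) hk (a := 1) (b := 0) (a' := 0) (b' := 1)
    (by rw [h1]; simp) (by rw [h2]; simp)
  rw [e1, e2]
  simp

/-- conjugation by `T w z` -/
theorem coords_TW (h : LF Q u v u' v') {w z : V} (hw : In Q u v u' v' w) (hz : In Q u v u' v' z)
    (hq : Q w = 0) (hwz : polar Q w z = 0) {k : ↥(E Q)} (hk : k ∈ QL Q u v) :
    xc Q u v u' v' (tE Q w z * k * (tE Q w z)⁻¹) = T Q w z (xc Q u v u' v' k) ∧
      yc Q u v u' v' (tE Q w z * k * (tE Q w z)⁻¹) = T Q w z (yc Q u v u' v' k) := by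
  have hW : ∀ x, In Q u v u' v' x → In Q u v u' v' (T Q w z x) := by
    intro x hx
    rw [T_apply2 hq hwz]
    exact (hx.add (hz.smul _)).add (hw.smul _)
  obtain ⟨e1, e2⟩ := coords_conj_W h (g := tE Q w z) (T_fix hw.ru hz.ru) (T_fix hw.rv hz.rv) hk
  rw [e1, e2, coe_tE, pW_of_in (hW _ (xc_in h k)), pW_of_in (hW _ (yc_in h k))]
  exact ⟨rfl, rfl⟩

theorem P0_le_NL' (h : LF Q u v u' v') : rho Q u v u' v' ∈ NL Q u v :=
  mem_NL_of h.ln (by rw [rho_u h]; exact right_mem_L _ _)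
    (by rw [rho_v h]; exact Submodule.add_mem _ (left_mem_L _ _) (right_mem_L _ _))

theorem tau_NL (h : LF Q u v u' v') (d : F) : tau Q u v' d ∈ NL Q u v :=
  mem_NL_of h.ln (by rw [tau_u h]; exact left_mem_L _ _)
    (by rw [tau_v h]; exact Submodule.add_mem _ (right_mem_L _ _) (Submodule.smul_mem _ _ (left_mem_L _ _)))

/-- conjugation by `rho` -/
theorem coords_rho (h : LF Q u v u' v') {k : ↥(E Q)} (hk : k ∈ QL Q u v) :
    xc Q u v u' v' (rho Q u v u' v' * k * (rho Q u v u' v')⁻¹) = yc Q u v u' v' k ∧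
      yc Q u v u' v' (rho Q u v u' v' * k * (rho Q u v u' v')⁻¹) =
        xc Q u v u' v' k + yc Q u v u' v' k := by
  obtain ⟨e1, e2⟩ := coords_conj h (P0_le_NL' h) hk (a := 0) (b := 1) (a' := 1) (b' := 1)
    (by rw [rho_u h]; simp) (by rw [rho_v h]; simp)
  rw [e1, e2, rho_w h (xc_in h k), rho_w h (yc_in h k), pW_of_in (xc_in h k), pW_of_in (yc_in h k)]
  simp

/-- conjugation by `tau` -/
theorem coords_tau (h : LF Q u v u' v') (d : F) {k : ↥(E Q)} (hk : k ∈ QL Q u v) :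
    xc Q u v u' v' (tau Q u v' d * k * (tau Q u v' d)⁻¹) = xc Q u v u' v' k + d • yc Q u v u' v' k ∧
      yc Q u v u' v' (tau Q u v' d * k * (tau Q u v' d)⁻¹) = yc Q u v u' v' k := by
  obtain ⟨e1, e2⟩ := coords_conj h (tau_NL h d) hk (a := 1) (b := 0) (a' := d) (b' := 1)
    (by rw [tau_u h]; simp) (by rw [tau_v h]; simp [add_comm])
  rw [e1, e2, tau_w h d (xc_in h k), tau_w h d (yc_in h k), pW_of_in (xc_in h k), pW_of_in (yc_in h k)]
  simp

end two

end Cfsg.Agent.OddHalf.Orth
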