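import Mathlib
import Cfsg.Agent.OddHalf.Orth.KRho

/-!
# `W` as a module for the group generated by the `T w z`, `w, z ∈ W`

* `irr_W` : irreducible (additive subgroups);
* `schur_W` : the additive endomorphisms commuting with all `T w z` are scalars.
-/

set_option autoImplicit false
set_option linter.unusedSectionVars false
set_option linter.unusedVariables false

namespace Cfsg.Agent.OddHalf.Orth

open QuadraticMap Cfsg.Agent.LieClassical.OrthCore Cfsg.Agent.LieClassical.OrthTrans
  Cfsg.Agent.LieClassical.OrthSimple Cfsg.Agent.ClassicalGeometry.OrthAutBasic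
  Cfsg.Agent.ClassicalGeometry.OrthAutRoot Face

variable {F V : Type*} [Field F] [AddCommGroup V] [Module F V] {Q : QuadraticForm F V}

variable [CharP F 2] [Finite F] {u v u' v' : V}

/-- decomposition along a hyperbolic pair of `W` -/
theorem mem_N6_sub (h : LF Q u v u' v') {w w' x : V} (hw : In Q u v u' v' w) (hw' : In Q u v u' v' w')
    (hh : Hyp Q w w') (hx : In Q u v u' v' x) :
    x + polar Q w' x • w + polar Q w x • w' ∈ N6 Q u v u' v' w w' := by
  rw [mem_N6]
  refine ⟨(hx.add (hw.smul _)).add (hw'.smul _), ?_, ?_⟩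
  · rw [polar_add_right, polar_add_right, polar_smul_right, polar_smul_right, polar_self2, hh.pair]
    simp [CharTwo.add_self_eq_zero]
  · rw [polar_add_right, polar_add_right, polar_smul_right, polar_smul_right, polar_self2, hh.pair']
    simp [CharTwo.add_self_eq_zero]

theorem exists_N6_ne (hP : Par Q) (w w' : V) : ∃ z ∈ N6 Q u v u' v' w w', z ≠ 0 := by
  have := hP.fd
  have hd := N6_dim (u := u) (v := v) (u' := u') (v' := v') hP w w'
  have : Nontrivial (N6 Q u v u' v' w w') := Module.nontrivial_of_finrank_pos (R := F) (by omega)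
  obtain ⟨⟨x, hx⟩, hx0⟩ := exists_ne (0 : N6 Q u v u' v' w w')
  exact ⟨x, hx, fun h => hx0 (Subtype.ext h)⟩

/-- values of `Q` on a nonzero nondegenerate subspace -/
theorem exists_value (hP : Par Q) (h : LF Q u v u' v') {w w' : V} (hw : In Q u v u' v' w)
    (hw' : In Q u v u' v' w') (hh : Hyp Q w w') (c : F) : ∃ z ∈ N6 Q u v u' v' w w', Q z = c := by
  have := hP.fd
  have hd := N6_dim (u := u) (v := v) (u' := u') (v' := v') hP w w'
  obtain ⟨z, hz, hz0⟩ := (N6_ns hP.nd h hw hw' hh).exists_nonsing (by omega)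
  obtain ⟨d, hd⟩ := exists_sqrt' (c * (Q z)⁻¹)
  refine ⟨d • z, Submodule.smul_mem _ _ hz, ?_⟩
  rw [QuadraticMap.map_smul, ← hd, smul_eq_mul, mul_assoc, inv_mul_cancel₀ hz0, mul_one]

theorem irr_W (hP : Par Q) (h : LF Q u v u' v') (Y : AddSubgroup V) (hY : ∀ y ∈ Y, In Q u v u' v' y)
    (inv : ∀ w z, In Q u v u' v' w → In Q u v u' v' z → Q w = 0 → polar Q w z = 0 →
      ∀ y ∈ Y, T Q w z y ∈ Y) (hne : ∃ y ∈ Y, y ≠ 0) {x : V} (hx : In Q u v u' v' x) : x ∈ Y := by
  have := hP.fd
  obtain ⟨y, hyY, hy0⟩ := hne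
  obtain ⟨b, b', hb, hb', hbb⟩ := hP.exists_pair h
  have h1 : ∃ w, In Q u v u' v' w ∧ Q w = 0 ∧ polar Q w y ≠ 0 := by
    by_contra hcon
    push Not at hcon
    apply hy0
    apply eq_zero_of_in hP.nd h (hY y hyY)
    intro w hw
    refine polar_zero_of_comm ((W4_ns hP.nd h).sing_ind hbb (In.iff_mem.1 hb) (In.iff_mem.1 hb')
      (P := fun w => polar Q w y = 0) ?_ ?_ w (In.iff_mem.1 hw))
    · intro a c _ _ ha hc
      rw [polar_add_left, ha, hc, add_zero]
    · intro a ha hqa
      exact hcon a (In.iff_mem.2 ha) hqa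
  obtain ⟨w, hw, hqw, hwy⟩ := h1
  have hw0 : w ≠ 0 := by rintro rfl; exact hwy (by rw [polar_zero_left])
  obtain ⟨w', hw'', hh⟩ := (W4_ns hP.nd h).exists_hyp (In.iff_mem.1 hw) hw0 hqw
  have hw' := In.iff_mem.2 hw''
  set s := polar Q w y with hs
  have hD : ∀ z ∈ N6 Q u v u' v' w w', s • z + (polar Q z y + Q z * s) • w ∈ Y := by
    intro z hz
    obtain ⟨hz1, hz2, hz3⟩ := mem_N6.1 hz
    have h2 := Y.sub_mem (inv w z hw hz1 hqw hz2 y hyY) hyY
    rw [T_apply2 hqw hz2] at h2
    have e : y + polar Q w y • z + (polar Q z y + Q z * polar Q w y) • w - y =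
      s • z + (polar Q z y + Q z * s) • w := by rw [hs]; abel
    rwa [e] at h2
  have hN := N6_ns hP.nd h hw hw' hh
  have hwY : ∀ c : F, c • w ∈ Y := by
    intro c
    obtain ⟨z1, hz1, hz10⟩ := exists_N6_ne (u := u) (v := v) (u' := u') (v' := v') hP w w'
    obtain ⟨z2, hz2, e⟩ := hN.exists_eq hz1 hz10 (c * s⁻¹)
    have h3 := Y.add_mem (Y.add_mem (hD _ (Submodule.add_mem _ hz1 hz2)) (hD z1 hz1)) (hD z2 hz2)
    have h4 : s • (z1 + z2) + (polar Q (z1 + z2) y + Q (z1 + z2) * s) • w +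
        (s • z1 + (polar Q z1 y + Q z1 * s) • w) + (s • z2 + (polar Q z2 y + Q z2 * s) • w) = c • w := by
      rw [Q_add, e, polar_add_left]
      have h2 : (2 : F) = 0 := CharTwo.two_eq_zero
      have h5 : c * s⁻¹ * s = c := by rw [mul_assoc, inv_mul_cancel₀ hwy, mul_one]
      have h6 : c • w = (c * s⁻¹ * s) • w := by rw [h5]
      rw [h6]
      linear_combination (norm := module) h2 • (s • z1 + s • z2 + (polar Q z1 y + polar Q z2 y + Q z1 * s +
        Q z2 * s) • w)
    rwa [h4] at h3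
  have hNY : ∀ z ∈ N6 Q u v u' v' w w', z ∈ Y := by
    intro z hz
    have h3 := Y.sub_mem (hD _ (Submodule.smul_mem _ s⁻¹ hz)) (hwY (polar Q (s⁻¹ • z) y + Q (s⁻¹ • z) * s))
    rwa [add_sub_cancel_right, smul_smul, mul_inv_cancel₀ hwy, one_smul] at h3
  have hwY' : ∀ c : F, c • w' ∈ Y := by
    intro c
    obtain ⟨z, hz, e⟩ := exists_value hP h hw hw' hh c
    obtain ⟨hz1, hz2, hz3⟩ := mem_N6.1 hz
    have h3 := inv w' z hw' hz1 hh.right hz3 w (by simpa using hwY 1)
    rw [T_apply2 hh.right hz3, hh.pair', polar_zero_of_comm hz2, e, one_smul, mul_one, zero_add] at h3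
    have h4 := Y.sub_mem (Y.sub_mem h3 (by simpa using hwY 1 : w ∈ Y)) (hNY z hz)
    have e2 : w + z + c • w' - w - z = c • w' := by abel
    rwa [e2] at h4
  have h5 := Y.sub_mem (Y.sub_mem (hNY _ (mem_N6_sub h hw hw' hh hx)) (hwY' (polar Q w x))) (hwY (polar Q w' x))
  have e3 : x + polar Q w' x • w + polar Q w x • w' - polar Q w x • w' - polar Q w' x • w = x := by abel
  rwa [e3] at h5

/-- Schur -/
theorem schur_W (hP : Par Q) (h : LF Q u v u' v') {B : V → V}
    (hadd : ∀ x y, In Q u v u' v' x → In Q u v u' v' y → B (x + y) = B x + B y)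
    (hB : ∀ x, In Q u v u' v' x → In Q u v u' v' (B x))
    (comm : ∀ w z, In Q u v u' v' w → In Q u v u' v' z → Q w = 0 → polar Q w z = 0 →
      ∀ x, In Q u v u' v' x → B (T Q w z x) = T Q w z (B x)) :
    ∃ α : F, ∀ x, In Q u v u' v' x → B x = α • x := by
  have := hP.fd
  -- singular vectors are eigenvectors
  have hsing : ∀ w w', In Q u v u' v' w → In Q u v u' v' w' → Hyp Q w w' → ∃ α : F, B w = α • w := by
    intro w w' hw hw' hh
    have hx := hB w hw
    set x := B w with hxd
    have hN := N6_ns hP.nd h hw hw' hh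
    have key : ∀ z ∈ N6 Q u v u' v' w w', polar Q w x • z + (polar Q z x + Q z * polar Q w x) • w = 0 := by
      intro z hz
      obtain ⟨hz1, hz2, hz3⟩ := mem_N6.1 hz
      have h1 := comm w z hw hz1 hh.left hz2 w hw
      rw [T_apply_self hh.left hz2, ← hxd, T_apply2 hh.left hz2, add_assoc] at h1
      exact (add_eq_left.1 h1.symm)
    have key2 : ∀ z ∈ N6 Q u v u' v' w w', polar Q z x + Q z * polar Q w x = 0 := by
      intro z hz
      have h1 := congrArg (polar Q w') (key z hz)
      rw [polar_add_right, polar_smul_right, polar_smul_right, (mem_N6.1 hz).2.2, hh.pair',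
        polar_zero_right] at h1
      simpa using h1
    obtain ⟨z1, hz1, hz10⟩ := exists_N6_ne (u := u) (v := v) (u' := u') (v' := v') hP w w'
    have hwx : polar Q w x = 0 := by
      have h1 := key z1 hz1
      rw [key2 z1 hz1, zero_smul, add_zero] at h1
      exact (smul_eq_zero.1 h1).resolve_right hz10
    have hzx : ∀ z ∈ N6 Q u v u' v' w w', polar Q z x = 0 := by
      intro z hz
      have h1 := key2 z hz
      rwa [hwx, mul_zero, add_zero] at h1
    have hn := mem_N6_sub h hw hw' hh hx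
    rw [hwx, zero_smul, add_zero] at hn
    have hn0 : x + polar Q w' x • w = 0 := by
      by_contra hne
      obtain ⟨z, hz, hne2⟩ := hN.nd _ hn hne
      apply hne2
      rw [polar_add_left, polar_smul_left, (mem_N6.1 hz).2.1, polar_zero_of_comm (hzx z hz)]; simp
    refine ⟨polar Q w' x, ?_⟩
    have h2 : x = -(polar Q w' x • w) := eq_neg_of_add_eq_zero_left hn0
    rw [neg_eq' (F := F)] at h2
    exact h2
  obtain ⟨w, w', hw, hw', hh⟩ := hP.exists_pair h
  -- computation of `B` on `N6`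
  have half : ∀ w w', In Q u v u' v' w → In Q u v u' v' w' → Hyp Q w w' → ∀ z ∈ N6 Q u v u' v' w w',
      Q z ≠ 0 → ∀ α' : F, B w' = α' • w' → ∃ γ β : F, B (Q z • w) = β • (Q z • w) ∧
        B z = α' • z + (α' + β) • (Q z • w) := by
    intro w w' hw hw' hh z hz hqz α' hα'
    obtain ⟨hz1, hz2, hz3⟩ := mem_N6.1 hz
    have hh2 : Hyp Q (Q z • w) ((Q z)⁻¹ • w') := ⟨by rw [QuadraticMap.map_smul, hh.left, smul_zero],
      by rw [QuadraticMap.map_smul, hh.right, smul_zero], by
        rw [polar_smul_left, polar_smul_right, hh.pair]; simp [mul_inv_cancel₀ hqz]⟩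
    obtain ⟨β, hβ⟩ := hsing _ _ (hw.smul (Q z)) (hw'.smul _) hh2
    refine ⟨0, β, hβ, ?_⟩
    have h1 := comm w z hw hz1 hh.left hz2 w' hw'
    rw [hα', map_smul, T_apply2 hh.left hz2, hh.pair, polar_zero_of_comm hz3, one_smul, mul_one, zero_add,
      hadd _ _ (hw'.add hz1) (hw.smul _), hadd _ _ hw' hz1, hα', hβ] at h1
    have h2 : (2 : F) = 0 := CharTwo.two_eq_zero
    linear_combination (norm := module) h1 - h2 • (β • (Q z • w))
  obtain ⟨α, hα⟩ := hsing w w' hw hw' hh
  obtain ⟨α', hα'⟩ := hsing w' w hw' hw hh.symm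
  have hsymm : ∀ z, z ∈ N6 Q u v u' v' w w' → z ∈ N6 Q u v u' v' w' w := fun z hz => by
    rw [mem_N6] at hz ⊢
    exact ⟨hz.1, hz.2.2, hz.2.1⟩
  have main : ∀ z ∈ N6 Q u v u' v' w w', Q z ≠ 0 → α = α' ∧ B z = α • z ∧
      B (Q z • w) = α • (Q z • w) ∧ B (Q z • w') = α • (Q z • w') := by
    intro z hz hqz
    obtain ⟨-, β, hβ, e1⟩ := half w w' hw hw' hh z hz hqz α' hα'
    obtain ⟨-, β', hβ', e2⟩ := half w' w hw' hw hh.symm z (hsymm z hz) hqz α hα
    obtain ⟨hz1, hz2, hz3⟩ := mem_N6.1 hz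
    have e3 := e1.symm.trans e2
    have c1 := congrArg (polar Q w') e3
    have c2 := congrArg (polar Q w) e3
    simp only [polar_add_right, polar_smul_right, hz2, hz3, hh.pair, hh.pair', polar_self2, smul_eq_mul,
      mul_zero, zero_add, add_zero, mul_one] at c1 c2
    have d1 : α' + β = 0 := (mul_eq_zero.1 c1).resolve_right hqz
    have d2 : α + β' = 0 := (mul_eq_zero.1 c2.symm).resolve_right hqz
    rw [d1, d2, zero_smul, zero_smul, add_zero, add_zero] at e3
    have hz0 : z ≠ 0 := by rintro rfl; exact hqz (QuadraticMap.map_zero Q)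
    have d3 : α' = α := by
      have : (α' - α) • z = 0 := by rw [sub_smul, e3, sub_self]
      exact sub_eq_zero.1 ((smul_eq_zero.1 this).resolve_right hz0)
    have d4 : β = α' := by
      have := eq_neg_of_add_eq_zero_left d1
      rw [CharTwo.neg_eq] at this
      exact this.symm
    have d5 : β' = α := by
      have := eq_neg_of_add_eq_zero_left d2
      rw [CharTwo.neg_eq] at this
      exact this.symm
    refine ⟨d3.symm, ?_, ?_, ?_⟩
    · rw [e2, d2, zero_smul, add_zero]
    · rw [hβ, d4, d3]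
    · rw [hβ', d5]
  refine ⟨α, fun x hx => ?_⟩
  have h0 : B 0 = 0 := by
    have := hadd 0 0 In.zero In.zero
    rw [add_zero] at this
    simpa using this
  have hc : ∀ c : F, B (c • w) = α • (c • w) ∧ B (c • w') = α • (c • w') := by
    intro c
    by_cases hc0 : c = 0
    · rw [hc0, zero_smul, zero_smul, h0, smul_zero]; exact ⟨rfl, rfl⟩
    · obtain ⟨z, hz, e⟩ := exists_value hP h hw hw' hh c
      obtain ⟨-, -, h1, h2⟩ := main z hz (by rw [e]; exact hc0)
      rw [e] at h1 h2
      exact ⟨h1, h2⟩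
  have hn := mem_N6_sub h hw hw' hh hx
  set n := x + polar Q w' x • w + polar Q w x • w' with hnd
  have hBn : B n = α • n := by
    by_cases hn0 : n = 0
    · rw [hn0, h0, smul_zero]
    · rcases (N6_ns hP.nd h hw hw' hh).two (N6_rich hP h hw hw' hh) hn hn0 with h1 | ⟨a, ha, b, hb, ha0, hb0, e⟩
      · exact (main n hn h1).2.1
      · rw [e, hadd a b (mem_N6.1 ha).1 (mem_N6.1 hb).1, (main a ha ha0).2.1, (main b hb hb0).2.1, smul_add]
  have ex : x = n + polar Q w' x • w + polar Q w x • w' := by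
    have h2 : (2 : F) = 0 := CharTwo.two_eq_zero
    rw [hnd]
    linear_combination (norm := module) -h2 • (polar Q w' x • w + polar Q w x • w')
  have hnI := (mem_N6.1 hn).1
  clear_value n
  have e5 : B x = B (n + polar Q w' x • w + polar Q w x • w') := congrArg B ex
  rw [hadd _ _ (hnI.add (hw.smul _)) (hw'.smul _), hadd _ _ hnI (hw.smul _), hBn, (hc _).1, (hc _).2,
    ← smul_add, ← smul_add, ← ex] at e5
  exact e5

end Cfsg.Agent.OddHalf.Orth
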