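import Mathlib
import Cfsg.Agent.OddHalf.Orth.KIrr

/-!
# `O_2(P) = QL`
-/

set_option autoImplicit false
set_option linter.unusedSectionVars false
set_option linter.unusedVariables false
set_option linter.style.haveILetI false

namespace Cfsg.Agent.OddHalf.Orth

open QuadraticMap Cfsg.Agent.LieClassical.OrthCore Cfsg.Agent.LieClassical.OrthTrans
  Cfsg.Agent.LieClassical.OrthSimple Cfsg.Agent.ClassicalGeometry.OrthAutBasic
  Cfsg.Agent.ClassicalGeometry.OrthAutRoot Face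

variable {F V : Type*} [Field F] [AddCommGroup V] [Module F V] {Q : QuadraticForm F V}

variable [CharP F 2] [Finite F] {u v u' v' : V}

/-- a 2-group acting on a nonzero finite space has a nonzero fixed vector -/
theorem exists_fixed [FiniteDimensional F V] {G : Type*} [Group G] {R : Subgroup G} (hR : IsPGroup 2 R)
    (A : Submodule F V) (φ : G → V → V) (h1 : ∀ x ∈ A, φ 1 x = x)
    (hm : ∀ g ∈ R, ∀ g' ∈ R, ∀ x ∈ A, φ (g * g') x = φ g (φ g' x))
    (hA : ∀ g ∈ R, ∀ x ∈ A, φ g x ∈ A) (h0 : ∀ g ∈ R, φ g 0 = 0) (hne : ∃ x ∈ A, x ≠ 0) :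
    ∃ x ∈ A, x ≠ 0 ∧ ∀ g ∈ R, φ g x = x := by
  have : Finite V := Module.finite_of_finite F
  letI act : MulAction R A :=
    { smul := fun g x => ⟨φ g x, hA g g.2 x x.2⟩
      one_smul := fun x => Subtype.ext (h1 x x.2)
      mul_smul := fun g g' x => Subtype.ext (hm g g.2 g' g'.2 x x.2) }
  obtain ⟨x0, hx0, hx00⟩ := hne
  have hdvd : 2 ∣ Nat.card A := by
    rw [Module.natCard_eq_pow_finrank (K := F)]
    have hpos : Module.finrank F A ≠ 0 := by
      have : Nontrivial A := ⟨⟨⟨x0, hx0⟩, 0, fun e => hx00 (congrArg Subtype.val e)⟩⟩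
      exact (Module.finrank_pos).ne'
    refine dvd_pow ?_ hpos
    have h2 := odd_card_sub_one (F := F)
    have h3 : 1 ≤ Nat.card F := Nat.card_pos
    obtain ⟨k, hk⟩ := h2
    exact ⟨k + 1, by omega⟩
  haveI : Fact (Nat.Prime 2) := ⟨Nat.prime_two⟩
  have hfix0 : (0 : A) ∈ MulAction.fixedPoints R A := fun g => Subtype.ext (h0 g g.2)
  obtain ⟨b, hb, hne⟩ := hR.exists_fixed_point_of_prime_dvd_card_of_fixed_point A hdvd hfix0
  refine ⟨b, b.2, fun e => hne (Subtype.ext e.symm), fun g hg => ?_⟩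
  exact congrArg Subtype.val (hb ⟨g, hg⟩)

/-- for vectors perpendicular to the line -/
theorem decomp_perp (h : LF Q u v u' v') {x : V} (hu : polar Q u x = 0) (hv : polar Q v x = 0) :
    ∃ m ∈ L F u v, x = pW Q u v u' v' x + m := by
  refine ⟨polar Q u' x • u + polar Q v' x • v, mem_L.2 ⟨_, _, rfl⟩, ?_⟩
  have e := decomp (Q := Q) u v u' v' x
  rw [hu, hv, zero_smul, zero_smul, add_zero, add_zero] at e
  rw [← add_assoc]
  exact e

theorem pW_L (h : LF Q u v u' v') {m : V} (hm : m ∈ L F u v) : pW Q u v u' v' m = 0 := by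
  obtain ⟨a, b, rfl⟩ := mem_L.1 hm
  rw [map_add, map_smul, map_smul, pW_u h, pW_v h, smul_zero, smul_zero, add_zero]

/-- `pW (g x)` is an action of `NL` -/
theorem pW_act (h : LF Q u v u' v') {g g' : ↥(E Q)} (hg : g ∈ NL Q u v) (hg' : g' ∈ NL Q u v) {x : V}
    (hx : In Q u v u' v' x) : pW Q u v u' v' (((g * g' : ↥(E Q)) : V ≃ₗ[F] V) x) =
      pW Q u v u' v' ((g : V ≃ₗ[F] V) (pW Q u v u' v' ((g' : V ≃ₗ[F] V) x))) := by
  obtain ⟨h1, h2⟩ := NL_perp hg' hx.u hx.v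
  obtain ⟨m, hm, e⟩ := decomp_perp h h1 h2
  rw [coe_mul']
  nth_rewrite 1 [e]
  rw [map_add, map_add, pW_L h ((mem_NL.1 hg m).2 hm), add_zero]

theorem TW_in {w z : V} (hw : In Q u v u' v' w) (hz : In Q u v u' v' z)
    (hq : Q w = 0) (hwz : polar Q w z = 0) {x : V} (hx : In Q u v u' v' x) : In Q u v u' v' (T Q w z x) := by
  rw [T_apply2 hq hwz]
  exact (hx.add (hz.smul _)).add (hw.smul _)

/-- A 2-subgroup of `P` normalised by `P` lies in `QL`. -/
theorem o2 (hP : Par Q) (h : LF Q u v u' v') {R : Subgroup ↥(E Q)} (hRP : R ≤ P Q u v h.qu h.uv)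
    (hR : IsPGroup 2 R) (hn : ∀ p ∈ P Q u v h.qu h.uv, ∀ r ∈ R, p * r * p⁻¹ ∈ R) : R ≤ QL Q u v := by
  have := hP.fd
  have hRN : R ≤ NL Q u v := hRP.trans (P_le_NL hP.nd h)
  have hn' : ∀ p ∈ P Q u v h.qu h.uv, ∀ r ∈ R, p⁻¹ * r * p ∈ R := fun p hp r hr => by
    simpa using hn p⁻¹ (inv_mem hp) r hr
  -- the line
  obtain ⟨y, hy, hy0, hyf⟩ := exists_fixed (F := F) hR (L F u v) (fun g x => (g : V ≃ₗ[F] V) x)
    (fun x _ => rfl) (fun g _ g' _ x _ => rfl) (fun g hg x hx => (mem_NL.1 (hRN hg) x).2 hx)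
    (fun g _ => map_zero _) ⟨u, left_mem_L _ _, h.h1.left_ne⟩
  have hmove : ∀ p ∈ P Q u v h.qu h.uv, ∀ x, (∀ r ∈ R, (r : V ≃ₗ[F] V) x = x) →
      ∀ r ∈ R, (r : V ≃ₗ[F] V) ((p : V ≃ₗ[F] V) x) = (p : V ≃ₗ[F] V) x := by
    intro p hp x hx r hr
    have e : r * p = p * (p⁻¹ * r * p) := by group
    rw [← coe_mul', e, coe_mul', hx _ (hn' p hp r hr)]
  have hsm : ∀ (c : F), c ≠ 0 → ∀ x, (∀ r ∈ R, (r : V ≃ₗ[F] V) (c • x) = c • x) →
      ∀ r ∈ R, (r : V ≃ₗ[F] V) x = x := by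
    intro c hc x hx r hr
    have h1 := hx r hr
    rw [map_smul] at h1
    exact smul_right_injective V hc h1
  have hfu : ∀ r ∈ R, (r : V ≃ₗ[F] V) u = u := by
    obtain ⟨α, β, rfl⟩ := mem_L.1 hy
    by_cases hβ : β = 0
    · subst hβ
      rw [zero_smul, add_zero] at hyf hy0
      have hα : α ≠ 0 := by rintro rfl; exact hy0 (zero_smul _ _)
      exact hsm α hα u hyf
    · by_cases hθ : ∃ θ : F, θ ≠ 0 ∧ θ ≠ 1
      · obtain ⟨θ, hθ, hθ'⟩ := hθ
        have h1 := hmove _ (tau_mem_P hP h hθ hθ' 1) _ hyf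
        apply hsm β hβ u
        intro r hr
        have h2 := h1 r hr
        rw [map_add (tau Q u v' 1 : V ≃ₗ[F] V), map_smul, map_smul, tau_u h, tau_v h, one_smul,
          show α • u + β • (v + u) = (α • u + β • v) + β • u by module, map_add, hyf r hr] at h2
        exact add_left_cancel h2
      · push Not at hθ
        have h01 : ∀ c : F, c = 0 ∨ c = 1 := fun c => by
          by_cases hc : c = 0
          · exact Or.inl hc
          · exact Or.inr (hθ c hc)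
        have hβ1 : β = 1 := (h01 β).resolve_left hβ
        subst hβ1
        have h1 := hmove _ (rho_mem_P h) _ hyf
        rcases h01 α with rfl | rfl
        · have h2 := hmove _ (rho_mem_P h) _ h1
          intro r hr
          have h3 := h2 r hr
          rw [zero_smul, zero_add, one_smul, rho_v h, map_add, rho_u h, rho_v h,
            show v + (u + v) = u + (v + v) by abel, add_self' (F := F), add_zero] at h3
          exact h3
        · intro r hr
          have h3 := h1 r hr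
          rw [one_smul, one_smul, map_add, rho_u h, rho_v h,
            show v + (u + v) = u + (v + v) by abel, add_self' (F := F), add_zero] at h3
          exact h3
  have hfv : ∀ r ∈ R, (r : V ≃ₗ[F] V) v = v := by
    intro r hr
    have h1 := hmove _ (rho_mem_P h) _ hfu r hr
    rwa [rho_u h] at h1
  -- `W`
  obtain ⟨b, b', hb, hb', hbb⟩ := hP.exists_pair h
  obtain ⟨x0, hx0, hx00, hxf⟩ := exists_fixed (F := F) hR (W4 Q u v u' v')
    (fun g x => pW Q u v u' v' ((g : V ≃ₗ[F] V) x)) (fun x hx => pW_of_in (In.iff_mem.2 hx))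
    (fun g hg g' hg' x hx => pW_act h (hRN hg) (hRN hg') (In.iff_mem.2 hx))
    (fun g hg x hx => In.iff_mem.1 (pW_in h _)) (fun g _ => by
      show pW Q u v u' v' ((g : V ≃ₗ[F] V) 0) = 0
      rw [map_zero, map_zero])
    ⟨b, In.iff_mem.1 hb, hbb.left_ne⟩
  let Y : AddSubgroup V :=
    { carrier := {x | In Q u v u' v' x ∧ ∀ r ∈ R, pW Q u v u' v' ((r : V ≃ₗ[F] V) x) = x}
      zero_mem' := ⟨In.zero, fun r _ => by rw [map_zero, map_zero]⟩
      add_mem' := by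
        rintro x y ⟨hx, hx2⟩ ⟨hy, hy2⟩
        exact ⟨hx.add hy, fun r hr => by rw [map_add, map_add, hx2 r hr, hy2 r hr]⟩
      neg_mem' := by
        rintro x ⟨hx, hx2⟩
        rw [neg_eq' (F := F)]
        exact ⟨hx, hx2⟩ }
  have hYW : ∀ x, In Q u v u' v' x → x ∈ Y := by
    intro x hx
    refine irr_W hP h Y (fun y hy => hy.1) ?_ ⟨x0, ⟨In.iff_mem.2 hx0, hxf⟩, hx00⟩ hx
    rintro w z hw hz hq hwz y ⟨hy1, hy2⟩
    refine ⟨TW_in hw hz hq hwz hy1, fun r hr => ?_⟩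
    have hp := TW_mem_P hP h hw hz hq hwz
    have hpN := P_le_NL hP.nd h hp
    have hr' := hn' _ hp r hr
    have e : r * tE Q w z = tE Q w z * ((tE Q w z)⁻¹ * r * tE Q w z) := by group
    have h1 : (r : V ≃ₗ[F] V) (T Q w z y) = ((r * tE Q w z : ↥(E Q)) : V ≃ₗ[F] V) y := rfl
    rw [h1, e, pW_act h hpN (hRN hr') hy1, hy2 _ hr', coe_tE, pW_of_in (TW_in hw hz hq hwz hy1)]
  intro r hr
  refine ⟨hfu r hr, hfv r hr, fun w h1 h2 => ?_⟩
  obtain ⟨m, hm, e⟩ := decomp_perp h h1 h2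
  have hWw := (hYW _ (pW_in h w)).2 r hr
  have hpw := pW_in h w
  set y := pW Q u v u' v' w with hyd
  obtain ⟨h3, h4⟩ := NL_perp (hRN hr) hpw.u hpw.v
  obtain ⟨m', hm', e'⟩ := decomp_perp h h3 h4
  rw [hWw] at e'
  obtain ⟨a, b, e3⟩ := mem_L.1 hm'
  refine ⟨a, b, ?_⟩
  have hrm : (r : V ≃ₗ[F] V) m = m := by
    obtain ⟨c, d, rfl⟩ := mem_L.1 hm
    rw [map_add, map_smul, map_smul, hfu r hr, hfv r hr]
  rw [e, map_add, e', hrm, ← e3]
  abel

/-- `QL` is a 2-group -/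
theorem QL_pow (h : LF Q u v u' v') {g : ↥(E Q)} (hg : g ∈ QL Q u v) :
    g * g ∈ X Q u v h.qu h.uv ∧ g ^ 4 = 1 := by
  have h1 : g * g ∈ X Q u v h.qu h.uv := by
    rw [mem_X_iff h (mul_mem hg hg), xc_mul h hg hg, yc_mul h hg hg, add_self' (F := F), add_self' (F := F)]
    exact ⟨rfl, rfl⟩
  refine ⟨h1, ?_⟩
  obtain ⟨c, e⟩ := mem_X.1 h1
  have : g ^ 4 = (g * g) * (g * g) := by simp [pow_succ, mul_assoc]
  rw [this, e, tE_mul_self h.qu (perp_smul_v h c)]

theorem isPGroup_QL (h : LF Q u v u' v') : IsPGroup 2 (QL Q u v) := by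
  rintro ⟨g, hg⟩
  exact ⟨2, Subtype.ext (by
    show g ^ (2 ^ 2) = 1
    exact (QL_pow h hg).2)⟩

end Cfsg.Agent.OddHalf.Orth
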