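import Mathlib
import Cfsg.Agent.OddHalf.Orth.KO2

/-!
# The commutant of `P` on `QL / X`, and `H^0(P, Hom(QL/X, X)/Inn QL) = 0`
-/

set_option autoImplicit false
set_option linter.unusedSectionVars false
set_option linter.unusedVariables false
set_option linter.style.haveILetI false

namespace Cfsg.Agent.OddHalf.Orth

open QuadraticMap Cfsg.Agent.LieClassical.OrthCore Cfsg.Agent.LieClassical.OrthTrans
  Cfsg.Agent.LieClassical.OrthSimple Cfsg.Agent.ClassicalGeometry.OrthAutBasic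
  Cfsg.Agent.ClassicalGeometry.OrthAutRoot Face

variable {F V : Type*} [Field F] [AddCommGroup V] [Module F V] {Q : QuadraticForm F V}

variable [CharP F 2] [Finite F] {u v u' v' : V}

/-- a multiplicative map of `QL` preserving `X` and commuting with the `T w z` and `rho` modulo `X` -/
structure Cmt (h : LF Q u v u' v') (α : ↥(E Q) → ↥(E Q)) : Prop where
  mem : ∀ k ∈ QL Q u v, α k ∈ QL Q u v
  mul : ∀ k ∈ QL Q u v, ∀ k' ∈ QL Q u v, α (k * k') = α k * α k'
  mX : ∀ k ∈ X Q u v h.qu h.uv, α k ∈ X Q u v h.qu h.uv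
  comm : ∀ w z, In Q u v u' v' w → In Q u v u' v' z → Q w = 0 → polar Q w z = 0 → ∀ k ∈ QL Q u v,
    α (tE Q w z * k * (tE Q w z)⁻¹) * (tE Q w z * α k * (tE Q w z)⁻¹)⁻¹ ∈ X Q u v h.qu h.uv
  crho : ∀ k ∈ QL Q u v, α (rho Q u v u' v' * k * (rho Q u v u' v')⁻¹) *
    (rho Q u v u' v' * α k * (rho Q u v u' v')⁻¹)⁻¹ ∈ X Q u v h.qu h.uv

namespace Cmt
variable {h : LF Q u v u' v'} {α : ↥(E Q) → ↥(E Q)}

theorem tE_split (h : LF Q u v u' v') {k : ↥(E Q)} (hk : k ∈ QL Q u v) : ∃ x ∈ X Q u v h.qu h.uv,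
    k = tE Q u (xc Q u v u' v' k) * tE Q v (yc Q u v u' v' k) * x := by
  obtain ⟨c, e⟩ := exists_q' h hk
  exact ⟨_, mem_X.2 ⟨c, rfl⟩, e⟩

/-- the coordinates of `α k` in terms of those of `α (T u x)`, `α (T v y)` -/
theorem coords_split (mem : ∀ k ∈ QL Q u v, α k ∈ QL Q u v)
    (mul : ∀ k ∈ QL Q u v, ∀ k' ∈ QL Q u v, α (k * k') = α k * α k')
    (hX : ∀ k ∈ X Q u v h.qu h.uv, α k ∈ X Q u v h.qu h.uv) {k : ↥(E Q)} (hk : k ∈ QL Q u v) :
    xc Q u v u' v' (α k) = xc Q u v u' v' (α (tE Q u (xc Q u v u' v' k))) +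
        xc Q u v u' v' (α (tE Q v (yc Q u v u' v' k))) ∧
      yc Q u v u' v' (α k) = yc Q u v u' v' (α (tE Q u (xc Q u v u' v' k))) +
        yc Q u v u' v' (α (tE Q v (yc Q u v u' v' k))) := by
  obtain ⟨x, hx, e⟩ := tE_split h hk
  have hxi := xc_in h k
  have hyi := yc_in h k
  set a := xc Q u v u' v' k
  set b := yc Q u v u' v' k
  have ha := tE_QL h hxi
  have hb := tE_QL' h hyi
  have hxQ := X_le_QL h hx
  have hαx := hX x hx
  obtain ⟨c1, c2⟩ := (mem_X_iff h (X_le_QL h hαx)).1 hαx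
  rw [e, mul _ (mul_mem ha hb) _ hxQ, mul _ ha _ hb,
    xc_mul h (mul_mem (mem _ ha) (mem _ hb)) (mem _ hxQ), xc_mul h (mem _ ha) (mem _ hb),
    yc_mul h (mul_mem (mem _ ha) (mem _ hb)) (mem _ hxQ), yc_mul h (mem _ ha) (mem _ hb), c1, c2,
    add_zero, add_zero]
  exact ⟨rfl, rfl⟩

theorem coords (hP : Par Q) (C : Cmt h α) : ∃ r s : F, ∀ k ∈ QL Q u v,
    xc Q u v u' v' (α k) = r • xc Q u v u' v' k + s • yc Q u v u' v' k ∧
    yc Q u v u' v' (α k) = s • xc Q u v u' v' k + (r + s) • yc Q u v u' v' k := by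
  have hco : ∀ w z, In Q u v u' v' w → In Q u v u' v' z → Q w = 0 → polar Q w z = 0 → ∀ k ∈ QL Q u v,
      xc Q u v u' v' (α (tE Q w z * k * (tE Q w z)⁻¹)) = T Q w z (xc Q u v u' v' (α k)) ∧
      yc Q u v u' v' (α (tE Q w z * k * (tE Q w z)⁻¹)) = T Q w z (yc Q u v u' v' (α k)) := by
    intro w z hw hz hq hwz k hk
    have hN := P_le_NL hP.nd h (TW_mem_P hP h hw hz hq hwz)
    have h1 := C.comm w z hw hz hq hwz k hk
    rw [mul_inv_mem_X_iff h (C.mem _ (QL_conj hN hk)) (QL_conj hN (C.mem k hk))] at h1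
    obtain ⟨e1, e2⟩ := coords_TW h hw hz hq hwz (C.mem k hk)
    rw [h1.1, h1.2, e1, e2]
    exact ⟨rfl, rfl⟩
  have hu : ∀ w z x, In Q u v u' v' w → In Q u v u' v' z → In Q u v u' v' x →
      tE Q w z * tE Q u x * (tE Q w z)⁻¹ = tE Q u (T Q w z x) := by
    intro w z x hw hz hx
    rw [tE_conj, coe_tE, T_fix hw.ru hz.ru]
  have hv : ∀ w z x, In Q u v u' v' w → In Q u v u' v' z → In Q u v u' v' x →
      tE Q w z * tE Q v x * (tE Q w z)⁻¹ = tE Q v (T Q w z x) := by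
    intro w z x hw hz hx
    rw [tE_conj, coe_tE, T_fix hw.rv hz.rv]
  obtain ⟨r, hr⟩ := schur_W hP h (B := fun x => xc Q u v u' v' (α (tE Q u x)))
    (fun x y hx hy => by
      show xc Q u v u' v' (α (tE Q u (x + y))) = _
      rw [← tE_mul h.qu hx.u hy.u, C.mul _ (tE_QL h hx) _ (tE_QL h hy),
        xc_mul h (C.mem _ (tE_QL h hx)) (C.mem _ (tE_QL h hy))])
    (fun x hx => xc_in h _)
    (fun w z hw hz hq hwz x hx => by
      show xc Q u v u' v' (α (tE Q u (T Q w z x))) = _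
      rw [← hu w z x hw hz hx, (hco w z hw hz hq hwz _ (tE_QL h hx)).1])
  obtain ⟨s, hs⟩ := schur_W hP h (B := fun x => yc Q u v u' v' (α (tE Q u x)))
    (fun x y hx hy => by
      show yc Q u v u' v' (α (tE Q u (x + y))) = _
      rw [← tE_mul h.qu hx.u hy.u, C.mul _ (tE_QL h hx) _ (tE_QL h hy),
        yc_mul h (C.mem _ (tE_QL h hx)) (C.mem _ (tE_QL h hy))])
    (fun x hx => yc_in h _)
    (fun w z hw hz hq hwz x hx => by
      show yc Q u v u' v' (α (tE Q u (T Q w z x))) = _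
      rw [← hu w z x hw hz hx, (hco w z hw hz hq hwz _ (tE_QL h hx)).2])
  have hρN := P0_le_NL' h
  have hρ : ∀ x, In Q u v u' v' x → xc Q u v u' v' (α (tE Q v x)) = s • x ∧
      yc Q u v u' v' (α (tE Q v x)) = (r + s) • x := by
    intro x hx
    have e1 : rho Q u v u' v' * tE Q u x * (rho Q u v u' v')⁻¹ = tE Q v x := by
      rw [tE_conj, rho_u h, rho_w h hx]
    have h1 := C.crho _ (tE_QL h hx)
    rw [mul_inv_mem_X_iff h (C.mem _ (QL_conj hρN (tE_QL h hx))) (QL_conj hρN (C.mem _ (tE_QL h hx))), e1] at h1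
    obtain ⟨e2, e3⟩ := coords_rho h (C.mem _ (tE_QL h hx))
    rw [h1.1, h1.2, e2, e3]
    have h2 := hr x hx
    have h3 := hs x hx
    rw [h2, h3, add_smul]
    exact ⟨rfl, rfl⟩
  refine ⟨r, s, fun k hk => ?_⟩
  obtain ⟨e1, e2⟩ := coords_split (h := h) C.mem C.mul C.mX hk
  have h2 := hr _ (xc_in h k)
  have h3 := hs _ (xc_in h k)
  obtain ⟨h4, h5⟩ := hρ _ (yc_in h k)
  rw [e1, e2, h2, h3, h4, h5]
  exact ⟨rfl, rfl⟩

end Cmt

/-! ### Representation of functionals on `W` -/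

theorem repr_W (hP : Par Q) (h : LF Q u v u' v') {f : V → F}
    (hadd : ∀ x y, In Q u v u' v' x → In Q u v u' v' y → f (x + y) = f x + f y)
    (hsm : ∀ (c : F) x, In Q u v u' v' x → f (c • x) = c * f x) :
    ∃ y, In Q u v u' v' y ∧ ∀ x, In Q u v u' v' x → f x = polar Q x y := by
  have := hP.fd
  let g : V →ₗ[F] F :=
    { toFun := fun x => f (pW Q u v u' v' x)
      map_add' := fun x y => by rw [map_add, hadd _ _ (pW_in h x) (pW_in h y)]
      map_smul' := fun c x => by rw [map_smul, hsm c _ (pW_in h x)]; rfl }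
  have hinj : Function.Injective (polarBilin Q) := by
    rw [← LinearMap.ker_eq_bot, LinearMap.ker_eq_bot']
    intro x hx
    exact hP.nd x fun y => by
      have := congrArg (fun f => f y) hx
      simpa using this
  have hsurj : Function.Surjective (polarBilin Q) := by
    have hdim : Module.finrank F V = Module.finrank F (Module.Dual F V) := (Subspace.dual_finrank_eq).symm
    exact (LinearMap.injective_iff_surjective_of_finrank_eq_finrank hdim).1 hinj
  obtain ⟨y, hy⟩ := hsurj g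
  refine ⟨pW Q u v u' v' y, pW_in h y, fun x hx => ?_⟩
  have h1 := congrArg (fun f => f x) hy
  have h2 : polar Q y x = f (pW Q u v u' v' x) := h1
  rw [pW_of_in hx] at h2
  rw [← h2, polar_pW hx, polar_comm]

/-- the commutator form on the coordinates -/
def om (Q : QuadraticForm F V) (u v u' v' : V) (g k : ↥(E Q)) : F :=
  polar Q (xc Q u v u' v' g) (yc Q u v u' v' k) + polar Q (xc Q u v u' v' k) (yc Q u v u' v' g)

/-- **E2** -/
theorem e2 (hP : Par Q) (h : LF Q u v u' v') {φ : ↥(E Q) → F}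
    (hadd : ∀ k ∈ QL Q u v, ∀ k' ∈ QL Q u v, φ (k * k') = φ k + φ k')
    (hX : ∀ k ∈ X Q u v h.qu h.uv, φ k = 0)
    (hinv : ∀ p ∈ P Q u v h.qu h.uv, ∃ q0 ∈ QL Q u v, ∀ k ∈ QL Q u v,
      φ (p * k * p⁻¹) = φ k + om Q u v u' v' q0 k) :
    ∃ q0 ∈ QL Q u v, ∀ k ∈ QL Q u v, φ k = om Q u v u' v' q0 k := by
  have hsplit : ∀ k ∈ QL Q u v, φ k = φ (tE Q u (xc Q u v u' v' k)) + φ (tE Q v (yc Q u v u' v' k)) := by
    intro k hk
    obtain ⟨x, hx, e⟩ := Cmt.tE_split h hk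
    have hxi := xc_in h k
    have hyi := yc_in h k
    set a := xc Q u v u' v' k
    set b := yc Q u v u' v' k
    rw [e, hadd _ (mul_mem (tE_QL h hxi) (tE_QL' h hyi)) _ (X_le_QL h hx), hadd _ (tE_QL h hxi) _ (tE_QL' h hyi),
      hX x hx, add_zero]
  have a1 : ∀ x y, In Q u v u' v' x → In Q u v u' v' y → φ (tE Q u (x + y)) = φ (tE Q u x) + φ (tE Q u y) := by
    intro x y hx hy
    rw [← tE_mul h.qu hx.u hy.u, hadd _ (tE_QL h hx) _ (tE_QL h hy)]
  have a2 : ∀ x y, In Q u v u' v' x → In Q u v u' v' y → φ (tE Q v (x + y)) = φ (tE Q v x) + φ (tE Q v y) := by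
    intro x y hx hy
    rw [← tE_mul h.qv hx.v hy.v, hadd _ (tE_QL' h hx) _ (tE_QL' h hy)]
  have h0 : φ 1 = 0 := hX 1 (one_mem _)
  -- linearity
  have lin : (∀ (c : F) x, In Q u v u' v' x → φ (tE Q u (c • x)) = c * φ (tE Q u x)) ∧
      (∀ (c : F) x, In Q u v u' v' x → φ (tE Q v (c • x)) = c * φ (tE Q v x)) := by
    by_cases hθ : ∃ θ : F, θ ≠ 0 ∧ θ ≠ 1
    · obtain ⟨θ, hθ, hθ'⟩ := hθ
      obtain ⟨q0, hq0, e0⟩ := hinv _ (tau_mem_P hP h hθ hθ' 1)
      obtain ⟨q1, hq1, e1⟩ := hinv _ (rho_mem_P h)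
      have k1 : ∀ x, In Q u v u' v' x → φ (tE Q u x) = polar Q (xc Q u v u' v' q0) x := by
        intro x hx
        have h1 := e0 _ (tE_QL' h hx)
        have hm := QL_conj (tau_NL h 1) (tE_QL' h hx)
        obtain ⟨c1, c2⟩ := coords_tau h 1 (tE_QL' h hx)
        rw [hsplit _ hm, c1, c2, xc_tE' h hx, yc_tE' h hx, zero_add, one_smul, om, xc_tE' h hx, yc_tE' h hx,
          polar_zero_left, add_zero, add_comm] at h1
        exact add_left_cancel h1
      have k2 : ∀ x, In Q u v u' v' x → φ (tE Q v x) = polar Q (xc Q u v u' v' q0) x +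
          polar Q x (yc Q u v u' v' q1) := by
        intro x hx
        have h1 := e1 _ (tE_QL h hx)
        have e3 : rho Q u v u' v' * tE Q u x * (rho Q u v u' v')⁻¹ = tE Q v x := by
          rw [tE_conj, rho_u h, rho_w h hx]
        rw [e3, k1 x hx, om, xc_tE h hx, yc_tE h hx, polar_zero_right, zero_add] at h1
        exact h1
      refine ⟨fun c x hx => ?_, fun c x hx => ?_⟩
      · rw [k1 _ (hx.smul c), k1 x hx, polar_smul_right, smul_eq_mul]
      · rw [k2 _ (hx.smul c), k2 x hx, polar_smul_right, polar_smul_left, smul_eq_mul, smul_eq_mul, mul_add]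
    · push Not at hθ
      refine ⟨fun c x hx => ?_, fun c x hx => ?_⟩
      · by_cases hc : c = 0
        · rw [hc, zero_smul, tE_zero_right, h0, zero_mul]
        · rw [hθ c hc, one_smul, one_mul]
      · by_cases hc : c = 0
        · rw [hc, zero_smul, tE_zero_right, h0, zero_mul]
        · rw [hθ c hc, one_smul, one_mul]
  obtain ⟨y0, hy0, f1⟩ := repr_W hP h (f := fun x => φ (tE Q u x)) a1 lin.1
  obtain ⟨x0, hx0, f2⟩ := repr_W hP h (f := fun x => φ (tE Q v x)) a2 lin.2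
  refine ⟨q Q u v x0 y0 0, q_mem h hx0 hy0 0, fun k hk => ?_⟩
  have g1 := f1 _ (xc_in h k)
  have g2 := f2 _ (yc_in h k)
  rw [hsplit k hk, g1, g2, om, xc_q h hx0 hy0, yc_q h hx0 hy0, add_comm, polar_comm Q x0]

end Cfsg.Agent.OddHalf.Orth
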