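import Mathlib
import Cfsg.Agent.OddHalf.Orth.KCom
import Cfsg.Agent.OddHalf.D7Ex.Move

/-!
# `D7Ex.Setup` for `K = Ω(V)`

* `odd_mem` : the elements of odd order of `C_G(t) ∩ C_G(j X)` are in `j P0`;
* `P_map`, `QL_map` : an element normalising `j X` and `t (j X)` normalises `j P`, `j QL`;
* `setup_of` : `D7Ex.Setup`; `setup_tr`, `setup_ne`.
-/

set_option autoImplicit false
set_option linter.unusedSectionVars false
set_option linter.unusedVariables false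
set_option linter.style.haveILetI false

namespace Cfsg.Agent.OddHalf.Orth

open QuadraticMap Cfsg.Agent.LieClassical.OrthCore Cfsg.Agent.LieClassical.OrthTrans
  Cfsg.Agent.LieClassical.OrthSimple Cfsg.Agent.ClassicalGeometry.OrthAutBasic
  Cfsg.Agent.ClassicalGeometry.OrthAutRoot Face Sem'

variable {F V : Type*} [Field F] [AddCommGroup V] [Module F V] {Q : QuadraticForm F V}

theorem sq_mem_E (hG : Good Q) {g : V ≃ₗ[F] V} (hg : g ∈ O Q) : g * g ∈ E Q := by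
  have : FiniteDimensional F V := Module.finite_of_finrank_pos (by have := hG.dim; omega)
  have hO := O_eq_closure hG.nondeg
  have hg' := hg
  rw [hO] at hg'
  induction hg' using Subgroup.closure_induction with
  | mem x hx =>
    rcases hx with ⟨v, hv, rfl⟩ | ⟨u, w, hu, hw, rfl⟩
    · rw [refl_mul_self]; exact one_mem _
    · exact mul_mem (siegel_mem_E hu hw) (siegel_mem_E hu hw)
  | one => rw [mul_one]; exact one_mem _
  | mul x y hx hy ihx ihy =>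
    rw [← hO] at hx hy
    have h1 : x⁻¹ * y * x * y⁻¹ ∈ E Q := by
      have h2 := hG.commutator_le_E (Subgroup.commutator_mem_commutator ((O Q).inv_mem hx) hy)
      rw [commutatorElement_def, inv_inv] at h2
      exact h2
    have e : x * y * (x * y) = (x * x) * (x⁻¹ * y * x * y⁻¹) * (y * y) := by group
    rw [e]
    exact mul_mem (mul_mem (ihx hx) h1) (ihy hy)
  | inv x hx ih =>
    rw [← hO] at hx
    rw [← mul_inv_rev]
    exact inv_mem (ih hx)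

variable {G : Type*} [Group G] {t : G} {j : ↥(E Q) →* G}

theorem Sit_t_inv (S : Sit Q t j) : t⁻¹ = t := inv_eq_of_mul_eq_one_left S.tt

/-- an element of `C_G(t)` acting on `V` as an element of `E Q` -/
theorem Sit_lift (S : Sit Q t j) {g : G} (gt : g * t = t * g) (m : ↥(E Q))
    (hg : ∀ u x, Q u = 0 → polar Q u x = 0 →
      g * j (tE Q u x) * g⁻¹ = j (tE Q ((m : V ≃ₗ[F] V) u) ((m : V ≃ₗ[F] V) x))) :
    g = j m ∨ g = j m * t := by
  have h1 : (j m)⁻¹ * g * t = t * ((j m)⁻¹ * g) := by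
    have h2 := S.tj m⁻¹
    rw [map_inv] at h2
    rw [mul_assoc, gt, ← mul_assoc, ← mul_assoc, h2]
  rcases S.ker ((j m)⁻¹ * g) h1 (fun u x hu hx => by
    have h2 := hg u x hu hx
    rw [← tE_conj, map_mul, map_mul, map_inv] at h2
    have h3 : (j m)⁻¹ * (g * j (tE Q u x) * g⁻¹) * j m = j (tE Q u x) := by rw [h2]; group
    calc (j m)⁻¹ * g * j (tE Q u x) = (j m)⁻¹ * (g * j (tE Q u x) * g⁻¹) * j m * ((j m)⁻¹ * g) := by group
      _ = j (tE Q u x) * ((j m)⁻¹ * g) := by rw [h3]) with h | h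
  · left
    rw [inv_mul_eq_one] at h
    exact h.symm
  · right
    rw [← h, mul_inv_cancel_left]

section two
variable [CharP F 2] [Finite F] {u v u' v' : V}

theorem tE_smul_inj (hQ : Nondeg Q) (h : LF Q u v u' v') {c d : F} (e : tE Q u (c • v) = tE Q u (d • v)) :
    c = d := by
  have h1 : tE Q u ((c + d) • v) = 1 := by
    rw [add_smul, ← tE_mul h.qu (perp_smul_v h c) (perp_smul_v h d), e, tE_mul_self h.qu (perp_smul_v h d)]
  have h2 := (tE_smul_eq_one_iff h hQ).1 h1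
  have h3 := eq_neg_of_add_eq_zero_left h2
  rwa [CharTwo.neg_eq] at h3

/-- an element of `C_G(t)` centralising `j X` acts linearly on `V` -/
theorem Sit_lin (hP : Par Q) (S : Sit Q t j) (h : LF Q u v u' v') {g : G} (gt : g * t = t * g)
    (hX : ∀ c : F, g * j (tE Q u (c • v)) = j (tE Q u (c • v)) * g) :
    ∃ m : V ≃ₗ[F] V, m ∈ O Q ∧ (∀ a x, Q a = 0 → polar Q a x = 0 →
      g * j (tE Q a x) * g⁻¹ = j (tE Q (m a) (m x))) := by
  obtain ⟨M, σ, hS, hM⟩ := S.act g gt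
  have e : ∀ c : F, tE Q (M u) (M (c • v)) = tE Q u (c • v) := by
    intro c
    apply S.inj
    rw [← hM u (c • v) h.qu (perp_smul_v h c), hX c, mul_inv_cancel_right]
  obtain ⟨h1, h2⟩ := mem_line hP.nd hS h.ln (by simpa using e 1)
  obtain ⟨a, b, ea⟩ := mem_L.1 h1
  obtain ⟨a', b', eb⟩ := mem_L.1 h2
  have e2 : ∀ c : F, σ c * (a * b' - b * a') = c := by
    intro c
    apply tE_smul_inj hP.nd h
    rw [← e c, hS.smul, ← ea, ← eb]
    apply Subtype.ext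
    rw [coe_tE, coe_tE, show σ c • (a' • u + b' • v) = (σ c * a') • u + (σ c * b') • v by module,
      T_det h.ln a b (σ c * a') (σ c * b')]
    congr 2
    ring
  have hd : a * b' - b * a' = 1 := by
    have := e2 1
    rwa [map_one, one_mul] at this
  have hσ : ∀ c, σ c = c := by
    intro c
    have := e2 c
    rwa [hd, mul_one] at this
  exact ⟨toLin hS hσ, toLin_mem hS hσ, hM⟩

theorem odd_mem (hP : Par Q) (S : Sit Q t j) (h : LF Q u v u' v') {g : G} (gt : g * t = t * g)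
    (hodd : Odd (orderOf g)) (hX : ∀ c : F, g * j (tE Q u (c • v)) = j (tE Q u (c • v)) * g) :
    ∃ k ∈ P0 Q u v h.qu h.uv, j k = g := by
  obtain ⟨m, hm, hM⟩ := Sit_lin hP S h gt hX
  have hmm := sq_mem_E hP.good hm
  have gt2 : g * g * t = t * (g * g) := by rw [mul_assoc, gt, ← mul_assoc, gt, mul_assoc]
  have h1 := Sit_lift S gt2 ⟨m * m, hmm⟩ (fun a x ha hx => by
    have h2 := hM a x ha hx
    have h3 := hM (m a) (m x) (by rw [mem_O.1 hm, ha]) (by rw [polar_map hm, hx])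
    show g * g * j (tE Q a x) * (g * g)⁻¹ = j (tE Q (m (m a)) (m (m x)))
    rw [← h3, ← h2]; group)
  have hA : ∃ k, g * g = j k ∨ g * g = j k * t := ⟨_, h1⟩
  have hApow : ∀ i : ℕ, ∃ k, (g * g) ^ i = j k ∨ (g * g) ^ i = j k * t := by
    obtain ⟨k, hk⟩ := hA
    intro i
    induction i with
    | zero => exact ⟨1, Or.inl (by rw [pow_zero, map_one])⟩
    | succ i ih =>
      obtain ⟨k', hk'⟩ := ih
      rw [pow_succ]
      have e1 : ∀ a b : ↥(E Q), j a * t * j b = j (a * b) * t := fun a b => by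
        rw [mul_assoc, S.tj, ← mul_assoc, map_mul]
      rcases hk' with h2 | h2 <;> rcases hk with h3 | h3 <;> rw [h2, h3]
      · exact ⟨k' * k, Or.inl (by rw [map_mul])⟩
      · exact ⟨k' * k, Or.inr (by rw [map_mul, mul_assoc])⟩
      · exact ⟨k' * k, Or.inr (e1 _ _)⟩
      · refine ⟨k' * k, Or.inl ?_⟩
        rw [← mul_assoc, e1, mul_assoc, S.tt, mul_one]
  obtain ⟨i, hi⟩ := hodd
  have hg : (g * g) ^ (i + 1) = g := by
    rw [← pow_two, ← pow_mul]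
    have : 2 * (i + 1) = orderOf g + 1 := by omega
    rw [this, pow_succ, pow_orderOf_eq_one, one_mul]
  obtain ⟨k, hk⟩ := hApow (i + 1)
  rw [hg] at hk
  have hk1 : g = j k := by
    rcases hk with h2 | h2
    · exact h2
    · exfalso
      have hpow : ∀ n : ℕ, (j k * t) ^ n = j (k ^ n) * t ^ n := by
        intro n
        rw [map_pow]
        exact (show Commute (j k) t from (S.tj k).symm).mul_pow n
      have h3 : g ^ orderOf g = 1 := pow_orderOf_eq_one g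
      nth_rewrite 1 [h2] at h3
      rw [hpow, hi, pow_succ t, pow_mul t, pow_two, S.tt, one_pow, one_mul] at h3
      have h4 : t = j ((k ^ (2 * i + 1))⁻¹) := by
        rw [map_inv]; exact eq_inv_of_mul_eq_one_right h3
      exact S.tK _ h4.symm
  refine ⟨k, ?_, hk1.symm⟩
  rw [mem_P0]
  intro c
  apply S.inj
  rw [map_mul, map_mul, ← hk1, hX c]

theorem orderOf_j (S : Sit Q t j) (k : ↥(E Q)) : orderOf (j k) = orderOf k := orderOf_injective j S.inj k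

/-- the inverse of an element normalising `j X` and `t (j X)` -/
theorem inv_norm [Finite G] (S : Sit Q t j) {A : Subgroup ↥(E Q)} {n : G}
    (hX : ∀ x ∈ A.map j, n * x * n⁻¹ ∈ A.map j) (ht : t * (n * t * n⁻¹) ∈ A.map j) :
    (∀ x ∈ A.map j, n⁻¹ * x * n⁻¹⁻¹ ∈ A.map j) ∧ t * (n⁻¹ * t * n⁻¹⁻¹) ∈ A.map j := by
  have h1 : ∀ x ∈ A.map j, n⁻¹ * x * n ∈ A.map j := by
    let f : A.map j → A.map j := fun x => ⟨n * x * n⁻¹, hX x x.2⟩
    have hf : Function.Injective f := by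
      intro x y hxy
      have h2 : n * (x : G) * n⁻¹ = n * (y : G) * n⁻¹ := congrArg Subtype.val hxy
      exact Subtype.ext (mul_left_cancel (mul_right_cancel h2))
    have hs := Finite.surjective_of_injective hf
    intro x hx
    obtain ⟨y, hy⟩ := hs ⟨x, hx⟩
    have h2 : n * (y : G) * n⁻¹ = x := congrArg Subtype.val hy
    have h3 : n⁻¹ * x * n = y := by rw [← h2]; group
    rw [h3]; exact y.2
  refine ⟨fun x hx => by simpa using h1 x hx, ?_⟩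
  have h2 := inv_mem (h1 _ ht)
  have e : t * (n⁻¹ * t * n⁻¹⁻¹) = (n⁻¹ * (t * (n * t * n⁻¹)) * n)⁻¹ := by
    calc t * (n⁻¹ * t * n⁻¹⁻¹) = t⁻¹ * (n⁻¹ * t⁻¹ * n) := by rw [Sit_t_inv S, inv_inv]
      _ = _ := by group
  rwa [e]

/-- an element normalising `j X` and `t (j X)` normalises `j P` -/
theorem P_map [Finite G] (hP : Par Q) (S : Sit Q t j) (h : LF Q u v u' v') {n : G}
    (hX : ∀ x ∈ (X Q u v h.qu h.uv).map j, n * x * n⁻¹ ∈ (X Q u v h.qu h.uv).map j)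
    (ht : t * (n * t * n⁻¹) ∈ (X Q u v h.qu h.uv).map j) {p : ↥(E Q)} (hp : p ∈ P Q u v h.qu h.uv) :
    n * j p * n⁻¹ ∈ (P Q u v h.qu h.uv).map j := by
  obtain ⟨hX', ht'⟩ := inv_norm S hX ht
  have h1 : P Q u v h.qu h.uv ≤ ((P Q u v h.qu h.uv).map j).comap ((MulAut.conj n).toMonoidHom.comp j) := by
    conv_lhs => rw [P]
    rw [Subgroup.closure_le]
    rintro p ⟨hp, hodd⟩
    show n * j p * n⁻¹ ∈ (P Q u v h.qu h.uv).map j
    -- `j p` commutes with `j X` and `t`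
    have c1 : ∀ x ∈ (X Q u v h.qu h.uv).map j, j p * x = x * j p := by
      rintro _ ⟨x, hx, rfl⟩
      obtain ⟨c, rfl⟩ := mem_X.1 hx
      rw [← map_mul, mem_P0.1 hp c, map_mul]
    have c2 : j p * t = t * j p := (S.tj p).symm
    have key : ∀ y, j p * (n⁻¹ * y * n) = (n⁻¹ * y * n) * j p → n * j p * n⁻¹ * y = y * (n * j p * n⁻¹) := by
      intro y hy
      calc n * j p * n⁻¹ * y = n * (j p * (n⁻¹ * y * n)) * n⁻¹ := by group
        _ = n * ((n⁻¹ * y * n) * j p) * n⁻¹ := by rw [hy]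
        _ = _ := by group
    have c3 : n * j p * n⁻¹ * t = t * (n * j p * n⁻¹) := by
      apply key
      have e : n⁻¹ * t * n = t * (t * (n⁻¹ * t * n⁻¹⁻¹)) := by
        rw [← mul_assoc, S.tt, one_mul, inv_inv]
      rw [e, ← mul_assoc, c2, mul_assoc, c1 _ ht', ← mul_assoc]
    have c4 : ∀ c : F, n * j p * n⁻¹ * j (tE Q u (c • v)) = j (tE Q u (c • v)) * (n * j p * n⁻¹) := by
      intro c
      apply key
      have := hX' _ ⟨_, mem_X.2 ⟨c, rfl⟩, rfl⟩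
      rw [inv_inv] at this
      exact c1 _ this
    obtain ⟨k, hk, e⟩ := odd_mem hP S h c3 (by rw [orderOf_conj', orderOf_j S]; exact hodd) c4
    refine ⟨k, mem_P_of_odd hk ?_, e⟩
    rw [← orderOf_j S, e, orderOf_conj', orderOf_j S]
    exact hodd
  exact h1 hp

/-- an element normalising `j X` and `t (j X)` normalises `j QL` -/
theorem QL_map [Finite G] (hP : Par Q) (S : Sit Q t j) (h : LF Q u v u' v') {n : G}
    (hX : ∀ x ∈ (X Q u v h.qu h.uv).map j, n * x * n⁻¹ ∈ (X Q u v h.qu h.uv).map j)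
    (ht : t * (n * t * n⁻¹) ∈ (X Q u v h.qu h.uv).map j) {k : ↥(E Q)} (hk : k ∈ QL Q u v) :
    n * j k * n⁻¹ ∈ (QL Q u v).map j := by
  obtain ⟨hX', ht'⟩ := inv_norm S hX ht
  let R : Subgroup ↥(E Q) := ((QL Q u v).map ((MulAut.conj n).toMonoidHom.comp j)).comap j
  have hRm : ∀ r ∈ R, ∃ k ∈ QL Q u v, n * j k * n⁻¹ = j r := by
    intro r hr
    obtain ⟨k, hk, e⟩ := hr
    exact ⟨k, hk, e⟩
  have hR : R ≤ QL Q u v := by
    apply o2 hP h
    · intro r hr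
      obtain ⟨k, hk, e⟩ := hRm r hr
      obtain ⟨p, hp, e2⟩ := P_map hP S h hX ht (QL_le_P hP h hk)
      rw [e] at e2
      rwa [← S.inj e2]
    · rintro ⟨r, hr⟩
      obtain ⟨k, hk, e⟩ := hRm r hr
      refine ⟨2, Subtype.ext (S.inj ?_)⟩
      show j (r ^ (2 ^ 2)) = j 1
      rw [map_pow, ← e, conj_pow, ← map_pow]
      have : k ^ (2 ^ 2) = 1 := (QL_pow h hk).2
      rw [this, map_one, mul_one, mul_inv_cancel]
    · intro p hp r hr
      obtain ⟨k, hk, e⟩ := hRm r hr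
      obtain ⟨p', hp', e2⟩ := P_map hP S h hX' ht' hp
      refine ⟨p' * k * p'⁻¹, QL_conj (P_le_NL hP.nd h hp') hk, ?_⟩
      show n * j (p' * k * p'⁻¹) * n⁻¹ = j (p * r * p⁻¹)
      rw [map_mul, map_mul, map_mul, map_mul, ← e, map_inv, map_inv, e2]
      group
  obtain ⟨p, hp, e⟩ := P_map hP S h hX ht (QL_le_P hP h hk)
  refine ⟨p, hR ?_, e⟩
  exact ⟨k, hk, e.symm⟩

/-- the coordinates of conjugation by `n` -/
def Act (n : G) (j : ↥(E Q) →* G) (u v u' v' : V) (r s : F) : Prop :=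
  ∀ k ∈ QL Q u v, ∃ k' ∈ QL Q u v, j k' = n * j k * n⁻¹ ∧
    xc Q u v u' v' k' = r • xc Q u v u' v' k + s • yc Q u v u' v' k ∧
    yc Q u v u' v' k' = s • xc Q u v u' v' k + (r + s) • yc Q u v u' v' k

theorem Act.sq {n : G} {r s : F} (h : Act n j u v u' v' r s) :
    Act (n * n) j u v u' v' (r * r + s * s) (s * s) := by
  intro k hk
  obtain ⟨k1, hk1, e1, e2, e3⟩ := h k hk
  obtain ⟨k2, hk2, e4, e5, e6⟩ := h k1 hk1
  refine ⟨k2, hk2, ?_, ?_, ?_⟩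
  · rw [e4, e1]; group
  · rw [e5, e2, e3]
    have h2 : (2 : F) = 0 := CharTwo.two_eq_zero
    linear_combination (norm := module) h2 • ((r * s) • yc Q u v u' v' k)
  · rw [e6, e2, e3]
    have h2 : (2 : F) = 0 := CharTwo.two_eq_zero
    linear_combination (norm := module) h2 • ((r * s) • xc Q u v u' v' k + (r * s) • yc Q u v u' v' k)

/-- a 2-element acting on `QL/X` as an element of `F[ρ]` is trivial there -/
theorem Act.trivial (hP : Par Q) (S : Sit Q t j) (h : LF Q u v u' v') {n : G} {m : ℕ} (hn : n ^ 2 ^ m = 1)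
    {r s : F} (hA : Act n j u v u' v' r s) : r = 1 ∧ s = 0 := by
  induction m generalizing n r s with
  | zero =>
    rw [pow_zero, pow_one] at hn
    subst hn
    obtain ⟨b, b', hb, hb', hbb⟩ := hP.exists_pair h
    obtain ⟨k, hk, e1, e2, e3⟩ := hA _ (tE_QL h hb)
    have e4 : k = tE Q u b := S.inj (by rw [e1]; group)
    rw [e4, xc_tE h hb, yc_tE h hb, smul_zero, add_zero] at e2
    rw [e4, yc_tE h hb, xc_tE h hb, smul_zero, add_zero] at e3
    have hb0 := hbb.left_ne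
    constructor
    · have : (r - 1) • b = 0 := by rw [sub_smul, one_smul, ← e2, sub_self]
      exact sub_eq_zero.1 ((smul_eq_zero.1 this).resolve_right hb0)
    · exact (smul_eq_zero.1 e3.symm).resolve_right hb0
  | succ m ih =>
    have h1 : (n * n) ^ 2 ^ m = 1 := by
      rw [← pow_two, ← pow_mul, ← pow_succ']; exact hn
    obtain ⟨h2, h3⟩ := ih h1 hA.sq
    have hs : s = 0 := mul_self_eq_zero.1 h3
    rw [hs, mul_zero, add_zero] at h2
    exact ⟨eq_one_of_mul_self h2, hs⟩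

theorem setup_lin (hP : Par Q) (S : Sit Q t j) (h : LF Q u v u' v') {n : G}
    (hn : IsPGroup 2 (Subgroup.zpowers n)) (hQ : ∀ q ∈ (QL Q u v).map j, n * q * n⁻¹ ∈ (QL Q u v).map j)
    (hX : ∀ x ∈ (X Q u v h.qu h.uv).map j, n * x * n⁻¹ ∈ (X Q u v h.qu h.uv).map j)
    (hPn : ∀ p ∈ (P Q u v h.qu h.uv).map j, n * p * n⁻¹ * p⁻¹ ∈ (QL Q u v).map j) :
    ∀ q ∈ (QL Q u v).map j, n * q * n⁻¹ * q⁻¹ ∈ (X Q u v h.qu h.uv).map j := by
  classical
  obtain ⟨m, hm⟩ := hn ⟨n, Subgroup.mem_zpowers n⟩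
  have hm' : n ^ 2 ^ m = 1 := congrArg Subtype.val hm
  have hex : ∀ k : ↥(E Q), ∃ k', k ∈ QL Q u v → k' ∈ QL Q u v ∧ j k' = n * j k * n⁻¹ := by
    intro k
    by_cases hk : k ∈ QL Q u v
    · obtain ⟨k', hk', e⟩ := hQ _ ⟨k, hk, rfl⟩
      exact ⟨k', fun _ => ⟨hk', e⟩⟩
    · exact ⟨1, fun h => absurd h hk⟩
  choose α hα using hex
  have hcomm : ∀ p ∈ P Q u v h.qu h.uv, ∀ k ∈ QL Q u v,
      α (p * k * p⁻¹) * (p * α k * p⁻¹)⁻¹ ∈ X Q u v h.qu h.uv := by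
    intro p hp k hk
    have hpN := P_le_NL hP.nd h hp
    have hpk := QL_conj hpN hk
    obtain ⟨a1, a2⟩ := hα _ hpk
    obtain ⟨b1, b2⟩ := hα _ hk
    obtain ⟨q1, hq1, e1⟩ := hPn _ ⟨p, hp, rfl⟩
    have hpb := QL_conj hpN b1
    have e3 : α (p * k * p⁻¹) = q1 * (p * α k * p⁻¹) * q1⁻¹ := by
      apply S.inj
      simp only [map_mul, map_inv, a2, b2, e1]
      group
    rw [e3]
    exact comm_QL h hq1 hpb
  have C : Cmt h α :=
    { mem := fun k hk => (hα k hk).1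
      mul := fun k hk k' hk' => S.inj (by
        rw [map_mul, (hα _ (mul_mem hk hk')).2, (hα k hk).2, (hα k' hk').2, map_mul]; group)
      mX := fun k hk => by
        obtain ⟨x, hx, e⟩ := hX _ ⟨k, hk, rfl⟩
        rw [← (hα k (X_le_QL h hk)).2] at e
        rwa [← S.inj e]
      comm := fun w z hw hz hq hwz k hk => hcomm _ (TW_mem_P hP h hw hz hq hwz) k hk
      crho := fun k hk => hcomm _ (rho_mem_P h) k hk }
  obtain ⟨r, s, hrs⟩ := C.coords hP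
  have hA : Act n j u v u' v' r s := fun k hk => ⟨α k, (hα k hk).1, (hα k hk).2, hrs k hk⟩
  obtain ⟨rfl, rfl⟩ := hA.trivial hP S h hm'
  rintro _ ⟨k, hk, rfl⟩
  refine ⟨α k * k⁻¹, ?_, ?_⟩
  · show α k * k⁻¹ ∈ X Q u v h.qu h.uv
    rw [mul_inv_mem_X_iff h (hα k hk).1 hk]
    obtain ⟨e1, e2⟩ := hrs k hk
    rw [e1, e2]; simp
  · rw [map_mul, (hα k hk).2, map_inv]

theorem setup_noh (S : Sit Q t j) (h : LF Q u v u' v')
    (f : (P Q u v h.qu h.uv).map j →* (X Q u v h.qu h.uv).map j) (p : (P Q u v h.qu h.uv).map j) : f p = 1 := by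
  obtain ⟨_, p, hp, rfl⟩ := p
  have key : ∀ p (hp : p ∈ P Q u v h.qu h.uv), f ⟨j p, ⟨p, hp, rfl⟩⟩ = 1 := by
    intro p hp
    have hp' := hp
    rw [P] at hp'
    induction hp' using Subgroup.closure_induction with
    | mem x hx =>
      obtain ⟨hx0, hodd⟩ := hx
      obtain ⟨i, hi⟩ := hodd
      have h1 : (⟨j x, ⟨x, hp, rfl⟩⟩ : (P Q u v h.qu h.uv).map j) ^ (2 * i + 1) = 1 := by
        apply Subtype.ext
        show (j x) ^ (2 * i + 1) = 1
        rw [← hi, ← map_pow, pow_orderOf_eq_one, map_one]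
      have h2 := congrArg f h1
      rw [map_pow, map_one] at h2
      set y := f ⟨j x, ⟨x, hp, rfl⟩⟩ with hy
      have h3 : y * y = 1 := by
        obtain ⟨_, z, hz, e⟩ := y
        subst e
        obtain ⟨c, rfl⟩ := mem_X.1 hz
        apply Subtype.ext
        show j (tE Q u (c • v)) * j (tE Q u (c • v)) = 1
        rw [← map_mul, tE_mul_self h.qu (perp_smul_v h c), map_one]
      rwa [pow_succ, pow_mul, pow_two, h3, one_pow, one_mul] at h2
    | one =>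
      have : (⟨j 1, ⟨1, hp, rfl⟩⟩ : (P Q u v h.qu h.uv).map j) = 1 := Subtype.ext (map_one j)
      rw [this, map_one]
    | mul x y hx hy ihx ihy =>
      have hx' : x ∈ P Q u v h.qu h.uv := hx
      have hy' : y ∈ P Q u v h.qu h.uv := hy
      have : (⟨j (x * y), ⟨x * y, hp, rfl⟩⟩ : (P Q u v h.qu h.uv).map j) =
        ⟨j x, ⟨x, hx', rfl⟩⟩ * ⟨j y, ⟨y, hy', rfl⟩⟩ := Subtype.ext (map_mul j x y)
      rw [this, map_mul, ihx hx', ihy hy', one_mul]
    | inv x hx ih =>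
      have hx' : x ∈ P Q u v h.qu h.uv := hx
      have : (⟨j x⁻¹, ⟨x⁻¹, hp, rfl⟩⟩ : (P Q u v h.qu h.uv).map j) = (⟨j x, ⟨x, hx', rfl⟩⟩)⁻¹ :=
        Subtype.ext (map_inv j x)
      rw [this, map_inv, ih hx', inv_one]
  exact key p hp

theorem setup_E2 (hP : Par Q) (S : Sit Q t j) (h : LF Q u v u' v') (f : G → G)
    (h1 : ∀ v1 ∈ (QL Q u v).map j, f v1 ∈ (X Q u v h.qu h.uv).map j)
    (h2 : ∀ v1 ∈ (QL Q u v).map j, ∀ w ∈ (QL Q u v).map j, f (v1 * w) = f v1 * f w)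
    (h3 : ∀ x ∈ (X Q u v h.qu h.uv).map j, f x = 1)
    (h4 : ∀ p ∈ (P Q u v h.qu h.uv).map j, ∃ q ∈ (QL Q u v).map j, ∀ v1 ∈ (QL Q u v).map j,
      f (p * v1 * p⁻¹) = f v1 * (q * v1 * q⁻¹ * v1⁻¹)) :
    ∃ q ∈ (QL Q u v).map j, ∀ v1 ∈ (QL Q u v).map j, f v1 = q * v1 * q⁻¹ * v1⁻¹ := by
  classical
  have hex : ∀ k : ↥(E Q), ∃ c : F, k ∈ QL Q u v → f (j k) = j (tE Q u (c • v)) := by
    intro k
    by_cases hk : k ∈ QL Q u v
    · obtain ⟨x, hx, e⟩ := h1 _ ⟨k, hk, rfl⟩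
      obtain ⟨c, rfl⟩ := mem_X.1 hx
      exact ⟨c, fun _ => e.symm⟩
    · exact ⟨0, fun h => absurd h hk⟩
  choose φ hφ using hex
  have hadd : ∀ c d : F, j (tE Q u (c • v)) * j (tE Q u (d • v)) = j (tE Q u ((c + d) • v)) := by
    intro c d
    rw [← map_mul, tE_mul h.qu (perp_smul_v h c) (perp_smul_v h d), add_smul]
  have hom : ∀ g ∈ QL Q u v, ∀ k ∈ QL Q u v, j g * j k * (j g)⁻¹ * (j k)⁻¹ =
      j (tE Q u (om Q u v u' v' g k • v)) := by
    intro g hg k hk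
    rw [om, ← comm_q h hg hk]
    simp only [map_mul, map_inv]
  obtain ⟨q0, hq0, e0⟩ := e2 hP h (φ := φ)
    (fun k hk k' hk' => tE_smul_inj hP.nd h (S.inj (by
      rw [← hφ _ (mul_mem hk hk'), map_mul, h2 _ ⟨k, hk, rfl⟩ _ ⟨k', hk', rfl⟩, hφ k hk, hφ k' hk', hadd])))
    (fun k hk => tE_smul_inj hP.nd h (S.inj (by
      rw [← hφ k (X_le_QL h hk), h3 _ ⟨k, hk, rfl⟩, zero_smul, tE_zero_right, map_one])))
    (fun p hp => by
      obtain ⟨_, ⟨q0, hq0, rfl⟩, e⟩ := h4 _ ⟨p, hp, rfl⟩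
      refine ⟨q0, hq0, fun k hk => tE_smul_inj hP.nd h (S.inj ?_)⟩
      have e1 := e _ ⟨k, hk, rfl⟩
      rw [← hφ _ (QL_conj (P_le_NL hP.nd h hp) hk), map_mul, map_mul, map_inv, e1, hφ k hk, hom q0 hq0 k hk,
        hadd])
  refine ⟨_, ⟨q0, hq0, rfl⟩, ?_⟩
  rintro _ ⟨k, hk, rfl⟩
  rw [hφ k hk, e0 k hk, hom q0 hq0 k hk]

/-- **The hypotheses of `D7Ex.Setup`.** -/
theorem setup_of [Finite G] (hP : Par Q) (S : Sit Q t j) (h : LF Q u v u' v') :
    D7Ex.Setup t ((X Q u v h.qu h.uv).map j) ((QL Q u v).map j) ((P Q u v h.qu h.uv).map j)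
      ((NL Q u v).map j) where
  tt := S.tt
  tX := by
    rintro ⟨x, -, e⟩
    exact S.tK x e
  X2 := by
    rintro _ ⟨x, hx, rfl⟩
    obtain ⟨c, rfl⟩ := mem_X.1 hx
    rw [← map_mul, tE_mul_self h.qu (perp_smul_v h c), map_one]
  XQ := Subgroup.map_mono (X_le_QL h)
  QP := Subgroup.map_mono (QL_le_P hP h)
  tP := by
    rintro _ ⟨p, -, rfl⟩
    exact S.tj p
  XP := by
    rintro _ ⟨x, hx, rfl⟩ _ ⟨p, hp, rfl⟩
    obtain ⟨c, rfl⟩ := mem_X.1 hx
    rw [← map_mul, ← mem_P0.1 (P_le_P0 hp) c, map_mul]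
  PQ := by
    rintro _ ⟨p, hp, rfl⟩ _ ⟨k, hk, rfl⟩
    rw [← map_inv, ← map_mul, ← map_mul]
    exact ⟨_, QL_conj (P_le_NL hP.nd h hp) hk, rfl⟩
  tH := by
    rintro _ ⟨g, -, rfl⟩
    exact S.tj g
  HX := by
    rintro _ ⟨g, hg, rfl⟩ _ ⟨x, hx, rfl⟩
    rw [← map_inv, ← map_mul, ← map_mul]
    exact ⟨_, X_conj h hg hx, rfl⟩
  nP := fun n hX ht => ⟨by
    rintro _ ⟨p, hp, rfl⟩
    exact P_map hP S h hX ht hp, by
    rintro _ ⟨k, hk, rfl⟩
    exact QL_map hP S h hX ht hk⟩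
  XQQ := by
    rw [← Subgroup.map_commutator]
    exact Subgroup.map_mono (X_le_comm hP h)
  QQ := by
    rintro _ ⟨a, ha, rfl⟩ _ ⟨b, hb, rfl⟩
    rw [← map_inv, ← map_inv, ← map_mul, ← map_mul, ← map_mul]
    exact ⟨_, comm_QL h ha hb, rfl⟩
  ZQ := by
    rintro _ ⟨a, ha, rfl⟩ hc
    refine ⟨a, ZQL hP.nd h ha fun k hk => S.inj ?_, rfl⟩
    rw [map_mul, map_mul]
    exact hc _ ⟨k, hk, rfl⟩
  E2 := fun f h1 h2 h3 h4 => setup_E2 hP S h f h1 h2 h3 h4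
  noh := fun f p => setup_noh S h f p

/-- `NL` is transitive on `X#` -/
theorem setup_tr (hP : Par Q) (h : LF Q u v u' v') : ∀ x ∈ (X Q u v h.qu h.uv).map j,
    ∀ y ∈ (X Q u v h.qu h.uv).map j, x ≠ 1 → y ≠ 1 → ∃ g ∈ (NL Q u v).map j, g * x * g⁻¹ = y := by
  rintro _ ⟨x, hx, rfl⟩ _ ⟨y, hy, rfl⟩ hx1 hy1
  obtain ⟨c, rfl⟩ := mem_X.1 hx
  obtain ⟨d, rfl⟩ := mem_X.1 hy
  have hc : c ≠ 0 := by
    rintro rfl
    exact hx1 (by rw [zero_smul, tE_zero_right, map_one])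
  have hd : d ≠ 0 := by
    rintro rfl
    exact hy1 (by rw [zero_smul, tE_zero_right, map_one])
  obtain ⟨g, e1, e2, e3, e4, e5⟩ := exists_torus hP.good h (mul_ne_zero hd (inv_ne_zero hc)) one_ne_zero
  refine ⟨j g, ⟨g, ?_, rfl⟩, ?_⟩
  · apply mem_NL_of h.ln
    · rw [e1]; exact Submodule.smul_mem _ _ (left_mem_L _ _)
    · rw [e2]; exact Submodule.smul_mem _ _ (right_mem_L _ _)
  · rw [← map_inv, ← map_mul, ← map_mul, tE_conj, map_smul, e1, e2, one_smul,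
      tE_smul_left _ h.qu (perp_smul_v h c), smul_smul, mul_assoc, inv_mul_cancel₀ hc, mul_one]

/-- an element scalar on the line and trivial on `l^⊥/l` commutes with `NL` modulo `QL` -/
theorem comm_mem_QL (h : LF Q u v u' v') {g p : ↥(E Q)} {θ : F} (hθ : θ ≠ 0)
    (e1 : (g : V ≃ₗ[F] V) u = θ • u) (e2 : (g : V ≃ₗ[F] V) v = θ • v)
    (e5 : ∀ w, polar Q u w = 0 → polar Q v w = 0 → ∃ m ∈ L F u v, (g : V ≃ₗ[F] V) w = w + m)
    (hp : p ∈ NL Q u v) : g * p * g⁻¹ * p⁻¹ ∈ QL Q u v := by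
  have hgL : ∀ m ∈ L F u v, (g : V ≃ₗ[F] V) m = θ • m := by
    intro m hm
    obtain ⟨a, b, rfl⟩ := mem_L.1 hm
    rw [map_add, map_smul, map_smul, e1, e2]; module
  have hgN : g ∈ NL Q u v := by
    apply mem_NL_of h.ln
    · rw [e1]; exact Submodule.smul_mem _ _ (left_mem_L _ _)
    · rw [e2]; exact Submodule.smul_mem _ _ (right_mem_L _ _)
  have hgi : ∀ m ∈ L F u v, ((g⁻¹ : ↥(E Q)) : V ≃ₗ[F] V) m = θ⁻¹ • m := by
    intro m hm
    show (g : V ≃ₗ[F] V).symm m = _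
    rw [LinearEquiv.symm_apply_eq, map_smul, hgL m hm, smul_smul, inv_mul_cancel₀ hθ, one_smul]
  have hgw : ∀ w, polar Q u w = 0 → polar Q v w = 0 →
      ∃ m ∈ L F u v, ((g⁻¹ : ↥(E Q)) : V ≃ₗ[F] V) w = w + m := by
    intro w h1 h2
    obtain ⟨m, hm, e⟩ := e5 w h1 h2
    refine ⟨-(θ⁻¹ • m), Submodule.neg_mem _ (Submodule.smul_mem _ _ hm), ?_⟩
    show (g : V ≃ₗ[F] V).symm w = _
    rw [LinearEquiv.symm_apply_eq, map_add, map_neg, map_smul, e, hgL m hm, smul_smul, inv_mul_cancel₀ hθ,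
      one_smul]
    abel
  have hpi := inv_mem hp
  have hpc : ∀ x : V, (p : V ≃ₗ[F] V) (((p⁻¹ : ↥(E Q)) : V ≃ₗ[F] V) x) = x := fun x =>
    LinearEquiv.apply_symm_apply _ _
  have key : ∀ m ∈ L F u v, ((g * p * g⁻¹ * p⁻¹ : ↥(E Q)) : V ≃ₗ[F] V) m = m := by
    intro m hm
    have h1 := (mem_NL.1 hpi m).2 hm
    rw [coe_mul', coe_mul', coe_mul', hgi _ h1, map_smul, hpc, map_smul, hgL m hm, smul_smul,
      inv_mul_cancel₀ hθ, one_smul]
  refine ⟨key u (left_mem_L _ _), key v (right_mem_L _ _), fun w h1 h2 => ?_⟩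
  obtain ⟨h3, h4⟩ := NL_perp hpi h1 h2
  obtain ⟨m, hm, e⟩ := hgw _ h3 h4
  obtain ⟨m', hm', e'⟩ := e5 w h1 h2
  have hpm := (mem_NL.1 hp m).2 hm
  obtain ⟨a, b, e6⟩ := mem_L.1 (Submodule.add_mem _ hm' (Submodule.smul_mem _ θ hpm))
  refine ⟨a, b, ?_⟩
  rw [coe_mul', coe_mul', coe_mul', e, map_add, hpc, map_add, e', hgL _ hpm, add_assoc, add_assoc, e6]

/-- a torus element trivial on `P/QL` -/
theorem exists_h0 (hP : Par Q) (h : LF Q u v u' v') {θ : F} (hθ : θ ≠ 0) : ∃ g ∈ NL Q u v,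
    (g : V ≃ₗ[F] V) u = θ • u ∧ (g : V ≃ₗ[F] V) v = θ • v ∧
    (∀ w, polar Q u w = 0 → polar Q v w = 0 → ∃ m ∈ L F u v, (g : V ≃ₗ[F] V) w = w + m) ∧
    g ^ (Nat.card F - 1) = 1 ∧ ∀ p ∈ NL Q u v, g * p * g⁻¹ * p⁻¹ ∈ QL Q u v := by
  obtain ⟨g, e1, e2, e3, e4, e5⟩ := exists_torus hP.good h hθ hθ
  have hgN : g ∈ NL Q u v := by
    apply mem_NL_of h.ln
    · rw [e1]; exact Submodule.smul_mem _ _ (left_mem_L _ _)
    · rw [e2]; exact Submodule.smul_mem _ _ (right_mem_L _ _)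
  have e6 : ∀ w, polar Q u w = 0 → polar Q v w = 0 → ∃ m ∈ L F u v, (g : V ≃ₗ[F] V) w = w + m := by
    intro w h1 h2
    obtain ⟨m, hm, e⟩ := decomp_perp h h1 h2
    have hin := pW_in h w
    refine ⟨(g : V ≃ₗ[F] V) m - m, Submodule.sub_mem _ ((mem_NL.1 hgN m).2 hm) hm, ?_⟩
    set y := pW Q u v u' v' w
    rw [e, map_add, e5 y hin]
    abel
  exact ⟨g, hgN, e1, e2, e6, torus_pow h hθ hθ e1 e2 e3 e4 e5, fun p hp => comm_mem_QL h hθ e1 e2 e6 hp⟩

theorem setup_ne (hP : Par Q) (S : Sit Q t j) (h : LF Q u v u' v') {θ : F} (hθ : θ ≠ 0) (hθ' : θ ≠ 1) :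
    ∃ g ∈ (NL Q u v).map j, (∀ p ∈ (P Q u v h.qu h.uv).map j, g * p * g⁻¹ * p⁻¹ ∈ (QL Q u v).map j) ∧
      ∃ x ∈ (X Q u v h.qu h.uv).map j, g * x * g⁻¹ ≠ x := by
  obtain ⟨g, hgN, e1, e2, e6, -, hc⟩ := exists_h0 hP h hθ
  refine ⟨j g, ⟨g, hgN, rfl⟩, ?_, ⟨j (tE Q u ((1 : F) • v)), ⟨_, mem_X.2 ⟨1, rfl⟩, rfl⟩, ?_⟩⟩
  · rintro _ ⟨p, hp, rfl⟩
    rw [← map_inv, ← map_inv, ← map_mul, ← map_mul, ← map_mul]
    exact ⟨_, hc p (P_le_NL hP.nd h hp), rfl⟩
  · rw [← map_inv, ← map_mul, ← map_mul, tE_conj, map_smul, e1, e2, one_smul,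
      tE_smul_left _ h.qu (perp_smul_v h θ), smul_smul]
    intro e
    have h1 := tE_smul_inj hP.nd h (S.inj e)
    exact hθ' (eq_one_of_mul_self h1)

end two

end Cfsg.Agent.OddHalf.Orth
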