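import Cfsg.Agent.OddHalf.Orth.ExBig
import Cfsg.Agent.OddHalf.Orth.KSetup
import Cfsg.Agent.OddHalf.Orth.KFlagMain
import Cfsg.Agent.OddHalf.Orth.CleanMain

/-!
# `Dbl` for `q > 2` from one moving element (ODD D7, `K = Ω(V)`)
-/

set_option autoImplicit false

namespace Cfsg.Agent.OddHalf.Orth.ExMain

open QuadraticMap Cfsg.Agent.LieClassical.OrthCore Cfsg.Agent.LieClassical.OrthTrans
  Cfsg.Agent.ClassicalGeometry.OrthAutBasic Cfsg.Agent.ClassicalGeometry.OrthAutRoot Cfsg.Agent.OddHalf.Orth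
  Cfsg.Agent.OddHalf.Orth.Star Cfsg.Agent.OddHalf.Orth.Face Cfsg.Agent.OddHalf.Orth.FlagDef
  Cfsg.Agent.OddHalf.Orth.ExBase Cfsg.Agent.OddHalf.Orth.ExBig Cfsg.Agent.OddHalf.D7Ex

variable {F V : Type*} [Field F] [AddCommGroup V] [Module F V] {Q : QuadraticForm F V}
variable {G : Type*} [Group G] {t : G} {j : ↥(E Q) →* G} {u v u' v' : V} [CharP F 2]

/-- **`q > 2`**: if some `m` normalises `X` and moves `t` into `t X` then the doubled long root groups exist. -/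
theorem exists_dbl_of_move [Finite G] [Finite F] (S : Sit Q t j) (hP : Par Q) (h : LF Q u v u' v') {n : ℕ}
    {e f : ℕ → V} (hF : Flag Q n e f) (hn : 3 ≤ n) {θ : F} (hθ : θ ≠ 0) (hθ' : θ ≠ 1) {m : G}
    (hmX : ∀ x ∈ (X Q u v h.qu h.uv).map j, m * x * m⁻¹ ∈ (X Q u v h.qu h.uv).map j)
    (hmt : t * (m * t * m⁻¹) ∈ (X Q u v h.qu h.uv).map j) (hne : m * t * m⁻¹ ≠ t) :
    ∃ W : V → V → Subgroup G, Dbl Q t j W := by
  have hK : KFacts Q := kfacts hP.nd hP.d8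
  have ST := setup_of hP S h
  refine exists_dbl_of_setup S hK hP h hF hn hθ hθ' ST ?_ (setup_tr hP h) (setup_ne hP S h hθ hθ')
    (m := m) ?_ hne
  · intro a ha h1 h2 h3
    exact setup_lin hP S h ha h1 h2 h3
  · refine ST.mem_N.2 ⟨hmX, fun x hx => ?_, hmt⟩
    have := (inv_norm S hmX hmt).1 x hx
    rwa [inv_inv] at this

end Cfsg.Agent.OddHalf.Orth.ExMain
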