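import Mathlib
import Cfsg.Agent.OddHalf.Orth.KPl

/-!
# `q = 2`, three lines of a totally singular plane: the K-side of the root triangle

* `PF` : a frame of a totally singular plane;
* `mem_E_of_plane` : an isometry commuting with all `T u x`, `x ∈ ⟨u,v,w⟩^⊥`, lies in `E Q`;
* `cent_QL` : an isometry commuting with `QL` is in `X`.
-/

set_option autoImplicit false
set_option linter.unusedSectionVars false
set_option linter.unusedVariables false

namespace Cfsg.Agent.OddHalf.Orth.KTri

open QuadraticMap Cfsg.Agent.LieClassical.OrthCore Cfsg.Agent.LieClassical.OrthTrans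
  Cfsg.Agent.LieClassical.OrthSimple Cfsg.Agent.ClassicalGeometry.OrthAutBasic
  Cfsg.Agent.ClassicalGeometry.OrthAutRoot Cfsg.Agent.ClassicalGeometry.OrthAutSylow Face Sem'
  Cfsg.Agent.OddHalf.Orth

variable {F V : Type*} [Field F] [AddCommGroup V] [Module F V] {Q : QuadraticForm F V}

/-- A frame of a totally singular plane `⟨u, v, w⟩`. -/
structure PF (Q : QuadraticForm F V) (u v w u' v' w' : V) : Prop where
  lf : LF Q u v u' v'
  iw : In Q u v u' v' w
  iw' : In Q u v u' v' w'
  hyp : Hyp Q w w'

/-- a linear isometry is semilinear -/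
theorem sem_of {g : V ≃ₗ[F] V} (hg : g ∈ O Q) : Sem Q g.toAddEquiv (RingEquiv.refl F) where
  smul := fun a v => g.map_smul a v
  iso := fun v => mem_O.1 hg v

theorem exists_PF [Finite F] [CharP F 2] (hP : Par Q) {u v u' v' : V} (h : LF Q u v u' v') :
    ∃ w w', PF Q u v w u' v' w' := by
  obtain ⟨b, b', hb, hb', hbb⟩ := hP.exists_pair h
  exact ⟨b, b', h, hb, hb', hbb⟩

variable {u v w u' v' w' : V}

namespace PF

theorem lf2 (h : PF Q u v w u' v' w') : LF Q u w u' w' :=
  ⟨h.lf.h1, h.hyp, h.iw.u, h.iw'.u, h.iw.u', h.iw'.u'⟩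

theorem lf3 (h : PF Q u v w u' v' w') : LF Q u (v + w) u' v' where
  h1 := h.lf.h1
  h2 := ⟨by rw [Q_add, h.lf.qv, h.hyp.left, h.iw.v]; simp, h.lf.qv', by
    rw [polar_add_left, h.lf.vv', h.iw.rv', add_zero]⟩
  uv := by rw [polar_add_right, h.lf.uv, h.iw.u, add_zero]
  uv' := h.lf.uv'
  u'v := by rw [polar_add_right, h.lf.u'v, h.iw.u', add_zero]
  u'v' := h.lf.u'v'

theorem not_mem (h : PF Q u v w u' v' w') : w ∉ L F u v := by
  intro hm
  obtain ⟨a, b, e⟩ := mem_L.1 hm
  have h1 := h.hyp.pair
  rw [← e, polar_add_left, polar_smul_left, polar_smul_left, h.iw'.u, h.iw'.v] at h1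
  simp at h1

end PF

section two
variable [CharP F 2]

/-- the part of a vector perpendicular to `u, v, w` -/
theorem perp_part (h : PF Q u v w u' v' w') {y : V} (hy : polar Q u y = 0) :
    let x := y + polar Q v y • v' + polar Q w y • w'
    polar Q u x = 0 ∧ polar Q v x = 0 ∧ polar Q w x = 0 := by
  have h2 : ∀ c : F, c + c = 0 := fun c => CharTwo.add_self_eq_zero c
  refine ⟨?_, ?_, ?_⟩
  · rw [polar_add_right, polar_add_right, polar_smul_right, polar_smul_right, hy, h.lf.uv', h.iw'.u]
    simp
  · rw [polar_add_right, polar_add_right, polar_smul_right, polar_smul_right, h.lf.vv', h.iw'.v]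
    simp [h2]
  · rw [polar_add_right, polar_add_right, polar_smul_right, polar_smul_right, h.iw.rv', h.hyp.pair]
    simp [h2]

/-- an isometry commuting with all `T u x`, `x ∈ ⟨u,v,w⟩^⊥`, lies in `E Q` (`q = 2`) -/
theorem mem_E_of_plane (hQ : Nondeg Q) (h2 : ∀ c : F, c = 0 ∨ c = 1) (h : PF Q u v w u' v' w')
    {g : V ≃ₗ[F] V} (hg : g ∈ O Q) (H : ∀ x, polar Q u x = 0 → polar Q v x = 0 → polar Q w x = 0 →
      tE Q (g u) (g x) = tE Q u x) : g ∈ E Q := by
  have hcc : ∀ c : F, c + c = 0 := fun c => CharTwo.add_self_eq_zero c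
  have S := sem_of hg
  have hu0 := h.lf.h1.left_ne
  obtain ⟨lam, hlam⟩ := eq_smul_of_lines hQ S h.lf.ln h.lf2.ln h.not_mem
    (H v h.lf.uv h.lf.vv h.iw.rv) (H w h.iw.u h.iw.v (polar_self_of_sing h.hyp.left))
  have hgu : g u = u := by
    rcases h2 lam with h0 | h0
    · exfalso
      rw [h0, zero_smul] at hlam
      exact hu0 (g.injective (by rw [map_zero]; exact hlam))
    · rw [h0, one_smul] at hlam; exact hlam
  -- the vectors perpendicular to the plane
  have hx : ∀ x, polar Q u x = 0 → polar Q v x = 0 → polar Q w x = 0 → ∃ c : F, g x = x + c • u := by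
    intro x h1 h3 h4
    obtain ⟨c, hc⟩ := of_tE hQ h.lf.qu hu0 h1 S (lam := 1) (by rw [one_smul]; exact hgu) (H x h1 h3 h4)
    rw [one_smul] at hc
    exact ⟨c, hc⟩
  have pu : ∀ y, polar Q u (g y) = polar Q u y := fun y => by
    have := polar_map hg u y
    rwa [hgu] at this
  -- `g y + y` is perpendicular to the vectors perpendicular to the plane
  have hd : ∀ y, polar Q u y = 0 → ∀ x, polar Q u x = 0 → polar Q v x = 0 → polar Q w x = 0 →
      polar Q x (g y + y) = 0 := by
    intro y hy x h1 h3 h4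
    obtain ⟨c, hc⟩ := hx x h1 h3 h4
    have e1 := polar_map hg x y
    rw [hc, polar_add_left, polar_smul_left, pu, hy, smul_zero, add_zero] at e1
    rw [polar_add_right, e1, hcc]
  -- so it is in the plane
  have hd2 : ∀ y, polar Q u y = 0 → g y + y = polar Q u' (g y + y) • u + polar Q v' (g y + y) • v +
      polar Q w' (g y + y) • w := by
    intro y hy
    have huu := hd y hy u h.lf.uu (h.lf.vu) (h.iw.ru)
    have hvv := hd y hy v h.lf.uv h.lf.vv h.iw.rv
    have hww := hd y hy w h.iw.u h.iw.v (polar_self_of_sing h.hyp.left)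
    set d := g y + y with hdd
    set p := pW Q u v u' v' d with hp
    have hpi : In Q u v u' v' p := pW_in h.lf d
    have hpw : polar Q w p = 0 := by rw [hp, polar_pW h.iw, hww]
    have hpw' : polar Q w' p = polar Q w' d := by rw [hp, polar_pW h.iw']
    -- `p + (w', p) w = 0`
    have hz : p + polar Q w' p • w = 0 := by
      refine eq_zero_of_in hQ h.lf (hpi.add (h.iw.smul _)) fun x hxi => ?_
      -- replace `x` by its part perpendicular to `w`
      have h5 : polar Q (x + polar Q w x • w') d = 0 := by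
        refine hd y hy _ (by rw [polar_add_right, polar_smul_right, hxi.u, h.iw'.u]; simp)
          (by rw [polar_add_right, polar_smul_right, hxi.v, h.iw'.v]; simp) ?_
        rw [polar_add_right, polar_smul_right, h.hyp.pair]
        simp [hcc]
      have h6 : polar Q (x + polar Q w x • w') p = 0 := by
        rw [hp, polar_pW (hxi.add (h.iw'.smul _)), h5]
      rw [polar_add_left, polar_smul_left] at h6
      rw [polar_comm, polar_add_right, polar_smul_right, polar_comm Q x w]
      rw [smul_eq_mul] at h6 ⊢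
      linear_combination h6
    have hp2 : p = polar Q w' d • w := by
      have h7 := eq_neg_of_add_eq_zero_left hz
      rw [neg_eq' (F := F), hpw'] at h7
      exact h7
    have h8 := decomp (Q := Q) u v u' v' d
    rw [← hp, huu, hvv, hp2, zero_smul, zero_smul, add_zero, add_zero] at h8
    exact h8.trans (by module)
  have ev := hd2 v' h.lf.uv'
  have ew := hd2 w' h.iw'.u
  set a1 := polar Q u' (g v' + v') with ha1
  set a2 := polar Q v' (g v' + v') with ha2
  set a3 := polar Q w' (g v' + v') with ha3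
  set b1 := polar Q u' (g w' + w') with hb1
  set b2 := polar Q v' (g w' + w') with hb2
  set b3 := polar Q w' (g w' + w') with hb3
  have hvu : ∀ y z : V, y + z = 0 ↔ y = z := fun y z => by
    rw [← sub_eq' (F := F), sub_eq_zero]
  have gv : g v' = v' + (a1 • u + a2 • v + a3 • w) := by
    rw [← ev, add_comm (g v') v', ← add_assoc, add_self' (F := F), zero_add]
  have gw : g w' = w' + (b1 • u + b2 • v + b3 • w) := by
    rw [← ew, add_comm (g w') w', ← add_assoc, add_self' (F := F), zero_add]
  -- the coefficients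
  have qww : polar Q w w = 0 := polar_self_of_sing h.hyp.left
  have na2 : a2 = 0 := by
    have h3 : Q (g v') = 0 := by rw [mem_O.1 hg, h.lf.qv']
    rw [gv, Q_add, Q_add, Q_add] at h3
    simp only [QuadraticMap.map_smul, polar_add_left, polar_add_right, polar_smul_left, polar_smul_right,
      h.lf.qu, h.lf.qv, h.lf.qv', h.hyp.left, h.lf.v'u, h.lf.v'v, h.iw.v', h.lf.uv, h.iw.u, h.iw.v,
      smul_eq_mul, mul_zero, mul_one, add_zero, zero_add] at h3
    exact h3
  have nb3 : b3 = 0 := by
    have h3 : Q (g w') = 0 := by rw [mem_O.1 hg, h.hyp.right]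
    rw [gw, Q_add, Q_add, Q_add] at h3
    simp only [QuadraticMap.map_smul, polar_add_left, polar_add_right, polar_smul_left, polar_smul_right,
      h.lf.qu, h.lf.qv, h.hyp.right, h.hyp.left, h.iw'.ru, h.iw'.rv, h.hyp.pair', h.lf.uv, h.iw.u, h.iw.v,
      smul_eq_mul, mul_zero, mul_one, add_zero, zero_add] at h3
    exact h3
  have nab : a3 = b2 := by
    have h3 : polar Q (g v') (g w') = 0 := by rw [polar_map hg, h.iw'.v']
    rw [gv, gw, na2, nb3] at h3
    simp only [polar_add_left, polar_add_right, polar_smul_left, polar_smul_right, zero_smul,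
      h.iw'.v', h.lf.v'u, h.lf.v'v, h.iw'.u, h.hyp.pair, h.lf.uu, h.lf.uv, h.iw.ru, h.iw.rv,
      smul_eq_mul, mul_zero, mul_one, add_zero, zero_add] at h3
    have := eq_neg_of_add_eq_zero_right h3
    rw [CharTwo.neg_eq] at this
    exact this.symm
  -- correct by `T v (a3 w)`
  have hvw : polar Q v (a3 • w) = 0 := by rw [polar_smul_right, h.iw.v, smul_zero]
  set T1 := T Q v (a3 • w) with hT1
  have hT1E : T1 ∈ E Q := T_mem_E _ _
  have hT1O : T1 ∈ O Q := E_le_O hT1E
  have T1a : ∀ x, polar Q v x = 0 → polar Q w x = 0 → T1 x = x := by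
    intro x h1 h3
    rw [hT1, T_apply2 h.lf.qv hvw, h1, polar_smul_left, h3]; simp
  have T1u : T1 u = u := T1a u h.lf.vu h.iw.ru
  have T1v : T1 v' = v' + a3 • w := by
    rw [hT1, T_apply2 h.lf.qv hvw, h.lf.vv', polar_smul_left, h.iw.rv', QuadraticMap.map_smul, h.hyp.left]
    simp
  have T1w : T1 w' = w' + a3 • v := by
    rw [hT1, T_apply2 h.lf.qv hvw, h.iw'.v, polar_smul_left, h.hyp.pair]
    simp
  have T1w0 : T1 w = w := T1a w h.iw.v qww
  have T1v0 : T1 v = v := T1a v h.lf.vv h.iw.rv
  obtain ⟨y0, -, e0⟩ := eq_T_of_trivial hQ ((O Q).mul_mem hT1O hg) h.lf.qu hu0 (by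
      show T1 (g u) = u
      rw [hgu, T1u]) (by
      intro y hy
      show ∃ c : F, T1 (g y) = y + c • u
      obtain ⟨p1, p2, p3⟩ := perp_part h hy
      obtain ⟨c, hc⟩ := hx _ p1 p2 p3
      set x := y + polar Q v y • v' + polar Q w y • w' with hxd
      have ey : y = x + polar Q v y • v' + polar Q w y • w' := by
        rw [hxd]
        have e1 := add_self' (F := F) (polar Q v y • v')
        have e2 := add_self' (F := F) (polar Q w y • w')
        calc y = y + (polar Q v y • v' + polar Q v y • v') + (polar Q w y • w' + polar Q w y • w') := by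
              rw [e1, e2, add_zero, add_zero]
          _ = _ := by module
      have h4 : T1 (g x) = x + c • u := by
        rw [hc, map_add, map_smul, T1u, T1a x p2 p3]
      have h5 : T1 (g v') = v' + a1 • u := by
        rw [gv, na2, map_add, map_add, map_add, map_smul, map_smul, map_smul, T1u, T1w0, T1v]
        have e1 := add_self' (F := F) (a3 • w)
        calc v' + a3 • w + (a1 • u + (0 : F) • T1 v + a3 • w) = v' + a1 • u + (a3 • w + a3 • w) := by module
          _ = _ := by rw [e1, add_zero]
      have h6 : T1 (g w') = w' + b1 • u := by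
        rw [gw, nb3, ← nab, map_add, map_add, map_add, map_smul, map_smul, map_smul, T1u, T1v0, T1w]
        have e1 := add_self' (F := F) (a3 • v)
        calc w' + a3 • v + (b1 • u + a3 • v + (0 : F) • T1 w) = w' + b1 • u + (a3 • v + a3 • v) := by module
          _ = _ := by rw [e1, add_zero]
      refine ⟨c + polar Q v y * a1 + polar Q w y * b1, ?_⟩
      have h7 : T1 (g y) = T1 (g (x + polar Q v y • v' + polar Q w y • w')) := by rw [← ey]
      have h8 : y + (c + polar Q v y * a1 + polar Q w y * b1) • u = x + polar Q v y • v' + polar Q w y • w' +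
          (c + polar Q v y * a1 + polar Q w y * b1) • u := by rw [← ey]
      rw [h7, h8, map_add, map_add, map_smul, map_smul, map_add, map_add, map_smul, map_smul, h4, h5, h6]
      module)
  have e1 : g = T1⁻¹ * T Q u y0 := by rw [← e0]; group
  rw [e1]
  exact (E Q).mul_mem ((E Q).inv_mem hT1E) (T_mem_E _ _)

/-- an isometry commuting with the elements `T u x`, `T v x`, `x ∈ ⟨u,v⟩^⊥`, is in `X` (`q = 2`) -/
theorem cent_QL (hQ : Nondeg Q) (h2 : ∀ c : F, c = 0 ∨ c = 1) (h : LF Q u v u' v') {b : V}
    (hb : In Q u v u' v' b) (hb0 : Q b = 0) (hbn : b ≠ 0)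
    {g : V ≃ₗ[F] V} (hg : g ∈ O Q)
    (H : ∀ x, polar Q u x = 0 → polar Q v x = 0 → tE Q (g u) (g x) = tE Q u x)
    (H' : ∀ x, polar Q u x = 0 → polar Q v x = 0 → tE Q (g v) (g x) = tE Q v x) :
    g = 1 ∨ g = T Q u v := by
  have hcc : ∀ c : F, c + c = 0 := fun c => CharTwo.add_self_eq_zero c
  have S := sem_of hg
  obtain ⟨b', hb', hbb⟩ : ∃ b', In Q u v u' v' b' ∧ Hyp Q b b' := by
    obtain ⟨b', h1, h3⟩ := (W4_ns hQ h).exists_hyp (In.iff_mem.1 hb) hbn hb0
    exact ⟨b', In.iff_mem.2 h1, h3⟩
  have hF : PF Q u v b u' v' b' := ⟨h, hb, hb', hbb⟩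
  have hF' : PF Q v u b v' u' b' := ⟨h.swap, hb.swap, hb'.swap, hbb⟩
  have hgu : g u = u := by
    obtain ⟨lam, hlam⟩ := eq_smul_of_lines hQ S h.ln hF.lf2.ln hF.not_mem (H v h.uv h.vv)
      (H b hb.u hb.v)
    rcases h2 lam with h0 | h0
    · exfalso
      rw [h0, zero_smul] at hlam
      exact h.h1.left_ne (g.injective (by rw [map_zero]; exact hlam))
    · rw [h0, one_smul] at hlam; exact hlam
  have hgv : g v = v := by
    obtain ⟨lam, hlam⟩ := eq_smul_of_lines hQ S h.swap.ln hF'.lf2.ln hF'.not_mem (H' u h.uu h.vu)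
      (H' b hb.u hb.v)
    rcases h2 lam with h0 | h0
    · exfalso
      rw [h0, zero_smul] at hlam
      exact h.h2.left_ne (g.injective (by rw [map_zero]; exact hlam))
    · rw [h0, one_smul] at hlam; exact hlam
  have pu : ∀ y, polar Q u (g y) = polar Q u y := fun y => by
    have := polar_map hg u y
    rwa [hgu] at this
  have pv : ∀ y, polar Q v (g y) = polar Q v y := fun y => by
    have := polar_map hg v y
    rwa [hgv] at this
  -- the perp is fixed
  have hx : ∀ x, polar Q u x = 0 → polar Q v x = 0 → g x = x := by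
    intro x h1 h3
    obtain ⟨c, hc⟩ := of_tE hQ h.qu h.h1.left_ne h1 S (lam := 1) (by rw [one_smul]; exact hgu) (H x h1 h3)
    obtain ⟨d, hd⟩ := of_tE hQ h.qv h.h2.left_ne h3 S (lam := 1) (by rw [one_smul]; exact hgv) (H' x h1 h3)
    rw [one_smul] at hc hd
    have e1 : c • u = d • v := by
      have : x + c • u = x + d • v := by rw [← hc, ← hd]
      exact add_left_cancel this
    have e2 := congrArg (fun y => polar Q u' y) e1
    simp only [polar_smul_right, h.u'u, h.u'v, smul_eq_mul, mul_one, mul_zero] at e2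
    rw [e2, zero_smul, add_zero] at hc
    exact hc
  -- `g y + y` lies on the line
  have hd : ∀ y, ∀ x, polar Q u x = 0 → polar Q v x = 0 → polar Q x (g y + y) = 0 := by
    intro y x h1 h3
    have e1 := polar_map hg x y
    rw [hx x h1 h3] at e1
    rw [polar_add_right, e1, hcc]
  have hd2 : ∀ y, g y + y = polar Q u' (g y + y) • u + polar Q v' (g y + y) • v := by
    intro y
    have h8 := decomp (Q := Q) u v u' v' (g y + y)
    have h9 : pW Q u v u' v' (g y + y) = 0 := by
      refine eq_zero_of_in hQ h (pW_in h _) fun x hxi => ?_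
      rw [polar_comm, polar_pW hxi, hd y x hxi.u hxi.v]
    rw [h9, hd y u h.uu h.vu, hd y v h.uv h.vv, zero_smul, zero_smul, add_zero, add_zero, zero_add] at h8
    exact h8
  have eu := hd2 u'
  have ev := hd2 v'
  set a1 := polar Q u' (g u' + u') with ha1
  set a2 := polar Q v' (g u' + u') with ha2
  set b1 := polar Q u' (g v' + v') with hb1
  set b2 := polar Q v' (g v' + v') with hb2
  have gu : g u' = u' + (a1 • u + a2 • v) := by
    rw [← eu, add_comm (g u') u', ← add_assoc, add_self' (F := F), zero_add]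
  have gv : g v' = v' + (b1 • u + b2 • v) := by
    rw [← ev, add_comm (g v') v', ← add_assoc, add_self' (F := F), zero_add]
  have na1 : a1 = 0 := by
    have h3 : Q (g u') = 0 := by rw [mem_O.1 hg, h.qu']
    rw [gu, Q_add, Q_add] at h3
    simp only [QuadraticMap.map_smul, polar_add_left, polar_add_right, polar_smul_left, polar_smul_right,
      h.qu, h.qv, h.qu', h.u'u, h.u'v, h.uv, smul_eq_mul, mul_zero, mul_one, add_zero, zero_add] at h3
    exact h3
  have nb2 : b2 = 0 := by
    have h3 : Q (g v') = 0 := by rw [mem_O.1 hg, h.qv']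
    rw [gv, Q_add, Q_add] at h3
    simp only [QuadraticMap.map_smul, polar_add_left, polar_add_right, polar_smul_left, polar_smul_right,
      h.qu, h.qv, h.qv', h.v'u, h.v'v, h.uv, smul_eq_mul, mul_zero, mul_one, add_zero, zero_add] at h3
    exact h3
  have nab : a2 = b1 := by
    have h3 : polar Q (g u') (g v') = 0 := by rw [polar_map hg, h.u'v']
    rw [gu, gv, na1, nb2] at h3
    simp only [polar_add_left, polar_add_right, polar_smul_left, polar_smul_right, zero_smul,
      h.u'v', h.u'u, h.vv', h.vu, smul_eq_mul, mul_zero, mul_one, add_zero, zero_add] at h3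
    have := eq_neg_of_add_eq_zero_left h3
    rw [CharTwo.neg_eq] at this
    exact this
  rw [na1, zero_smul, zero_add] at gu
  rw [nb2, ← nab, zero_smul, add_zero] at gv
  -- compare with `T u (a2 v)`
  have hc0 : polar Q u (a2 • v) = 0 := by rw [polar_smul_right, h.uv, smul_zero]
  have tf : ∀ y, T Q u (a2 • v) y = y + (polar Q u y * a2) • v + (a2 * polar Q v y) • u := by
    intro y
    rw [T_apply2 h.qu hc0, polar_smul_left, QuadraticMap.map_smul, h.qv]
    simp [smul_smul]
  have key : g = T Q u (a2 • v) := by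
    have h1 : (T Q u (a2 • v))⁻¹ * g = 1 := by
      have hT : T Q u (a2 • v) ∈ O Q := E_le_O (T_mem_E _ _)
      have inv : ∀ {y z : V}, T Q u (a2 • v) z = y → (T Q u (a2 • v))⁻¹ y = z := by
        intro y z e
        show (T Q u (a2 • v)).symm y = z
        rw [← e, LinearEquiv.symm_apply_apply]
      apply eq_one_of_frame h ((O Q).mul_mem ((O Q).inv_mem hT) hg)
      · show (T Q u (a2 • v))⁻¹ (g u) = u
        rw [hgu]
        exact inv (by rw [tf, h.uu, h.vu]; simp)
      · show (T Q u (a2 • v))⁻¹ (g v) = v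
        rw [hgv]
        exact inv (by rw [tf, h.uv, h.vv]; simp)
      · show (T Q u (a2 • v))⁻¹ (g u') = u'
        exact inv (by rw [tf, h.uu', h.vu', gu]; simp)
      · show (T Q u (a2 • v))⁻¹ (g v') = v'
        exact inv (by rw [tf, h.uv', h.vv', gv]; simp)
      · intro x hxi
        refine ⟨0, 0, ?_⟩
        show (T Q u (a2 • v))⁻¹ (g x) = _
        rw [hx x hxi.u hxi.v, zero_smul, zero_smul, add_zero, add_zero]
        exact inv (by rw [tf, hxi.u, hxi.v]; simp)
    calc g = T Q u (a2 • v) * ((T Q u (a2 • v))⁻¹ * g) := by group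
      _ = _ := by rw [h1, mul_one]
  rcases h2 a2 with h0 | h0
  · left; rw [key, h0, zero_smul, T_zero_right]
  · right; rw [key, h0, one_smul]

end two

end Cfsg.Agent.OddHalf.Orth.KTri
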