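import Mathlib
import Cfsg.Agent.OddHalf.Orth.KTri
import Cfsg.Agent.OddHalf.Orth.KP0
import Cfsg.Agent.OddHalf.Orth.ExCom
import Cfsg.Agent.OddHalf.Orth.COne

/-!
# `q = 2` : the elements `y_l` (ODD D7, `K = Ω(V)`; clean and outer case)

* `Sw Q t j u v n` : `n` centralises `z = j (T u v)` and maps `t` to `t z`;
* `ThmA` : `n` acts on `j P` as an isometry (helper260, `KTwo.lean`);
* `exists_odd` : the root triangle: if this isometry is not in `E Q` then `C_G(t)` induces an isometry outside `E Q`;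
* `exists_isY` : for every totally singular line there is an involution `y`, `t^y = t z`, centralising all elements
  of `j K` fixing the line pointwise;
* `exists_dbl` : `Dbl` for `q = 2` from `IsY` and `c = 0` (helper315, `COne.cent`).
-/

set_option autoImplicit false
set_option linter.unusedSectionVars false
set_option linter.unusedVariables false

namespace Cfsg.Agent.OddHalf.Orth.ExTwo

open QuadraticMap Cfsg.Agent.LieClassical.OrthCore Cfsg.Agent.LieClassical.OrthTrans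
  Cfsg.Agent.LieClassical.OrthSimple Cfsg.Agent.ClassicalGeometry.OrthAutBasic
  Cfsg.Agent.ClassicalGeometry.OrthAutRoot Face Sem' KTri ExBase COne Cfsg.Agent.OddHalf.Orth

variable {F V : Type*} [Field F] [AddCommGroup V] [Module F V] {Q : QuadraticForm F V}
variable {G : Type*} [Group G] {t : G} {j : ↥(E Q) →* G}
variable {u v w u' v' w' : V}

/-! ### Conjugation by isometries -/

/-- conjugation by an isometry -/
def cE {g : V ≃ₗ[F] V} (hg : g ∈ O Q) : ↥(E Q) →* ↥(E Q) where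
  toFun k := ⟨g * k * g⁻¹, conj_mem_E hg k.2⟩
  map_one' := Subtype.ext (by simp)
  map_mul' a b := Subtype.ext (by
    show g * ((a : V ≃ₗ[F] V) * b) * g⁻¹ = (g * a * g⁻¹) * (g * b * g⁻¹)
    group)

theorem coe_cE {g : V ≃ₗ[F] V} (hg : g ∈ O Q) (k : ↥(E Q)) :
    ((cE hg k : ↥(E Q)) : V ≃ₗ[F] V) = g * k * g⁻¹ := rfl

theorem cE_tE {g : V ≃ₗ[F] V} (hg : g ∈ O Q) (a x : V) : cE hg (tE Q a x) = tE Q (g a) (g x) :=
  Subtype.ext (T_conj hg a x)

theorem cE_mul {g g' : V ≃ₗ[F] V} (hg : g ∈ O Q) (hg' : g' ∈ O Q) (h : g * g' ∈ O Q) (k : ↥(E Q)) :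
    cE h k = cE hg (cE hg' k) := Subtype.ext (by
  show g * g' * (k : V ≃ₗ[F] V) * (g * g')⁻¹ = g * (g' * k * g'⁻¹) * g⁻¹
  group)

theorem cE_coe (e k : ↥(E Q)) (h : (e : V ≃ₗ[F] V) ∈ O Q) : cE h k = e * k * e⁻¹ := rfl

theorem cE_congr {g g' : V ≃ₗ[F] V} (hg : g ∈ O Q) (hg' : g' ∈ O Q) (e : g = g') (k : ↥(E Q)) :
    cE hg k = cE hg' k := by subst e; rfl

/-- `C_G(t)` acts by isometries (`q = 2`) -/
theorem exists_act (S : Sit Q t j) (h2 : ∀ c : F, c = 0 ∨ c = 1) {c : G} (hc : c * t = t * c) :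
    ∃ (g : V ≃ₗ[F] V) (hg : g ∈ O Q), ∀ k, c * j k * c⁻¹ = j (cE hg k) := by
  obtain ⟨M, σ, hM, hact⟩ := S.act c hc
  have hσ : ∀ a, σ a = a := by
    intro a
    rcases h2 a with rfl | rfl
    · exact map_zero σ
    · exact map_one σ
  refine ⟨toLin hM hσ, toLin_mem hM hσ, ?_⟩
  have h1 : MonoidHom.eqLocus ((MulAut.conj c).toMonoidHom.comp j) (j.comp (cE (toLin_mem hM hσ))) = ⊤ := by
    apply closure_tE Q
    intro a x ha hx
    show c * j (tE Q a x) * c⁻¹ = j (cE (toLin_mem hM hσ) (tE Q a x))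
    rw [cE_tE, hact a x ha hx]
    rfl
  intro k
  have h3 : k ∈ MonoidHom.eqLocus ((MulAut.conj c).toMonoidHom.comp j) (j.comp (cE (toLin_mem hM hσ))) := by
    rw [h1]; trivial
  exact h3

/-! ### Swaps -/

/-- `n` centralises `z` and maps `t` to `t z` -/
structure Sw (Q : QuadraticForm F V) (t : G) (j : ↥(E Q) →* G) (u v : V) (n : G) : Prop where
  z : n * j (tE Q u v) * n⁻¹ = j (tE Q u v)
  t : n * t * n⁻¹ = t * j (tE Q u v)

/-- `n` acts on `j P` as the isometry `g` -/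
structure Ac (Q : QuadraticForm F V) (t : G) (j : ↥(E Q) →* G) (u v : V) (n : G) (g : V ≃ₗ[F] V) : Prop where
  sw : Sw Q t j u v n
  mO : g ∈ O Q
  ln : Ln Q u v
  ac : ∀ p ∈ P Q u v ln.qu ln.perp, n * j p * n⁻¹ = j (cE mO p)

/-- Theorem A (helper260) for `q = 2` -/
def ThmA (Q : QuadraticForm F V) (t : G) (j : ↥(E Q) →* G) : Prop :=
  ∀ {u v u' v' : V} (h : LF Q u v u' v') {n : G}, Sw Q t j u v n →
    ∃ (g : V ≃ₗ[F] V) (hg : g ∈ O Q), ∀ p ∈ P Q u v h.qu h.uv, n * j p * n⁻¹ = j (cE hg p)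

theorem tj' (S : Sit Q t j) (k : ↥(E Q)) : (j k)⁻¹ * t = t * (j k)⁻¹ := by
  rw [← map_inv, ← S.tj]

theorem Sw.conj (S : Sit Q t j) {n : G} (h : Sw Q t j u v n) (k : ↥(E Q)) :
    Sw Q t j ((k : V ≃ₗ[F] V) u) ((k : V ≃ₗ[F] V) v) (j k * n * (j k)⁻¹) := by
  constructor
  · rw [← tE_conj, map_mul, map_mul, map_inv]
    calc j k * n * (j k)⁻¹ * (j k * j (tE Q u v) * (j k)⁻¹) * (j k * n * (j k)⁻¹)⁻¹ =
        j k * (n * j (tE Q u v) * n⁻¹) * (j k)⁻¹ := by group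
      _ = _ := by rw [h.z]
  · rw [← tE_conj, map_mul, map_mul, map_inv]
    calc j k * n * (j k)⁻¹ * t * (j k * n * (j k)⁻¹)⁻¹ =
        j k * n * ((j k)⁻¹ * t) * (j k * n⁻¹ * (j k)⁻¹) := by group
      _ = j k * (n * t * n⁻¹) * (j k)⁻¹ := by rw [tj' S]; group
      _ = (j k * t) * j (tE Q u v) * (j k)⁻¹ := by rw [h.t]; group
      _ = _ := by rw [← S.tj]; group

theorem P_conj_map (k : ↥(E Q)) {hu : Q u = 0} {huv : polar Q u v = 0}
    {hu' : Q ((k : V ≃ₗ[F] V) u) = 0} {huv' : polar Q ((k : V ≃ₗ[F] V) u) ((k : V ≃ₗ[F] V) v) = 0}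
    {p : ↥(E Q)} (hp : p ∈ P Q ((k : V ≃ₗ[F] V) u) ((k : V ≃ₗ[F] V) v) hu' huv') :
    k⁻¹ * p * k ∈ P Q u v hu huv := by
  have h : P Q ((k : V ≃ₗ[F] V) u) ((k : V ≃ₗ[F] V) v) hu' huv' ≤
      (P Q u v hu huv).comap (MulAut.conj k⁻¹).toMonoidHom := by
    conv_lhs => rw [P]
    rw [Subgroup.closure_le]
    rintro x ⟨hx, hox⟩
    show k⁻¹ * x * k⁻¹⁻¹ ∈ P Q u v hu huv
    refine mem_P_of_odd ?_ (by rwa [orderOf_conj'])
    rw [mem_P0] at hx ⊢
    intro c
    have h1 := hx c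
    have h3 : k * tE Q u (c • v) * k⁻¹ = tE Q ((k : V ≃ₗ[F] V) u) (c • (k : V ≃ₗ[F] V) v) := by
      rw [tE_conj, map_smul]
    rw [← h3] at h1
    calc k⁻¹ * x * k⁻¹⁻¹ * tE Q u (c • v) = k⁻¹ * (x * (k * tE Q u (c • v) * k⁻¹)) * k := by group
      _ = k⁻¹ * ((k * tE Q u (c • v) * k⁻¹) * x) * k := by rw [h1]
      _ = _ := by group
  have h4 := h hp
  have h5 : k⁻¹ * p * k⁻¹⁻¹ ∈ P Q u v hu huv := h4
  rwa [inv_inv] at h5

theorem Ac.conj (S : Sit Q t j) {n : G} {g : V ≃ₗ[F] V} (h : Ac Q t j u v n g) (k : ↥(E Q)) :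
    Ac Q t j ((k : V ≃ₗ[F] V) u) ((k : V ≃ₗ[F] V) v) (j k * n * (j k)⁻¹)
      ((k : V ≃ₗ[F] V) * g * (k : V ≃ₗ[F] V)⁻¹) := by
  have hO := mul_mem (mul_mem (mem_O' k) h.mO) (inv_mem (mem_O' k))
  refine ⟨h.sw.conj S k, hO, h.ln.map (mem_O' k), fun p hp => ?_⟩
  have h1 := h.ac _ (P_conj_map k (hu := h.ln.qu) (huv := h.ln.perp) hp)
  have h3 : cE hO p = k * cE h.mO (k⁻¹ * p * k) * k⁻¹ := by
    apply Subtype.ext
    show (k : V ≃ₗ[F] V) * g * (k : V ≃ₗ[F] V)⁻¹ * p * ((k : V ≃ₗ[F] V) * g * (k : V ≃ₗ[F] V)⁻¹)⁻¹ =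
      k * (g * ((k : V ≃ₗ[F] V)⁻¹ * p * k) * g⁻¹) * (k : V ≃ₗ[F] V)⁻¹
    group
  rw [h3, map_mul, map_mul, map_inv, ← h1, map_mul, map_mul, map_inv]
  group

section two
variable [CharP F 2] [Finite F]

theorem z_mem_P (hP : Par Q) (h : LF Q u v u' v') : tE Q u v ∈ P Q u v h.qu h.uv :=
  X_le_P hP h (mem_X.2 ⟨1, by rw [one_smul]⟩)

theorem z_ne_one (hQ : Nondeg Q) (h : Ln Q u v) : tE Q u v ≠ 1 := by
  obtain ⟨u', v', hl⟩ := exists_LF hQ h
  intro e
  have := (tE_smul_eq_one_iff hl hQ (c := 1)).1 (by rw [one_smul]; exact e)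
  exact one_ne_zero this

/-- an isometry by which a swap acts commutes with `T u v` -/
theorem Ac.cz (hP : Par Q) (S : Sit Q t j) {n : G} {g : V ≃ₗ[F] V} (h : Ac Q t j u v n g) :
    cE h.mO (tE Q u v) = tE Q u v := by
  obtain ⟨u', v', hl⟩ := exists_LF hP.nd h.ln
  apply S.inj
  rw [← h.ac _ (z_mem_P hP hl), h.sw.z]

/-- correction by an element of `C_G(t)` -/
theorem Ac.mul (hP : Par Q) (S : Sit Q t j) {n : G} {g : V ≃ₗ[F] V} (h : Ac Q t j u v n g) {c : G}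
    (hct : c * t = t * c) {m : V ≃ₗ[F] V} (hm : m ∈ O Q) (hc : ∀ k, c * j k * c⁻¹ = j (cE hm k))
    (hz : cE (mul_mem hm h.mO) (tE Q u v) = tE Q u v) : Ac Q t j u v (c * n) (m * g) := by
  have hz' : cE hm (tE Q u v) = tE Q u v := by
    rw [cE_mul hm h.mO, h.cz hP S] at hz
    exact hz
  have hcz : c * j (tE Q u v) * c⁻¹ = j (tE Q u v) := by rw [hc, hz']
  refine ⟨⟨?_, ?_⟩, mul_mem hm h.mO, h.ln, fun p hp => ?_⟩
  · calc c * n * j (tE Q u v) * (c * n)⁻¹ = c * (n * j (tE Q u v) * n⁻¹) * c⁻¹ := by group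
      _ = _ := by rw [h.sw.z, hcz]
  · calc c * n * t * (c * n)⁻¹ = c * (n * t * n⁻¹) * c⁻¹ := by group
      _ = (c * t) * j (tE Q u v) * c⁻¹ := by rw [h.sw.t]; group
      _ = t * (c * j (tE Q u v) * c⁻¹) := by rw [hct]; group
      _ = _ := by rw [hcz]
  · calc c * n * j p * (c * n)⁻¹ = c * (n * j p * n⁻¹) * c⁻¹ := by group
      _ = _ := by rw [h.ac p hp, hc, ← cE_mul]

/-- correction by an element of `K` -/
theorem Ac.change (hP : Par Q) (S : Sit Q t j) {n : G} {g : V ≃ₗ[F] V} (h : Ac Q t j u v n g)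
    {g' : V ≃ₗ[F] V} (hg' : g' ∈ O Q) (he : g' * g⁻¹ ∈ E Q) (hz : cE hg' (tE Q u v) = tE Q u v) :
    ∃ n', Ac Q t j u v n' g' := by
  have e1 : g' * g⁻¹ * g = g' := by group
  have h1 := h.mul hP S (c := j ⟨g' * g⁻¹, he⟩) (m := g' * g⁻¹) (S.tj _).symm (E_le_O he) (fun k => by
    rw [← map_mul, ← map_inv, ← map_mul]
    rfl) (by rw [cE_congr _ hg' e1]; exact hz)
  rw [e1] at h1
  exact ⟨_, h1⟩

variable [Finite G]

/-- **The root triangle.** -/
theorem exists_odd (hP : Par Q) (S : Sit Q t j) (h2 : ∀ c : F, c = 0 ∨ c = 1) (hF : PF Q u v w u' v' w')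
    {n : G} {g : V ≃ₗ[F] V} (h : Ac Q t j u v n g) (hgE : g ∉ E Q) :
    ∃ (c : G) (m : V ≃ₗ[F] V) (hm : m ∈ O Q), c * t = t * c ∧ (∀ k, c * j k * c⁻¹ = j (cE hm k)) ∧ m ∉ E Q := by
  have := hP.fd
  have hK := kfacts hP.nd hP.d8
  have hG := hP.good
  -- the reflection
  obtain ⟨a, ha, hqa⟩ := (N6_ns hP.nd hF.lf hF.iw hF.iw' hF.hyp).exists_nonsing
    (by have := N6_dim hP (u := u) (v := v) (u' := u') (v' := v') w w'; omega)
  obtain ⟨ha, haw, -⟩ := mem_N6.1 ha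
  set γ := refl Q a hqa with hγ
  have γO : γ ∈ O Q := refl_mem_O hqa
  have γE : γ ∉ E Q := refl_notMem_E hG hqa
  have γγ : ∀ x, γ (γ x) = x := by
    intro x
    have := congrArg (fun f : V ≃ₗ[F] V => f x) (refl_mul_self hqa)
    exact this
  have γu : γ u = u := refl_fix hqa ha.ru
  have γv : γ v = v := refl_fix hqa ha.rv
  have γw : γ w = w := refl_fix hqa (polar_zero_of_comm haw)
  have γp : ∀ x y, polar Q x y = 0 → γ x = x → polar Q x (γ y) = 0 := by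
    intro x y hxy hx
    have := polar_map γO x y
    rwa [hx, hxy] at this
  -- the three lines
  have step : ∀ x, Ln Q u x → γ x = x → ∃ y, Ac Q t j u x y γ := by
    intro x hx hγx
    obtain ⟨k, k1, k2⟩ := exists_k hK hF.lf.ln hx
    have h1 := h.conj S k
    rw [k1, k2] at h1
    refine h1.change hP S γO ?_ (by rw [cE_tE, γu, hγx])
    have h3 : ((k : V ≃ₗ[F] V) * g * (k : V ≃ₗ[F] V)⁻¹)⁻¹ ∉ E Q := by
      intro h4
      have h5 := inv_mem h4
      rw [inv_inv] at h5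
      have h6 := conj_mem_E (inv_mem (mem_O' k)) h5
      apply hgE
      have e : (k : V ≃ₗ[F] V)⁻¹ * ((k : V ≃ₗ[F] V) * g * (k : V ≃ₗ[F] V)⁻¹) * (k : V ≃ₗ[F] V)⁻¹⁻¹ = g := by
        group
      rwa [e] at h6
    exact mul_mem_E hG γO (inv_mem h1.mO) γE h3
  obtain ⟨y1, hy1⟩ := step v hF.lf.ln γv
  obtain ⟨y2, hy2⟩ := step w hF.lf2.ln γw
  obtain ⟨y3, hy3⟩ := step (v + w) hF.lf3.ln (by rw [map_add, γv, γw])
  -- the action on `T u x`
  have act : ∀ {x y : V} {n : G}, Ac Q t j u x n γ → polar Q u y = 0 → polar Q x y = 0 →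
      n * j (tE Q u y) * n⁻¹ = j (tE Q u (γ y)) := by
    intro x y n hn hu hx
    obtain ⟨a', b', hl⟩ := exists_LF hP.nd hn.ln
    rw [hn.ac _ (QL_le_P hP hl (tE_mem_QL hn.ln hu hx)), cE_tE, γu]
  have pww : polar Q w w = 0 := polar_self_of_sing hF.hyp.left
  have pu : ∀ x, polar Q u x = 0 → polar Q v x = 0 → polar Q w x = 0 → polar Q (v + w) x = 0 := by
    intro x _ h3 h4
    rw [polar_add_left, h3, h4, add_zero]
  set z1 := j (tE Q u v) with hz1
  set z2 := j (tE Q u w) with hz2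
  set z3 := j (tE Q u (v + w)) with hz3
  have zz : z1 * z2 * z3 = 1 := by
    rw [hz1, hz2, hz3, ← map_mul, ← map_mul, tE_mul hF.lf.qu hF.lf.uv hF.iw.u,
      tE_mul hF.lf.qu hF.lf3.uv hF.lf3.uv, add_self' (F := F), tE_zero_right, map_one]
  have a13 : y1 * z3 * y1⁻¹ = z3 := by
    rw [hz3, act hy1 hF.lf3.uv (by rw [polar_add_right, hF.lf.vv, hF.iw.v, add_zero]), map_add, γv, γw]
  have a12 : y1 * z2 * y1⁻¹ = z2 := by
    rw [hz2, act hy1 hF.iw.u hF.iw.v, γw]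
  have a23 : y2 * z3 * y2⁻¹ = z3 := by
    rw [hz3, act hy2 hF.lf3.uv (by rw [polar_add_right, hF.iw.rv, pww, add_zero]), map_add, γv, γw]
  have hct : (y1 * y2 * y3) * t = t * (y1 * y2 * y3) := by
    have e : (y1 * y2 * y3) * t * (y1 * y2 * y3)⁻¹ = t := by
      calc (y1 * y2 * y3) * t * (y1 * y2 * y3)⁻¹ = y1 * (y2 * (y3 * t * y3⁻¹) * y2⁻¹) * y1⁻¹ := by group
        _ = y1 * ((y2 * t * y2⁻¹) * (y2 * z3 * y2⁻¹)) * y1⁻¹ := by rw [hy3.sw.t, ← hz3]; group
        _ = (y1 * t * y1⁻¹) * (y1 * z2 * y1⁻¹) * (y1 * z3 * y1⁻¹) := by rw [hy2.sw.t, ← hz2, a23]; group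
        _ = t * (z1 * z2 * z3) := by rw [hy1.sw.t, ← hz1, a12, a13]; group
        _ = t := by rw [zz, mul_one]
    exact mul_inv_eq_iff_eq_mul.1 e
  obtain ⟨m, hm, hmc⟩ := exists_act S h2 hct
  refine ⟨_, m, hm, hct, hmc, fun hmE => γE ?_⟩
  -- the action on `T u x`, `x` perpendicular to the plane
  have h5 : ∀ x, polar Q u x = 0 → polar Q v x = 0 → polar Q w x = 0 →
      tE Q (m u) (m x) = tE Q u (γ x) := by
    intro x h3 h4 h6
    apply S.inj
    rw [← cE_tE hm, ← hmc]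
    have g3 := γp u x h3 γu
    have g4 := γp v x h4 γv
    have g6 := γp w x h6 γw
    calc y1 * y2 * y3 * j (tE Q u x) * (y1 * y2 * y3)⁻¹ =
        y1 * (y2 * (y3 * j (tE Q u x) * y3⁻¹) * y2⁻¹) * y1⁻¹ := by group
      _ = y1 * (y2 * j (tE Q u (γ x)) * y2⁻¹) * y1⁻¹ := by rw [act hy3 h3 (pu x h3 h4 h6)]
      _ = y1 * j (tE Q u x) * y1⁻¹ := by rw [act hy2 g3 g6, γγ]
      _ = j (tE Q u (γ x)) := act hy1 h3 h4
  have h7 : γ * m ∈ E Q := by
    refine mem_E_of_plane hP.nd h2 hF (mul_mem γO hm) fun x h3 h4 h6 => ?_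
    show tE Q (γ (m u)) (γ (m x)) = tE Q u x
    rw [← cE_tE γO, h5 x h3 h4 h6, cE_tE, γu, γγ]
  have h8 := mul_mem h7 (inv_mem hmE)
  have e : γ * m * m⁻¹ = γ := by group
  rwa [e] at h8

/-- an element of `C_G(t)` centralising `j P` -/
theorem cent_P (hP : Par Q) (S : Sit Q t j) (h2 : ∀ c : F, c = 0 ∨ c = 1) (hl : LF Q u v u' v') {c : G}
    (hct : c * t = t * c) (hc : ∀ p ∈ P Q u v hl.qu hl.uv, c * j p * c⁻¹ = j p) :
    c = 1 ∨ c = t ∨ c = j (tE Q u v) ∨ c = j (tE Q u v) * t := by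
  obtain ⟨m, hm, hmc⟩ := exists_act S h2 hct
  obtain ⟨b, b', hb, hb', hbb⟩ := hP.exists_pair hl
  have key : ∀ p ∈ P Q u v hl.qu hl.uv, cE hm p = p := fun p hp => S.inj (by rw [← hmc, hc p hp])
  have h1 := cent_QL hP.nd h2 hl hb hbb.left hbb.left_ne hm
    (fun x h3 h4 => by
      rw [← cE_tE hm]; exact key _ (QL_le_P hP hl (tE_mem_QL hl.ln h3 h4)))
    (fun x h3 h4 => by
      rw [← cE_tE hm]; exact key _ (QL_le_P hP hl (tE_mem_QL' hl.ln h3 h4)))
  rcases h1 with h1 | h1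
  · rcases S.ker c hct (fun a x ha hx => by
      have h3 := hmc (tE Q a x)
      rw [cE_tE, h1] at h3
      exact mul_inv_eq_iff_eq_mul.1 h3) with h4 | h4
    · exact Or.inl h4
    · exact Or.inr (Or.inl h4)
  · have hct' : ((j (tE Q u v))⁻¹ * c) * t = t * ((j (tE Q u v))⁻¹ * c) := by
      rw [mul_assoc, hct, ← mul_assoc, tj' S, mul_assoc]
    rcases S.ker _ hct' (fun a x ha hx => by
      have h3 := hmc (tE Q a x)
      have h4 : cE hm (tE Q a x) = tE Q u v * tE Q a x * (tE Q u v)⁻¹ := by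
        apply Subtype.ext
        rw [coe_cE, h1]
        rfl
      rw [h4, map_mul, map_mul, map_inv] at h3
      have h5 := mul_inv_eq_iff_eq_mul.1 h3
      calc (j (tE Q u v))⁻¹ * c * j (tE Q a x) = (j (tE Q u v))⁻¹ * (c * j (tE Q a x)) := by group
        _ = j (tE Q a x) * ((j (tE Q u v))⁻¹ * c) := by rw [h5]; group) with h4 | h4
    · right; right; left
      exact (inv_mul_eq_one.1 h4).symm
    · right; right; right
      rw [← h4]; group

/-- from `Ac` with the trivial isometry to `IsY` -/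
theorem Ac.exists_isY (hP : Par Q) (S : Sit Q t j) (h2 : ∀ c : F, c = 0 ∨ c = 1) {n : G}
    (h : Ac Q t j u v n 1) : ∃ y, IsY t j u v y := by
  obtain ⟨u', v', hl⟩ := exists_LF hP.nd h.ln
  have hac : ∀ p ∈ P Q u v hl.qu hl.uv, n * j p * n⁻¹ = j p := by
    intro p hp
    rw [h.ac p hp]
    congr 1
  have hzz : j (tE Q u v) * j (tE Q u v) = 1 := by rw [← map_mul, tE_mul_self h.ln.qu h.ln.perp, map_one]
  have hz1 : j (tE Q u v) ≠ 1 := by
    intro e
    rw [← map_one j] at e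
    exact z_ne_one hP.nd h.ln (S.inj e)
  have htz : t * j (tE Q u v) = j (tE Q u v) * t := S.tj _
  -- a swap centralising `j P`
  have mk : ∀ y, y * y = 1 → y * t * y⁻¹ = t * j (tE Q u v) →
      (∀ p ∈ P Q u v hl.qu hl.uv, y * j p * y⁻¹ = j p) → IsY t j u v y := fun y h1 h3 h4 =>
    ⟨h1, h3, fun k hk1 hk2 => (mul_inv_eq_iff_eq_mul.1 (h4 k (mem_P_of_fix hP hl hk1 hk2))).symm⟩
  have hz := h.sw.z
  have ht := h.sw.t
  -- the square
  have sqt : (n * n) * t = t * (n * n) := by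
    have e : (n * n) * t * (n * n)⁻¹ = t := by
      calc (n * n) * t * (n * n)⁻¹ = n * (n * t * n⁻¹) * n⁻¹ := by group
        _ = n * (t * j (tE Q u v)) * n⁻¹ := by rw [ht]
        _ = (n * t * n⁻¹) * (n * j (tE Q u v) * n⁻¹) := by group
        _ = t * (j (tE Q u v) * j (tE Q u v)) := by rw [hz, ht]; group
        _ = t := by rw [hzz, mul_one]
    exact mul_inv_eq_iff_eq_mul.1 e
  have sqc : ∀ p ∈ P Q u v hl.qu hl.uv, (n * n) * j p * (n * n)⁻¹ = j p := by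
    intro p hp
    calc (n * n) * j p * (n * n)⁻¹ = n * (n * j p * n⁻¹) * n⁻¹ := by group
      _ = j p := by rw [hac p hp, hac p hp]
  have sqn : n * (n * n) * n⁻¹ = n * n := by group
  rcases cent_P hP S h2 hl sqt sqc with h3 | h3 | h3 | h3
  · exact ⟨n, mk n h3 ht hac⟩
  · exfalso
    rw [h3, ht] at sqn
    apply hz1
    calc j (tE Q u v) = t⁻¹ * (t * j (tE Q u v)) := by group
      _ = 1 := by rw [sqn]; group
  · -- `y = n t`
    refine ⟨n * t, mk _ ?_ ?_ ?_⟩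
    · calc n * t * (n * t) = (n * t * n⁻¹) * (n * n) * t := by group
        _ = t * (j (tE Q u v) * j (tE Q u v)) * t := by rw [ht, h3]; group
        _ = 1 := by rw [hzz, mul_one, S.tt]
    · rw [← ht]
      group
    · intro p hp
      calc n * t * j p * (n * t)⁻¹ = n * (t * j p) * t⁻¹ * n⁻¹ := by group
        _ = n * j p * n⁻¹ := by rw [S.tj]; group
        _ = _ := hac p hp
  · exfalso
    rw [h3, ← htz] at sqn
    have e : n * (t * j (tE Q u v)) * n⁻¹ = t * (j (tE Q u v) * j (tE Q u v)) := by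
      calc n * (t * j (tE Q u v)) * n⁻¹ = (n * t * n⁻¹) * (n * j (tE Q u v) * n⁻¹) := by group
        _ = _ := by rw [ht, hz]; group
    rw [e, hzz] at sqn
    apply hz1
    calc j (tE Q u v) = t⁻¹ * (t * j (tE Q u v)) := by group
      _ = 1 := by rw [← sqn]; group

/-- **The elements `y_l` exist.** -/
theorem exists_isY (hP : Par Q) (S : Sit Q t j) (h2 : ∀ c : F, c = 0 ∨ c = 1) (hA : ThmA Q t j)
    {u0 v0 : V} {n0 : G} (h0 : Ln Q u0 v0) (hn : Sw Q t j u0 v0 n0) {u v : V} (h : Ln Q u v) :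
    ∃ y, IsY t j u v y := by
  have := hP.fd
  have hK := kfacts hP.nd hP.d8
  have hG := hP.good
  obtain ⟨k, k1, k2⟩ := exists_k hK h0 h
  have h1 := hn.conj S k
  rw [k1, k2] at h1
  obtain ⟨u', v', hl⟩ := exists_LF hP.nd h
  obtain ⟨g, hg, hac⟩ := hA hl h1
  have h3 : Ac Q t j u v (j k * n0 * (j k)⁻¹) g := ⟨h1, hg, h, hac⟩
  have c1 : ∀ h4 : (1 : V ≃ₗ[F] V) ∈ O Q, cE h4 (tE Q u v) = tE Q u v := fun h4 => by
    rw [cE_tE]; rfl
  by_cases hE : g ∈ E Q
  · obtain ⟨n', h5⟩ := h3.change hP S (one_mem _) (by rw [one_mul]; exact inv_mem hE) (c1 _)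
    exact h5.exists_isY hP S h2
  · obtain ⟨w, w', hF⟩ := exists_PF hP hl
    obtain ⟨c, m, hm, hct, hmc, hmE⟩ := exists_odd hP S h2 hF h3 hE
    -- `c⁻¹` acts as `m⁻¹`
    have hm' : m⁻¹ ∈ O Q := inv_mem hm
    have hct' : c⁻¹ * t = t * c⁻¹ := by
      rw [inv_mul_eq_iff_eq_mul, ← mul_assoc, hct, mul_inv_cancel_right]
    have hmc' : ∀ k, c⁻¹ * j k * c⁻¹⁻¹ = j (cE hm' k) := by
      intro k
      have h5 := hmc (cE hm' k)
      have e : cE hm (cE hm' k) = k := by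
        apply Subtype.ext
        rw [coe_cE, coe_cE]; group
      rw [e] at h5
      rw [← h5]; group
    have hmE' : m⁻¹ ∉ E Q := fun h5 => hmE (by have := inv_mem h5; rwa [inv_inv] at this)
    have hcm : m⁻¹ * g ∈ E Q := mul_mem_E hG hm' hg hmE' hE
    -- first change `g` to `m`
    obtain ⟨n1, h5⟩ : ∃ n1, Ac Q t j u v n1 1 := by
      -- the element `(m⁻¹ g)⁻¹` of `K`
      have e3 : g⁻¹ * m ∈ E Q := by
        have := inv_mem hcm
        have e4 : (m⁻¹ * g)⁻¹ = g⁻¹ * m := by group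
        rwa [e4] at this
      have e5 : (j (⟨g⁻¹ * m, e3⟩ : ↥(E Q)) * c⁻¹) * t = t * (j ⟨g⁻¹ * m, e3⟩ * c⁻¹) := by
        rw [mul_assoc, hct', ← mul_assoc, ← S.tj, mul_assoc]
      have h6 := h3.mul hP S (c := j ⟨g⁻¹ * m, e3⟩ * c⁻¹) e5 (m := g⁻¹) (inv_mem hg) (fun k => by
        have e6 : cE (inv_mem hg) k = (⟨g⁻¹ * m, e3⟩ : ↥(E Q)) * cE hm' k * (⟨g⁻¹ * m, e3⟩ : ↥(E Q))⁻¹ := by
          apply Subtype.ext
          show g⁻¹ * (k : V ≃ₗ[F] V) * g⁻¹⁻¹ = (g⁻¹ * m) * (m⁻¹ * k * m⁻¹⁻¹) * (g⁻¹ * m)⁻¹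
          group
        rw [e6, map_mul, map_mul, map_inv, ← hmc']
        group) (by
        rw [cE_congr _ (one_mem _) (by group)]
        exact c1 _)
      have e7 : g⁻¹ * g = 1 := by group
      rw [e7] at h6
      exact ⟨_, h6⟩
    exact h5.exists_isY hP S h2

/-! ### `Dbl` -/

/-- `q = 2` : from the elements `y_l` with `c = 0` to `Dbl`. -/
theorem _root_.Cfsg.Agent.OddHalf.Orth.COne.IsY.baseW (hP : Par Q) (S : Sit Q t j) (h2 : ∀ c : F, c = 0 ∨ c = 1) (h : Ln Q u v) {y : G}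
    (hy : IsY t j u v y) (hc : ∀ k : ↥(E Q), k * tE Q u v = tE Q u v * k → j k * y = y * j k) :
    ∃ W0, BaseW Q t j u v W0 ∧ ∀ w ∈ W0, w * w = 1 := by
  obtain ⟨u', v', hl⟩ := exists_LF hP.nd h
  have hzz : j (tE Q u v) * j (tE Q u v) = 1 := by rw [← map_mul, tE_mul_self h.qu h.perp, map_one]
  have hz1 : j (tE Q u v) ≠ 1 := by
    intro e
    rw [← map_one j] at e
    exact z_ne_one hP.nd h (S.inj e)
  obtain ⟨z, hz⟩ : ∃ z, z = j (tE Q u v) := ⟨_, rfl⟩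
  have htz : t * z = z * t := by rw [hz]; exact S.tj _
  have hzy : z * y = y * z := by rw [hz]; exact hc _ rfl
  rw [← hz] at hzz hz1
  have hyt : y * t = t * z * y := by rw [hz]; exact mul_inv_eq_iff_eq_mul.1 hy.tt
  have hyy := hy.sq
  have hyi : y⁻¹ = y := inv_eq_of_mul_eq_one_left hyy
  have hzi : z⁻¹ = z := inv_eq_of_mul_eq_one_left hzz
  have j0 : j (tE Q u ((0 : F) • v)) = 1 := by rw [zero_smul, tE_zero_right, map_one]
  have j1 : j (tE Q u ((1 : F) • v)) = z := by rw [one_smul, hz]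
  let W0 : Subgroup G :=
    { carrier := {g | g = 1 ∨ g = z ∨ g = y ∨ g = y * z}
      one_mem' := Or.inl rfl
      mul_mem' := by
        have a1 : z * (y * z) = y := by rw [← mul_assoc, hzy, mul_assoc, hzz, mul_one]
        have a2 : y * (y * z) = z := by rw [← mul_assoc, hyy, one_mul]
        have a3 : y * z * z = y := by rw [mul_assoc, hzz, mul_one]
        have a4 : y * z * y = z := by rw [mul_assoc, hzy, ← mul_assoc, hyy, one_mul]
        have a5 : y * z * (y * z) = 1 := by rw [← mul_assoc, a4, hzz]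
        rintro a b (rfl | rfl | rfl | rfl) (rfl | rfl | rfl | rfl)
        · left; rw [mul_one]
        · right; left; rw [one_mul]
        · right; right; left; rw [one_mul]
        · right; right; right; rw [one_mul]
        · right; left; rw [mul_one]
        · left; exact hzz
        · right; right; right; exact hzy
        · right; right; left; exact a1
        · right; right; left; rw [mul_one]
        · right; right; right; rfl
        · left; exact hyy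
        · right; left; exact a2
        · right; right; right; rw [mul_one]
        · right; right; left; exact a3
        · right; left; exact a4
        · left; exact a5
      inv_mem' := by
        rintro a (rfl | rfl | rfl | rfl)
        · left; exact inv_one
        · right; left; exact hzi
        · right; right; left; exact hyi
        · right; right; right; rw [_root_.mul_inv_rev, hyi, hzi, hzy] }
  have hW : ∀ g, g ∈ W0 ↔ g = 1 ∨ g = z ∨ g = y ∨ g = y * z := fun g => Iff.rfl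
  have hsq : ∀ w ∈ W0, w * w = 1 := by
    rintro a (rfl | rfl | rfl | rfl)
    · rw [mul_one]
    · exact hzz
    · exact hyy
    · calc y * z * (y * z) = y * (z * y) * z := by group
        _ = (y * y) * (z * z) := by rw [hzy]; group
        _ = 1 := by rw [hyy, hzz, one_mul]
  have hcent : ∀ w ∈ W0, ∀ k : ↥(E Q), k * tE Q u v = tE Q u v * k → j k * w = w * j k := by
    intro w hw k hk
    have k1 : j k * z = z * j k := by rw [hz, ← map_mul, ← map_mul, hk]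
    have k2 := hc k hk
    rcases hw with rfl | rfl | rfl | rfl
    · rw [mul_one, one_mul]
    · exact k1
    · exact k2
    · rw [← mul_assoc, k2, mul_assoc, k1, mul_assoc]
  have p1 : y⁻¹ * (t * y * t) = z := by
    calc y⁻¹ * (t * y * t) = y⁻¹ * (t * (y * t)) := by group
      _ = y⁻¹ * ((t * t) * z * y) := by rw [hyt]; group
      _ = y⁻¹ * (z * y) := by rw [S.tt, one_mul]
      _ = z := by rw [hzy]; group
  have p2 : (y * z)⁻¹ * (t * (y * z) * t) = z := by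
    calc (y * z)⁻¹ * (t * (y * z) * t) = z⁻¹ * (y⁻¹ * (t * y * (z * t))) := by group
      _ = z⁻¹ * (y⁻¹ * (t * y * t)) * z := by rw [← htz]; group
      _ = z := by rw [p1]; group
  refine ⟨W0, ⟨?_, ?_, ?_, ?_, hcent, ?_, ?_⟩, hsq⟩
  · intro c
    rcases h2 c with rfl | rfl
    · rw [j0]; exact one_mem _
    · rw [j1]; exact Or.inr (Or.inl rfl)
  · rintro w (rfl | rfl | rfl | rfl)
    · exact ⟨0, by rw [j0, mul_one, S.tt]; group⟩
    · exact ⟨0, by rw [j0, htz, mul_assoc, S.tt, mul_one, inv_mul_cancel]⟩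
    · exact ⟨1, by rw [j1, p1]⟩
    · exact ⟨1, by rw [j1, p2]⟩
  · intro c
    rcases h2 c with rfl | rfl
    · exact ⟨1, one_mem _, by rw [j0, mul_one, S.tt]; group⟩
    · exact ⟨y, Or.inr (Or.inr (Or.inl rfl)), by rw [j1, p1]⟩
  · have key : ∀ w, w * t = t * w → w⁻¹ * (t * w * t) = 1 := by
      intro w hw
      rw [← hw, mul_assoc, S.tt, mul_one, inv_mul_cancel]
    rintro w (rfl | rfl | rfl | rfl) hw
    · exact ⟨0, by rw [j0]⟩
    · exact ⟨1, by rw [j1]⟩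
    · exact absurd ((p1.symm.trans (key _ hw))) hz1
    · exact absurd ((p2.symm.trans (key _ hw))) hz1
  · intro k hk w hw
    obtain ⟨d, hd0, hd⟩ := NL_X hl hk
    have hd1 : d = 1 := (h2 d).resolve_left hd0
    have h3 := hd 1
    rw [hd1, mul_one, one_smul] at h3
    rw [hcent w hw k (mul_inv_eq_iff_eq_mul.1 h3), mul_inv_cancel_right]
    exact hw
  · intro w hw
    exact ⟨0, by rw [j0, hsq w hw]⟩

/-- `q = 2` : `Dbl` from theorem A (`hA`) and a swap for one line. -/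
theorem exists_dbl_of (hP : Par Q) (S : Sit Q t j) (h2 : ∀ c : F, c = 0 ∨ c = 1) (hA : ThmA Q t j)
    {u0 v0 : V} {n0 : G} (h0 : Ln Q u0 v0) (hn : Sw Q t j u0 v0 n0) :
    ∃ W : V → V → Subgroup G, Dbl Q t j W := by
  have hY : ∀ u v : V, Ln Q u v → ∃ y, IsY t j u v y := fun u v h => exists_isY hP S h2 hA h0 hn h
  obtain ⟨y, hy⟩ := hY u0 v0 h0
  obtain ⟨W0, B, hsq⟩ := hy.baseW hP S h2 h0 (fun k hk => COne.cent hP.nd hP.d8 h2 S hY h0 hy hk)
  have := hP.fd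
  exact ⟨_, B.dbl_two S (kfacts hP.nd hP.d8) h0 hsq⟩

end two

end Cfsg.Agent.OddHalf.Orth.ExTwo
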