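import Mathlib
import Cfsg.Agent.OddHalf.Orth.KSetup

/-!
# `q = 2`: the automorphisms of `P` come from `O(V)`

* `P_cyc` : `P` acts on the line as a group of order 3; `rho_central`; `mem_QL_of_triv`;
* `PA` : the automorphisms of `P`; `PA.thm` : they are induced by elements of `O Q`;
* `thmA`.
-/

set_option autoImplicit false
set_option linter.unusedSectionVars false
set_option linter.unusedVariables false
set_option linter.style.haveILetI false

namespace Cfsg.Agent.OddHalf.Orth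

open QuadraticMap Cfsg.Agent.LieClassical.OrthCore Cfsg.Agent.LieClassical.OrthTrans
  Cfsg.Agent.LieClassical.OrthSimple Cfsg.Agent.ClassicalGeometry.OrthAutBasic
  Cfsg.Agent.ClassicalGeometry.OrthAutRoot Face Sem'

variable {F V : Type*} [Field F] [AddCommGroup V] [Module F V] {Q : QuadraticForm F V}

variable [CharP F 2] [Finite F] {u v u' v' : V}

/-- `g` acts on the line as a power of `rho` -/
def Cyc (u v : V) (g : ↥(E Q)) : Prop :=
  ((g : V ≃ₗ[F] V) u = u ∧ (g : V ≃ₗ[F] V) v = v) ∨ ((g : V ≃ₗ[F] V) u = v ∧ (g : V ≃ₗ[F] V) v = u + v) ∨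
    ((g : V ≃ₗ[F] V) u = u + v ∧ (g : V ≃ₗ[F] V) v = u)

include F in
theorem add_add_self' (x y : V) : x + (x + y) = y := by
  rw [← add_assoc, add_self' (F := F), zero_add]

theorem Cyc.mul {g k : ↥(E Q)} (hg : Cyc u v g) (hk : Cyc u v k) : Cyc u v (g * k) := by
  have h2 : (2 : F) = 0 := CharTwo.two_eq_zero
  have e1 : v + (u + v) = u := by rw [add_comm, add_assoc, add_self' (F := F), add_zero]
  have e2 : u + v + u = v := by rw [add_comm, add_add_self' (F := F)]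
  rcases hg with ⟨a, b⟩ | ⟨a, b⟩ | ⟨a, b⟩ <;> rcases hk with ⟨c, d⟩ | ⟨c, d⟩ | ⟨c, d⟩ <;>
    unfold Cyc <;> rw [coe_mul', coe_mul', c, d] <;> simp only [map_add, a, b, e1, e2, true_and, true_or,
      or_true, and_self]

theorem Cyc.inv {g : ↥(E Q)} (hg : Cyc u v g) : Cyc u v g⁻¹ := by
  have e1 : v + (u + v) = u := by rw [add_comm, add_assoc, add_self' (F := F), add_zero]
  have e2 : u + v + u = v := by rw [add_comm, add_add_self' (F := F)]
  have key : ∀ x y : V, (g : V ≃ₗ[F] V) x = y → ((g⁻¹ : ↥(E Q)) : V ≃ₗ[F] V) y = x := by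
    intro x y e
    show (g : V ≃ₗ[F] V).symm y = x
    rw [LinearEquiv.symm_apply_eq, e]
  rcases hg with ⟨a, b⟩ | ⟨a, b⟩ | ⟨a, b⟩
  · exact Or.inl ⟨key _ _ a, key _ _ b⟩
  · exact Or.inr (Or.inr ⟨key _ _ (by rw [map_add, a, b, e1]), key _ _ a⟩)
  · exact Or.inr (Or.inl ⟨key _ _ b, key _ _ (by rw [map_add, a, b, e2])⟩)

theorem L_cases (h01 : ∀ c : F, c = 0 ∨ c = 1) {m : V} (hm : m ∈ L F u v) : m = 0 ∨ m = u ∨ m = v ∨ m = u + v := by
  obtain ⟨a, b, rfl⟩ := mem_L.1 hm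
  rcases h01 a with rfl | rfl <;> rcases h01 b with rfl | rfl <;> simp

theorem P_cyc (hP : Par Q) (h : LF Q u v u' v') (h01 : ∀ c : F, c = 0 ∨ c = 1) {p : ↥(E Q)}
    (hp : p ∈ P Q u v h.qu h.uv) : Cyc u v p := by
  rw [P] at hp
  have hu0 := h.h1.left_ne
  have hv0 := h.h2.left_ne
  induction hp using Subgroup.closure_induction with
  | mem x hx =>
    obtain ⟨hx0, i, hi⟩ := hx
    have hN := P0_le_NL hP.nd h hx0
    have hfix : ((x * x : ↥(E Q)) : V ≃ₗ[F] V) u = u → ((x * x : ↥(E Q)) : V ≃ₗ[F] V) v = v → Cyc u v x := by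
      intro h1 h2
      have e : x = (x * x) ^ (i + 1) := by
        rw [← pow_two, ← pow_mul]
        have : 2 * (i + 1) = orderOf x + 1 := by omega
        rw [this, pow_succ, pow_orderOf_eq_one, one_mul]
      have h3 : ((((x * x) ^ (i + 1)) : ↥(E Q)) : V ≃ₗ[F] V) u = u := by
        rw [pow_smul_fix (κ := 1) (by rw [h1, one_smul]), one_pow, one_smul]
      have h4 : ((((x * x) ^ (i + 1)) : ↥(E Q)) : V ≃ₗ[F] V) v = v := by
        rw [pow_smul_fix (κ := 1) (by rw [h2, one_smul]), one_pow, one_smul]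
      rw [← e] at h3 h4
      exact Or.inl ⟨h3, h4⟩
    have e1 : v + (u + v) = u := by rw [add_comm, add_assoc, add_self' (F := F), add_zero]
    have e2 : u + v + u = v := by rw [add_comm, add_add_self' (F := F)]
    have e3 : u + v + v = u := by rw [add_assoc, add_self' (F := F), add_zero]
    have e4 : u + (u + v) = v := add_add_self' (F := F) u v
    have hinj := (x : V ≃ₗ[F] V).injective
    have hxu0 : (x : V ≃ₗ[F] V) u ≠ 0 := fun e => hu0 (hinj (by rw [e, map_zero]))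
    have hxv0 : (x : V ≃ₗ[F] V) v ≠ 0 := fun e => hv0 (hinj (by rw [e, map_zero]))
    have huv : (x : V ≃ₗ[F] V) u ≠ (x : V ≃ₗ[F] V) v := fun e => h.ln.ind 1 (by rw [one_smul]; exact (hinj e).symm)
    have hu := L_cases h01 ((mem_NL.1 hN u).2 (left_mem_L _ _))
    have hv := L_cases h01 ((mem_NL.1 hN v).2 (right_mem_L _ _))
    rcases hu with a | a | a | a <;> rcases hv with b | b | b | b
    · exact absurd a hxu0
    · exact absurd a hxu0
    · exact absurd a hxu0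
    · exact absurd a hxu0
    · exact absurd b hxv0
    · exact absurd (a.trans b.symm) huv
    · exact Or.inl ⟨a, b⟩
    · exact hfix (by rw [coe_mul', a, a]) (by rw [coe_mul', b, map_add, a, b, e4])
    · exact absurd b hxv0
    · exact hfix (by rw [coe_mul', a, b]) (by rw [coe_mul', b, a])
    · exact absurd (a.trans b.symm) huv
    · exact Or.inr (Or.inl ⟨a, b⟩)
    · exact absurd b hxv0
    · exact Or.inr (Or.inr ⟨a, b⟩)
    · exact hfix (by rw [coe_mul', a, map_add, a, b, e3]) (by rw [coe_mul', b, b])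
    · exact absurd (a.trans b.symm) huv
  | one => exact Or.inl ⟨rfl, rfl⟩
  | mul x y _ _ ihx ihy => exact ihx.mul ihy
  | inv x _ ih => exact ih.inv

/-- an involution of `P` fixes the line pointwise -/
theorem Cyc.fix_of_sq {g : ↥(E Q)} (h : LF Q u v u' v') (hg : Cyc u v g) (h2 : g * g = 1) :
    (g : V ≃ₗ[F] V) u = u ∧ (g : V ≃ₗ[F] V) v = v := by
  have hfix : (g : V ≃ₗ[F] V) ((g : V ≃ₗ[F] V) u) = u := by rw [← coe_mul', h2]; rfl
  rcases hg with h1 | ⟨a, b⟩ | ⟨a, b⟩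
  · exact h1
  · exfalso
    rw [a, b] at hfix
    exact h.h2.left_ne (by simpa using hfix)
  · exfalso
    rw [a, map_add, a, b] at hfix
    have e2 : u + v + u = v := by rw [add_comm, add_add_self' (F := F)]
    rw [e2] at hfix
    exact h.ln.ind 1 (by rw [one_smul, hfix])

theorem Cyc.comm_rho (h : LF Q u v u' v') {g : ↥(E Q)} (hg : Cyc u v g) {m : V} (hm : m ∈ L F u v) :
    (rho Q u v u' v' : V ≃ₗ[F] V) ((g : V ≃ₗ[F] V) m) =
      (g : V ≃ₗ[F] V) ((rho Q u v u' v' : V ≃ₗ[F] V) m) := by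
  have e1 : v + (u + v) = u := by rw [add_comm, add_assoc, add_self' (F := F), add_zero]
  have e2 : u + v + u = v := by rw [add_comm, add_add_self' (F := F)]
  obtain ⟨a, b, rfl⟩ := mem_L.1 hm
  simp only [map_add, map_smul, rho_u h, rho_v h]
  rcases hg with ⟨c, d⟩ | ⟨c, d⟩ | ⟨c, d⟩ <;> simp only [c, d, map_add, rho_u h, rho_v h, e1, e2]

/-- commutators in `QL` -/
theorem comm_QL_of (h : LF Q u v u' v') {g p : ↥(E Q)} (hg : g ∈ NL Q u v) (hp : p ∈ NL Q u v)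
    (hL : ∀ m ∈ L F u v, (g : V ≃ₗ[F] V) ((p : V ≃ₗ[F] V) m) = (p : V ≃ₗ[F] V) ((g : V ≃ₗ[F] V) m))
    (e5 : ∀ w, polar Q u w = 0 → polar Q v w = 0 → ∃ m ∈ L F u v, (g : V ≃ₗ[F] V) w = w + m) :
    g * p * g⁻¹ * p⁻¹ ∈ QL Q u v := by
  have hgi := inv_mem hg
  have hpi := inv_mem hp
  have hgc : ∀ x : V, (g : V ≃ₗ[F] V) (((g⁻¹ : ↥(E Q)) : V ≃ₗ[F] V) x) = x := fun x =>
    LinearEquiv.apply_symm_apply _ _
  have hpc : ∀ x : V, (p : V ≃ₗ[F] V) (((p⁻¹ : ↥(E Q)) : V ≃ₗ[F] V) x) = x := fun x =>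
    LinearEquiv.apply_symm_apply _ _
  have hgw : ∀ w, polar Q u w = 0 → polar Q v w = 0 →
      ∃ m ∈ L F u v, ((g⁻¹ : ↥(E Q)) : V ≃ₗ[F] V) w = w + m := by
    intro w h1 h2
    obtain ⟨m, hm, e⟩ := e5 w h1 h2
    have hm' := (mem_NL.1 hgi m).2 hm
    refine ⟨-(((g⁻¹ : ↥(E Q)) : V ≃ₗ[F] V) m), Submodule.neg_mem _ hm', ?_⟩
    apply (g : V ≃ₗ[F] V).injective
    rw [hgc, map_add, map_neg, hgc, e]
    abel
  have key : ∀ m ∈ L F u v, ((g * p * g⁻¹ * p⁻¹ : ↥(E Q)) : V ≃ₗ[F] V) m = m := by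
    intro m hm
    have h1 := (mem_NL.1 hpi m).2 hm
    have h2 := (mem_NL.1 hgi _).2 h1
    rw [coe_mul', coe_mul', coe_mul', hL _ h2, hgc, hpc]
  refine ⟨key u (left_mem_L _ _), key v (right_mem_L _ _), fun w h1 h2 => ?_⟩
  obtain ⟨h3, h4⟩ := NL_perp hpi h1 h2
  obtain ⟨m, hm, e⟩ := hgw _ h3 h4
  obtain ⟨m', hm', e'⟩ := e5 w h1 h2
  have hpm := (mem_NL.1 hp m).2 hm
  obtain ⟨a, b, e6⟩ := mem_L.1 (Submodule.add_mem _ hm' ((mem_NL.1 hg _).2 hpm))
  refine ⟨a, b, ?_⟩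
  rw [coe_mul', coe_mul', coe_mul', e, map_add, hpc, map_add, e', add_assoc, add_assoc, e6]

theorem rho_central (hP : Par Q) (h : LF Q u v u' v') (h01 : ∀ c : F, c = 0 ∨ c = 1) {p : ↥(E Q)}
    (hp : p ∈ P Q u v h.qu h.uv) :
    rho Q u v u' v' * p * (rho Q u v u' v')⁻¹ * p⁻¹ ∈ QL Q u v := by
  apply comm_QL_of h (P0_le_NL' h) (P_le_NL hP.nd h hp)
  · intro m hm
    exact (P_cyc hP h h01 hp).comm_rho h hm
  · intro w h1 h2
    obtain ⟨m, hm, e⟩ := decomp_perp h h1 h2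
    have hin := pW_in h w
    refine ⟨(rho Q u v u' v' : V ≃ₗ[F] V) m - m, Submodule.sub_mem _ ((mem_NL.1 (P0_le_NL' h) m).2 hm) hm, ?_⟩
    set y := pW Q u v u' v' w
    rw [e, map_add, rho_w h hin]
    abel

/-- an element of `NL` acting trivially on `QL/X` is in `QL` -/
theorem mem_QL_of_triv (hP : Par Q) (h : LF Q u v u' v') (h01 : ∀ c : F, c = 0 ∨ c = 1) {p : ↥(E Q)}
    (hp : p ∈ NL Q u v) (H : ∀ k ∈ QL Q u v, xc Q u v u' v' (p * k * p⁻¹) = xc Q u v u' v' k ∧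
      yc Q u v u' v' (p * k * p⁻¹) = yc Q u v u' v' k) : p ∈ QL Q u v := by
  obtain ⟨a, b, e1⟩ := mem_L.1 ((mem_NL.1 hp u).2 (left_mem_L _ _))
  obtain ⟨a', b', e2⟩ := mem_L.1 ((mem_NL.1 hp v).2 (right_mem_L _ _))
  have k1 : ∀ x, In Q u v u' v' x → a • pW Q u v u' v' ((p : V ≃ₗ[F] V) x) = x ∧
      b • pW Q u v u' v' ((p : V ≃ₗ[F] V) x) = 0 := by
    intro x hx
    obtain ⟨c1, c2⟩ := coords_conj h hp (tE_QL h hx) e1.symm e2.symm
    obtain ⟨d1, d2⟩ := H _ (tE_QL h hx)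
    rw [c1, xc_tE h hx, yc_tE h hx, map_zero, map_zero, smul_zero, add_zero] at d1
    rw [c2, xc_tE h hx, yc_tE h hx, map_zero, map_zero, smul_zero, add_zero] at d2
    exact ⟨d1, d2⟩
  have k2 : ∀ x, In Q u v u' v' x → a' • pW Q u v u' v' ((p : V ≃ₗ[F] V) x) = 0 ∧
      b' • pW Q u v u' v' ((p : V ≃ₗ[F] V) x) = x := by
    intro x hx
    obtain ⟨c1, c2⟩ := coords_conj h hp (tE_QL' h hx) e1.symm e2.symm
    obtain ⟨d1, d2⟩ := H _ (tE_QL' h hx)
    rw [c1, xc_tE' h hx, yc_tE' h hx, map_zero, map_zero, smul_zero, zero_add] at d1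
    rw [c2, xc_tE' h hx, yc_tE' h hx, map_zero, map_zero, smul_zero, zero_add] at d2
    exact ⟨d1, d2⟩
  obtain ⟨w, w', hw, hw', hh⟩ := hP.exists_pair h
  have hw0 := hh.left_ne
  have hne : pW Q u v u' v' ((p : V ≃ₗ[F] V) w) ≠ 0 := by
    intro e
    have := (k1 w hw).1
    rw [e, smul_zero] at this
    exact hw0 this.symm
  have ha : a = 1 := (h01 a).resolve_left (by
    rintro rfl
    have := (k1 w hw).1
    rw [zero_smul] at this
    exact hw0 this.symm)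
  have hb' : b' = 1 := (h01 b').resolve_left (by
    rintro rfl
    have := (k2 w hw).2
    rw [zero_smul] at this
    exact hw0 this.symm)
  have hb : b = 0 := (smul_eq_zero.1 (k1 w hw).2).resolve_right hne
  have ha' : a' = 0 := (smul_eq_zero.1 (k2 w hw).1).resolve_right hne
  subst ha hb ha' hb'
  rw [one_smul, zero_smul, add_zero] at e1
  rw [one_smul, zero_smul, zero_add] at e2
  refine ⟨e1.symm, e2.symm, fun x h1 h2 => ?_⟩
  obtain ⟨m, hm, e⟩ := decomp_perp h h1 h2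
  have hin := pW_in h x
  have h3 := (k1 _ hin).1
  rw [one_smul] at h3
  set y := pW Q u v u' v' x
  obtain ⟨h4, h5⟩ := NL_perp hp hin.u hin.v
  obtain ⟨m', hm', e'⟩ := decomp_perp h h4 h5
  rw [h3] at e'
  obtain ⟨c, d, e6⟩ := mem_L.1 hm'
  refine ⟨c, d, ?_⟩
  have hpm : (p : V ≃ₗ[F] V) m = m := by
    obtain ⟨c, d, rfl⟩ := mem_L.1 hm
    rw [map_add, map_smul, map_smul, ← e1, ← e2]
  rw [e, map_add, e', hpm, ← e6]
  abel

/-! ### Automorphisms of `P` -/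

/-- Automorphisms of `P` preserving `QL` and trivial on `X`. -/
structure PA (h : LF Q u v u' v') (α : ↥(E Q) → ↥(E Q)) : Prop where
  mP : ∀ p ∈ P Q u v h.qu h.uv, α p ∈ P Q u v h.qu h.uv
  mul : ∀ p ∈ P Q u v h.qu h.uv, ∀ p' ∈ P Q u v h.qu h.uv, α (p * p') = α p * α p'
  mQ : ∀ k ∈ QL Q u v, α k ∈ QL Q u v
  fX : ∀ k ∈ X Q u v h.qu h.uv, α k = k
  inj : ∀ p ∈ P Q u v h.qu h.uv, α p = 1 → p = 1
  surj : ∀ p ∈ P Q u v h.qu h.uv, ∃ p' ∈ P Q u v h.qu h.uv, α p' = p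

namespace PA
variable {h : LF Q u v u' v'} {α : ↥(E Q) → ↥(E Q)}

theorem one (A : PA h α) : α 1 = 1 := A.fX 1 (one_mem _)

theorem inv (A : PA h α) {p : ↥(E Q)} (hp : p ∈ P Q u v h.qu h.uv) : α p⁻¹ = (α p)⁻¹ := by
  apply eq_inv_of_mul_eq_one_left
  rw [← A.mul _ (inv_mem hp) _ hp, inv_mul_cancel, A.one]

theorem conj (A : PA h α) {p k : ↥(E Q)} (hp : p ∈ P Q u v h.qu h.uv) (hk : k ∈ P Q u v h.qu h.uv) :
    α (p * k * p⁻¹) = α p * α k * (α p)⁻¹ := by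
  rw [A.mul _ (mul_mem hp hk) _ (inv_mem hp), A.mul _ hp _ hk, A.inv hp]

/-- composition with conjugation by an element of `P0` -/
theorem comp (hQ : Nondeg Q) (A : PA h α) {k : ↥(E Q)} (hk : k ∈ P0 Q u v h.qu h.uv) :
    PA h (fun p => k * α p * k⁻¹) where
  mP := fun p hp => P_conj hk (A.mP p hp)
  mul := fun p hp p' hp' => by rw [A.mul p hp p' hp']; group
  mQ := fun q hq => QL_conj (P0_le_NL hQ h hk) (A.mQ q hq)
  fX := fun x hx => by
    rw [A.fX x hx]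
    obtain ⟨c, rfl⟩ := mem_X.1 hx
    rw [mem_P0.1 hk c, mul_inv_cancel_right]
  inj := fun p hp e => A.inj p hp (by
    have h1 : α p = k⁻¹ * (k * α p * k⁻¹) * k := by group
    rw [h1, e]; group)
  surj := fun p hp => by
    obtain ⟨p', hp', e⟩ := A.surj (k⁻¹ * p * k) (by simpa using P_conj (inv_mem hk) hp)
    exact ⟨p', hp', by rw [e]; group⟩

end PA

end Cfsg.Agent.OddHalf.Orth
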