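import Mathlib
import Cfsg.Agent.OddHalf.Orth.KTwo

/-!
# `q = 2`: an automorphism of `P` acting on `QL/X` as `a ⊗ 1` comes from `O(V)`
-/

set_option autoImplicit false
set_option linter.unusedSectionVars false
set_option linter.unusedVariables false
set_option linter.style.haveILetI false

namespace Cfsg.Agent.OddHalf.Orth

open QuadraticMap Cfsg.Agent.LieClassical.OrthCore Cfsg.Agent.LieClassical.OrthTrans
  Cfsg.Agent.LieClassical.OrthSimple Cfsg.Agent.ClassicalGeometry.OrthAutBasic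
  Cfsg.Agent.ClassicalGeometry.OrthAutRoot Face Sem'

variable {F V : Type*} [Field F] [AddCommGroup V] [Module F V] {Q : QuadraticForm F V}

/-- conjugation by an isometry on `E Q` -/
def conjE (g : V ≃ₗ[F] V) (hg : g ∈ O Q) : ↥(E Q) →* ↥(E Q) where
  toFun x := ⟨g * x * g⁻¹, conj_mem_E hg x.2⟩
  map_one' := Subtype.ext (by simp)
  map_mul' x y := Subtype.ext (by
    show g * ((x : V ≃ₗ[F] V) * y) * g⁻¹ = g * x * g⁻¹ * (g * y * g⁻¹)
    group)

theorem coe_conjE (g : V ≃ₗ[F] V) (hg : g ∈ O Q) (x : ↥(E Q)) :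
    ((conjE g hg x : ↥(E Q)) : V ≃ₗ[F] V) = g * x * g⁻¹ := rfl

theorem conjE_tE (g : V ≃ₗ[F] V) (hg : g ∈ O Q) (a b : V) :
    conjE g hg (tE Q a b) = tE Q (g a) (g b) := Subtype.ext (T_conj hg a b)

theorem conjE_inj (g : V ≃ₗ[F] V) (hg : g ∈ O Q) {x y : ↥(E Q)} (e : conjE g hg x = conjE g hg y) : x = y := by
  have h1 := congrArg Subtype.val e
  rw [coe_conjE, coe_conjE] at h1
  exact Subtype.ext (mul_left_cancel (mul_right_cancel h1))

theorem conjE_inv_apply (g : V ≃ₗ[F] V) (hg : g ∈ O Q) (x : ↥(E Q)) :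
    conjE g⁻¹ ((O Q).inv_mem hg) (conjE g hg x) = x := by
  apply Subtype.ext
  rw [coe_conjE, coe_conjE]
  group

theorem conjE_apply_inv (g : V ≃ₗ[F] V) (hg : g ∈ O Q) (x : ↥(E Q)) :
    conjE g hg (conjE g⁻¹ ((O Q).inv_mem hg) x) = x := by
  apply Subtype.ext
  rw [coe_conjE, coe_conjE]
  group

variable [CharP F 2] [Finite F] {u v u' v' : V}

/-- `Q` in coordinates -/
theorem Q_decomp (h : LF Q u v u' v') {w : V} (hw : In Q u v u' v' w) (α β γ δ : F) :
    Q (w + α • u + β • u' + γ • v + δ • v') = Q w + α * β + γ * δ := by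
  simp only [Q_add, QuadraticMap.map_smul, polar_add_left, polar_smul_left, polar_smul_right, h.qu, h.qu',
    h.qv, h.qv', hw.ru, hw.ru', hw.rv, hw.rv', h.uu', h.uv, h.uv', h.u'v, h.u'v', h.vv', smul_eq_mul,
    mul_zero, add_zero, mul_one]
  ring

theorem Q_pW (h : LF Q u v u' v') {g : ↥(E Q)} (hg : g ∈ NL Q u v) {y : V} (hy : In Q u v u' v' y) :
    Q (pW Q u v u' v' ((g : V ≃ₗ[F] V) y)) = Q y := by
  obtain ⟨h1, h2⟩ := NL_perp hg hy.u hy.v
  obtain ⟨m, hm, e⟩ := decomp_perp h h1 h2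
  have h3 := Q_map g y
  have h4 := pW_in h ((g : V ≃ₗ[F] V) y)
  rw [← h3]
  nth_rewrite 2 [e]
  rw [Q_add, h.ln.Q_mem hm, polar_comm, perp_L h4.u h4.v hm, add_zero, add_zero]

/-- extension of an isometry of `W` by the identity -/
theorem exists_extA (hP : Par Q) (h : LF Q u v u' v') {a : V → V}
    (ha : ∀ x, In Q u v u' v' x → In Q u v u' v' (a x))
    (hadd : ∀ x y, In Q u v u' v' x → In Q u v u' v' y → a (x + y) = a x + a y)
    (hsm : ∀ (c : F) x, In Q u v u' v' x → a (c • x) = c • a x)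
    (hq : ∀ x, In Q u v u' v' x → Q (a x) = Q x) :
    ∃ g : V ≃ₗ[F] V, g ∈ O Q ∧ g u = u ∧ g v = v ∧ g u' = u' ∧ g v' = v' ∧
      ∀ x, In Q u v u' v' x → g x = a x := by
  have := hP.fd
  let gl : V →ₗ[F] V :=
    { toFun := fun x => a (pW Q u v u' v' x) + polar Q u' x • u + polar Q u x • u' +
        polar Q v' x • v + polar Q v x • v'
      map_add' := fun x y => by
        simp only [map_add, hadd _ _ (pW_in h x) (pW_in h y), polar_add_right]
        module
      map_smul' := fun c x => by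
        simp only [map_smul, hsm c _ (pW_in h x), polar_smul_right, RingHom.id_apply, smul_eq_mul]
        module }
  have hgl : ∀ x, gl x = a (pW Q u v u' v' x) + polar Q u' x • u + polar Q u x • u' +
        polar Q v' x • v + polar Q v x • v' := fun x => rfl
  have hiso : ∀ x, Q (gl x) = Q x := by
    intro x
    rw [hgl, Q_decomp h (ha _ (pW_in h x)), hq _ (pW_in h x), ← Q_decomp h (pW_in h x),
      ← decomp (Q := Q) u v u' v' x]
  have hpol : ∀ x y, polar Q (gl x) (gl y) = polar Q x y := by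
    intro x y
    rw [polar, polar, ← map_add, hiso, hiso, hiso]
  have hinj : Function.Injective gl := by
    rw [injective_iff_map_eq_zero]
    intro x hx
    apply hP.nd x
    intro y
    rw [← hpol, hx, polar_zero_left]
  have h0 : a 0 = 0 := by
    have := hadd 0 0 In.zero In.zero
    rw [add_zero] at this
    simpa using this
  refine ⟨LinearEquiv.ofInjectiveEndo gl hinj, fun x => hiso x, ?_, ?_, ?_, ?_, fun x hx => ?_⟩
  · show gl u = u
    rw [hgl, pW_u h, h0, h.u'u, h.uu, h.v'u, h.vu]; simp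
  · show gl v = v
    rw [hgl, pW_v h, h0, h.u'v, h.uv, h.v'v, h.vv]; simp
  · show gl u' = u'
    rw [hgl, pW_u' h, h0, h.u'u', h.uu', h.v'u', h.vu']; simp
  · show gl v' = v'
    rw [hgl, pW_v' h, h0, h.u'v', h.uv', h.v'v', h.vv']; simp
  · show gl x = a x
    rw [hgl, pW_of_in hx, hx.u, hx.u', hx.v, hx.v']; simp

/-- every homomorphism `QL/X → X` is inner for `q = 2` -/
theorem e2two (hP : Par Q) (h : LF Q u v u' v') (h01 : ∀ c : F, c = 0 ∨ c = 1) {φ : ↥(E Q) → F}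
    (hadd : ∀ k ∈ QL Q u v, ∀ k' ∈ QL Q u v, φ (k * k') = φ k + φ k')
    (hX : ∀ k ∈ X Q u v h.qu h.uv, φ k = 0) :
    ∃ q0 ∈ QL Q u v, ∀ k ∈ QL Q u v, φ k = om Q u v u' v' q0 k := by
  have hsplit : ∀ k ∈ QL Q u v, φ k = φ (tE Q u (xc Q u v u' v' k)) + φ (tE Q v (yc Q u v u' v' k)) := by
    intro k hk
    obtain ⟨x, hx, e⟩ := Cmt.tE_split h hk
    have hxi := xc_in h k
    have hyi := yc_in h k
    set a := xc Q u v u' v' k
    set b := yc Q u v u' v' k
    rw [e, hadd _ (mul_mem (tE_QL h hxi) (tE_QL' h hyi)) _ (X_le_QL h hx), hadd _ (tE_QL h hxi) _ (tE_QL' h hyi),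
      hX x hx, add_zero]
  have a1 : ∀ x y, In Q u v u' v' x → In Q u v u' v' y → φ (tE Q u (x + y)) = φ (tE Q u x) + φ (tE Q u y) := by
    intro x y hx hy
    rw [← tE_mul h.qu hx.u hy.u, hadd _ (tE_QL h hx) _ (tE_QL h hy)]
  have a2 : ∀ x y, In Q u v u' v' x → In Q u v u' v' y → φ (tE Q v (x + y)) = φ (tE Q v x) + φ (tE Q v y) := by
    intro x y hx hy
    rw [← tE_mul h.qv hx.v hy.v, hadd _ (tE_QL' h hx) _ (tE_QL' h hy)]
  have h0 : φ 1 = 0 := hX 1 (one_mem _)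
  obtain ⟨y0, hy0, f1⟩ := repr_W hP h (f := fun x => φ (tE Q u x)) a1 (fun c x hx => by
    show φ (tE Q u (c • x)) = c * φ (tE Q u x)
    rcases h01 c with rfl | rfl
    · rw [zero_smul, tE_zero_right, h0, zero_mul]
    · rw [one_smul, one_mul])
  obtain ⟨x0, hx0, f2⟩ := repr_W hP h (f := fun x => φ (tE Q v x)) a2 (fun c x hx => by
    show φ (tE Q v (c • x)) = c * φ (tE Q v x)
    rcases h01 c with rfl | rfl
    · rw [zero_smul, tE_zero_right, h0, zero_mul]
    · rw [one_smul, one_mul])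
  refine ⟨q Q u v x0 y0 0, q_mem h hx0 hy0 0, fun k hk => ?_⟩
  have g1 := f1 _ (xc_in h k)
  have g2 := f2 _ (yc_in h k)
  rw [hsplit k hk, g1, g2, om, xc_q h hx0 hy0, yc_q h hx0 hy0, add_comm, polar_comm Q x0]

namespace PA
variable {h : LF Q u v u' v'} {α : ↥(E Q) → ↥(E Q)}

theorem main1 (hP : Par Q) (h01 : ∀ c : F, c = 0 ∨ c = 1) (A : PA h α) {a : V → V}
    (hco : ∀ k ∈ QL Q u v, xc Q u v u' v' (α k) = a (xc Q u v u' v' k) ∧
      yc Q u v u' v' (α k) = a (yc Q u v u' v' k)) :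
    ∃ g : V ≃ₗ[F] V, g ∈ O Q ∧ (∀ x ∈ L F u v, g x ∈ L F u v) ∧
      ∀ p ∈ P Q u v h.qu h.uv, ((α p : ↥(E Q)) : V ≃ₗ[F] V) = g * p * g⁻¹ := by
  have := hP.fd
  have hQP := QL_le_P hP h
  have hXQ := X_le_QL h
  have hxa : ∀ x, In Q u v u' v' x → xc Q u v u' v' (α (tE Q u x)) = a x := fun x hx => by
    rw [(hco _ (tE_QL h hx)).1, xc_tE h hx]
  have hya : ∀ x, In Q u v u' v' x → yc Q u v u' v' (α (tE Q v x)) = a x := fun x hx => by
    rw [(hco _ (tE_QL' h hx)).2, yc_tE' h hx]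
  have ha : ∀ x, In Q u v u' v' x → In Q u v u' v' (a x) := fun x hx => by
    rw [← hxa x hx]; exact xc_in h _
  have hadd : ∀ x y, In Q u v u' v' x → In Q u v u' v' y → a (x + y) = a x + a y := by
    intro x y hx hy
    rw [← hxa _ (hx.add hy), ← tE_mul h.qu hx.u hy.u, A.mul _ (hQP (tE_QL h hx)) _ (hQP (tE_QL h hy)),
      xc_mul h (A.mQ _ (tE_QL h hx)) (A.mQ _ (tE_QL h hy)), hxa x hx, hxa y hy]
  have h0 : a 0 = 0 := by
    have := hadd 0 0 In.zero In.zero
    rw [add_zero] at this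
    simpa using this
  have hsm : ∀ (c : F) x, In Q u v u' v' x → a (c • x) = c • a x := by
    intro c x hx
    rcases h01 c with rfl | rfl
    · rw [zero_smul, zero_smul, h0]
    · rw [one_smul, one_smul]
  have hyu : ∀ x, In Q u v u' v' x → yc Q u v u' v' (α (tE Q u x)) = 0 := fun x hx => by
    rw [(hco _ (tE_QL h hx)).2, yc_tE h hx, h0]
  have hxv : ∀ x, In Q u v u' v' x → xc Q u v u' v' (α (tE Q v x)) = 0 := fun x hx => by
    rw [(hco _ (tE_QL' h hx)).1, xc_tE' h hx, h0]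
  -- the polar form
  have hpol : ∀ x y, In Q u v u' v' x → In Q u v u' v' y → polar Q (a x) (a y) = polar Q x y := by
    intro x y hx hy
    have e1 := comm_xy h hx hy
    have hpx := hQP (tE_QL h hx)
    have hpy := hQP (tE_QL' h hy)
    have e2 : α (tE Q u x * tE Q v y * (tE Q u x)⁻¹ * (tE Q v y)⁻¹) =
        α (tE Q u x) * α (tE Q v y) * (α (tE Q u x))⁻¹ * (α (tE Q v y))⁻¹ := by
      rw [A.mul _ (mul_mem (mul_mem hpx hpy) (inv_mem hpx)) _ (inv_mem hpy),
        A.mul _ (mul_mem hpx hpy) _ (inv_mem hpx), A.mul _ hpx _ hpy, A.inv hpx, A.inv hpy]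
    rw [e1, A.fX _ (mem_X.2 ⟨_, rfl⟩), comm_q h (A.mQ _ (tE_QL h hx)) (A.mQ _ (tE_QL' h hy)), hxa x hx, hya y hy,
      hxv y hy, polar_zero_left, add_zero] at e2
    exact (tE_smul_inj hP.nd h e2).symm
  -- equivariance
  have hT : ∀ w z, In Q u v u' v' w → In Q u v u' v' z → Q w = 0 → polar Q w z = 0 →
      ∃ p' ∈ NL Q u v, ∀ x, In Q u v u' v' x → a (T Q w z x) = pW Q u v u' v' ((p' : V ≃ₗ[F] V) (a x)) := by
    intro w z hw hz hq hwz
    have hp := TW_mem_P hP h hw hz hq hwz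
    have hp' := A.mP _ hp
    have hsq : α (tE Q w z) * α (tE Q w z) = 1 := by
      rw [← A.mul _ hp _ hp, tE_mul_self hq hwz, A.one]
    obtain ⟨f1, f2⟩ := (P_cyc hP h h01 hp').fix_of_sq h hsq
    refine ⟨α (tE Q w z), P_le_NL hP.nd h hp', fun x hx => ?_⟩
    have e1 : tE Q w z * tE Q u x * (tE Q w z)⁻¹ = tE Q u (T Q w z x) := by
      rw [tE_conj, coe_tE, T_fix hw.ru hz.ru]
    have e2 := A.conj hp (hQP (tE_QL h hx))
    rw [e1] at e2
    rw [← hxa _ (TW_in hw hz hq hwz hx), e2, (coords_conj_W h f1 f2 (A.mQ _ (tE_QL h hx))).1, hxa x hx]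
  -- the quadratic form
  have hq : ∀ x, In Q u v u' v' x → Q (a x) = Q x := by
    let Y : AddSubgroup V :=
      { carrier := {x | In Q u v u' v' x ∧ Q (a x) = Q x}
        zero_mem' := ⟨In.zero, by rw [h0]⟩
        add_mem' := by
          rintro x y ⟨hx, hx2⟩ ⟨hy, hy2⟩
          exact ⟨hx.add hy, by rw [hadd x y hx hy, Q_add, Q_add, hx2, hy2, hpol x y hx hy]⟩
        neg_mem' := by
          rintro x ⟨hx, hx2⟩
          rw [neg_eq' (F := F)]
          exact ⟨hx, hx2⟩ }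
    have hmove : ∀ w z, In Q u v u' v' w → In Q u v u' v' z → Q w = 0 → polar Q w z = 0 → ∀ x,
        In Q u v u' v' x → Q (a (T Q w z x)) = Q (a x) := by
      intro w z hw hz hqw hwz x hx
      obtain ⟨p', hp', e⟩ := hT w z hw hz hqw hwz
      rw [e x hx, Q_pW h hp' (ha x hx)]
    have hTiso : ∀ w z, Q w = 0 → polar Q w z = 0 → ∀ x, Q (T Q w z x) = Q x := fun w z hw hz x =>
      mem_O.1 (T_mem_O w z) x
    obtain ⟨w, w', hw, hw', hh⟩ := hP.exists_pair h
    obtain ⟨z, hz, hz0⟩ := exists_N6_ne (u := u) (v := v) (u' := u') (v' := v') hP w w'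
    obtain ⟨hz1, hz2, hz3⟩ := mem_N6.1 hz
    -- `T x + x ∈ Y`
    have hd : ∀ w z, In Q u v u' v' w → In Q u v u' v' z → Q w = 0 → polar Q w z = 0 → ∀ x,
        In Q u v u' v' x → T Q w z x + x ∈ Y := by
      intro w z hw hz hqw hwz x hx
      have hTx := TW_in hw hz hqw hwz hx
      refine ⟨hTx.add hx, ?_⟩
      rw [hadd _ _ hTx hx, Q_add, Q_add, hmove w z hw hz hqw hwz x hx, hTiso w z hqw hwz x,
        hpol _ _ hTx hx]
      have e1 : ∀ c : F, c + c = 0 := CharTwo.add_self_eq_zero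
      rw [e1, e1]
    have hne : ∃ y ∈ Y, y ≠ 0 := by
      refine ⟨_, hd w z hw hz1 hh.left hz2 w' hw', ?_⟩
      rw [T_apply2 hh.left hz2, hh.pair, polar_zero_of_comm hz3, one_smul, mul_one, zero_add]
      intro e
      have h1 : w' + z + Q z • w + w' = z + Q z • w := by
        have : w' + z + Q z • w + w' = (z + Q z • w) + (w' + w') := by abel
        rw [this, add_self' (F := F), add_zero]
      rw [h1] at e
      have h2 := congrArg (polar Q w') e
      rw [polar_add_right, polar_smul_right, hz3, hh.pair', polar_zero_right, zero_add, smul_eq_mul,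
        mul_one] at h2
      rw [h2, zero_smul, add_zero] at e
      exact hz0 e
    intro x hx
    refine (irr_W hP h Y (fun y hy => hy.1) ?_ hne hx).2
    rintro w z hw hz hqw hwz y ⟨hy1, hy2⟩
    exact ⟨TW_in hw hz hqw hwz hy1, by rw [hmove w z hw hz hqw hwz y hy1, hTiso w z hqw hwz, hy2]⟩
  obtain ⟨g, hg, gu, gv, gu', gv', gw⟩ := exists_extA hP h ha hadd hsm hq
  have hg' := (O Q).inv_mem hg
  -- `γ`
  set γ : ↥(E Q) → ↥(E Q) := fun p => conjE g⁻¹ hg' (α p) with hγ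
  have cX : ∀ c : F, conjE g⁻¹ hg' (tE Q u (c • v)) = tE Q u (c • v) := by
    intro c
    have h1 := conjE_inv_apply g hg (tE Q u (c • v))
    rwa [conjE_tE, gu, map_smul, gv] at h1
  have cx : ∀ x, In Q u v u' v' x → conjE g⁻¹ hg' (tE Q u (a x)) = tE Q u x := by
    intro x hx
    have h1 := conjE_inv_apply g hg (tE Q u x)
    rwa [conjE_tE, gu, gw x hx] at h1
  have cy : ∀ x, In Q u v u' v' x → conjE g⁻¹ hg' (tE Q v (a x)) = tE Q v x := by
    intro x hx
    have h1 := conjE_inv_apply g hg (tE Q v x)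
    rwa [conjE_tE, gv, gw x hx] at h1
  have γmul : ∀ p ∈ P Q u v h.qu h.uv, ∀ p' ∈ P Q u v h.qu h.uv, γ (p * p') = γ p * γ p' := by
    intro p hp p' hp'
    simp only [hγ]
    rw [A.mul p hp p' hp', map_mul]
  have γX : ∀ x ∈ X Q u v h.qu h.uv, γ x = x := by
    intro x hx
    obtain ⟨c, rfl⟩ := mem_X.1 hx
    simp only [hγ]
    rw [A.fX _ hx, cX]
  have γQ : ∀ k ∈ QL Q u v, γ k ∈ QL Q u v ∧ ∃ c : F, γ k * k⁻¹ = tE Q u (c • v) := by
    intro k hk
    obtain ⟨c, e⟩ := exists_q' h (A.mQ k hk)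
    obtain ⟨c', e'⟩ := exists_q' h hk
    rw [(hco k hk).1, (hco k hk).2] at e
    have hx := xc_in h k
    have hy := yc_in h k
    set x := xc Q u v u' v' k
    set y := yc Q u v u' v' k
    have e1 : γ k = q Q u v x y c := by
      simp only [hγ]
      rw [e, q, map_mul, map_mul, cx x hx, cy y hy, cX, q]
    have hm := q_mem h hx hy c
    refine ⟨by rw [e1]; exact hm, ?_⟩
    have h1 : γ k * k⁻¹ ∈ X Q u v h.qu h.uv := by
      rw [e1, mul_inv_mem_X_iff h hm hk, xc_q h hx hy, yc_q h hx hy]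
      exact ⟨rfl, rfl⟩
    exact mem_X.1 h1
  have hex : ∀ k : ↥(E Q), ∃ c : F, k ∈ QL Q u v → γ k * k⁻¹ = tE Q u (c • v) := by
    intro k
    by_cases hk : k ∈ QL Q u v
    · obtain ⟨-, c, e⟩ := γQ k hk
      exact ⟨c, fun _ => e⟩
    · exact ⟨0, fun h => absurd h hk⟩
  choose φ hφ using hex
  obtain ⟨q0, hq0, e0⟩ := e2two hP h h01 (φ := φ)
    (fun k hk k' hk' => tE_smul_inj hP.nd h (by
      rw [← hφ _ (mul_mem hk hk'), γmul k (hQP hk) k' (hQP hk'), add_smul,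
        ← tE_mul h.qu (perp_smul_v h _) (perp_smul_v h _)]
      have c1 := X_central h (mem_X.2 ⟨φ k', rfl⟩) (inv_mem hk)
      have c2 := hφ k hk
      have c3 := hφ k' hk'
      calc γ k * γ k' * (k * k')⁻¹ = γ k * ((γ k' * k'⁻¹) * k⁻¹) := by group
        _ = γ k * (k⁻¹ * tE Q u (φ k' • v)) := by rw [c3, c1]
        _ = (γ k * k⁻¹) * tE Q u (φ k' • v) := by group
        _ = _ := by rw [c2]))
    (fun k hk => tE_smul_inj hP.nd h (by
      rw [← hφ k (hXQ hk), γX k hk, mul_inv_cancel, zero_smul, tE_zero_right]))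
  have γq : ∀ k ∈ QL Q u v, γ k = q0 * k * q0⁻¹ := by
    intro k hk
    have h1 := hφ k hk
    have h2 := comm_q h hq0 hk
    rw [e0 k hk, om, ← h2] at h1
    exact mul_right_cancel h1
  -- `P` is normalised by `g`
  have cP : ∀ p ∈ P Q u v h.qu h.uv, conjE g⁻¹ hg' p ∈ P Q u v h.qu h.uv := by
    have h1 : P Q u v h.qu h.uv ≤ (P Q u v h.qu h.uv).comap (conjE g⁻¹ hg') := by
      conv_lhs => rw [P]
      rw [Subgroup.closure_le]
      rintro x ⟨hx, hox⟩
      refine mem_P_of_odd ?_ ?_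
      · rw [mem_P0]
        intro c
        have h2 := congrArg (conjE g⁻¹ hg') (mem_P0.1 hx c)
        rwa [map_mul, map_mul, cX] at h2
      · rwa [orderOf_injective _ (fun _ _ e => conjE_inj _ _ e)]
    exact fun p hp => h1 hp
  -- `δ`
  set δ : ↥(E Q) → ↥(E Q) := fun p => q0⁻¹ * γ p * q0 with hδ
  have δmul : ∀ p ∈ P Q u v h.qu h.uv, ∀ p' ∈ P Q u v h.qu h.uv, δ (p * p') = δ p * δ p' := by
    intro p hp p' hp'
    simp only [hδ]
    rw [γmul p hp p' hp']; group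
  have δQ : ∀ k ∈ QL Q u v, δ k = k := by
    intro k hk
    simp only [hδ]
    rw [γq k hk]; group
  have δP : ∀ p ∈ P Q u v h.qu h.uv, δ p ∈ P Q u v h.qu h.uv := fun p hp =>
    mul_mem (mul_mem (inv_mem (hQP hq0)) (cP _ (A.mP p hp))) (hQP hq0)
  have δ1 : δ 1 = 1 := δQ 1 (one_mem _)
  have δinv : ∀ p ∈ P Q u v h.qu h.uv, δ p⁻¹ = (δ p)⁻¹ := by
    intro p hp
    apply eq_inv_of_mul_eq_one_left
    rw [← δmul _ (inv_mem hp) _ hp, inv_mul_cancel, δ1]
  have δc : ∀ p ∈ P Q u v h.qu h.uv, p⁻¹ * δ p ∈ X Q u v h.qu h.uv := by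
    intro p hp
    have hpN := P_le_NL hP.nd h hp
    have hcN := mul_mem (inv_mem hpN) (P_le_NL hP.nd h (δP p hp))
    have hcomm : ∀ k ∈ QL Q u v, p⁻¹ * δ p * k = k * (p⁻¹ * δ p) := by
      intro k hk
      have h1 := δQ _ (QL_conj hpN hk)
      have h2 : δ (p * k * p⁻¹) = δ p * k * (δ p)⁻¹ := by
        rw [δmul _ (mul_mem hp (hQP hk)) _ (inv_mem hp), δmul _ hp _ (hQP hk), δinv p hp, δQ k hk]
      rw [h2] at h1
      calc p⁻¹ * δ p * k = p⁻¹ * (δ p * k * (δ p)⁻¹) * δ p := by group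
        _ = k * (p⁻¹ * δ p) := by rw [h1]; group
    have hcQ : p⁻¹ * δ p ∈ QL Q u v := mem_QL_of_triv hP h h01 hcN fun k hk => by
      rw [hcomm k hk, mul_inv_cancel_right]
      exact ⟨rfl, rfl⟩
    exact ZQL hP.nd h hcQ hcomm
  have δid : ∀ p ∈ P Q u v h.qu h.uv, δ p = p := by
    intro p hp
    have hp1 := hp
    rw [P] at hp1
    induction hp1 using Subgroup.closure_induction with
    | mem x hx =>
      obtain ⟨hx0, i, hi⟩ := hx
      have hxP : x ∈ P Q u v h.qu h.uv := hp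
      have hc := δc x hxP
      obtain ⟨c, hc'⟩ := mem_X.1 hc
      have e1 : δ x = x * tE Q u (c • v) := by rw [← hc']; group
      have hpow : ∀ n : ℕ, δ (x ^ n) = (δ x) ^ n := by
        intro n
        induction n with
        | zero => rw [pow_zero, pow_zero, δ1]
        | succ n ih => rw [pow_succ, δmul _ (pow_mem hxP n) _ hxP, ih, pow_succ]
      have h1 := hpow (orderOf x)
      have hcm : Commute x (tE Q u (c • v)) := mem_P0.1 hx0 c
      rw [pow_orderOf_eq_one, δ1, e1, hcm.mul_pow, pow_orderOf_eq_one, one_mul, hi, pow_succ, pow_mul, pow_two,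
        tE_mul_self h.qu (perp_smul_v h c), one_pow, one_mul] at h1
      rw [e1, ← h1, mul_one]
    | one => exact δ1
    | mul x y hx hy ihx ihy => rw [δmul x hx y hy, ihx hx, ihy hy]
    | inv x hx ih => rw [δinv x hx, ih hx]
  refine ⟨g * (q0 : V ≃ₗ[F] V), (O Q).mul_mem hg (mem_O' q0), ?_, fun p hp => ?_⟩
  · intro x hx
    show g ((q0 : V ≃ₗ[F] V) x) ∈ L F u v
    rw [QL_fix hq0 hx]
    obtain ⟨c, d, rfl⟩ := mem_L.1 hx
    rw [map_add, map_smul, map_smul, gu, gv]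
    exact mem_L.2 ⟨c, d, rfl⟩
  · have h1 := δid p hp
    simp only [hδ] at h1
    have h2 : γ p = q0 * p * q0⁻¹ := by
      calc γ p = q0 * (q0⁻¹ * γ p * q0) * q0⁻¹ := by group
        _ = q0 * p * q0⁻¹ := by rw [h1]
    have h3 : α p = conjE g hg (γ p) := (conjE_apply_inv g hg (α p)).symm
    rw [h3, coe_conjE, h2]
    show g * ((q0 : V ≃ₗ[F] V) * p * (q0 : V ≃ₗ[F] V)⁻¹) * g⁻¹ = _
    group

end PA

end Cfsg.Agent.OddHalf.Orth
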