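import Mathlib
import Cfsg.Agent.OddHalf.Orth.KTwoA

/-!
# `q = 2`: theorem A
-/

set_option autoImplicit false
set_option linter.unusedSectionVars false
set_option linter.unusedVariables false
set_option linter.style.haveILetI false

namespace Cfsg.Agent.OddHalf.Orth

open QuadraticMap Cfsg.Agent.LieClassical.OrthCore Cfsg.Agent.LieClassical.OrthTrans
  Cfsg.Agent.LieClassical.OrthSimple Cfsg.Agent.ClassicalGeometry.OrthAutBasic
  Cfsg.Agent.ClassicalGeometry.OrthAutRoot Face Sem'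

variable {F V : Type*} [Field F] [AddCommGroup V] [Module F V] {Q : QuadraticForm F V}

variable [CharP F 2] [Finite F] {u v u' v' : V}

/-- zero or injective -/
theorem zero_or_inj (hP : Par Q) (h : LF Q u v u' v') {c : V → V}
    (hadd : ∀ x y, In Q u v u' v' x → In Q u v u' v' y → c (x + y) = c x + c y)
    (hT : ∀ w z, In Q u v u' v' w → In Q u v u' v' z → Q w = 0 → polar Q w z = 0 →
      ∀ x, In Q u v u' v' x → c x = 0 → c (T Q w z x) = 0) :
    (∀ x, In Q u v u' v' x → c x = 0) ∨ (∀ x, In Q u v u' v' x → c x = 0 → x = 0) := by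
  by_cases hne : ∃ y, In Q u v u' v' y ∧ c y = 0 ∧ y ≠ 0
  · left
    have h0 : c 0 = 0 := by
      have := hadd 0 0 In.zero In.zero
      rw [add_zero] at this
      simpa using this
    let Y : AddSubgroup V :=
      { carrier := {x | In Q u v u' v' x ∧ c x = 0}
        zero_mem' := ⟨In.zero, h0⟩
        add_mem' := by
          rintro x y ⟨hx, hx2⟩ ⟨hy, hy2⟩
          exact ⟨hx.add hy, by rw [hadd x y hx hy, hx2, hy2, add_zero]⟩
        neg_mem' := by
          rintro x ⟨hx, hx2⟩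
          rw [neg_eq' (F := F)]
          exact ⟨hx, hx2⟩ }
    obtain ⟨y, hy, hy1, hy2⟩ := hne
    intro x hx
    refine (irr_W hP h Y (fun y hy => hy.1) ?_ ⟨y, ⟨hy, hy1⟩, hy2⟩ hx).2
    rintro w z hw hz hq hwz y ⟨hy1, hy2⟩
    exact ⟨TW_in hw hz hq hwz hy1, hT w z hw hz hq hwz y hy1 hy2⟩
  · right
    push Not at hne
    exact fun x hx e => hne x hx e

/-- coordinates after conjugation by an element of `QL` -/
theorem coords_QL (h : LF Q u v u' v') {q1 k : ↥(E Q)} (hq : q1 ∈ QL Q u v) (hk : k ∈ QL Q u v) :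
    xc Q u v u' v' (q1 * k * q1⁻¹) = xc Q u v u' v' k ∧ yc Q u v u' v' (q1 * k * q1⁻¹) = yc Q u v u' v' k := by
  have h1 := comm_QL h hq hk
  have hm : q1 * k * q1⁻¹ ∈ QL Q u v := mul_mem (mul_mem hq hk) (inv_mem hq)
  rw [mul_inv_mem_X_iff h hm hk] at h1
  exact h1

namespace PA
variable {h : LF Q u v u' v'} {α : ↥(E Q) → ↥(E Q)}

/-- `α` is induced by an isometry -/
def Concl (h : LF Q u v u' v') (α : ↥(E Q) → ↥(E Q)) : Prop :=
  ∃ g : V ≃ₗ[F] V, g ∈ O Q ∧ (∀ x ∈ L F u v, g x ∈ L F u v) ∧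
    ∀ p ∈ P Q u v h.qu h.uv, ((α p : ↥(E Q)) : V ≃ₗ[F] V) = g * p * g⁻¹

theorem concl_of_comp {k : ↥(E Q)} (hk : k ∈ NL Q u v) (C : Concl h (fun p => k * α p * k⁻¹)) : Concl h α := by
  obtain ⟨g, hg, hL, e⟩ := C
  refine ⟨((k⁻¹ : ↥(E Q)) : V ≃ₗ[F] V) * g, (O Q).mul_mem (mem_O' _) hg, fun x hx => ?_, fun p hp => ?_⟩
  · exact (mem_NL.1 (inv_mem hk) _).2 (hL x hx)
  · have h1 := e p hp
    have h2 : (k : V ≃ₗ[F] V) * (α p : V ≃ₗ[F] V) * (k : V ≃ₗ[F] V)⁻¹ = g * p * g⁻¹ := h1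
    show (α p : V ≃ₗ[F] V) = (k : V ≃ₗ[F] V)⁻¹ * g * p * ((k : V ≃ₗ[F] V)⁻¹ * g)⁻¹
    calc (α p : V ≃ₗ[F] V) = (k : V ≃ₗ[F] V)⁻¹ * ((k : V ≃ₗ[F] V) * (α p : V ≃ₗ[F] V) * (k : V ≃ₗ[F] V)⁻¹) *
          (k : V ≃ₗ[F] V) := by group
      _ = (k : V ≃ₗ[F] V)⁻¹ * (g * p * g⁻¹) * (k : V ≃ₗ[F] V) := by rw [h2]
      _ = _ := by group

theorem main2 (hP : Par Q) (h01 : ∀ c : F, c = 0 ∨ c = 1) (A : PA h α)
    (hρ : (α (rho Q u v u' v'))⁻¹ * rho Q u v u' v' ∈ QL Q u v) : Concl h α := by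
  have := hP.fd
  have hQP := QL_le_P hP h
  have hρP := rho_mem_P h
  have hρN := P0_le_NL' h
  set a : V → V := fun x => xc Q u v u' v' (α (tE Q u x)) with ha
  set b : V → V := fun x => yc Q u v u' v' (α (tE Q u x)) with hb
  have hq1 : (rho Q u v u' v')⁻¹ * α (rho Q u v u' v') ∈ QL Q u v := by
    have := inv_mem hρ
    rwa [mul_inv_rev, inv_inv] at this
  have crho : ∀ k ∈ QL Q u v, xc Q u v u' v' (α (rho Q u v u' v' * k * (rho Q u v u' v')⁻¹)) =
        yc Q u v u' v' (α k) ∧ yc Q u v u' v' (α (rho Q u v u' v' * k * (rho Q u v u' v')⁻¹)) =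
        xc Q u v u' v' (α k) + yc Q u v u' v' (α k) := by
    intro k hk
    have hαk := A.mQ k hk
    have e1 : α (rho Q u v u' v' * k * (rho Q u v u' v')⁻¹) = rho Q u v u' v' *
        ((rho Q u v u' v')⁻¹ * α (rho Q u v u' v') * α k * ((rho Q u v u' v')⁻¹ * α (rho Q u v u' v'))⁻¹) *
        (rho Q u v u' v')⁻¹ := by
      rw [A.conj hρP (hQP hk)]; group
    have hm := mul_mem (mul_mem hq1 hαk) (inv_mem hq1)
    obtain ⟨c1, c2⟩ := coords_rho h hm
    obtain ⟨d1, d2⟩ := coords_QL h hq1 hαk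
    rw [e1, c1, c2, d1, d2]
    exact ⟨rfl, rfl⟩
  have hv : ∀ x, In Q u v u' v' x → xc Q u v u' v' (α (tE Q v x)) = b x ∧
      yc Q u v u' v' (α (tE Q v x)) = a x + b x := by
    intro x hx
    have e1 : rho Q u v u' v' * tE Q u x * (rho Q u v u' v')⁻¹ = tE Q v x := by
      rw [tE_conj, rho_u h, rho_w h hx]
    have h1 := crho _ (tE_QL h hx)
    rw [e1] at h1
    exact h1
  have hsplit : ∀ k ∈ QL Q u v, xc Q u v u' v' (α k) = a (xc Q u v u' v' k) + b (yc Q u v u' v' k) ∧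
      yc Q u v u' v' (α k) = b (xc Q u v u' v' k) + (a (yc Q u v u' v' k) + b (yc Q u v u' v' k)) := by
    intro k hk
    obtain ⟨c1, c2⟩ := Cmt.coords_split (h := h) A.mQ (fun k hk k' hk' => A.mul k (hQP hk) k' (hQP hk'))
      (fun x hx => by rw [A.fX x hx]; exact hx) hk
    obtain ⟨d1, d2⟩ := hv _ (yc_in h k)
    rw [c1, c2, d1, d2]
    exact ⟨rfl, rfl⟩
  have haI : ∀ x, In Q u v u' v' x → In Q u v u' v' (a x) := fun x hx => xc_in h _
  have hbI : ∀ x, In Q u v u' v' x → In Q u v u' v' (b x) := fun x hx => yc_in h _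
  have aadd : ∀ x y, In Q u v u' v' x → In Q u v u' v' y → a (x + y) = a x + a y := by
    intro x y hx hy
    simp only [ha]
    rw [← tE_mul h.qu hx.u hy.u, A.mul _ (hQP (tE_QL h hx)) _ (hQP (tE_QL h hy)),
      xc_mul h (A.mQ _ (tE_QL h hx)) (A.mQ _ (tE_QL h hy))]
  have badd : ∀ x y, In Q u v u' v' x → In Q u v u' v' y → b (x + y) = b x + b y := by
    intro x y hx hy
    simp only [hb]
    rw [← tE_mul h.qu hx.u hy.u, A.mul _ (hQP (tE_QL h hx)) _ (hQP (tE_QL h hy)),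
      yc_mul h (A.mQ _ (tE_QL h hx)) (A.mQ _ (tE_QL h hy))]
  have hT : ∀ w z, In Q u v u' v' w → In Q u v u' v' z → Q w = 0 → polar Q w z = 0 →
      ∃ p' : ↥(E Q), ∀ x, In Q u v u' v' x → a (T Q w z x) = pW Q u v u' v' ((p' : V ≃ₗ[F] V) (a x)) ∧
        b (T Q w z x) = pW Q u v u' v' ((p' : V ≃ₗ[F] V) (b x)) := by
    intro w z hw hz hq hwz
    have hp := TW_mem_P hP h hw hz hq hwz
    have hp' := A.mP _ hp
    have hsq : α (tE Q w z) * α (tE Q w z) = 1 := by
      rw [← A.mul _ hp _ hp, tE_mul_self hq hwz, A.one]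
    obtain ⟨f1, f2⟩ := (P_cyc hP h h01 hp').fix_of_sq h hsq
    refine ⟨α (tE Q w z), fun x hx => ?_⟩
    have e1 : tE Q w z * tE Q u x * (tE Q w z)⁻¹ = tE Q u (T Q w z x) := by
      rw [tE_conj, coe_tE, T_fix hw.ru hz.ru]
    have e2 := A.conj hp (hQP (tE_QL h hx))
    rw [e1] at e2
    obtain ⟨c1, c2⟩ := coords_conj_W h f1 f2 (A.mQ _ (tE_QL h hx))
    simp only [ha, hb]
    rw [e2, c1, c2]
    exact ⟨rfl, rfl⟩
  have abinj : ∀ x, In Q u v u' v' x → a x = 0 → b x = 0 → x = 0 := by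
    intro x hx h1 h2
    have h3 : α (tE Q u x) ∈ X Q u v h.qu h.uv := (mem_X_iff h (A.mQ _ (tE_QL h hx))).2 ⟨h1, h2⟩
    have h4 : α (tE Q u x * (α (tE Q u x))⁻¹) = 1 := by
      rw [A.mul _ (hQP (tE_QL h hx)) _ (inv_mem (hQP (X_le_QL h h3))), A.fX _ (inv_mem h3), mul_inv_cancel]
    have h5 := A.inj _ (mul_mem (hQP (tE_QL h hx)) (inv_mem (hQP (X_le_QL h h3)))) h4
    have h6 : tE Q u x = α (tE Q u x) := mul_inv_eq_one.1 h5
    have h7 : xc Q u v u' v' (tE Q u x) = 0 := by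
      simp only [ha] at h1
      rwa [← h6] at h1
    rwa [xc_tE h hx] at h7
  have tri : (∀ x, In Q u v u' v' x → b x = 0) ∨ (∀ x, In Q u v u' v' x → a x = 0) ∨
      (∀ x, In Q u v u' v' x → a x = b x) := by
    rcases zero_or_inj hP h badd (fun w z hw hz hq hwz x hx e => by
        obtain ⟨p', hp'⟩ := hT w z hw hz hq hwz
        rw [(hp' x hx).2, e, map_zero, map_zero]) with h1 | h1
    · exact Or.inl h1
    rcases zero_or_inj hP h aadd (fun w z hw hz hq hwz x hx e => by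
        obtain ⟨p', hp'⟩ := hT w z hw hz hq hwz
        rw [(hp' x hx).1, e, map_zero, map_zero]) with h2 | h2
    · exact Or.inr (Or.inl h2)
    right; right
    have : Finite V := Module.finite_of_finite F
    have hex : ∀ x : V, ∃ y, In Q u v u' v' x → In Q u v u' v' y ∧ a y = b x := by
      let f : {x // In Q u v u' v' x} → {x // In Q u v u' v' x} := fun x => ⟨a x, haI x x.2⟩
      have hf : Function.Injective f := by
        rintro ⟨x, hx⟩ ⟨y, hy⟩ e
        have e1 : a x = a y := congrArg Subtype.val e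
        have e2 : a (x + y) = 0 := by rw [aadd x y hx hy, e1, add_self' (F := F)]
        have e3 := h2 _ (hx.add hy) e2
        exact Subtype.ext (by
          show x = y
          have := eq_neg_of_add_eq_zero_left e3
          rwa [neg_eq' (F := F)] at this)
      have hs := Finite.surjective_of_injective hf
      intro x
      by_cases hx : In Q u v u' v' x
      · obtain ⟨⟨y, hy⟩, e⟩ := hs ⟨b x, hbI x hx⟩
        exact ⟨y, fun _ => ⟨hy, congrArg Subtype.val e⟩⟩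
      · exact ⟨0, fun h => absurd h hx⟩
    choose φ hφ using hex
    have ainj : ∀ x y, In Q u v u' v' x → In Q u v u' v' y → a x = a y → x = y := by
      intro x y hx hy e1
      have e2 : a (x + y) = 0 := by rw [aadd x y hx hy, e1, add_self' (F := F)]
      have e3 := eq_neg_of_add_eq_zero_left (h2 _ (hx.add hy) e2)
      rwa [neg_eq' (F := F)] at e3
    obtain ⟨c, hc⟩ := schur_W hP h (B := φ)
      (fun x y hx hy => ainj _ _ (hφ _ (hx.add hy)).1 ((hφ x hx).1.add (hφ y hy).1) (by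
        rw [(hφ _ (hx.add hy)).2, aadd _ _ (hφ x hx).1 (hφ y hy).1, (hφ x hx).2, (hφ y hy).2, badd x y hx hy]))
      (fun x hx => (hφ x hx).1)
      (fun w z hw hz hq hwz x hx => by
        obtain ⟨p', hp'⟩ := hT w z hw hz hq hwz
        have hTx := TW_in hw hz hq hwz hx
        apply ainj _ _ (hφ _ hTx).1 (TW_in hw hz hq hwz (hφ x hx).1)
        rw [(hφ _ hTx).2, (hp' _ (hφ x hx).1).1, (hφ x hx).2, (hp' x hx).2])
    intro x hx
    have h3 := (hφ x hx).2
    rw [hc x hx] at h3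
    rcases h01 c with rfl | rfl
    · -- `b x = a 0 = 0` for all `x`: contradiction, or `x = 0`
      rw [zero_smul] at h3
      have h0 : a 0 = 0 := by
        have := aadd 0 0 In.zero In.zero
        rw [add_zero] at this
        simpa using this
      rw [h0] at h3
      have := h1 x hx h3.symm
      rw [this]
      have hb0 : b 0 = 0 := by
        have := badd 0 0 In.zero In.zero
        rw [add_zero] at this
        simpa using this
      rw [h0, hb0]
    · rwa [one_smul] at h3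
  have h2 : (2 : F) = 0 := CharTwo.two_eq_zero
  have b0 : b 0 = 0 := by
    have := badd 0 0 In.zero In.zero
    rw [add_zero] at this
    simpa using this
  rcases tri with hb0 | ha0 | hab
  · exact main1 hP h01 A (a := a) fun k hk => by
      obtain ⟨c1, c2⟩ := hsplit k hk
      rw [c1, c2, hb0 _ (xc_in h k), hb0 _ (yc_in h k), add_zero, zero_add, add_zero]
      exact ⟨rfl, rfl⟩
  · -- conjugate by `ρ⁻¹`
    have hk : (rho Q u v u' v')⁻¹ ∈ P0 Q u v h.qu h.uv := inv_mem (P_le_P0 hρP)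
    have A' := A.comp hP.nd hk
    refine concl_of_comp (inv_mem hρN) (main1 hP h01 A' (a := b) fun k hk => ?_)
    have hk' := A'.mQ k hk
    obtain ⟨c1, c2⟩ := hsplit k hk
    obtain ⟨d1, d2⟩ := coords_rho h hk'
    have e1 : rho Q u v u' v' * ((rho Q u v u' v')⁻¹ * α k * (rho Q u v u' v')⁻¹⁻¹) * (rho Q u v u' v')⁻¹ =
      α k := by group
    rw [e1, c1, ha0 _ (xc_in h k), zero_add] at d1
    rw [e1, c2, ha0 _ (yc_in h k), zero_add, ← d1] at d2
    exact ⟨(add_right_cancel d2).symm, d1.symm⟩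
  · -- conjugate by `ρ`
    have A' := A.comp hP.nd (P_le_P0 hρP)
    refine concl_of_comp hρN (main1 hP h01 A' (a := a) fun k hk => ?_)
    obtain ⟨c1, c2⟩ := hsplit k hk
    obtain ⟨d1, d2⟩ := coords_rho h (A.mQ k hk)
    have e1 := hab _ (xc_in h k)
    have e2 := hab _ (yc_in h k)
    rw [d1, d2, c1, c2, ← e1, ← e2]
    constructor
    · rw [add_self' (F := F), add_zero]
    · rw [add_self' (F := F), add_zero, add_comm (a (xc Q u v u' v' k)), add_assoc, add_self' (F := F), add_zero]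

theorem thm (hP : Par Q) (h01 : ∀ c : F, c = 0 ∨ c = 1) (A : PA h α) : Concl h α := by
  have := hP.fd
  have hρP := rho_mem_P h
  have hρN := P0_le_NL' h
  set r := α (rho Q u v u' v') with hr
  have hrP := A.mP _ hρP
  have hrN := P_le_NL hP.nd h hrP
  have hcomm : ∀ p ∈ P Q u v h.qu h.uv, r * p * r⁻¹ * p⁻¹ ∈ QL Q u v := by
    intro p hp
    obtain ⟨p', hp', rfl⟩ := A.surj p hp
    have h1 := A.mQ _ (rho_central hP h h01 hp')
    rwa [A.mul _ (mul_mem (mul_mem hρP hp') (inv_mem hρP)) _ (inv_mem hp'), A.conj hρP hp', A.inv hp'] at h1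
  have C : Cmt h (fun k => r * k * r⁻¹) := by
    have hc : ∀ p ∈ P Q u v h.qu h.uv, ∀ k ∈ QL Q u v,
        r * (p * k * p⁻¹) * r⁻¹ * (p * (r * k * r⁻¹) * p⁻¹)⁻¹ ∈ X Q u v h.qu h.uv := by
      intro p hp k hk
      have hpN := P_le_NL hP.nd h hp
      have h1 := comm_QL h (hcomm p hp) (QL_conj hpN (QL_conj hrN hk))
      have e : r * (p * k * p⁻¹) * r⁻¹ * (p * (r * k * r⁻¹) * p⁻¹)⁻¹ =
          r * p * r⁻¹ * p⁻¹ * (p * (r * k * r⁻¹) * p⁻¹) * (r * p * r⁻¹ * p⁻¹)⁻¹ *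
            (p * (r * k * r⁻¹) * p⁻¹)⁻¹ := by group
      rwa [e]
    exact
      { mem := fun k hk => QL_conj hrN hk
        mul := fun k hk k' hk' => by group
        mX := fun k hk => X_conj h hrN hk
        comm := fun w z hw hz hq hwz k hk => hc _ (TW_mem_P hP h hw hz hq hwz) k hk
        crho := fun k hk => hc _ hρP k hk }
  obtain ⟨r', s', hrs⟩ := C.coords hP
  obtain ⟨w, w', hw, hw', hh⟩ := hP.exists_pair h
  rcases h01 s' with rfl | rfl <;> rcases h01 r' with rfl | rfl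
  · exfalso
    have h1 := hrs _ (QL_conj (inv_mem hrN) (tE_QL h hw))
    have e : r * (r⁻¹ * tE Q u w * r⁻¹⁻¹) * r⁻¹ = tE Q u w := by group
    rw [e, xc_tE h hw, zero_smul, zero_smul, add_zero] at h1
    exact hh.left_ne h1.1
  · exfalso
    have h1 : r ∈ QL Q u v := mem_QL_of_triv hP h h01 hrN fun k hk => by
      obtain ⟨c1, c2⟩ := hrs k hk
      rw [c1, c2]; simp
    have h2 : r ^ 4 = 1 := (QL_pow h h1).2
    have h3 : r ^ 3 = 1 := by
      have h4 : α (rho Q u v u' v' ^ 3) = r ^ 3 := by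
        rw [pow_succ, A.mul _ (pow_mem hρP 2) _ hρP, pow_two, A.mul _ hρP _ hρP, pow_succ, pow_two]
      rw [← h4, rho_pow h, A.one]
    have h5 : r = 1 := by
      have : r = r ^ 4 * (r ^ 3)⁻¹ := by group
      rw [this, h2, h3, inv_one, one_mul]
    have h6 := A.inj _ hρP h5
    have h7 := rho_u h
    rw [h6] at h7
    have h8 : u = v := h7
    exact h.ln.ind 1 (by rw [one_smul]; exact h8.symm)
  · -- `r ≡ ρ`
    apply main2 hP h01 A
    rw [← hr]
    apply mem_QL_of_triv hP h h01 (mul_mem (inv_mem hrN) hρN)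
    intro k hk
    have hm := QL_conj (mul_mem (inv_mem hrN) hρN) hk
    obtain ⟨c1, c2⟩ := hrs _ hm
    obtain ⟨d1, d2⟩ := coords_rho h hk
    have e : r * (r⁻¹ * rho Q u v u' v' * k * (r⁻¹ * rho Q u v u' v')⁻¹) * r⁻¹ =
      rho Q u v u' v' * k * (rho Q u v u' v')⁻¹ := by group
    rw [e, d1, zero_smul, zero_add, one_smul] at c1
    rw [e, d2, one_smul, zero_add, one_smul, ← c1] at c2
    exact ⟨(add_right_cancel c2).symm, c1.symm⟩
  · -- `r ≡ ρ²`
    have hτ0 : tau Q u v' 1 ∈ P0 Q u v h.qu h.uv := by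
      refine mem_P0_of_det h.ln (a := 1) (b := 0) (a' := 1) (b' := 1) ?_ ?_ (by simp)
      · rw [tau_u h]; simp
      · rw [tau_v h]; simp [add_comm]
    have hτN := tau_NL h 1
    have hperp : polar Q u ((1 : F) • v') = 0 := by rw [polar_smul_right, h.uv', smul_zero]
    have hperp' : polar Q v ((1 : F) • u') = 0 := by rw [polar_smul_right, h.vu', smul_zero]
    have ττ : tau Q u v' 1 * tau Q u v' 1 = 1 := tE_mul_self h.qu hperp
    have σσ : tau Q v u' 1 * tau Q v u' 1 = 1 := tE_mul_self h.qv hperp'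
    have τi : (tau Q u v' 1)⁻¹ = tau Q u v' 1 := inv_eq_of_mul_eq_one_left ττ
    have σi : (tau Q v u' 1)⁻¹ = tau Q v u' 1 := inv_eq_of_mul_eq_one_left σσ
    have hq : r⁻¹ * (rho Q u v u' v' * rho Q u v u' v') ∈ QL Q u v := by
      apply mem_QL_of_triv hP h h01 (mul_mem (inv_mem hrN) (mul_mem hρN hρN))
      intro k hk
      have hm := QL_conj (mul_mem (inv_mem hrN) (mul_mem hρN hρN)) hk
      obtain ⟨c1, c2⟩ := hrs _ hm
      obtain ⟨d1, d2⟩ := coords_rho h hk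
      obtain ⟨f1, f2⟩ := coords_rho h (QL_conj hρN hk)
      have e : r * (r⁻¹ * (rho Q u v u' v' * rho Q u v u' v') * k *
          (r⁻¹ * (rho Q u v u' v' * rho Q u v u' v'))⁻¹) * r⁻¹ =
        rho Q u v u' v' * (rho Q u v u' v' * k * (rho Q u v u' v')⁻¹) * (rho Q u v u' v')⁻¹ := by group
      rw [e, f1, d2, one_smul, one_smul] at c1
      rw [e, f2, d1, d2, one_smul, CharTwo.add_self_eq_zero, zero_smul, add_zero] at c2
      have c3 : xc Q u v u' v' k = xc Q u v u' v' (r⁻¹ * (rho Q u v u' v' * rho Q u v u' v') * k *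
          (r⁻¹ * (rho Q u v u' v' * rho Q u v u' v'))⁻¹) := by
        rw [← c2, add_comm (xc Q u v u' v' k), add_add_self' (F := F)]
      rw [← c3] at c1 ⊢
      exact ⟨rfl, (add_left_cancel c1).symm⟩
    apply concl_of_comp (h := h) hτN
    apply main2 hP h01 (A.comp hP.nd hτ0)
    rw [← hr]
    have e : (tau Q u v' 1 * r * (tau Q u v' 1)⁻¹)⁻¹ * rho Q u v u' v' =
        tau Q u v' 1 * (r⁻¹ * (rho Q u v u' v' * rho Q u v u' v')) * (tau Q u v' 1)⁻¹ := by
      have e1 : rho Q u v u' v' * rho Q u v u' v' * (tau Q u v' 1)⁻¹ = (tau Q u v' 1)⁻¹ * rho Q u v u' v' := by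
        rw [rho_eq h, τi]
        have h3 := rho_pow h
        rw [rho_eq h] at h3
        set τ := tau Q u v' 1
        set σ := tau Q v u' 1
        have h4 : τ * σ * (τ * σ) = (τ * σ)⁻¹ := by
          apply eq_inv_of_mul_eq_one_left
          rw [← h3]; simp [pow_succ, mul_assoc]
        rw [h4, mul_inv_rev, σi, τi, mul_assoc, ττ, mul_one, ← mul_assoc, ττ, one_mul]
      calc (tau Q u v' 1 * r * (tau Q u v' 1)⁻¹)⁻¹ * rho Q u v u' v'
          = tau Q u v' 1 * r⁻¹ * ((tau Q u v' 1)⁻¹ * rho Q u v u' v') := by group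
        _ = _ := by rw [← e1]; group
    rw [e]
    exact QL_conj hτN hq

end PA

variable {G : Type*} [Group G] {t : G} {j : ↥(E Q) →* G}

/-- **Theorem A** -/
theorem thmA (hP : Par Q) (S : Sit Q t j) [Finite G] (h : LF Q u v u' v') (h01 : ∀ c : F, c = 0 ∨ c = 1)
    {n : G} (hz : n * j (tE Q u v) * n⁻¹ = j (tE Q u v)) (ht : n * t * n⁻¹ = t * j (tE Q u v)) :
    ∃ g : V ≃ₗ[F] V, g ∈ O Q ∧ (∀ x ∈ L F u v, g x ∈ L F u v) ∧ ∀ p ∈ P Q u v h.qu h.uv,
      ∀ p' : ↥(E Q), (p' : V ≃ₗ[F] V) = g * p * g⁻¹ → n * j p * n⁻¹ = j p' := by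
  have hfX : ∀ x ∈ X Q u v h.qu h.uv, n * j x * n⁻¹ = j x := by
    intro x hx
    obtain ⟨c, rfl⟩ := mem_X.1 hx
    rcases h01 c with rfl | rfl
    · rw [zero_smul, tE_zero_right, map_one, mul_one, mul_inv_cancel]
    · rw [one_smul, hz]
  have hX : ∀ x ∈ (X Q u v h.qu h.uv).map j, n * x * n⁻¹ ∈ (X Q u v h.qu h.uv).map j := by
    rintro _ ⟨x, hx, rfl⟩
    rw [hfX x hx]
    exact ⟨x, hx, rfl⟩
  have ht' : t * (n * t * n⁻¹) ∈ (X Q u v h.qu h.uv).map j := by
    rw [ht, ← mul_assoc, S.tt, one_mul]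
    exact ⟨_, mem_X.2 ⟨1, by rw [one_smul]⟩, rfl⟩
  obtain ⟨hXi, hti⟩ := inv_norm S hX ht'
  have hex : ∀ p : ↥(E Q), ∃ p', p ∈ P Q u v h.qu h.uv → p' ∈ P Q u v h.qu h.uv ∧ j p' = n * j p * n⁻¹ := by
    intro p
    by_cases hp : p ∈ P Q u v h.qu h.uv
    · obtain ⟨p', hp', e⟩ := P_map hP S h hX ht' hp
      exact ⟨p', fun _ => ⟨hp', e⟩⟩
    · exact ⟨1, fun h => absurd h hp⟩
  choose α hα using hex
  have hQP := QL_le_P hP h
  have A : PA h α :=
    { mP := fun p hp => (hα p hp).1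
      mul := fun p hp p' hp' => S.inj (by
        rw [(hα _ (mul_mem hp hp')).2, map_mul, map_mul, (hα p hp).2, (hα p' hp').2]; group)
      mQ := fun k hk => by
        obtain ⟨k', hk', e⟩ := QL_map hP S h hX ht' hk
        rw [← (hα k (hQP hk)).2] at e
        rwa [← S.inj e]
      fX := fun x hx => S.inj (by rw [(hα x (hQP (X_le_QL h hx))).2, hfX x hx])
      inj := fun p hp e => S.inj (by
        have h1 := (hα p hp).2
        rw [e, map_one] at h1
        have h2 : j p = n⁻¹ * (n * j p * n⁻¹) * n := by group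
        rw [h2, ← h1, map_one]; group)
      surj := fun p hp => by
        obtain ⟨p', hp', e⟩ := P_map hP S h hXi hti hp
        refine ⟨p', hp', S.inj ?_⟩
        rw [(hα p' hp').2, e]; group }
  obtain ⟨g, hg, hL, e⟩ := A.thm hP h01
  refine ⟨g, hg, hL, fun p hp p' hp' => ?_⟩
  rw [← (hα p hp).2]
  congr 1
  exact Subtype.ext ((e p hp).trans hp'.symm)

end Cfsg.Agent.OddHalf.Orth
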