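import Mathlib
import Cfsg.Agent.OddHalf.Orth.ExTwo
import Cfsg.Agent.OddHalf.Orth.KTwoB

/-!
# `q = 2` : `Dbl` from a swap for one line (ODD D7, `K = Ω(V)`; clean and outer case)
-/

set_option autoImplicit false
set_option linter.unusedSectionVars false
set_option linter.unusedVariables false

namespace Cfsg.Agent.OddHalf.Orth.ExTwoMain

open QuadraticMap Cfsg.Agent.LieClassical.OrthCore Cfsg.Agent.LieClassical.OrthTrans
  Cfsg.Agent.LieClassical.OrthSimple Cfsg.Agent.ClassicalGeometry.OrthAutBasic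
  Cfsg.Agent.ClassicalGeometry.OrthAutRoot Face COne ExTwo Cfsg.Agent.OddHalf.Orth

variable {F V : Type*} [Field F] [AddCommGroup V] [Module F V] {Q : QuadraticForm F V}
variable {G : Type*} [Group G] [Finite G] {t : G} {j : ↥(E Q) →* G}
variable [CharP F 2] [Finite F]

theorem thmA' (hP : Par Q) (S : Sit Q t j) (h2 : ∀ c : F, c = 0 ∨ c = 1) : ThmA Q t j := by
  intro u v u' v' h n hn
  obtain ⟨g, hg, -, hac⟩ := thmA hP S h h2 hn.z hn.t
  exact ⟨g, hg, fun p hp => hac p hp _ rfl⟩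

/-- **The elements `y_l`, `q = 2`.** -/
theorem exists_isY (hP : Par Q) (S : Sit Q t j) (h2 : ∀ c : F, c = 0 ∨ c = 1)
    (hn : ∃ (u v : V) (n : G), Ln Q u v ∧ n * j (tE Q u v) * n⁻¹ = j (tE Q u v) ∧
      n * t * n⁻¹ = t * j (tE Q u v)) : ∀ u v : V, Ln Q u v → ∃ y, IsY t j u v y := by
  obtain ⟨u0, v0, n, h0, hz, ht⟩ := hn
  exact fun u v h => ExTwo.exists_isY hP S h2 (thmA' hP S h2) h0 ⟨hz, ht⟩ h

/-- **`Dbl` for `q = 2`.** -/
theorem exists_dbl (hP : Par Q) (S : Sit Q t j) (h2 : ∀ c : F, c = 0 ∨ c = 1)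
    (hn : ∃ (u v : V) (n : G), Ln Q u v ∧ n * j (tE Q u v) * n⁻¹ = j (tE Q u v) ∧
      n * t * n⁻¹ = t * j (tE Q u v)) : ∃ W : V → V → Subgroup G, Dbl Q t j W := by
  obtain ⟨u0, v0, n, h0, hz, ht⟩ := hn
  exact exists_dbl_of hP S h2 (thmA' hP S h2) h0 ⟨hz, ht⟩

end Cfsg.Agent.OddHalf.Orth.ExTwoMain
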