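import Cfsg.Agent.OddHalf.Orth.FrontX
import Cfsg.Agent.OddHalf.Orth.ExMain
import Cfsg.Agent.OddHalf.Orth.ExTwoMain
import Cfsg.Agent.OddHalf.Orth.KFr
import Cfsg.Agent.OddHalf.Orth.SitOf
import Cfsg.Agent.Schreier.ClassAll

/-!
# ODD D7, `K = Ω(V)`, characteristic 2: the front and the doubled long root groups

* `exists_dbl` : the doubled long root groups from the element `n` of the front (all `q`);
* `front_of` : from `Ctx`, `Std`, `Cyc` and the facts on `K` : `t`, `T`, `n`, `z`, `W`;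
* `front_minus` : the same for `K = PΩ^-_{2m+2}(q)`, `m ≥ 3`, `q` even.
-/

set_option autoImplicit false

namespace Cfsg.Agent.OddHalf.Orth.FrontMinus

open QuadraticMap Cfsg.Agent.LieClassical.OrthCore Cfsg.Agent.LieClassical.OrthTrans
  Cfsg.Agent.LieClassical.OrthSimple Cfsg.Agent.LieClassical Cfsg.Agent.LieClassical.OrthForms
  Cfsg.Agent.ClassicalGeometry.OrthAutBasic Cfsg.Agent.ClassicalGeometry.OrthAutRoot
  Cfsg.Agent.ClassicalGeometry.OrthSemi Cfsg.Agent.TitsThree.KSideO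
  Cfsg.Agent.OddHalf.Orth Cfsg.Agent.OddHalf.Orth.Face Cfsg.Agent.OddHalf.Orth.KPerf
  Cfsg.Agent.OddHalf.Orth.FlagDef Cfsg.Agent.OddHalf.Orth.FrontX Cfsg.Agent.OddHalf.Orth.SitOf
  Cfsg.Agent.OddHalf.Orth.KFlagMain Cfsg.Agent.OddHalf.Front.FE Cfsg.Agent.OddHalf.D7Out
  Cfsg.Agent.OddHalf.Iface

section General

variable {F V : Type*} [Field F] [AddCommGroup V] [Module F V] {Q : QuadraticForm F V}

/-- the line of the flag -/
theorem lf_of_flag {n : ℕ} {e f : ℕ → V} (hF : Flag Q n e f) (hn : 2 ≤ n) :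
    LF Q (e 0) (e 1) (f 0) (f 1) :=
  ⟨hF.hyp 0 (by omega), hF.hyp 1 (by omega), hF.ee 0 1 (by omega) (by omega) (by omega),
    hF.ef 0 1 (by omega) (by omega) (by omega), KFr.hfe hF (by omega) (by omega) (by omega),
    hF.ff 0 1 (by omega) (by omega) (by omega)⟩

variable {G : Type*} [Group G] {t : G} {j : ↥(E Q) →* G} [CharP F 2] {u v u' v' : V}

/-- **The doubled long root groups from the front.** -/
theorem exists_dbl [Finite G] [Finite F] (hP : Par Q) (S : Sit Q t j) (h : LF Q u v u' v') {n : ℕ}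
    {e f : ℕ → V} (hF : Flag Q n e f) (hn : 3 ≤ n)
    {T : Subgroup G} {m z : G} (hw : FrontN.Swap t ((X Q u v h.qu h.uv).map j) T m z)
    (hperf : ∀ L : Subgroup G, ⁅L, L⁆ = L → (∀ x ∈ L, x * t = t * x) → L ≤ j.range) :
    ∃ W : V → V → Subgroup G, Dbl Q t j W := by
  have hK : KFacts Q := kfacts hP.nd hP.d8
  by_cases h01 : ∃ θ : F, θ ≠ 0 ∧ θ ≠ 1
  · obtain ⟨θ, hθ, hθ'⟩ := h01
    refine ExMain.exists_dbl_of_move S hP h hF hn hθ hθ' (m := m) (conj_X hP hK S h hw hperf) ?_ ?_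
    · rw [hw.nt, ← mul_assoc, S.tt, one_mul]
      exact hw.zZ
    · rw [hw.nt]
      intro e1
      exact hw.z1 (mul_eq_left.1 e1)
  · push Not at h01
    have h2 : ∀ c : F, c = 0 ∨ c = 1 := fun c => by
      by_cases hc : c = 0
      · exact Or.inl hc
      · exact Or.inr (h01 c hc)
    have hz : z = j (tE Q u v) := by
      obtain ⟨x, hx, e1⟩ := hw.zZ
      obtain ⟨d, rfl⟩ := mem_X.1 hx
      have hd : d ≠ 0 := by
        rintro rfl
        exact hw.z1 (by rw [← e1, zero_smul, tE_zero_right, map_one])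
      rw [← e1, h01 d hd, one_smul]
    refine ExTwoMain.exists_dbl hP S h2 ⟨u, v, m, h.ln, ?_, ?_⟩
    · rw [← hz, hw.nz, mul_inv_cancel_right]
    · rw [← hz, hw.nt]

end General

section Model

universe u

variable {ι : Type} [Fintype ι] [DecidableEq ι] {F : Type*} [Field F] [Finite F] [CharP F 2]
  {Q : QuadraticForm F (ι → F)} {G : Type u} [Group G] {K : Subgroup G}

omit [Finite F] in
theorem center_eq_bot (hG : Good Q) (e : ↥K ≃* Cfsg.POmega F ⇑Q) : Subgroup.center ↥K = ⊥ := by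
  rw [eq_bot_iff]
  intro x hx
  rw [Subgroup.mem_bot]
  set e' := (equivE hG).trans e.symm with he'
  have h1 : e'.symm x ∈ Subgroup.center ↥(E Q) := by
    rw [Subgroup.mem_center_iff] at hx ⊢
    intro y
    have h2 := hx (e' y)
    apply e'.injective
    rw [map_mul, map_mul, MulEquiv.apply_symm_apply]
    exact h2
  have h2 := center_E hG h1
  rw [← e'.apply_symm_apply x, h2, map_one]

/-- the situation from the start -/
theorem sit_of_start (hG : Good Q) (hs : Function.Surjective (Psi Q)) (e : ↥K ≃* Cfsg.POmega F ⇑Q) {t : G}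
    (S : Start K t t) : Sit Q t (emb hG e) := by
  refine SitOf.sit_of hG hs e S.tt ?_ (fun k hk => (S.Kt k hk).symm) (fun g hg k hk => ?_) (fun g hg h => ?_)
  · intro ht
    exact S.t1 (S.cen t ht fun y hy => S.Kt y hy)
  · exact (Subgroup.mem_normalizer_iff.1 (S.nK g hg) k).1 hk
  · obtain ⟨i, hi⟩ := Subgroup.mem_zpowers_iff.1 (S.cK g hg fun k hk => (h k hk).symm)
    rcases Int.even_or_odd' i with ⟨c, rfl | rfl⟩
    · left
      rw [← hi, zpow_mul, zpow_ofNat, pow_two, S.tt, one_zpow]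
    · right
      rw [← hi, zpow_add, zpow_mul, zpow_ofNat, pow_two, S.tt, one_zpow, one_mul, zpow_one]

omit [Finite F] in
/-- the image in `G` of a subgroup of `K` -/
theorem map_emb (hG : Good Q) (e : ↥K ≃* Cfsg.POmega F ⇑Q) (U : Subgroup ↥(E Q)) :
    (U.map ((equivE hG).trans e.symm).toMonoidHom).map K.subtype = U.map (emb hG e) := by
  rw [Subgroup.map_map]
  rfl

/-- **The front, from the facts on `K`.** -/
theorem front_of (C : Ctx G) (S : Std G K) (hcyc : Iface.Cyc K) (hG : Good Q) (hs : Function.Surjective (Psi Q))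
    (hP : Par Q) (e : ↥K ≃* Cfsg.POmega F ⇑Q) {n : ℕ} {a b : ℕ → (ι → F)} (hF : Flag Q n a b) (hn : 3 ≤ n)
    (hu : Q (a 0) = 0) (huv : polar Q (a 0) (a 1) = 0)
    (hkf : FrGen.KF (UK Q a b n) (X Q (a 0) (a 1) hu huv)) (hsch : Schreier.Basic.Sch ↥K)
    (hco : TwChoice.CycOut ↥K) :
    ∃ (t : G) (T : Subgroup G) (m z : G) (W : (ι → F) → (ι → F) → Subgroup G), Start K t t ∧
      FrontCyc.Out t K ((UK Q a b n).map (emb hG e)) ((X Q (a 0) (a 1) hu huv).map (emb hG e)) T m z ∧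
      Dbl Q t (emb hG e) W := by
  have := C.fin
  obtain ⟨t, T, m, z, hst, ho⟩ := FrontCyc.front_ctx C S hcyc (center_eq_bot hG e)
    (hkf.map ((equivE hG).trans e.symm)) hsch hco
  rw [map_emb, map_emb] at ho
  have hsit := sit_of_start hG hs e hst
  obtain ⟨W, hW⟩ := exists_dbl hP hsit (lf_of_flag hF (by omega)) hF hn ho.sw fun L hL hLt => by
    rw [range_emb]
    exact FrGen.perf_le hst.toStart0 hsch hLt hL
  exact ⟨t, T, m, z, W, hst, ho, hW⟩

end Model

section Minus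

universe u

variable {F : Type} [Field F] [Finite F] [CharP F 2] {m : ℕ} {a b : F} {G : Type u} [Group G] {K : Subgroup G}

omit [CharP F 2] in
theorem par_minus (hm : 3 ≤ m) (hab : ∀ z₁ z₂ : F, z₁ ^ 2 + a * z₁ * z₂ + b * z₂ ^ 2 = 0 → z₁ = 0 ∧ z₂ = 0) :
    Par (minusForm m F a b) where
  nd := nondeg_minusForm m F a b hab
  d8 := by rw [finrank_minus]; omega
  rich := Or.inr fun ⟨h8, W, hW, h4⟩ => by
    have h1 := Cfsg.Agent.AutOrth.Main.finrank_le_of_TS_minus m a b hab (W := W) (by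
      rw [← Cfsg.Agent.AutOrth.Main.minusForm_eq]; exact hW)
    rw [finrank_minus] at h8
    omega

/-- **The front for `K = PΩ^-_{2m+2}(q)`, `m ≥ 3`, `q` even.** -/
theorem front_minus (C : Ctx G) (S : Std G K) (hcyc : Iface.Cyc K) (hm : 3 ≤ m)
    (hab : ∀ z₁ z₂ : F, z₁ ^ 2 + a * z₁ * z₂ + b * z₂ ^ 2 = 0 → z₁ = 0 ∧ z₂ = 0)
    (e : ↥K ≃* Cfsg.POmega F ⇑(minusForm m F a b)) (hco : TwChoice.CycOut ↥K)
    (hu : minusForm m F a b (em m a b hab 0) = 0)
    (huv : polar (minusForm m F a b) (em m a b hab 0) (em m a b hab 1) = 0) :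
    ∃ (t : G) (T : Subgroup G) (n z : G)
      (W : ((Fin m ⊕ Fin m) ⊕ Fin 2 → F) → ((Fin m ⊕ Fin m) ⊕ Fin 2 → F) → Subgroup G), Start K t t ∧
      FrontCyc.Out t K ((UK (minusForm m F a b) (em m a b hab) (fm m a b hab) m).map
          (emb (good_minus (by omega) hab) e))
        ((X (minusForm m F a b) (em m a b hab 0) (em m a b hab 1) hu huv).map (emb (good_minus (by omega) hab) e))
        T n z ∧
      Dbl (minusForm m F a b) t (emb (good_minus (by omega) hab) e) W := by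
  have : Fintype F := Fintype.ofFinite F
  refine front_of C S hcyc (good_minus (by omega) hab) (Cfsg.Agent.AutOrth.Final.surjective_minus hm hab)
    (par_minus hm hab) e (KFlag.flag_minus hm a b hab).1 hm hu huv (KFr.kf_minus hm a b hab hu huv) ?_ hco
  refine Schreier.ClassAll.sch_pomegaMinus ⟨F, inferInstance, inferInstance, m + 1, a, b, by omega, hab, ?_⟩
  rw [coe_minusForm] at e
  exact ⟨e⟩

end Minus

end Cfsg.Agent.OddHalf.Orth.FrontMinus
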