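import Cfsg.Agent.OddHalf.Orth.KPerf
import Cfsg.Agent.OddHalf.Orth.KFace
import Cfsg.Agent.OddHalf.D7Out.FrontCyc

/-!
# ODD D7, `K = Ω(V)`: the element `n` of the front normalises the long root group

* `center_P0` : `Z(P0) ≤ X`;
* `conj_X` : if `n` commutes with `z ∈ X#`, `n t n⁻¹ = t z`, then `n` normalises `X`.
-/

set_option autoImplicit false

namespace Cfsg.Agent.OddHalf.Orth.FrontX

open QuadraticMap Cfsg.Agent.LieClassical.OrthCore Cfsg.Agent.LieClassical.OrthTrans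
  Cfsg.Agent.ClassicalGeometry.OrthAutBasic Cfsg.Agent.ClassicalGeometry.OrthAutRoot
  Cfsg.Agent.OddHalf.Orth Cfsg.Agent.OddHalf.Orth.Face Cfsg.Agent.OddHalf.Orth.KPerf

variable {F V : Type*} [Field F] [AddCommGroup V] [Module F V] {Q : QuadraticForm F V}

/-- an element of `K` commuting with `R_u` is in `R_u` -/
theorem eq_tE_of_comm (hK : KFacts Q) {u : V} (hu : Q u = 0) (hu0 : u ≠ 0) {g : ↥(E Q)}
    (h : ∀ y, polar Q u y = 0 → g * tE Q u y = tE Q u y * g) : ∃ y, polar Q u y = 0 ∧ g = tE Q u y := by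
  have hS : Sem Q (g : V ≃ₗ[F] V).toAddEquiv (RingEquiv.refl F) :=
    ⟨fun a v => (g : V ≃ₗ[F] V).map_smul a v, fun v => Q_map g v⟩
  obtain ⟨y, hy, hM⟩ := hK.cent1 hS hu hu0 (by
    intro x hx
    have h1 := tE_conj g u x
    rw [h x hx, mul_inv_cancel_right] at h1
    exact h1.symm)
  refine ⟨y, hy, Subtype.ext (LinearEquiv.ext fun v => ?_)⟩
  rw [coe_tE, T_eq hu hy]
  exact (hM v).trans (by rw [← T_eq hu hy])

section Two

variable [CharP F 2] {u v u' v' : V}

theorem R_le_P0 [Finite F] (h : LF Q u v u' v') {x : V} (hx : polar Q u x = 0) : tE Q u x ∈ P0 Q u v h.qu h.uv := by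
  set c := polar Q v x with hc
  have e : x = (x + c • v') + c • v' := by
    rw [add_assoc, ← add_smul, CharTwo.add_self_eq_zero, zero_smul, add_zero]
  have h1 : polar Q u (c • v') = 0 := by rw [polar_smul_right, h.uv', smul_zero]
  have h2 : polar Q u (x + c • v') = 0 := by rw [polar_add_right, hx, h1, add_zero]
  have h3 : polar Q v (x + c • v') = 0 := by
    rw [polar_add_right, polar_smul_right, h.vv', smul_eq_mul, mul_one, hc, CharTwo.add_self_eq_zero]
  have e2 : tE Q u x = tE Q u (x + c • v') * tau Q u v' c := by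
    show tE Q u x = tE Q u (x + c • v') * tE Q u (c • v')
    rw [tE_mul h.qu h2 h1, ← e]
  rw [e2]
  refine mul_mem (mem_P0_of_fix h.qu h.uv ?_ ?_) (tau_mem_P0 h c)
  · rw [coe_tE]; exact T_fix h.uu (polar_zero_of_comm h2)
  · rw [coe_tE]; exact T_fix h.uv (polar_zero_of_comm h3)

theorem R_le_P0' [Finite F] (h : LF Q u v u' v') {x : V} (hx : polar Q v x = 0) :
    tE Q v x ∈ P0 Q u v h.qu h.uv := by
  set c := polar Q u x with hc
  have e : x = (x + c • u') + c • u' := by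
    rw [add_assoc, ← add_smul, CharTwo.add_self_eq_zero, zero_smul, add_zero]
  have h1 : polar Q v (c • u') = 0 := by rw [polar_smul_right, h.vu', smul_zero]
  have h2 : polar Q v (x + c • u') = 0 := by rw [polar_add_right, hx, h1, add_zero]
  have h3 : polar Q u (x + c • u') = 0 := by
    rw [polar_add_right, polar_smul_right, h.uu', smul_eq_mul, mul_one, hc, CharTwo.add_self_eq_zero]
  have e2 : tE Q v x = tE Q v (x + c • u') * tau Q v u' c := by
    show tE Q v x = tE Q v (x + c • u') * tE Q v (c • u')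
    rw [tE_mul h.qv h2 h1, ← e]
  rw [e2]
  refine mul_mem (mem_P0_of_fix h.qu h.uv ?_ ?_) (tau_mem_P0' h c)
  · rw [coe_tE]; exact T_fix h.vu (polar_zero_of_comm h3)
  · rw [coe_tE]; exact T_fix h.vv (polar_zero_of_comm h2)

theorem X_le_P0 [Finite F] (h : LF Q u v u' v') : X Q u v h.qu h.uv ≤ P0 Q u v h.qu h.uv := by
  intro g hg
  obtain ⟨c, rfl⟩ := mem_X.1 hg
  exact R_le_P0 h (perp_smul_v h c)

/-- `Z(P0) ≤ X` -/
theorem center_P0 [Finite F] (hK : KFacts Q) (h : LF Q u v u' v') {g : ↥(E Q)}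
    (hc : ∀ p ∈ P0 Q u v h.qu h.uv, p * g = g * p) : g ∈ X Q u v h.qu h.uv := by
  obtain ⟨y, hy, rfl⟩ := eq_tE_of_comm hK h.qu h.h1.left_ne fun x hx => (hc _ (R_le_P0 h hx)).symm
  obtain ⟨z, hz, e⟩ := eq_tE_of_comm hK h.qv h.h2.left_ne fun x hx => (hc _ (R_le_P0' h hx)).symm
  have h1 : (tE Q u y : V ≃ₗ[F] V) v = v := by
    rw [e, coe_tE]; exact T_fix h.vv (polar_zero_of_comm hz)
  have h2 : polar Q v y = 0 := by
    rw [coe_tE, T_apply2 h.qu hy, h.uv, zero_smul, add_zero, mul_zero, add_zero] at h1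
    have h3 : polar Q y v • u = 0 := by simpa using h1
    have h4 := (smul_eq_zero.1 h3).resolve_right h.h1.left_ne
    exact polar_zero_of_comm h4
  have h5 : tE Q u y ∈ QL Q u v := tE_mem_QL h.ln hy h2
  refine ZQL hK.nondeg h h5 fun k hk => (hc k ?_).symm
  exact mem_P0_of_fix h.qu h.uv hk.1 hk.2.1

end Two

section G

variable {G : Type*} [Group G] {t : G} {j : ↥(E Q) →* G} [CharP F 2] {u v u' v' : V}

/-- **The element `n` of the front normalises `X`.** -/
theorem conj_X [Finite G] [Finite F] (hP : Par Q) (hK : KFacts Q) (S : Sit Q t j) (h : LF Q u v u' v')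
    {T : Subgroup G} {n z : G} (hw : D7Out.FrontN.Swap t ((X Q u v h.qu h.uv).map j) T n z)
    (hperf : ∀ L : Subgroup G, ⁅L, L⁆ = L → (∀ x ∈ L, x * t = t * x) → L ≤ j.range) :
    ∀ x ∈ (X Q u v h.qu h.uv).map j, n * x * n⁻¹ ∈ (X Q u v h.qu h.uv).map j := by
  by_cases h01 : ∃ θ : F, θ ≠ 0 ∧ θ ≠ 1
  · obtain ⟨θ, hθ, hθ'⟩ := h01
    obtain ⟨x0, hx0, hz0⟩ := hw.zZ
    obtain ⟨c, rfl⟩ := mem_X.1 hx0
    have hc : c ≠ 0 := by
      rintro rfl
      exact hw.z1 (by rw [← hz0, zero_smul, tE_zero_right, map_one])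
    refine D7Out.FrontN.Swap.conj_Z (P := (P0 Q u v h.qu h.uv).map j) (hw.conj_P ?_ ?_ ?_ ?_) ?_ ?_ ?_
    · apply le_antisymm
      · rw [← Subgroup.map_commutator]
        refine Subgroup.map_mono (Subgroup.commutator_le.2 fun x hx y hy => ?_)
        rw [commutatorElement_def]
        exact mul_mem (mul_mem (mul_mem hx hy) (inv_mem hx)) (inv_mem hy)
      · rw [← Subgroup.map_commutator]
        exact Subgroup.map_mono (P0_perfect hP h hθ hθ')
    · rintro _ ⟨p, -, rfl⟩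
      exact (S.tj p).symm
    · rintro _ ⟨p, hp, rfl⟩
      rw [← hz0, ← map_mul, ← map_mul, mem_P0.1 hp c]
    · intro L hL hLt hLz l hl
      obtain ⟨g, hg⟩ := hperf L hL hLt hl
      refine ⟨g, mem_P0_of_comm' hP.nd h hc (S.inj ?_), hg⟩
      rw [map_mul, map_mul, hz0, hg, hLz l hl]
    · exact Subgroup.map_mono (X_le_P0 h)
    · rintro _ ⟨x, hx, rfl⟩ _ ⟨p, hp, rfl⟩
      obtain ⟨d, rfl⟩ := mem_X.1 hx
      rw [← map_mul, ← map_mul, mem_P0.1 hp d]
    · rintro _ ⟨g, hg, rfl⟩ hgc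
      refine ⟨g, center_P0 hK h fun p hp => S.inj ?_, rfl⟩
      rw [map_mul, map_mul]
      exact hgc _ ⟨p, hp, rfl⟩
  · push Not at h01
    have hX : ∀ x ∈ (X Q u v h.qu h.uv).map j, x ≠ 1 → x = j (tE Q u v) := by
      rintro _ ⟨x, hx, rfl⟩ hx1
      obtain ⟨d, rfl⟩ := mem_X.1 hx
      have hd : d ≠ 0 := by
        rintro rfl
        exact hx1 (by rw [zero_smul, tE_zero_right, map_one])
      rw [h01 d hd, one_smul]
    intro x hx
    by_cases hx1 : x = 1
    · subst hx1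
      rw [mul_one, mul_inv_cancel]
      exact one_mem _
    · have : x = z := by rw [hX x hx hx1, hX z hw.zZ hw.z1]
      subst this
      rw [hw.nz, mul_inv_cancel_right]
      exact hw.zZ

end G

end Cfsg.Agent.OddHalf.Orth.FrontX
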