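import Cfsg.Agent.OddHalf.Orth.KP0
import Cfsg.Agent.OddHalf.Orth.KPl

/-!
# `P0 = C_K(X)` is generated by involutions and is perfect for `q > 2`

Characteristic 2, `F` finite.
* `P0_le_of_two` : a subgroup containing the involutions of `P0` contains `P0`;
* `P0_perfect` : `P0 ≤ [P0, P0]` if `q > 2`;
* `mem_P0_of_comm'` : an element commuting with a nontrivial element of `X` is in `P0`.
-/

set_option autoImplicit false
set_option linter.unusedSectionVars false
set_option linter.unusedVariables false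

namespace Cfsg.Agent.OddHalf.Orth.KPerf

open QuadraticMap Cfsg.Agent.LieClassical.OrthCore Cfsg.Agent.LieClassical.OrthTrans
  Cfsg.Agent.LieClassical.OrthSimple Cfsg.Agent.ClassicalGeometry.OrthAutBasic
  Cfsg.Agent.ClassicalGeometry.OrthAutRoot Cfsg.Agent.LieClassical.OrthFinite
  Cfsg.Agent.OddHalf.Orth Face

variable {F V : Type*} [Field F] [AddCommGroup V] [Module F V] {Q : QuadraticForm F V}
variable [CharP F 2] {u v u' v' : V}

/-- an element commuting with a nontrivial element of `X` is in `P0` -/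
theorem mem_P0_of_comm' (hQ : Nondeg Q) (h : LF Q u v u' v') {c : F} (hc : c ≠ 0) {g : ↥(E Q)}
    (h1 : g * tE Q u (c • v) = tE Q u (c • v) * g) : g ∈ P0 Q u v h.qu h.uv := by
  have h' : LF Q u (c • v) u' (c⁻¹ • v') := by
    refine ⟨h.h1, ⟨?_, ?_, ?_⟩, ?_, ?_, ?_, ?_⟩
    · rw [QuadraticMap.map_smul, h.qv, smul_zero]
    · rw [QuadraticMap.map_smul, h.qv', smul_zero]
    · rw [polar_smul_left, polar_smul_right, h.vv', smul_eq_mul, smul_eq_mul, mul_one, mul_inv_cancel₀ hc]
    · rw [polar_smul_right, h.uv, smul_zero]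
    · rw [polar_smul_right, h.uv', smul_zero]
    · rw [polar_smul_right, h.u'v, smul_zero]
    · rw [polar_smul_right, h.u'v', smul_zero]
  have h2 := mem_P0_of_comm hQ h' h1
  rw [mem_P0] at h2 ⊢
  intro d
  have h3 := h2 (d * c⁻¹)
  rwa [smul_smul, inv_mul_cancel_right₀ hc] at h3

/-- the closure of the involutions of `P0`, in the linear group -/
noncomputable def NV (h : LF Q u v u' v') : Subgroup (V ≃ₗ[F] V) :=
  (Subgroup.closure {g | g ∈ P0 Q u v h.qu h.uv ∧ g * g = 1}).map (E Q).subtype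

theorem mem_NV_of {h : LF Q u v u' v'} {k : ↥(E Q)} (hk : k ∈ P0 Q u v h.qu h.uv) (h1 : k * k = 1) :
    (k : V ≃ₗ[F] V) ∈ NV h := ⟨k, Subgroup.subset_closure ⟨hk, h1⟩, rfl⟩

theorem coe_mem_NV {h : LF Q u v u' v'} {k : ↥(E Q)} :
    (k : V ≃ₗ[F] V) ∈ NV h ↔ k ∈ Subgroup.closure {g | g ∈ P0 Q u v h.qu h.uv ∧ g * g = 1} := by
  constructor
  · rintro ⟨k', hk', e⟩
    rwa [← Subtype.ext e]
  · exact fun hk => ⟨k, hk, rfl⟩

theorem NV_conj (h : LF Q u v u' v') {g : V ≃ₗ[F] V} (hg : g ∈ O Q) (h1 : g u = u) (h2 : g v = v)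
    {z : V ≃ₗ[F] V} (hz : z ∈ NV h) : g * z * g⁻¹ ∈ NV h := by
  obtain ⟨k, hk, rfl⟩ := hz
  have hle : Subgroup.closure {g | g ∈ P0 Q u v h.qu h.uv ∧ g * g = 1} ≤
      ((NV h).comap (MulAut.conj g).toMonoidHom).comap (E Q).subtype := by
    rw [Subgroup.closure_le]
    rintro x ⟨hx, hox⟩
    show g * (x : V ≃ₗ[F] V) * g⁻¹ ∈ NV h
    have hE : g * (x : V ≃ₗ[F] V) * g⁻¹ ∈ E Q := conj_mem_E hg x.2
    refine mem_NV_of (k := ⟨_, hE⟩) ?_ ?_
    · rw [mem_P0]
      intro c
      apply Subtype.ext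
      show g * (x : V ≃ₗ[F] V) * g⁻¹ * T Q u (c • v) = T Q u (c • v) * (g * (x : V ≃ₗ[F] V) * g⁻¹)
      have e1 : g * T Q u (c • v) * g⁻¹ = T Q u (c • v) := by rw [T_conj hg, h1, map_smul, h2]
      have e2 : (x : V ≃ₗ[F] V) * T Q u (c • v) = T Q u (c • v) * (x : V ≃ₗ[F] V) :=
        congrArg Subtype.val (mem_P0.1 hx c)
      have e3 : g⁻¹ * T Q u (c • v) = T Q u (c • v) * g⁻¹ := by
        rw [inv_mul_eq_iff_eq_mul, ← mul_assoc, e1]
      have e4 : g * T Q u (c • v) = T Q u (c • v) * g := by rw [← mul_inv_eq_iff_eq_mul]; exact e1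
      calc g * (x : V ≃ₗ[F] V) * g⁻¹ * T Q u (c • v) = g * ((x : V ≃ₗ[F] V) * (g⁻¹ * T Q u (c • v))) := by group
        _ = g * ((x : V ≃ₗ[F] V) * T Q u (c • v)) * g⁻¹ := by rw [e3]; group
        _ = (g * T Q u (c • v)) * (x : V ≃ₗ[F] V) * g⁻¹ := by rw [e2]; group
        _ = T Q u (c • v) * (g * (x : V ≃ₗ[F] V) * g⁻¹) := by rw [e4]; group
    · apply Subtype.ext
      show g * (x : V ≃ₗ[F] V) * g⁻¹ * (g * (x : V ≃ₗ[F] V) * g⁻¹) = 1
      have e : (x : V ≃ₗ[F] V) * (x : V ≃ₗ[F] V) = 1 := congrArg Subtype.val hox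
      have : g * (x : V ≃ₗ[F] V) * g⁻¹ * (g * (x : V ≃ₗ[F] V) * g⁻¹) =
          g * ((x : V ≃ₗ[F] V) * (x : V ≃ₗ[F] V)) * g⁻¹ := by group
      rw [this, e, mul_one, mul_inv_cancel]
  exact hle hk

variable [Finite F]

theorem TW_mem_NV (h : LF Q u v u' v') {s w : V} (hs : In Q u v u' v' s) (hw : In Q u v u' v' w)
    (h1 : Q s = 0) (h2 : polar Q s w = 0) : (tE Q s w : V ≃ₗ[F] V) ∈ NV h := by
  refine mem_NV_of (mem_P0_of_fix h.qu h.uv ?_ ?_) (tE_mul_self h1 h2)
  · rw [coe_tE]; exact T_fix hs.ru hw.ru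
  · rw [coe_tE]; exact T_fix hs.rv hw.rv

/-- orthogonal reflections -/
theorem refl_mul_mem_of_perp (hP : Par Q) (h : LF Q u v u' v') {a b : V} (hWa : In Q u v u' v' a)
    (hWb : In Q u v u' v' b) (ha : Q a ≠ 0) (hb : Q b ≠ 0) (hab : polar Q b a = 0) :
    refl Q b hb * refl Q a ha ∈ NV h := by
  have := hP.fd
  obtain ⟨c, hc0, hc⟩ := exists_scale ha hb
  have hc' : Q (c • b) ≠ 0 := by rw [hc]; exact ha
  rw [← refl_smul hb hc0 hc']
  have hWb' := hWb.smul c
  have had : polar Q (c • b) a = 0 := by rw [polar_smul_left, hab, smul_zero]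
  generalize c • b = d at hc hc' hWb' had ⊢
  have hs : Q (a + d) = 0 := by
    rw [Q_add, hc, polar_comm Q a d, had, add_zero, CharTwo.add_self_eq_zero]
  have hsw : polar Q (a + d) ((Q a)⁻¹ • a) = 0 := by
    rw [polar_smul_right, polar_add_left, polar_self2, had, add_zero, smul_zero]
  have e : refl Q d hc' * refl Q a ha = (tE Q (a + d) ((Q a)⁻¹ • a) : V ≃ₗ[F] V) := by
    apply LinearEquiv.ext
    intro x
    show refl Q d hc' (refl Q a ha x) = T Q (a + d) ((Q a)⁻¹ • a) x
    rw [T_apply2 hs hsw, refl_apply2, refl_apply2, hc, QuadraticMap.map_smul]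
    simp only [polar_add_right, polar_add_left, polar_smul_right, polar_smul_left, had, smul_eq_mul,
      mul_zero, add_zero]
    have two0 : (2 : F) = 0 := CharTwo.two_eq_zero
    have e1 : (Q a)⁻¹ * (Q a)⁻¹ * Q a = (Q a)⁻¹ := by rw [mul_assoc, inv_mul_cancel₀ ha, mul_one]
    rw [e1]
    set l := (Q a)⁻¹
    set p := polar Q a x
    set q := polar Q d x
    have : x + (p + q) • l • a + (l * p + l * (p + q)) • (a + d) =
        x + (l * p) • a + (l * q) • d + (2 : F) • ((l * q + l * p) • a + (l * p) • d) := by module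
    rw [this, two0, zero_smul, add_zero]
  rw [e]
  exact TW_mem_NV h (hWa.add hWb') (hWa.smul _) hs hsw

/-- a nonsingular vector perpendicular to two given ones -/
theorem exists_perp (hP : Par Q) (h : LF Q u v u' v') {a b : V} (hWa : In Q u v u' v' a)
    (hWb : In Q u v u' v' b) (hab : polar Q a b ≠ 0) :
    ∃ c, In Q u v u' v' c ∧ Q c ≠ 0 ∧ polar Q a c = 0 ∧ polar Q b c = 0 := by
  have := hP.fd
  have hba : polar Q b a ≠ 0 := by rwa [polar_comm]
  -- a nonzero vector of the perp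
  obtain ⟨x, hxW, hx0, hxa, hxb⟩ : ∃ x, In Q u v u' v' x ∧ x ≠ 0 ∧ polar Q a x = 0 ∧ polar Q b x = 0 := by
    let f : ↥(W4 Q u v u' v') →ₗ[F] F × F :=
      ((polarBilin Q a).prod (polarBilin Q b)).comp (W4 Q u v u' v').subtype
    have hd : Module.finrank F (F × F) < Module.finrank F ↥(W4 Q u v u' v') := by
      rw [Module.finrank_prod, Module.finrank_self]
      have := W4_dim Q u v u' v'
      have := hP.d8
      omega
    obtain ⟨x, hx, hx0⟩ := Submodule.exists_mem_ne_zero_of_ne_bot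
      (LinearMap.ker_ne_bot_of_finrank_lt (f := f) hd)
    have h1 := LinearMap.mem_ker.1 hx
    exact ⟨x, In.iff_mem.2 x.2, fun e => hx0 (Subtype.ext e), congrArg Prod.fst h1, congrArg Prod.snd h1⟩
  obtain ⟨y, hy, hxy⟩ := (W4_ns hP.nd h).exists_eq (In.iff_mem.1 hxW) hx0 1
  have hyW := In.iff_mem.2 hy
  -- project
  set β := polar Q a y * (polar Q a b)⁻¹ with hβ
  set α := polar Q b y * (polar Q b a)⁻¹ with hα
  set y' := y + α • a + β • b with hy'
  have hy'W : In Q u v u' v' y' := (hyW.add (hWa.smul _)).add (hWb.smul _)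
  have ha' : polar Q a y' = 0 := by
    rw [hy', polar_add_right, polar_add_right, polar_smul_right, polar_smul_right, polar_self2, hβ]
    simp only [smul_eq_mul, mul_zero, add_zero]
    rw [inv_mul_cancel_right₀ hab, CharTwo.add_self_eq_zero]
  have hb' : polar Q b y' = 0 := by
    rw [hy', polar_add_right, polar_add_right, polar_smul_right, polar_smul_right, polar_self2, hα]
    simp only [smul_eq_mul, mul_zero, add_zero]
    rw [inv_mul_cancel_right₀ hba, CharTwo.add_self_eq_zero]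
  have hxy' : polar Q x y' = 1 := by
    rw [hy', polar_add_right, polar_add_right, polar_smul_right, polar_smul_right, polar_comm Q x a,
      polar_comm Q x b, hxa, hxb, hxy]
    simp
  by_cases h1 : Q x = 0
  · by_cases h2 : Q y' = 0
    · refine ⟨x + y', hxW.add hy'W, ?_, ?_, ?_⟩
      · rw [Q_add, h1, h2, hxy']; simp
      · rw [polar_add_right, hxa, ha', add_zero]
      · rw [polar_add_right, hxb, hb', add_zero]
    · exact ⟨y', hy'W, h2, ha', hb'⟩
  · exact ⟨x, hxW, h1, hxa, hxb⟩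

/-- the product of two reflections supported on `W` is a product of involutions of `P0` -/
theorem refl_mul_mem_NV (hP : Par Q) (h : LF Q u v u' v') {a b : V} (hWa : In Q u v u' v' a)
    (hWb : In Q u v u' v' b) (ha : Q a ≠ 0) (hb : Q b ≠ 0) : refl Q b hb * refl Q a ha ∈ NV h := by
  by_cases hab : polar Q b a = 0
  · exact refl_mul_mem_of_perp hP h hWa hWb ha hb hab
  · obtain ⟨c, hWc, hc, h1, h2⟩ := exists_perp hP h hWb hWa hab
    have e : refl Q b hb * refl Q a ha = (refl Q b hb * refl Q c hc) * (refl Q c hc * refl Q a ha) := by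
      have := refl_mul_self hc
      rw [mul_assoc, ← mul_assoc (refl Q c hc), this, one_mul]
    rw [e]
    exact mul_mem (refl_mul_mem_of_perp hP h hWc hWb hc hb h1)
      (refl_mul_mem_of_perp hP h hWa hWc ha hc (by rw [polar_comm]; exact h2))

/-- an element of `E Q` fixing the frame is a product of involutions of `P0` -/
theorem mem_NV_of_frame (hP : Par Q) (h : LF Q u v u' v') {g : ↥(E Q)} (h1 : (g : V ≃ₗ[F] V) u = u)
    (h2 : (g : V ≃ₗ[F] V) v = v) (h3 : (g : V ≃ₗ[F] V) u' = u') (h4 : (g : V ≃ₗ[F] V) v' = v') :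
    (g : V ≃ₗ[F] V) ∈ NV h := by
  have := hP.fd
  obtain ⟨k, hk, e⟩ := exists_ext h (mem_O' g) h1 h2 h3 h4
  obtain ⟨a, haW, ha⟩ := (W4_ns hP.nd h).exists_nonsing (by
    have := W4_dim Q u v u' v'; have := hP.d8; omega)
  have haI := In.iff_mem.2 haW
  set r := refl Q a ha with hr
  have hrO : r ∈ O Q := refl_mem_O ha
  have hrr : r * r = 1 := refl_mul_self ha
  have hri : r⁻¹ = r := refl_inv ha
  have conj : ∀ {z : V ≃ₗ[F] V}, z ∈ NV h → r * z * r ∈ NV h := by
    intro z hz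
    have := NV_conj h hrO (refl_fix ha haI.ru) (refl_fix ha haI.rv) hz
    rwa [hri] at this
  have main : ext h k ∈ NV h ∨ ext h k * r ∈ NV h := by
    rw [O_eq_closure (QW_nondeg hP.nd h)] at hk
    clear e
    induction hk using Subgroup.closure_induction with
    | mem x hx =>
      rcases hx with ⟨b, hb, rfl⟩ | ⟨s, w, hs, hw, rfl⟩
      · right
        rw [ext_refl h hb hb]
        exact refl_mul_mem_NV hP h haI (In.iff_mem.2 b.2) ha hb
      · left
        have hs' : Q (s : V) = 0 := hs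
        have hw' : polar Q (s : V) (w : V) = 0 := hw
        rw [ext_siegel h hs hw hs' hw', ← T_eq hs' hw', ← coe_tE]
        exact TW_mem_NV h (In.iff_mem.2 s.2) (In.iff_mem.2 w.2) hs' hw'
    | one => left; rw [map_one]; exact one_mem _
    | mul x y _ _ hx hy =>
      rw [map_mul]
      set x := ext h x
      set y := ext h y
      rcases hx with hx | hx <;> rcases hy with hy | hy
      · exact Or.inl (mul_mem hx hy)
      · exact Or.inr (by rw [mul_assoc]; exact mul_mem hx hy)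
      · right
        have : x * y * r = (x * r) * (r * y * r) := by
          have e : (x * r) * (r * y * r) = x * (r * r) * y * r := by group
          rw [e, hrr, mul_one]
        rw [this]
        exact mul_mem hx (conj hy)
      · left
        have : x * y = (x * r) * (r * (y * r) * r) := by
          have e : (x * r) * (r * (y * r) * r) = x * (r * r) * y * (r * r) := by group
          rw [e, hrr, mul_one, mul_one]
        rw [this]
        exact mul_mem hx (conj hy)
    | inv x _ hx =>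
      rw [map_inv]
      set x := ext h x
      rcases hx with hx | hx
      · exact Or.inl (inv_mem hx)
      · right
        have h1 := inv_mem hx
        rw [mul_inv_rev, hri] at h1
        have h2 := conj h1
        have : x⁻¹ * r = r * (r * x⁻¹) * r := by rw [← mul_assoc, hrr, one_mul]
        rwa [this]
  rw [e] at main
  rcases main with hm | hm
  · exact hm
  · exfalso
    obtain ⟨z, -, hz⟩ := hm
    exact notMem_E_of_mul hP.good ha (g := (g : V ≃ₗ[F] V)) (by
      show (g : V ≃ₗ[F] V) * r ∈ E Q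
      rw [← hz]; exact z.2) g.2

/-- an element of `E Q` fixing the line pointwise is a product of involutions of `P0` -/
theorem mem_closure_of_fix (hP : Par Q) (h : LF Q u v u' v') {g : ↥(E Q)} (h1 : (g : V ≃ₗ[F] V) u = u)
    (h2 : (g : V ≃ₗ[F] V) v = v) : g ∈ Subgroup.closure {g | g ∈ P0 Q u v h.qu h.uv ∧ g * g = 1} := by
  have key : ∀ w, polar Q u w = 0 → polar Q v w = 0 →
      tE Q u w ∈ Subgroup.closure {g | g ∈ P0 Q u v h.qu h.uv ∧ g * g = 1} := by
    intro w w1 w2
    refine Subgroup.subset_closure ⟨mem_P0_of_fix h.qu h.uv ?_ ?_, tE_mul_self h.qu w1⟩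
    · rw [coe_tE]; exact T_fix h.uu (polar_zero_of_comm w1)
    · rw [coe_tE]; exact T_fix h.uv (polar_zero_of_comm w2)
  have key' : ∀ w, polar Q u w = 0 → polar Q v w = 0 →
      tE Q v w ∈ Subgroup.closure {g | g ∈ P0 Q u v h.qu h.uv ∧ g * g = 1} := by
    intro w w1 w2
    refine Subgroup.subset_closure ⟨mem_P0_of_fix h.qu h.uv ?_ ?_, tE_mul_self h.qv w2⟩
    · rw [coe_tE]; exact T_fix h.vu (polar_zero_of_comm w1)
    · rw [coe_tE]; exact T_fix h.vv (polar_zero_of_comm w2)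
  -- move `u'` back
  have a1 : polar Q u ((g : V ≃ₗ[F] V) u') = 1 := by
    have := polar_map' g u u'; rw [h1] at this; rw [this, h.uu']
  have a2 : polar Q v ((g : V ≃ₗ[F] V) u') = 0 := by
    have := polar_map' g v u'; rw [h2] at this; rw [this, h.vu']
  have hyp1 : Hyp Q u ((g : V ≃ₗ[F] V) u') := ⟨h.qu, by rw [Q_map, h.qu'], a1⟩
  set w := u' - (g : V ≃ₗ[F] V) u' with hw
  have w1 : polar Q u w = 0 := by rw [hw, polar_sub_right, a1, h.uu', sub_self]
  have w2 : polar Q v w = 0 := by rw [hw, polar_sub_right, a2, h.vu', sub_self]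
  have hs1 := key w w1 w2
  set g1 := tE Q u w * g with hg1
  have b1 : (g1 : V ≃ₗ[F] V) u = u := by
    rw [hg1, coe_mul', h1, coe_tE]; exact T_fix h.uu (polar_zero_of_comm w1)
  have b2 : (g1 : V ≃ₗ[F] V) v = v := by
    rw [hg1, coe_mul', h2, coe_tE]; exact T_fix h.uv (polar_zero_of_comm w2)
  have b3 : (g1 : V ≃ₗ[F] V) u' = u' := by
    rw [hg1, coe_mul', coe_tE]; exact T_partner hyp1 h.h1
  -- move `v'` back
  have c1 : polar Q v ((g1 : V ≃ₗ[F] V) v') = 1 := by
    have := polar_map' g1 v v'; rw [b2] at this; rw [this, h.vv']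
  have c2 : polar Q u ((g1 : V ≃ₗ[F] V) v') = 0 := by
    have := polar_map' g1 u v'; rw [b1] at this; rw [this, h.uv']
  have c3 : polar Q u' ((g1 : V ≃ₗ[F] V) v') = 0 := by
    have := polar_map' g1 u' v'; rw [b3] at this; rw [this, h.u'v']
  have hyp2 : Hyp Q v ((g1 : V ≃ₗ[F] V) v') := ⟨h.qv, by rw [Q_map, h.qv'], c1⟩
  set z := v' - (g1 : V ≃ₗ[F] V) v' with hz
  have z1 : polar Q v z = 0 := by rw [hz, polar_sub_right, c1, h.vv', sub_self]
  have z2 : polar Q u z = 0 := by rw [hz, polar_sub_right, c2, h.uv', sub_self]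
  have z3 : polar Q u' z = 0 := by rw [hz, polar_sub_right, c3, h.u'v', sub_self]
  have hs2 := key' z z2 z1
  have hg2 : tE Q v z * g1 ∈ Subgroup.closure {g | g ∈ P0 Q u v h.qu h.uv ∧ g * g = 1} := by
    apply coe_mem_NV.1
    apply mem_NV_of_frame hP h
    · rw [coe_mul', b1, coe_tE]; exact T_fix h.vu (polar_zero_of_comm z2)
    · rw [coe_mul', b2, coe_tE]; exact T_fix h.vv (polar_zero_of_comm z1)
    · rw [coe_mul', b3, coe_tE]; exact T_fix h.vu' (polar_zero_of_comm z3)
    · rw [coe_mul', coe_tE]; exact T_partner hyp2 h.h2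
  have hg1P : g1 ∈ Subgroup.closure {g | g ∈ P0 Q u v h.qu h.uv ∧ g * g = 1} := by
    have := mul_mem (inv_mem hs2) hg2
    rwa [inv_mul_cancel_left] at this
  have := mul_mem (inv_mem hs1) hg1P
  rwa [hg1, inv_mul_cancel_left] at this

/-- **`P0` is generated by involutions.** -/
theorem P0_le_closure (hP : Par Q) (h : LF Q u v u' v') :
    P0 Q u v h.qu h.uv ≤ Subgroup.closure {g | g ∈ P0 Q u v h.qu h.uv ∧ g * g = 1} := by
  intro g hg
  obtain ⟨s, hs, -, h1, h2⟩ := exists_tau hP.nd h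
    (H := Subgroup.closure {g | g ∈ P0 Q u v h.qu h.uv ∧ g * g = 1})
    (fun c => Subgroup.subset_closure ⟨tau_mem_P0 h c, tE_mul_self h.qu (by
      rw [polar_smul_right, h.uv', smul_zero])⟩)
    (fun c => Subgroup.subset_closure ⟨tau_mem_P0' h c, tE_mul_self h.qv (by
      rw [polar_smul_right, h.vu', smul_zero])⟩) hg
  have := mul_mem (inv_mem hs) (mem_closure_of_fix hP h h1 h2)
  rwa [inv_mul_cancel_left] at this

/-- a group generated by involutions and by elements of odd order is perfect -/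
theorem perfect_of_gen {Y : Type*} [Group Y] {A : Subgroup Y}
    (h2 : A ≤ Subgroup.closure {g | g ∈ A ∧ g * g = 1}) (h3 : A ≤ Subgroup.closure {g | g ∈ A ∧ Odd (orderOf g)}) :
    A ≤ ⁅A, A⁆ := by
  have hle : ⁅A, A⁆ ≤ A := Subgroup.commutator_le.2 fun x hx y hy => by
    rw [commutatorElement_def]
    exact mul_mem (mul_mem (mul_mem hx hy) (inv_mem hx)) (inv_mem hy)
  have hc : ∀ x ∈ A, ∀ y ∈ A, x * y * x⁻¹ * y⁻¹ ∈ ⁅A, A⁆ := fun x hx y hy =>
    Subgroup.commutator_mem_commutator hx hy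
  -- the elements with square in the derived group
  let S : Subgroup Y :=
    { carrier := {x | x ∈ A ∧ x * x ∈ ⁅A, A⁆}
      one_mem' := ⟨one_mem _, by rw [one_mul]; exact one_mem _⟩
      mul_mem' := by
        rintro x y ⟨hx, hx2⟩ ⟨hy, hy2⟩
        refine ⟨mul_mem hx hy, ?_⟩
        have h1 := hc x⁻¹ (inv_mem hx) y hy
        rw [inv_inv] at h1
        have e : x * y * (x * y) = x * x * (x⁻¹ * y * x * y⁻¹) * (y * y) := by group
        rw [e]
        exact mul_mem (mul_mem hx2 h1) hy2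
      inv_mem' := by
        rintro x ⟨hx, hx2⟩
        refine ⟨inv_mem hx, ?_⟩
        rw [← mul_inv_rev]
        exact inv_mem hx2 }
  have hS : A ≤ S := h2.trans ((Subgroup.closure_le S).2 fun x hx => ⟨hx.1, by rw [hx.2]; exact one_mem _⟩)
  refine h3.trans ((Subgroup.closure_le _).2 ?_)
  rintro x ⟨hx, ⟨k, hk⟩⟩
  have h4 : x * x ∈ ⁅A, A⁆ := (hS hx).2
  have h5 : x ^ (2 * k + 1) = 1 := by rw [← hk]; exact pow_orderOf_eq_one x
  have h6 : x = ((x * x) ^ k)⁻¹ := by
    rw [eq_inv_iff_mul_eq_one, ← pow_two, ← pow_mul, ← pow_succ', h5]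
  show x ∈ ⁅A, A⁆
  rw [h6]
  exact inv_mem (pow_mem h4 k)

/-- **`P0` is perfect if `q > 2`.** -/
theorem P0_perfect (hP : Par Q) (h : LF Q u v u' v') {θ : F} (hθ : θ ≠ 0) (hθ' : θ ≠ 1) :
    P0 Q u v h.qu h.uv ≤ ⁅P0 Q u v h.qu h.uv, P0 Q u v h.qu h.uv⁆ :=
  perfect_of_gen (P0_le_closure hP h) (P0_le_P hP h hθ hθ')

end Cfsg.Agent.OddHalf.Orth.KPerf
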