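import Cfsg.Agent.OddHalf.Orth.StarBig
import Cfsg.Agent.OddHalf.Orth.Grow2

/-!
# ODD D7, `K = Ω(V)`: the layers `B_i`

`B u H = V*_u ∩ ⋂_{s ∈ H} N_G(V*_s)`; `H` is a set of singular vectors perpendicular to `u`.
-/

set_option autoImplicit false

namespace Cfsg.Agent.OddHalf.Orth.Lay

open QuadraticMap Cfsg.Agent.LieClassical.OrthCore Cfsg.Agent.LieClassical.OrthTrans
  Cfsg.Agent.ClassicalGeometry.OrthAutBasic Cfsg.Agent.ClassicalGeometry.OrthAutRoot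
  Cfsg.Agent.ClassicalGeometry.OrthAutSylow Cfsg.Agent.OddHalf.Orth
  Cfsg.Agent.OddHalf.Orth.Face Cfsg.Agent.OddHalf.Orth.Star

variable {F V : Type*} [Field F] [AddCommGroup V] [Module F V] {Q : QuadraticForm F V}
variable {G : Type*} [Group G] {t : G} {j : ↥(E Q) →* G} {W : V → V → Subgroup G}

/-- The results of sections 2 and 3 of the text. -/
structure Grow (Q : QuadraticForm F V) (t : G) (W : V → V → Subgroup G) : Prop where
  notin : ∀ {u : V}, Q u = 0 → u ≠ 0 → t ∉ Vs Q W u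
  ab : ∀ {u : V} {f g : G}, Q u = 0 → u ≠ 0 → f ∈ Vs Q W u → g ∈ Vs Q W u → f * g = g * f
  sq : ∀ {u : V} {f : G}, Q u = 0 → u ≠ 0 → f ∈ Vs Q W u → f * f = 1
  norm : ∀ {u v s : V} {w f : G}, Ln Q u v → Q s = 0 → s ≠ 0 → polar Q s u = 0 → polar Q s v = 0 →
    w ∈ W u v → f ∈ Vs Q W s → w * f * w⁻¹ ∈ Vs Q W s

/-- The layer. -/
def B (Q : QuadraticForm F V) (W : V → V → Subgroup G) (u : V) (H : Set V) : Subgroup G :=
  Vs Q W u ⊓ ⨅ s : V, ⨅ _ : s ∈ H, Subgroup.normalizer (Vs Q W s : Set G)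

theorem mem_B {u : V} {H : Set V} {g : G} :
    g ∈ B Q W u H ↔ g ∈ Vs Q W u ∧ ∀ s ∈ H, g ∈ Subgroup.normalizer (Vs Q W s : Set G) := by
  rw [B, Subgroup.mem_inf, Subgroup.mem_iInf]
  constructor
  · rintro ⟨h1, h2⟩
    exact ⟨h1, fun s hs => (Subgroup.mem_iInf.1 (h2 s)) hs⟩
  · rintro ⟨h1, h2⟩
    exact ⟨h1, fun s => Subgroup.mem_iInf.2 (h2 s)⟩

theorem mem_norm {A : Subgroup G} {g : G} (h1 : ∀ f ∈ A, g * f * g⁻¹ ∈ A) (h2 : ∀ f ∈ A, g⁻¹ * f * g ∈ A) :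
    g ∈ Subgroup.normalizer (A : Set G) := by
  rw [Subgroup.mem_normalizer_iff]
  intro f
  refine ⟨h1 f, fun h => ?_⟩
  have := h2 _ h
  have e : g⁻¹ * (g * f * g⁻¹) * g = f := by group
  rwa [e] at this

theorem norm_conj {A : Subgroup G} {g f : G} (hg : g ∈ Subgroup.normalizer (A : Set G)) (hf : f ∈ A) :
    g * f * g⁻¹ ∈ A := (Subgroup.mem_normalizer_iff.1 hg f).1 hf

/-- `B_j` normalises `B_i`. -/
theorem B_conj {u u' : V} {H H' : Set V} (hu : u ∈ H') (hH : H ⊆ H') {a b : G} (ha : a ∈ B Q W u H)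
    (hb : b ∈ B Q W u' H') : b * a * b⁻¹ ∈ B Q W u H := by
  rw [mem_B] at ha hb ⊢
  exact ⟨norm_conj (hb.2 u hu) ha.1, fun s hs =>
    mul_mem (mul_mem (hb.2 s (hH hs)) (ha.2 s hs)) (inv_mem (hb.2 s (hH hs)))⟩

section Dbl

variable (D : Dbl Q t j W)
include D

theorem t_conj_Vs (hK : KFacts Q) {s : V} (hs : Q s = 0) (hs0 : s ≠ 0) {f : G} (hf : f ∈ Vs Q W s) :
    t * f * t ∈ Vs Q W s := by
  have h1 := Ru_le D hK hs hs0 (Vs_ph D hs hf)
  have h2 := mul_mem hf h1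
  have e : f * ph t f = t * f * t := by rw [ph_def, mul_inv_cancel_left]
  rwa [e] at h2

theorem t_norm (hK : KFacts Q) {s : V} (hs : Q s = 0) (hs0 : s ≠ 0) :
    t ∈ Subgroup.normalizer (Vs Q W s : Set G) := by
  have ti := D.t_inv
  refine mem_norm (fun f hf => ?_) (fun f hf => ?_)
  · rw [ti]; exact t_conj_Vs D hK hs hs0 hf
  · rw [ti]; exact t_conj_Vs D hK hs hs0 hf

/-- `B` is `t`-invariant. -/
theorem B_t (hK : KFacts Q) {u : V} (hu : Q u = 0) (hu0 : u ≠ 0) {H : Set V} (hH : ∀ s ∈ H, Q s = 0 ∧ s ≠ 0)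
    {g : G} (hg : g ∈ B Q W u H) : t * g * t ∈ B Q W u H := by
  rw [mem_B] at hg ⊢
  refine ⟨t_conj_Vs D hK hu hu0 hg.1, fun s hs => ?_⟩
  have h1 := t_norm D hK (hH s hs).1 (hH s hs).2
  exact mul_mem (mul_mem h1 (hg.2 s hs)) h1

/-- `k ∈ K` fixing `s` normalises `V*_s` -/
theorem k_norm {s : V} {k : ↥(E Q)} (hk : (k : V ≃ₗ[F] V) s = s) :
    j k ∈ Subgroup.normalizer (Vs Q W s : Set G) := by
  have hk' : ((k⁻¹ : ↥(E Q)) : V ≃ₗ[F] V) s = s := by
    rw [Subgroup.coe_inv]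
    show (k : V ≃ₗ[F] V).symm s = s
    rw [LinearEquiv.symm_apply_eq]
    exact hk.symm
  refine mem_norm (fun f hf => ?_) (fun f hf => ?_)
  · have := Vs_conj D k hf
    rwa [hk] at this
  · have := Vs_conj D k⁻¹ hf
    rwa [hk', map_inv, inv_inv] at this

theorem R_mem_B [CharP F 2] (hK : KFacts Q) {u y : V} (hu : Q u = 0) (hu0 : u ≠ 0) (hy : polar Q u y = 0)
    {H : Set V} (hH : ∀ s ∈ H, polar Q s u = 0 ∧ polar Q s y = 0) : j (tE Q u y) ∈ B Q W u H := by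
  rw [mem_B]
  refine ⟨Ru_le D hK hu hu0 (Ru_mem hy), fun s hs => k_norm D ?_⟩
  obtain ⟨h1, h2⟩ := hH s hs
  rw [coe_tE]
  exact T_fix (by rw [polar_comm]; exact h1) (by rw [polar_comm]; exact h2)

omit D in
theorem W_mem_B (hG : Grow Q t W) {u v : V} (h : Ln Q u v) {H : Set V}
    (hH : ∀ s ∈ H, Q s = 0 ∧ s ≠ 0 ∧ polar Q s u = 0 ∧ polar Q s v = 0) {w : G} (hw : w ∈ W u v) :
    w ∈ B Q W u H := by
  rw [mem_B]
  refine ⟨mem_Vs h hw, fun s hs => ?_⟩
  obtain ⟨h1, h2, h3, h4⟩ := hH s hs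
  refine mem_norm (fun f hf => hG.norm h h1 h2 h3 h4 hw hf) (fun f hf => ?_)
  have := hG.norm h h1 h2 h3 h4 (inv_mem hw) hf
  rwa [inv_inv] at this

/-- `C_B(t) = R` -/
theorem B_fix [Finite F] [CharP F 2] (hB : Big Q) (hK : KFacts Q) (hG : Grow Q t W) {u : V} (hu : Q u = 0)
    (hu0 : u ≠ 0) {H : Set V} (hH : ∀ s ∈ H, Q s = 0 ∧ s ≠ 0 ∧ polar Q s u = 0 ∧ ∀ c : F, u ≠ c • s) {g : G}
    (hg : g ∈ B Q W u H) (h : t * g * t = g) :
    ∃ y, polar Q u y = 0 ∧ g = j (tE Q u y) ∧ ∀ s ∈ H, polar Q s y = 0 := by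
  obtain ⟨hg1, hg2⟩ := mem_B.1 hg
  have hph : ph t g = 1 := by rw [ph_def, h, inv_mul_cancel]
  obtain ⟨y, hy, rfl⟩ := Vs_fix_of D hK hu hu0 (hG.notin hu hu0) hg1 hph
  refine ⟨y, hy, rfl, fun s hs => ?_⟩
  obtain ⟨hs1, hs2, hs3, hs4⟩ := hH s hs
  set k := tE Q u y with hk
  have hks : (k : V ≃ₗ[F] V) s = s + polar Q y s • u := by
    rw [hk, coe_tE, T_apply2 hu hy, polar_comm Q u s, hs3]
    simp
  have hfix : ∀ x, polar Q s x = 0 → T Q s x ((k : V ≃ₗ[F] V) s) = (k : V ≃ₗ[F] V) s := by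
    intro x hx
    have h1 := Ru_le D hK hs1 hs2 (Ru_mem (j := j) hx)
    have h2 := norm_conj (inv_mem (hg2 s hs)) h1
    have h3 : ph t ((j k)⁻¹ * j (tE Q s x) * (j k)⁻¹⁻¹) = 1 := by
      rw [ph_eq_one D.tt, ← map_inv, ← map_inv, ← map_mul, ← map_mul, ← D.tj]
    obtain ⟨x', hx', e⟩ := Vs_fix_of D hK hs1 hs2 (hG.notin hs1 hs2) h2 h3
    have e2 : j (tE Q s x) = j (tE Q ((k : V ≃ₗ[F] V) s) ((k : V ≃ₗ[F] V) x')) := by
      rw [← D.rconj, ← e]; group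
    have e3 := D.inj e2
    have e4 : T Q s x = T Q ((k : V ≃ₗ[F] V) s) ((k : V ≃ₗ[F] V) x') := congrArg Subtype.val e3
    rw [e4]
    exact T_apply_self (by rw [Q_map]; exact hs1) (by rw [polar_map']; exact hx')
  obtain ⟨c, hc⟩ := eq_smul_of_fix_rad hB hs1 hs2 hfix
  rw [hks] at hc
  by_contra hne
  rw [polar_comm] at hne
  apply hs4 ((polar Q y s)⁻¹ * (c - 1))
  have e5 : polar Q y s • u = (c - 1) • s := by
    have : polar Q y s • u = (s + polar Q y s • u) - s := by module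
    rw [this, hc]; module
  rw [mul_smul, ← e5, smul_smul, inv_mul_cancel₀ hne, one_smul]

theorem exists_c_mul {u x y : V} (hu : Q u = 0) {H : Set V} (hx : polar Q u x = 0) (hy : polar Q u y = 0)
    (h1 : ∃ c ∈ B Q W u H, ph t c = j (tE Q u x)) (h2 : ∃ c ∈ B Q W u H, ph t c = j (tE Q u y)) :
    ∃ c ∈ B Q W u H, ph t c = j (tE Q u (x + y)) := by
  obtain ⟨c, hc, e⟩ := h1
  obtain ⟨c', hc', e'⟩ := h2
  exact ⟨c * c', mul_mem hc hc', by rw [Vs_ph_mul D hu (mem_B.1 hc).1 (mem_B.1 hc').1, e, e', D.rmul hu hx hy]⟩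

/-- one singular vector -/
theorem exists_c_sing (hG : Grow Q t W) {e f v : V} (h : Hyp Q e f) {H : Set V}
    (hH : ∀ s ∈ H, Q s = 0 ∧ s ≠ 0 ∧ polar Q s e = 0) (hv : Q v = 0) (hve : polar Q e v = 0)
    (hvf : polar Q f v = 0) (hHv : ∀ s ∈ H, polar Q s v = 0) : ∃ c ∈ B Q W e H, ph t c = j (tE Q e v) := by
  by_cases h0 : v = 0
  · subst h0
    refine ⟨1, one_mem _, ?_⟩
    rw [ph_def, inv_one, one_mul, mul_one, D.tt, tE_zero_right, map_one]
  · have hl : Ln Q e v := by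
      refine Ln.symm ⟨hv, h.left, by rw [polar_comm]; exact hve, h0, ?_⟩
      intro c hc
      have h1 := h.pair'
      rw [hc, polar_smul_right, hvf, smul_zero] at h1
      exact zero_ne_one h1
    obtain ⟨w, hw, e1⟩ := surj_W D hl 1
    rw [one_smul] at e1
    exact ⟨w, W_mem_B hG hl (fun s hs => ⟨(hH s hs).1, (hH s hs).2.1, (hH s hs).2.2, hHv s hs⟩) hw, e1⟩

/-- every vector, if there is a hyperbolic pair -/
theorem exists_c_pair (hG : Grow Q t W) {e f a b y : V} (h : Hyp Q e f) {H : Set V}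
    (hH : ∀ s ∈ H, Q s = 0 ∧ s ≠ 0 ∧ polar Q s e = 0) (hab : Hyp Q a b)
    (hea : polar Q e a = 0) (heb : polar Q e b = 0) (hey : polar Q e y = 0)
    (hfa : polar Q f a = 0) (hfb : polar Q f b = 0) (hfy : polar Q f y = 0)
    (hs : ∀ s ∈ H, polar Q s a = 0 ∧ polar Q s b = 0 ∧ polar Q s y = 0) :
    ∃ c ∈ B Q W e H, ph t c = j (tE Q e y) := by
  set y' := Cfsg.Agent.LieClassical.OrthTrans.proj Q a b y with hy'
  have hy'e : polar Q e y' = 0 := by
    rw [hy', polar_proj_of_perp (by rw [polar_comm]; exact hea) (by rw [polar_comm]; exact heb), hey]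
  have hy'f : polar Q f y' = 0 := by
    rw [hy', polar_proj_of_perp (by rw [polar_comm]; exact hfa) (by rw [polar_comm]; exact hfb), hfy]
  have hy's : ∀ s ∈ H, polar Q s y' = 0 := by
    intro s hs'
    obtain ⟨h1, h2, h3⟩ := hs s hs'
    rw [hy', polar_proj_of_perp (by rw [polar_comm]; exact h1) (by rw [polar_comm]; exact h2), h3]
  have hay' : polar Q a y' = 0 := polar_proj_left hab y
  have hby' : polar Q b y' = 0 := polar_proj_right hab y
  have e1 : y = ((y' + a + (-Q y') • b) + (polar Q b y - 1) • a) + (polar Q a y + Q y') • b := by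
    rw [hy', Cfsg.Agent.LieClassical.OrthTrans.proj]; module
  have p1 : polar Q e (y' + a + (-Q y') • b) = 0 := by
    rw [polar_add_right, polar_add_right, polar_smul_right, hy'e, hea, heb]; simp
  have p2 : polar Q e ((polar Q b y - 1) • a) = 0 := by rw [polar_smul_right, hea, smul_zero]
  have p3 : polar Q e ((polar Q a y + Q y') • b) = 0 := by rw [polar_smul_right, heb, smul_zero]
  rw [e1]
  refine exists_c_mul D h.left (by rw [polar_add_right, p1, p2, add_zero]) p3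
    (exists_c_mul D h.left p1 p2 ?_ ?_) ?_
  · refine exists_c_sing D hG h hH ?_ p1 ?_ ?_
    · rw [Q_add, Q_add, QuadraticMap.map_smul, hab.left, hab.right, polar_add_left, polar_smul_right,
        polar_smul_right, hab.pair, polar_comm Q y' b, hby', polar_comm Q y' a, hay']
      simp
    · rw [polar_add_right, polar_add_right, polar_smul_right, hy'f, hfa, hfb]; simp
    · intro s hs'
      obtain ⟨h1, h2, h3⟩ := hs s hs'
      rw [polar_add_right, polar_add_right, polar_smul_right, hy's s hs', h1, h2]; simp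
  · refine exists_c_sing D hG h hH ?_ p2 ?_ ?_
    · rw [QuadraticMap.map_smul, hab.left, smul_zero]
    · rw [polar_smul_right, hfa, smul_zero]
    · intro s hs'
      rw [polar_smul_right, (hs s hs').1, smul_zero]
  · refine exists_c_sing D hG h hH ?_ p3 ?_ ?_
    · rw [QuadraticMap.map_smul, hab.right, smul_zero]
    · rw [polar_smul_right, hfb, smul_zero]
    · intro s hs'
      rw [polar_smul_right, (hs s hs').2.1, smul_zero]

/-- the last layer: an element `d ∈ K` fixing `e` and all `s ∈ H` -/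
theorem exists_c_last [CharP F 2] (hK : KFacts Q) (hG : Grow Q t W) {e z : V} (he : Q e = 0) (he0 : e ≠ 0)
    {H : Set V} (hz : polar Q e z = 0) {d : ↥(E Q)} (hd : (d : V ≃ₗ[F] V) e = e)
    (hH : ∀ s ∈ H, polar Q s e = 0 ∧ (d : V ≃ₗ[F] V) s = s ∧ ∃ c ∈ B Q W e {s}, ph t c = j (tE Q e z)) :
    ∃ c ∈ B Q W e H, ph t c = j (tE Q e ((d : V ≃ₗ[F] V) z - z)) := by
  obtain ⟨c0, hc0, e0⟩ := (Vs_surj' D hK he he0 hz).1
  have hd0 : j d * c0 * (j d)⁻¹ ∈ Vs Q W e := by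
    have := Vs_conj D d hc0
    rwa [hd] at this
  have hdz : polar Q e ((d : V ≃ₗ[F] V) z) = 0 := by
    have := polar_map' d e z
    rw [hd] at this
    rw [this, hz]
  refine ⟨c0⁻¹ * (j d * c0 * (j d)⁻¹), ?_, ?_⟩
  · rw [mem_B]
    refine ⟨mul_mem (inv_mem hc0) hd0, fun s hs => ?_⟩
    obtain ⟨hs1, hs2, c, hc, ec⟩ := hH s hs
    obtain ⟨hc1, hc2⟩ := mem_B.1 hc
    have hc2' := hc2 s rfl
    -- `c0 = c r`
    have hr : ph t (c⁻¹ * c0) = 1 := by
      rw [Vs_ph_mul D he (inv_mem hc1) hc0, Vs_ph_inv D he hc1, ec, e0, inv_mul_cancel]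
    obtain ⟨x, hx, ex⟩ := Vs_fix_of D hK he he0 (hG.notin he he0) (mul_mem (inv_mem hc1) hc0) hr
    have hjd := k_norm D hs2
    have hdc : j d * c * (j d)⁻¹ ∈ Vs Q W e := by
      have := Vs_conj D d hc1
      rwa [hd] at this
    have hdx : polar Q e ((d : V ≃ₗ[F] V) x) = 0 := by
      have := polar_map' d e x
      rw [hd] at this
      rw [this, hx]
    have ec0 : c0 = c * j (tE Q e x) := by rw [← ex]; group
    have e2 : j d * j (tE Q e x) * (j d)⁻¹ = j (tE Q e ((d : V ≃ₗ[F] V) x)) := by rw [D.rconj, hd]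
    have e3 : c0⁻¹ * (j d * c0 * (j d)⁻¹) =
        (c⁻¹ * (j d * c * (j d)⁻¹)) * ((j (tE Q e x))⁻¹ * j (tE Q e ((d : V ≃ₗ[F] V) x))) := by
      have hc3 : c⁻¹ * (j d * c * (j d)⁻¹) ∈ Vs Q W e := mul_mem (inv_mem hc1) hdc
      have h4 := Vs_comm D he hc3 (Ru_inv he (Ru_mem (j := j) hx))
      calc c0⁻¹ * (j d * c0 * (j d)⁻¹)
          = (j (tE Q e x))⁻¹ * (c⁻¹ * (j d * c * (j d)⁻¹)) * (j d * j (tE Q e x) * (j d)⁻¹) := by
            rw [ec0]; group
        _ = _ := by rw [h4, e2]; group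
    rw [e3]
    refine mul_mem (mul_mem (inv_mem hc2') (mul_mem (mul_mem hjd hc2') (inv_mem hjd))) ?_
    rw [← map_inv, tE_inv he hx, ← map_mul, tE_mul he hx hdx]
    refine k_norm D ?_
    rw [coe_tE]
    refine T_fix (by rw [polar_comm]; exact hs1) ?_
    have h5 := polar_map' d s x
    rw [hs2] at h5
    rw [polar_comm, polar_add_right, h5, CharTwo.add_self_eq_zero]
  · rw [Vs_ph_mul D he (inv_mem hc0) hd0, Vs_ph_inv D he hc0, e0, ph_conj (D.tj d), e0, D.rconj, hd,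
      ← map_inv, tE_inv he hz, ← map_mul, tE_mul he hz hdz]
    congr 2
    rw [sub_eq' (F := F), add_comm]

end Dbl

end Cfsg.Agent.OddHalf.Orth.Lay
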