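import Cfsg.Agent.OddHalf.Orth.StarTwo

/-!
# ODD D7, `K = Ω(V)`: the relations of the doubled long root groups, first part
(`[W_m, X_l] ≤ W_{l+m}`, the `W_l` are elementary abelian)
-/

set_option autoImplicit false

namespace Cfsg.Agent.OddHalf.Orth.Lines

open QuadraticMap Cfsg.Agent.LieClassical.OrthCore Cfsg.Agent.LieClassical.OrthTrans
  Cfsg.Agent.ClassicalGeometry.OrthAutBasic Cfsg.Agent.ClassicalGeometry.OrthAutRoot Cfsg.Agent.OddHalf.Orth
  Cfsg.Agent.OddHalf.Orth.Face Cfsg.Agent.OddHalf.Orth.Star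

variable {F V : Type*} [Field F] [AddCommGroup V] [Module F V] {Q : QuadraticForm F V}
variable {G : Type*} [Group G] {t : G} {j : ↥(E Q) →* G} {W : V → V → Subgroup G}

/-- The situation after section 2. -/
structure Full (Q : QuadraticForm F V) (t : G) (j : ↥(E Q) →* G) (W : V → V → Subgroup G) : Prop
    extends Dbl Q t j W where
  kf : KFacts Q
  ad : ∀ u, Ad Q t j W u

theorem full_of [CharP F 2] [FiniteDimensional F V] (D : Dbl Q t j W) (hK : KFacts Q) : Full Q t j W where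
  toDbl := D
  kf := hK
  ad := by
    obtain ⟨u, hu, hu0⟩ := hK.sing
    obtain ⟨v, hv⟩ := hK.exLn hu hu0
    obtain ⟨w, hw⟩ := hK.exLn3 hv
    exact ad_all D hK hw

theorem rel_symm {u v a b : V} (h : Rel Q u v a b) : Rel Q a b u v where
  uv := h.ab
  ab := h.uv
  ua := h.ua.symm
  ub := by rw [polar_comm]; exact h.va
  va := by rw [polar_comm]; exact h.ub
  vb := by rw [polar_comm]; exact h.vb

theorem T_perp2 [CharP F 2] {u w y : V} (hu : Q u = 0) (hw : polar Q u w = 0) (hy : polar Q u y = 0) :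
    T Q u w y = y + polar Q w y • u := by
  rw [T_apply2 hu hw, hy]; simp

theorem T_id [CharP F 2] {u w y : V} (hu : Q u = 0) (hw : polar Q u w = 0) (hy : polar Q u y = 0)
    (h : polar Q w y = 0) : T Q u w y = y := by
  rw [T_perp2 hu hw hy, h, zero_smul, add_zero]

variable (D : Full Q t j W)
include D

namespace Full

theorem ab [CharP F 2] {u : V} {f g : G} (hf : f ∈ Vs Q W u) (hg : g ∈ Vs Q W u) : Commute f g :=
  Vs_ab_of D.toDbl D.kf (D.ad u) hf hg

theorem t_notin [CharP F 2] {u : V} (hu : Q u = 0) (hu0 : u ≠ 0) : t ∉ Vs Q W u :=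
  t_notin_of_ad D.toDbl D.kf hu hu0 (D.ad u)

theorem fixR [CharP F 2] {u : V} (hu : Q u = 0) (hu0 : u ≠ 0) {f : G} (hf : f ∈ Vs Q W u) (h : ph t f = 1) :
    f ∈ Ru Q j u := Vs_fix_of D.toDbl D.kf hu hu0 (D.t_notin hu hu0) hf h

theorem cR {u v x : V} (h : Ln Q u v) {w : G} (hw : w ∈ W u v) (hx : polar Q u x = 0) :
    Commute (j (tE Q u x)) w := Vs_comm D.toDbl h.qu (mem_Vs h hw) (Ru_mem hx)

theorem cfix {u v x y : V} (h : Ln Q u v) {w : G} (hw : w ∈ W u v) (h1 : T Q x y u = u) (h2 : T Q x y v = v) :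
    Commute (j (tE Q x y)) w := D.cent h hw (tE_comm_of h1 h2)

/-- `W u v`: an element fixed by `t` is in `X` -/
theorem fixW {u v : V} (h : Ln Q u v) {w : G} (hw : w ∈ W u v) (h1 : ph t w = 1) :
    ∃ c : F, w = j (tE Q u (c • v)) := D.fix h hw ((ph_eq_one D.tt).1 h1)

theorem swapW {u v : V} (h : Ln Q u v) {w : G} (hw : w ∈ W u v) : w ∈ W v u := by
  rwa [← D.swap h]

/-- a vector whose root element commutes with `k` is fixed modulo the centre -/
theorem comm_vec {a y : V} (ha : Q a = 0) (ha0 : a ≠ 0) (hy : polar Q a y = 0) {k : ↥(E Q)}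
    (hk : (k : V ≃ₗ[F] V) a = a) (hc : Commute (j k) (j (tE Q a y))) :
    ∃ e : F, (k : V ≃ₗ[F] V) y = y + e • a := by
  have h1 := D.rconj k a y
  rw [hc.eq, mul_inv_cancel_right, hk] at h1
  have h2 : polar Q a ((k : V ≃ₗ[F] V) y) = 0 := by
    have := polar_map' (Q := Q) k a y
    rw [hk] at this
    rw [this, hy]
  obtain ⟨c, hc⟩ := r_inj D.toDbl D.kf ha ha0 hy h2 h1
  exact ⟨c, hc⟩

end Full

omit D in
theorem commute_comm {z w k : G} (h1 : Commute z w) (h2 : Commute z k) : Commute z (w⁻¹ * (k * w * k⁻¹)) :=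
  h1.inv_right.mul_right ((h2.mul_right h1).mul_right h2.inv_right)

omit D in
theorem rel_u'  [FiniteDimensional F V] [CharP F 2] (hK : KFacts Q) {u v a b : V} (h : Rel Q u v a b) :
    ∃ u', Hyp Q u u' ∧ polar Q u' v = 0 ∧ polar Q u' a = 0 ∧ polar Q u' b = 0 := by
  have hn : u ∉ Submodule.span F ({v, a, b} : Set V) := by
    intro hm
    rw [Submodule.mem_span_insert] at hm
    obtain ⟨α, z, hz, e⟩ := hm
    obtain ⟨β, γ, rfl⟩ := Submodule.mem_span_pair.1 hz
    have h1 : polar Q u b = 0 := h.ub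
    rw [e, polar_add_left, polar_add_left, polar_smul_left, polar_smul_left, polar_smul_left, h.vb, h.ab.perp,
      polar_self2] at h1
    have hα : α = 0 := by simpa using h1
    have h2 : polar Q u v = 0 := h.uv.perp
    rw [e, polar_add_left, polar_add_left, polar_smul_left, polar_smul_left, polar_smul_left, polar_self2,
      polar_comm Q a v, h.va, polar_comm Q b v, h.vb] at h2
    have hγ : γ = 0 := by simpa using h2
    apply h.ua.symm.ind β
    rw [e, hα, hγ]; simp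
  obtain ⟨y, hy1, hy2⟩ := exists_sep_sub hK.nondeg hn
  have y1 : polar Q v y = 0 := hy2 _ (Submodule.subset_span (by simp))
  have y2 : polar Q a y = 0 := hy2 _ (Submodule.subset_span (by simp))
  have y3 : polar Q b y = 0 := hy2 _ (Submodule.subset_span (by simp))
  refine ⟨y + Q y • u, ⟨h.uv.qu, ?_, ?_⟩, ?_, ?_, ?_⟩
  · rw [Q_add, QuadraticMap.map_smul, h.uv.qu, polar_smul_right, polar_comm Q y u, hy1]
    simp only [smul_eq_mul, mul_zero, add_zero, mul_one]
    exact CharTwo.add_self_eq_zero _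
  · rw [polar_add_right, hy1, polar_smul_right, polar_self2]; simp
  · rw [polar_add_left, polar_comm Q y v, y1, polar_smul_left, h.uv.perp]; simp
  · rw [polar_add_left, polar_comm Q y a, y2, polar_smul_left, h.ua.perp]; simp
  · rw [polar_add_left, polar_comm Q y b, y3, polar_smul_left, h.ub]; simp

section c1

variable [CharP F 2] {u v a b : V}

/-- `φ` of the commutator `[w, x]`, `x = T u (c v)` -/
theorem ph_c1 (h : Rel Q u v a b) {w : G} (hw : w ∈ W a b) (c : F) {β : F}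
    (hβ : ph t w = j (tE Q a (β • b))) :
    w⁻¹ * (j (tE Q u (c • v)) * w * (j (tE Q u (c • v)))⁻¹) ∈ Vs Q W a ∧
    ph t (w⁻¹ * (j (tE Q u (c • v)) * w * (j (tE Q u (c • v)))⁻¹)) = j (tE Q a ((β * c) • u)) := by
  have pv : polar Q u (c • v) = 0 := by rw [polar_smul_right, h.uv.perp, smul_zero]
  have ka : T Q u (c • v) a = a := T_id h.uv.qu pv h.ua.perp (by rw [polar_smul_left, h.va, smul_zero])
  have kb : T Q u (c • v) b = b + c • u := by
    rw [T_perp2 h.uv.qu pv h.ub, polar_smul_left, h.vb]; simp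
  have hwV := mem_Vs h.ab hw
  have h1 := Vs_conj D.toDbl (tE Q u (c • v)) hwV
  have h2 := ph_W_conj D.toDbl hβ (tE Q u (c • v))
  rw [coe_tE, ka] at h1
  rw [coe_tE, ka, kb] at h2
  refine ⟨mul_mem (inv_mem hwV) h1, ?_⟩
  have pb : ∀ d : F, polar Q a (d • b) = 0 := fun d => by rw [polar_smul_right, h.ab.perp, smul_zero]
  have pu : ∀ d : F, polar Q a (d • u) = 0 := fun d => by
    rw [polar_smul_right, polar_comm, h.ua.perp, smul_zero]
  rw [Vs_ph_mul D.toDbl h.ab.qu (inv_mem hwV) h1, Vs_ph_inv D.toDbl h.ab.qu hwV, hβ, h2, ← map_inv,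
    tE_inv h.ab.qu (pb _), smul_add, smul_smul, D.rmul h.ab.qu (pb _) (by rw [polar_add_right, pb, pu, add_zero]),
    ← add_assoc, add_self' (F := F), zero_add]

theorem P1 [FiniteDimensional F V] (h : Rel Q u v a b) {w : G} (hw : w ∈ W a b) (c : F) :
    ∃ w1 ∈ W a u, ∃ δ : F, w⁻¹ * (j (tE Q u (c • v)) * w * (j (tE Q u (c • v)))⁻¹) =
      w1 * j (tE Q a (δ • b)) := by
  obtain ⟨β, hβ⟩ := ph_W D.toDbl h.ab hw
  obtain ⟨hd, hph⟩ := ph_c1 D h hw c hβ
  obtain ⟨w1, hw1, hφ1⟩ := surj_W D.toDbl h.ua.symm (β * c)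
  have hw1V := mem_Vs h.ua.symm hw1
  have pv : polar Q u (c • v) = 0 := by rw [polar_smul_right, h.uv.perp, smul_zero]
  have hqa := h.ab.qu
  -- commuting elements
  have hcomm : ∀ {x z : V}, T Q x z u = u → tE Q x z * tE Q u v = tE Q u v * tE Q x z →
      tE Q x z * tE Q a b = tE Q a b * tE Q x z → tE Q x z * tE Q a u = tE Q a u * tE Q x z →
      Commute (j (tE Q x z)) (w1⁻¹ * (w⁻¹ * (j (tE Q u (c • v)) * w * (j (tE Q u (c • v)))⁻¹))) := by
    intro x z h0 h1 h2 h3
    have k1 : Commute (j (tE Q x z)) w := D.cent h.ab hw h2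
    have k2 : Commute (j (tE Q x z)) w1 := D.cent h.ua.symm hw1 h3
    have k3 : Commute (j (tE Q x z)) (j (tE Q u (c • v))) := by
      show j _ * j _ = j _ * j _
      rw [← map_mul, ← map_mul]
      congr 1
      -- `T x z` maps `v` to `v + e u`
      have e1 := tE_conj (tE Q x z) u v
      rw [h1, mul_inv_cancel_right, coe_tE, h0] at e1
      have hp : polar Q u (T Q x z v) = 0 := by
        have := polar_map' (Q := Q) (tE Q x z) u v
        rw [coe_tE, h0] at this
        rw [this, h.uv.perp]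
      obtain ⟨e, he⟩ := (tE_eq_iff D.kf.nondeg h.uv.qu h.uv.ne h.uv.perp hp).1 e1
      have e2 := tE_conj (tE Q x z) u (c • v)
      rw [coe_tE, h0, map_smul, he, smul_add, smul_smul, tE_add_smul h.uv.qu pv] at e2
      exact mul_inv_eq_iff_eq_mul.1 e2
    exact k2.inv_right.mul_right (commute_comm k1 k3)
  obtain ⟨y0, hy0, hy⟩ := D.fixR hqa h.ab.ne (mul_mem (inv_mem hw1V) hd) (by
    rw [Vs_ph_mul D.toDbl hqa (inv_mem hw1V) hd, Vs_ph_inv D.toDbl hqa hw1V, hφ1, hph, inv_mul_cancel])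
  rw [hy] at hcomm
  have hqu := h.uv.qu
  have hua := h.ua.perp
  have hau : polar Q a u = 0 := h.ua.perp'
  have hba : polar Q b a = 0 := h.ab.perp'
  have hbu : polar Q b u = 0 := by rw [polar_comm]; exact h.ub
  have hbv : polar Q b v = 1 := by rw [polar_comm]; exact h.vb
  -- `T u b`
  have e1 : polar Q u y0 = 0 ∧ polar Q b y0 = 0 := by
    have k0 : T Q u b u = u := T_id hqu h.ub (polar_self2 u) hbu
    have ka : T Q u b a = a := T_id hqu h.ub hua hba
    have kb : T Q u b b = b := T_id hqu h.ub h.ub (polar_self2 b)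
    obtain ⟨e, he⟩ := D.comm_vec hqa h.ab.ne hy0 (k := tE Q u b) ka (hcomm k0 (tE_comm hqu h.ub h.uv.perp)
      (tE_comm_of ka kb) (tE_comm_of ka k0))
    rw [coe_tE, T_apply2 hqu h.ub, h.ab.qw, zero_mul, add_zero] at he
    have he' : polar Q u y0 • b + polar Q b y0 • u = e • a := by
      have : y0 + (polar Q u y0 • b + polar Q b y0 • u) = y0 + e • a := by rw [← he]; abel
      exact add_left_cancel this
    have h5 : polar Q v (polar Q u y0 • b + polar Q b y0 • u) = polar Q v (e • a) := by rw [he']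
    rw [polar_add_right, polar_smul_right, polar_smul_right, polar_smul_right, h.vb, h.va, h.uv.perp'] at h5
    have h6 : polar Q u y0 = 0 := by simpa using h5
    rw [h6, zero_smul, zero_add] at he'
    refine ⟨h6, ?_⟩
    have := h.ua.coeff (a := polar Q b y0) (b := -e) (by rw [he']; module)
    exact this.1
  -- `T u x`
  have e2 : ∀ x, polar Q u x = 0 → polar Q v x = 0 → polar Q a x = 0 → polar Q b x = 0 → polar Q y0 x = 0 := by
    intro x hux hvx hax hbx
    have k0 : T Q u x u = u := T_id hqu hux (polar_self2 u) (by rw [polar_comm]; exact hux)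
    have ka : T Q u x a = a := T_id hqu hux hua (by rw [polar_comm]; exact hax)
    have kb : T Q u x b = b := T_id hqu hux h.ub (by rw [polar_comm]; exact hbx)
    obtain ⟨e, he⟩ := D.comm_vec hqa h.ab.ne hy0 (k := tE Q u x) ka (hcomm k0 (tE_comm hqu hux h.uv.perp)
      (tE_comm_of ka kb) (tE_comm_of ka k0))
    rw [coe_tE, T_perp2 hqu hux e1.1] at he
    have he' := add_left_cancel he
    have := h.ua.coeff (a := polar Q x y0) (b := -e) (by rw [he']; module)
    rw [polar_comm]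
    exact this.1
  -- hence `y0 ∈ ⟨u,v,a,b⟩`
  have hmem : y0 ∈ Submodule.span F ({u, v, a, b} : Set V) := by
    by_contra hn
    obtain ⟨z, hz1, hz2⟩ := exists_sep_sub D.kf.nondeg hn
    have hz3 : ∀ s ∈ ({u, v, a, b} : Set V), polar Q s z = 0 := fun s hs => hz2 s (Submodule.subset_span hs)
    have h1 := e2 z (hz3 u (by simp)) (hz3 v (by simp)) (hz3 a (by simp)) (hz3 b (by simp))
    rw [h1] at hz1
    exact zero_ne_one hz1
  rw [Submodule.mem_span_insert] at hmem
  obtain ⟨α, z, hz, e3⟩ := hmem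
  rw [Submodule.mem_span_insert] at hz
  obtain ⟨β', z', hz', rfl⟩ := hz
  obtain ⟨γ, δ, rfl⟩ := Submodule.mem_span_pair.1 hz'
  have hβ0 : β' = 0 := by
    have h5 := e1.2
    rw [e3, polar_add_right, polar_add_right, polar_add_right, polar_smul_right, polar_smul_right,
      polar_smul_right, polar_smul_right, hbu, hbv, hba, polar_self2] at h5
    simpa using h5
  have pu' : polar Q a (α • u) = 0 := by rw [polar_smul_right, hau, smul_zero]
  have pb' : polar Q a (δ • b) = 0 := by rw [polar_smul_right, h.ab.perp, smul_zero]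
  refine ⟨w1 * j (tE Q a (α • u)), mul_mem hw1 (D.X_le α h.ua.symm), δ, ?_⟩
  rw [mul_assoc w1, D.rmul hqa pu' pb', ← inv_mul_eq_iff_eq_mul, hy]
  have : y0 = (α • u + δ • b) + γ • a := by rw [e3, hβ0]; module
  rw [this, tE_add_smul hqa (by rw [polar_add_right, pu', pb', add_zero])]

/-- (3c'): `[W_m, X_l] ≤ W_{l+m}` -/
theorem c1 [FiniteDimensional F V] (h : Rel Q u v a b) {w : G} (hw : w ∈ W a b) (c : F) :
    w⁻¹ * (j (tE Q u (c • v)) * w * (j (tE Q u (c • v)))⁻¹) ∈ W a u := by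
  have hqu := h.uv.qu
  have hqa := h.ab.qu
  have pv : ∀ c : F, polar Q u (c • v) = 0 := fun c => by rw [polar_smul_right, h.uv.perp, smul_zero]
  have pu : ∀ d : F, polar Q a (d • u) = 0 := fun d => by
    rw [polar_smul_right, polar_comm, h.ua.perp, smul_zero]
  have pb : ∀ d : F, polar Q a (d • b) = 0 := fun d => by rw [polar_smul_right, h.ab.perp, smul_zero]
  -- `k` commutes with `W a u`
  have hk1 : ∀ c : F, ∀ {w1 : G}, w1 ∈ W a u → Commute (j (tE Q u (c • v))) w1 := by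
    intro c w1 hw1
    exact D.cR h.ua (by rw [D.swap h.ua]; exact hw1) (pv c)
  have ka : ∀ c : F, T Q u (c • v) a = a := fun c =>
    T_id h.uv.qu (pv c) h.ua.perp (by rw [polar_smul_left, h.va, smul_zero])
  have kb : ∀ c : F, T Q u (c • v) b = b + c • u := fun c => by
    rw [T_perp2 h.uv.qu (pv c) h.ub, polar_smul_left, h.vb]; simp
  have kδ : ∀ c δ : F, j (tE Q u (c • v)) * j (tE Q a (δ • b)) * (j (tE Q u (c • v)))⁻¹ =
      j (tE Q a (δ • b)) * j (tE Q a ((δ * c) • u)) := by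
    intro c δ
    rw [D.rconj, coe_tE, ka, map_smul, kb, D.rmul hqa (pb _) (pu _), smul_add, smul_smul]
  by_cases h2 : ∀ c : F, c = 0 ∨ c = 1
  · obtain ⟨w1, hw1, δ, e⟩ := P1 D h hw c
    rcases h2 c with hc | hc
    · rw [hc, zero_smul, tE_zero_right, map_one, one_mul, inv_one, mul_one, inv_mul_cancel]
      exact one_mem _
    subst hc
    rcases h2 δ with hδ | hδ
    · rw [e, hδ, zero_smul, tE_zero_right, map_one, mul_one]
      exact hw1
    · exfalso
      subst hδ
      generalize hk : j (tE Q u ((1 : F) • v)) = k at *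
      have hkk : k * k = 1 := by
        rw [← hk, ← map_mul, tE_mul_self hqu (pv 1), map_one]
      have e1 : k * (w⁻¹ * (k * w * k⁻¹)) * k⁻¹ = (w⁻¹ * (k * w * k⁻¹))⁻¹ := by
        have : k * (w⁻¹ * (k * w * k⁻¹)) * k⁻¹ = k * w⁻¹ * k⁻¹ * ((k * k) * w * (k * k)⁻¹) := by group
        rw [this, hkk]; group
      rw [e] at e1
      have e2 : k * (w1 * j (tE Q a ((1 : F) • b))) * k⁻¹ =
          (k * w1 * k⁻¹) * (k * j (tE Q a ((1 : F) • b)) * k⁻¹) := by group
      have hkw : k * w1 * k⁻¹ = w1 := by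
        have := hk1 1 hw1
        rw [hk] at this
        rw [this.eq, mul_inv_cancel_right]
      have kδ' := kδ 1 1
      rw [hk] at kδ'
      rw [e2, hkw, kδ', mul_inv_rev, ← map_inv, tE_inv hqa (pb _), one_mul] at e1
      have hw11 := D.sq h2 h.ua.symm hw1
      have hcw : Commute (j (tE Q a ((1 : F) • b))) w1 := D.cR h.ua.symm hw1 (pb _)
      have hw1i : w1⁻¹ = w1 := inv_eq_of_mul_eq_one_left hw11
      rw [hw1i, hcw.eq] at e1
      have e3 : j (tE Q a ((1 : F) • u)) = 1 := by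
        have := mul_left_cancel (mul_left_cancel (e1.trans (by rw [mul_one])) :
          j (tE Q a ((1 : F) • b)) * j (tE Q a ((1 : F) • u)) = j (tE Q a ((1 : F) • b)) * 1)
        exact this
      have e4 : j (tE Q a 0) = j (tE Q a ((1 : F) • u)) := by rw [tE_zero_right, map_one, e3]
      obtain ⟨c', hc'⟩ := r_inj D.toDbl D.kf hqa h.ab.ne (polar_zero_right _ _) (pu 1) e4
      exact h.ua.symm.ind c' (by rw [one_smul, zero_add] at hc'; exact hc')
  · push Not at h2
    obtain ⟨κ, hκ0, hκ1⟩ := h2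
    have hκ' : 1 + κ ≠ 0 := by
      intro h
      exact hκ1 (by rw [← CharTwo.neg_eq (1 : F)]; exact (neg_eq_of_add_eq_zero_right h).symm)
    -- it suffices to treat `(1 + κ) c`
    obtain ⟨d, hd⟩ : ∃ d : F, c = (1 + κ) * d := ⟨(1 + κ)⁻¹ * c, by rw [← mul_assoc, mul_inv_cancel₀ hκ', one_mul]⟩
    obtain ⟨w1, hw1, δ, e⟩ := P1 D h hw d
    obtain ⟨u', hH, hv', ha', hb'⟩ := rel_u' D.kf h
    obtain ⟨h0, s1, -, s2⟩ := D.kf.scal hH hκ0
    have hhv : (h0 : V ≃ₗ[F] V) v = v := s2 v h.uv.perp hv'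
    have hha : (h0 : V ≃ₗ[F] V) a = a := s2 a h.ua.perp ha'
    have hhb : (h0 : V ≃ₗ[F] V) b = b := s2 b h.ub hb'
    have c0 : Commute (j h0) w := D.cent h.ab hw (by
      have := tE_conj h0 a b
      rw [hha, hhb] at this
      exact mul_inv_eq_iff_eq_mul.1 this)
    have c1 : j h0 * j (tE Q u (d • v)) * (j h0)⁻¹ = j (tE Q u ((κ * d) • v)) := by
      rw [D.rconj, s1, map_smul, hhv, tE_smul_left κ hqu (pv _), smul_smul]
    have c2 : j h0 * j (tE Q a (δ • b)) * (j h0)⁻¹ = j (tE Q a (δ • b)) := by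
      rw [D.rconj, hha, map_smul, hhb]
    have c3 : j h0 * w1 * (j h0)⁻¹ ∈ W a u := by
      have := D.conj h0 h.ua.symm hw1
      rw [hha, s1, D.smul h.ua.symm hκ0] at this
      exact this
    have e1 : w⁻¹ * (j (tE Q u ((κ * d) • v)) * w * (j (tE Q u ((κ * d) • v)))⁻¹) =
        (j h0 * w1 * (j h0)⁻¹) * j (tE Q a (δ • b)) := by
      have hcc : j h0 * w⁻¹ * (j h0)⁻¹ = w⁻¹ := by rw [c0.inv_right.eq, mul_inv_cancel_right]
      have hcc2 : j h0 * w * (j h0)⁻¹ = w := by rw [c0.eq, mul_inv_cancel_right]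
      calc w⁻¹ * (j (tE Q u ((κ * d) • v)) * w * (j (tE Q u ((κ * d) • v)))⁻¹)
          = (j h0 * w⁻¹ * (j h0)⁻¹) * ((j h0 * j (tE Q u (d • v)) * (j h0)⁻¹) * (j h0 * w * (j h0)⁻¹) *
            (j h0 * j (tE Q u (d • v)) * (j h0)⁻¹)⁻¹) := by rw [hcc, hcc2, c1]
        _ = j h0 * (w⁻¹ * (j (tE Q u (d • v)) * w * (j (tE Q u (d • v)))⁻¹)) * (j h0)⁻¹ := by group
        _ = j h0 * (w1 * j (tE Q a (δ • b))) * (j h0)⁻¹ := by rw [e]
        _ = (j h0 * w1 * (j h0)⁻¹) * (j h0 * j (tE Q a (δ • b)) * (j h0)⁻¹) := by group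
        _ = _ := by rw [c2]
    have ec : j (tE Q u (c • v)) = j (tE Q u (d • v)) * j (tE Q u ((κ * d) • v)) := by
      rw [D.rmul hqu (pv _) (pv _), ← add_smul, hd]
      congr 3
      ring
    generalize j h0 * w1 * (j h0)⁻¹ = w2 at *
    have hk3 := hk1 d c3
    have hkδ := kδ d δ
    rw [ec]
    generalize j (tE Q u (d • v)) = k at *
    generalize j (tE Q u ((κ * d) • v)) = k' at *
    have e2 : w⁻¹ * (k * k' * w * (k * k')⁻¹) = (w1 * j (tE Q a (δ • b))) *
        (w2 * (j (tE Q a (δ • b)) * j (tE Q a ((δ * d) • u)))) := by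
      have : w⁻¹ * (k * k' * w * (k * k')⁻¹) = (w⁻¹ * (k * w * k⁻¹)) * (k * (w⁻¹ * (k' * w * k'⁻¹)) * k⁻¹) := by
        group
      rw [this, e, e1]
      have h5 : k * (w2 * j (tE Q a (δ • b))) * k⁻¹ = (k * w2 * k⁻¹) * (k * j (tE Q a (δ • b)) * k⁻¹) := by group
      rw [h5, hkδ, hk3.eq, mul_inv_cancel_right]
    rw [e2]
    have hcw : Commute (j (tE Q a (δ • b))) w2 := D.cR h.ua.symm c3 (pb _)
    have hbb : j (tE Q a (δ • b)) * j (tE Q a (δ • b)) = 1 := by
      rw [← map_mul, tE_mul_self hqa (pb _), map_one]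
    have e3 : (w1 * j (tE Q a (δ • b))) * (w2 * (j (tE Q a (δ • b)) * j (tE Q a ((δ * d) • u)))) =
        w1 * w2 * j (tE Q a ((δ * d) • u)) := by
      calc (w1 * j (tE Q a (δ • b))) * (w2 * (j (tE Q a (δ • b)) * j (tE Q a ((δ * d) • u))))
          = w1 * (j (tE Q a (δ • b)) * w2) * (j (tE Q a (δ • b)) * j (tE Q a ((δ * d) • u))) := by group
        _ = w1 * w2 * (j (tE Q a (δ • b)) * j (tE Q a (δ • b))) * j (tE Q a ((δ * d) • u)) := by
            rw [hcw.eq]; group
        _ = _ := by rw [hbb, mul_one]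
    rw [e3]
    exact mul_mem (mul_mem hw1 c3) (D.X_le _ h.ua.symm)

end c1

end Cfsg.Agent.OddHalf.Orth.Lines
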