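import Cfsg.Agent.OddHalf.Orth.OutDat
import Cfsg.Agent.OddHalf.Orth.C01
import Cfsg.Agent.OddHalf.Orth.PZero
import Cfsg.Agent.OddHalf.Orth.ExMain
import Cfsg.Agent.OddHalf.Orth.SitOf
import Cfsg.Agent.OddHalf.D7Out.TwGlue
import Cfsg.Agent.OddHalf.D7Out.TwFrame
import Cfsg.Agent.OddHalf.D7Out.FrontCyc
import Cfsg.Agent.OddHalf.D7Out.PZeroU

/-!
# ODD D7, `K = Ω^-(V)`: the row, from the facts on `K` (helper490)

`KSide Q n e f` : the facts on `↥(E Q)`; `end_of` : the END (outer 2-part allowed) from `Full`;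
`false_of` : the row from `KSide` and the existence of the doubled long root groups.
-/

set_option autoImplicit false
set_option linter.unusedSectionVars false

namespace Cfsg.Agent.OddHalf.Orth.RowMain

open QuadraticMap Cfsg.Agent.LieClassical.OrthCore Cfsg.Agent.LieClassical.OrthTrans
  Cfsg.Agent.ClassicalGeometry.OrthAutBasic Cfsg.Agent.ClassicalGeometry.OrthAutRoot
  Cfsg.Agent.ClassicalGeometry.OrthAutSylow Cfsg.Agent.OddHalf.Orth
  Cfsg.Agent.OddHalf.Orth.Face Cfsg.Agent.OddHalf.Orth.Star Cfsg.Agent.OddHalf.Orth.Lay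
  Cfsg.Agent.OddHalf.Orth.FlagDef Cfsg.Agent.OddHalf.Orth.End Cfsg.Agent.OddHalf.Orth.Lines
  Cfsg.Agent.OddHalf.Orth.OutDat Cfsg.Agent.OddHalf.Orth.PZero Cfsg.Agent.OddHalf.D7Out
  Cfsg.Agent.OddHalf.D7Out.TwChoice
open Cfsg.Agent.OddHalf.Orth.Equiv (Us)

universe u

variable {F V : Type*} [Field F] [AddCommGroup V] [Module F V] {Q : QuadraticForm F V}
variable {G : Type u} [Group G] {t : G} {j : ↥(E Q) →* G} {W : V → V → Subgroup G}
variable {n : ℕ} {e f : ℕ → V}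

theorem XX_eq [CharP F 2] (j : ↥(E Q) →* G) {u v : V} (h : Ln Q u v) :
    XX Q j u v = (X Q u v h.qu h.perp).map j := by
  ext g
  rw [mem_XX j h]
  constructor
  · rintro ⟨c, rfl⟩
    exact ⟨_, mem_X.2 ⟨c, rfl⟩, rfl⟩
  · rintro ⟨x, hx, rfl⟩
    obtain ⟨c, rfl⟩ := mem_X.1 hx
    exact ⟨c, rfl⟩

/-- `p ∈ C(t)` normalises the images of the root groups `R_{e i}`, `R_{f i}` of the frame -/
def NFrame (Q : QuadraticForm F V) (j : ↥(E Q) →* G) (n : ℕ) (e f : ℕ → V) (p : G) : Prop :=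
  (∀ i < n, ∀ x, polar Q (e i) x = 0 → p⁻¹ * j (tE Q (e i) x) * p ∈ Ru Q j (e i)) ∧
    ∀ i < n, ∀ x, polar Q (f i) x = 0 → p⁻¹ * j (tE Q (f i) x) * p ∈ Ru Q j (f i)

section End

variable [CharP F 2] [Finite F]

open Cfsg.Agent.OddHalf.D7Out.OddGen in
/-- **The END**, outer 2-part allowed. -/
theorem end_of [Finite G] (hG : commutator G = ⊤) (D : Full Q t j W) (hP : Par Q) (hB : Big Q)
    (hF : FlagDef.Flag Q n e f) (hn : 3 ≤ n) (hd : HasDelta Q n e f)
    (hne : ∃ a ∈ Yv Q e f (n - 1), a ≠ 0) (han : ∀ y ∈ Yv Q e f (n - 1), Q y = 0 → y = 0)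
    {Y P T : Subgroup G} (O : Out t t j.range Y (UU Q j e f n) P T) (hcyc : CycT t t j.range)
    (hY : ∀ p ∈ P, NFrame Q j n e f p) : False := by
  have := hP.fd
  have tt := D.tt
  have K_t : ∀ x ∈ j.range, x * t = t * x := by
    rintro _ ⟨k, rfl⟩
    exact (D.tj k).symm
  have t_K : t ∉ j.range := by
    rintro ⟨k, hk⟩
    exact D.tK k hk
  have U_K : UU Q j e f n ≤ j.range := Subgroup.map_le_range _ _
  have hln := ln01 D hF hn
  have hact : ∀ p ∈ P, ∃ (M : V ≃+ V) (σ : F ≃+* F), Equiv.Act Q t j p M σ ∧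
      (∀ i < n, ∃ c : F, M (e i) = c • e i) ∧ ∀ i < n, ∃ c : F, M (f i) = c • f i := by
    intro p hp
    obtain ⟨M, σ, A⟩ := Equiv.exists_act D.toSit (O.tc p (O.PT hp))
    refine ⟨M, σ, A, fun i hi => ?_, fun i hi => ?_⟩
    · obtain ⟨c, -, hc⟩ := Equiv.point_of_norm hB A D.inj (hF.hyp i hi).left (hF.hyp i hi).left_ne ((hY p hp).1 i hi)
      exact ⟨c, hc⟩
    · obtain ⟨c, -, hc⟩ := Equiv.point_of_norm hB A D.inj (hF.hyp i hi).right (hF.hyp i hi).right_ne
        ((hY p hp).2 i hi)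
      exact ⟨c, hc⟩
  refine TwGlue.false_of (PP := OddGen) (Us := Us Q W e f n) (W := W (e 0) (e 1)) (X := XX Q j (e 0) (e 1))
    hG O hcyc
    { tt := tt
      K_t := K_t
      t_K := t_K
      U_K := U_K
      hconj := PZeroU.hconj
      hS := ?_
      U_Us := UU_le D hB hF hn hd
      Us2 := pgroup_Us D hB hF hn hd
      P_Us := fun x hx y hy => Equiv.Us_conj_Y hB D hF (O.tc x (O.PT hx)) (hY x hx).1 (hY x hx).2 hy
      CUs := fun x hx h => mem_UU D hB hF hn hd hx h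
      W_Us := W_le_Us D hF hn
      W_cent := fun w hw x hx => comm_Us D hB hF hn hd hw hx
      hfree := fun x hx h => exists_conj D hB hF hn hd hx h
      c01 := ?_
      f3 := ?_
      cardW := card_W D.toDbl D.kf hln
      X_ne := XX_ne D.toDbl D.kf hln }
  · -- `hS`
    refine PZeroU.hS tt t_K K_t (norm_range D.toSit) O.pT O.tc O.odd_relIndex U_K ?_
    obtain ⟨y, hy, h1⟩ := O.cyc_T hcyc
    refine ⟨y, O.PT hy, fun x hx => ?_⟩
    obtain ⟨i, r, hr, u, hu, rfl⟩ := h1 x hx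
    refine ⟨-i, ?_⟩
    have e1 : y ^ (-i) * (y ^ i * r * u) = r * u := by
      rw [zpow_neg]; group
    rw [e1]
    obtain ⟨k, rfl⟩ := Subgroup.mem_zpowers_iff.1 hr
    rcases Int.even_or_odd' k with ⟨c, rfl | rfl⟩
    · left
      rw [zpow_mul, zpow_ofNat, pow_two, tt, one_zpow, one_mul]
      exact hu
    · right
      rw [zpow_add, zpow_mul, zpow_ofNat, pow_two, tt, one_zpow, zpow_one, one_mul, ← mul_assoc, tt, one_mul]
      exact hu
  · -- `c01`
    intro g hg hgg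
    obtain ⟨M, σ, A, h1, h2⟩ := hact g hg
    exact C01.c01 D hF hn hne han A.comm hgg A.sem A.act h1 h2
      (fun {x y} hxy w hw => Equiv.W_conj hB D A hxy hw)
  · -- `f3`
    rw [XX_eq j hln]
    exact f3_O D.toSit D.kf hP hF (by omega) O.tc

end End

end Cfsg.Agent.OddHalf.Orth.RowMain
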