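import Cfsg.Agent.OddHalf.Orth.Face

/-!
# ODD D7, `K = Ω(V)`: the group `V*_u` generated by the doubled root groups through the point `u`
-/

set_option autoImplicit false

namespace Cfsg.Agent.OddHalf.Orth.Star

open QuadraticMap Cfsg.Agent.LieClassical.OrthCore Cfsg.Agent.LieClassical.OrthTrans
  Cfsg.Agent.ClassicalGeometry.OrthAutBasic Cfsg.Agent.ClassicalGeometry.OrthAutRoot Cfsg.Agent.OddHalf.Orth
  Cfsg.Agent.OddHalf.Orth.Face

variable {F V : Type*} [Field F] [AddCommGroup V] [Module F V] {Q : QuadraticForm F V}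
variable {G : Type*} [Group G] {t : G} {j : ↥(E Q) →* G} {W : V → V → Subgroup G}

/-- `[g, t]` -/
def ph (t g : G) : G := g⁻¹ * (t * g * t)

theorem ph_def (t g : G) : ph t g = g⁻¹ * (t * g * t) := rfl

theorem ph_mul_of {t : G} (ht : t * t = 1) {f g : G} (h : ph t f * g = g * ph t f) :
    ph t (f * g) = ph t f * ph t g := by
  have e1 : ph t (f * g) = g⁻¹ * (ph t f * (t * g * t)) := by
    rw [ph_def, ph_def]
    calc (f * g)⁻¹ * (t * (f * g) * t) = g⁻¹ * f⁻¹ * t * f * 1 * g * t := by group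
      _ = g⁻¹ * f⁻¹ * t * f * (t * t) * g * t := by rw [ht]
      _ = _ := by group
  have e2 : g⁻¹ * ph t f = ph t f * g⁻¹ := by
    rw [inv_mul_eq_iff_eq_mul, ← mul_assoc, ← h, mul_inv_cancel_right]
  rw [e1, ← mul_assoc, e2, mul_assoc]
  rfl

theorem ph_eq_one {t : G} (ht : t * t = 1) {g : G} : ph t g = 1 ↔ g * t = t * g := by
  have ti : t⁻¹ = t := inv_eq_of_mul_eq_one_left ht
  rw [ph_def, inv_mul_eq_one]
  constructor
  · intro h
    calc g * t = t * g * t * t := by rw [← h]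
      _ = t * g * (t * t) := by group
      _ = t * g := by rw [ht, mul_one]
  · intro h
    rw [← h, mul_assoc, ht, mul_one]

theorem ph_inv_of {t : G} (ht : t * t = 1) {f : G} (h : ph t f * f = f * ph t f) :
    ph t f⁻¹ = (ph t f)⁻¹ := by
  have h' : ph t f * f⁻¹ = f⁻¹ * ph t f := by
    rw [eq_inv_mul_iff_mul_eq, ← mul_assoc, ← h, mul_inv_cancel_right]
  have e := ph_mul_of ht h'
  rw [mul_inv_cancel] at e
  rw [eq_comm, inv_eq_iff_mul_eq_one, ← e, ph_def, inv_one, one_mul, mul_one, ht]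

theorem ph_conj {t k : G} (hk : t * k = k * t) (g : G) : ph t (k * g * k⁻¹) = k * ph t g * k⁻¹ := by
  have h' : k⁻¹ * t = t * k⁻¹ := by
    rw [inv_mul_eq_iff_eq_mul, ← mul_assoc, ← hk, mul_inv_cancel_right]
  rw [ph_def, ph_def]
  calc (k * g * k⁻¹)⁻¹ * (t * (k * g * k⁻¹) * t) = k * g⁻¹ * k⁻¹ * (t * k) * g * (k⁻¹ * t) := by group
    _ = k * g⁻¹ * k⁻¹ * (k * t) * g * (t * k⁻¹) := by rw [hk, h']
    _ = _ := by group

end Cfsg.Agent.OddHalf.Orth.Star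

namespace Cfsg.Agent.OddHalf.Orth.Face

open QuadraticMap Cfsg.Agent.LieClassical.OrthCore Cfsg.Agent.LieClassical.OrthTrans
  Cfsg.Agent.ClassicalGeometry.OrthAutBasic Cfsg.Agent.ClassicalGeometry.OrthAutRoot Cfsg.Agent.OddHalf.Orth
  Cfsg.Agent.OddHalf.Orth.Star

variable {F V : Type*} [Field F] [AddCommGroup V] [Module F V] {Q : QuadraticForm F V}
variable {G : Type*} [Group G] {t : G} {j : ↥(E Q) →* G} {W : V → V → Subgroup G}

namespace Sit

theorem t_inv (S : Sit Q t j) : t⁻¹ = t := inv_eq_of_mul_eq_one_left S.tt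

theorem rconj (_S : Sit Q t j) (k : ↥(E Q)) (u x : V) :
    j k * j (tE Q u x) * (j k)⁻¹ = j (tE Q ((k : V ≃ₗ[F] V) u) ((k : V ≃ₗ[F] V) x)) := by
  rw [← map_mul, ← map_inv, ← map_mul, tE_conj]

theorem rmul (_S : Sit Q t j) {u w w' : V} (hu : Q u = 0) (hw : polar Q u w = 0) (hw' : polar Q u w' = 0) :
    j (tE Q u w) * j (tE Q u w') = j (tE Q u (w + w')) := by
  rw [← map_mul, tE_mul hu hw hw']

/-- An element of `C_G(t)` acting on `V` as an element of `K` is in `K` or `tK`. -/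
theorem of_act (S : Sit Q t j) {g : G} (hg : g * t = t * g) {M : V → V}
    (hM : ∀ u x, Q u = 0 → polar Q u x = 0 → g * j (tE Q u x) * g⁻¹ = j (tE Q (M u) (M x)))
    {k : ↥(E Q)} (hk : ∀ v, M v = (k : V ≃ₗ[F] V) v) : g = j k ∨ g = t * j k := by
  have h1 : (j k)⁻¹ * g * t = t * ((j k)⁻¹ * g) := by
    have h2 := S.tj k⁻¹
    rw [map_inv] at h2
    rw [mul_assoc, hg, ← mul_assoc, ← h2, mul_assoc]
  have h2 : ∀ u x, Q u = 0 → polar Q u x = 0 →
      (j k)⁻¹ * g * j (tE Q u x) = j (tE Q u x) * ((j k)⁻¹ * g) := by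
    intro u x hu hx
    have h3 := hM u x hu hx
    rw [hk, hk, ← S.rconj k u x] at h3
    have h4 : g * j (tE Q u x) = j k * j (tE Q u x) * (j k)⁻¹ * g := by
      rw [← h3]; group
    rw [mul_assoc, h4]; group
  rcases S.ker _ h1 h2 with h | h
  · left
    rw [inv_mul_eq_one] at h
    exact h.symm
  · right
    rw [inv_mul_eq_iff_eq_mul] at h
    rw [h, S.tj]

/-- `C_{C(t)}(R_u) = ⟨t⟩ R_u` -/
theorem cR (S : Sit Q t j) (hK : KFacts Q) {g : G} (hg : g * t = t * g) {u : V} (hu : Q u = 0) (hu0 : u ≠ 0)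
    (hx : ∀ x, polar Q u x = 0 → g * j (tE Q u x) = j (tE Q u x) * g) :
    ∃ y, polar Q u y = 0 ∧ (g = j (tE Q u y) ∨ g = t * j (tE Q u y)) := by
  obtain ⟨M, σ, hM, hact⟩ := S.act g hg
  obtain ⟨y, hy, hMy⟩ := hK.cent1 hM hu hu0 (by
    intro x hxx
    apply S.inj
    rw [← hact u x hu hxx, hx x hxx, mul_inv_cancel_right])
  exact ⟨y, hy, S.of_act hg hact (k := tE Q u y) hMy⟩

end Sit

end Cfsg.Agent.OddHalf.Orth.Face

namespace Cfsg.Agent.OddHalf.Orth.Star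

open QuadraticMap Cfsg.Agent.LieClassical.OrthCore Cfsg.Agent.LieClassical.OrthTrans
  Cfsg.Agent.ClassicalGeometry.OrthAutBasic Cfsg.Agent.ClassicalGeometry.OrthAutRoot Cfsg.Agent.OddHalf.Orth
  Cfsg.Agent.OddHalf.Orth.Face

variable {F V : Type*} [Field F] [AddCommGroup V] [Module F V] {Q : QuadraticForm F V}
variable {G : Type*} [Group G] {t : G} {j : ↥(E Q) →* G} {W : V → V → Subgroup G}

/-- `V*_u` -/
def Vs (Q : QuadraticForm F V) (W : V → V → Subgroup G) (u : V) : Subgroup G :=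
  Subgroup.closure {w | ∃ v, Ln Q u v ∧ w ∈ W u v}

theorem mem_Vs {u v : V} (h : Ln Q u v) {w : G} (hw : w ∈ W u v) : w ∈ Vs Q W u :=
  Subgroup.subset_closure ⟨v, h, hw⟩

/-- `R_u` -/
def Ru (Q : QuadraticForm F V) (j : ↥(E Q) →* G) (u : V) : Set G := {g | ∃ x, polar Q u x = 0 ∧ g = j (tE Q u x)}

theorem Ru_mem {u x : V} (hx : polar Q u x = 0) : j (tE Q u x) ∈ Ru Q j u := ⟨x, hx, rfl⟩

theorem Ru_one {u : V} : (1 : G) ∈ Ru Q j u :=
  ⟨0, polar_zero_right _ _, by rw [tE_zero_right, map_one]⟩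

theorem Ru_mul {u : V} (hu : Q u = 0) {a b : G} (ha : a ∈ Ru Q j u) (hb : b ∈ Ru Q j u) : a * b ∈ Ru Q j u := by
  obtain ⟨x, hx, rfl⟩ := ha
  obtain ⟨y, hy, rfl⟩ := hb
  exact ⟨x + y, by rw [polar_add_right, hx, hy, add_zero], by rw [← map_mul, tE_mul hu hx hy]⟩

theorem Ru_inv {u : V} (hu : Q u = 0) {a : G} (ha : a ∈ Ru Q j u) : a⁻¹ ∈ Ru Q j u := by
  obtain ⟨x, hx, rfl⟩ := ha
  have hx' : polar Q u (-x) = 0 := by rw [polar_neg_right, hx, neg_zero]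
  refine ⟨-x, hx', ?_⟩
  rw [inv_eq_iff_mul_eq_one, ← map_mul, tE_mul hu hx hx', add_neg_cancel, tE_zero_right, map_one]

theorem Ru_comm {u : V} (hu : Q u = 0) {a b : G} (ha : a ∈ Ru Q j u) (hb : b ∈ Ru Q j u) : a * b = b * a := by
  obtain ⟨x, hx, rfl⟩ := ha
  obtain ⟨y, hy, rfl⟩ := hb
  rw [← map_mul, tE_comm hu hx hy, map_mul]

theorem Ru_t (D : Dbl Q t j W) {u : V} {a : G} (ha : a ∈ Ru Q j u) : t * a = a * t := by
  obtain ⟨x, hx, rfl⟩ := ha
  exact D.tj _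

variable (D : Dbl Q t j W)
include D

/-- `V*_u` centralises `R_u`. -/
theorem Vs_comm {u : V} (hu : Q u = 0) {f r : G} (hf : f ∈ Vs Q W u) (hr : r ∈ Ru Q j u) : r * f = f * r := by
  obtain ⟨x, hx, rfl⟩ := hr
  rw [Vs] at hf
  induction hf using Subgroup.closure_induction with
  | mem w hw =>
    obtain ⟨v, hv, hw⟩ := hw
    exact D.cent hv hw (tE_comm hu hx hv.perp)
  | one => rw [mul_one, one_mul]
  | mul a b _ _ ha hb => rw [← mul_assoc, ha, mul_assoc, hb, mul_assoc]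
  | inv a _ ha => rw [eq_inv_mul_iff_mul_eq, ← mul_assoc, ← ha, mul_inv_cancel_right]

theorem Vs_ph {u : V} (hu : Q u = 0) {f : G} (hf : f ∈ Vs Q W u) : ph t f ∈ Ru Q j u := by
  have hf' := hf
  rw [Vs] at hf
  induction hf using Subgroup.closure_induction with
  | mem w hw =>
    obtain ⟨v, hv, hw⟩ := hw
    obtain ⟨c, hc⟩ := D.phi hv hw
    exact ⟨c • v, by rw [polar_smul_right, hv.perp, smul_zero], hc⟩
  | one =>
    rw [ph_def, inv_one, one_mul, mul_one, D.tt]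
    exact Ru_one
  | mul a b ha hb iha ihb =>
    have h1 := iha ha
    have h2 := ihb hb
    rw [ph_mul_of D.tt (Vs_comm D hu hb h1)]
    exact Ru_mul hu h1 h2
  | inv a ha iha =>
    have h1 := iha ha
    rw [ph_inv_of D.tt (Vs_comm D hu ha h1)]
    exact Ru_inv hu h1

theorem Vs_ph_mul {u : V} (hu : Q u = 0) {f g : G} (hf : f ∈ Vs Q W u) (hg : g ∈ Vs Q W u) :
    ph t (f * g) = ph t f * ph t g :=
  ph_mul_of D.tt (Vs_comm D hu hg (Vs_ph D hu hf))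

theorem Vs_ph_inv {u : V} (hu : Q u = 0) {f : G} (hf : f ∈ Vs Q W u) : ph t f⁻¹ = (ph t f)⁻¹ :=
  ph_inv_of D.tt (Vs_comm D hu hf (Vs_ph D hu hf))

/-- `φ` maps `V*_u` onto `R_u`, and `R_u ≤ V*_u`. -/
theorem Vs_surj' (hK : KFacts Q) {u : V} (hu : Q u = 0) (hu0 : u ≠ 0) {x : V} (hx : polar Q u x = 0) :
    (∃ f ∈ Vs Q W u, ph t f = j (tE Q u x)) ∧ j (tE Q u x) ∈ Vs Q W u := by
  refine hK.ind_perp hu hu0 (P := fun x => (∃ f ∈ Vs Q W u, ph t f = j (tE Q u x)) ∧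
    j (tE Q u x) ∈ Vs Q W u) ?_ ?_ ?_ x hx
  · intro c
    have e : tE Q u (c • u) = 1 := by
      have := tE_add_smul (Q := Q) hu (polar_zero_right _ u) c
      rw [zero_add] at this
      rw [this, tE_zero_right]
    rw [e, map_one]
    refine ⟨⟨1, one_mem _, ?_⟩, one_mem _⟩
    rw [ph_def, inv_one, one_mul, mul_one, D.tt]
  · rintro x y hx hy ⟨⟨f, hf, hf1⟩, hfm⟩ ⟨⟨g, hg, hg1⟩, hgm⟩
    rw [← D.rmul hu hx hy]
    exact ⟨⟨f * g, mul_mem hf hg, by rw [Vs_ph_mul D hu hf hg, hf1, hg1]⟩, mul_mem hfm hgm⟩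
  · intro v hv
    obtain ⟨w, hw, hw1⟩ := D.surj 1 hv
    have h1 := D.X_le 1 hv
    rw [one_smul] at hw1 h1
    exact ⟨⟨w, mem_Vs hv hw, hw1⟩, mem_Vs hv h1⟩

theorem Ru_le (hK : KFacts Q) {u : V} (hu : Q u = 0) (hu0 : u ≠ 0) {r : G} (hr : r ∈ Ru Q j u) : r ∈ Vs Q W u := by
  obtain ⟨x, hx, rfl⟩ := hr
  exact (Vs_surj' D hK hu hu0 hx).2

/-- an element of `V*_u` commuting with `t` is in `R_u` or `t R_u` -/
theorem Vs_fix' (hK : KFacts Q) {u : V} (hu : Q u = 0) (hu0 : u ≠ 0) {f : G} (hf : f ∈ Vs Q W u)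
    (h : ph t f = 1) : ∃ r ∈ Ru Q j u, f = r ∨ f = t * r := by
  obtain ⟨y, hy, e⟩ := D.cR hK ((ph_eq_one D.tt).1 h) hu hu0
    (fun x hx => (Vs_comm D hu hf (Ru_mem hx)).symm)
  exact ⟨_, Ru_mem hy, e⟩

theorem Vs_conj {u : V} (k : ↥(E Q)) {f : G} (hf : f ∈ Vs Q W u) :
    j k * f * (j k)⁻¹ ∈ Vs Q W ((k : V ≃ₗ[F] V) u) := by
  rw [Vs] at hf
  induction hf using Subgroup.closure_induction with
  | mem w hw =>
    obtain ⟨v, hv, hw⟩ := hw
    exact mem_Vs (hv.map (mem_O' k)) (D.conj k hv hw)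
  | one => rw [mul_one, mul_inv_cancel]; exact one_mem _
  | mul a b _ _ ha hb =>
    have e : j k * (a * b) * (j k)⁻¹ = (j k * a * (j k)⁻¹) * (j k * b * (j k)⁻¹) := by group
    rw [e]; exact mul_mem ha hb
  | inv a _ ha =>
    have e : j k * a⁻¹ * (j k)⁻¹ = (j k * a * (j k)⁻¹)⁻¹ := by group
    rw [e]; exact inv_mem ha

omit D in
theorem Ru_sq [CharP F 2] {u : V} (hu : Q u = 0) {a : G} (ha : a ∈ Ru Q j u) : a * a = 1 := by
  obtain ⟨x, hx, rfl⟩ := ha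
  rw [← map_mul, tE_mul_self hu hx, map_one]

theorem t_notin_Ru {u : V} : t ∉ Ru Q j u := by
  rintro ⟨x, _, h⟩
  exact D.tK _ h.symm

theorem mul_mul_t {u : V} {f r : G} (hr : r ∈ Ru Q j u) (hrf : r * f = f * r) :
    f⁻¹ * (t * r) * f * (t * r) = ph t f * (r * r) := by
  have h1 := Ru_t D hr
  calc f⁻¹ * (t * r) * f * (t * r) = f⁻¹ * t * (r * f) * (t * r) := by group
    _ = f⁻¹ * t * f * (r * t) * r := by rw [hrf]; group
    _ = f⁻¹ * t * f * (t * r) * r := by rw [h1]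
    _ = _ := by rw [ph_def]; group

/-- Commutators of the generators are in `R_u`. -/
theorem comm_gen [CharP F 2] (hK : KFacts Q) {u v w : V} (huv : Ln Q u v) (huw : Ln Q u w) {f g : G}
    (hf : f ∈ W u v) (hg : g ∈ W u w) : f⁻¹ * g⁻¹ * f * g ∈ Ru Q j u := by
  have hu := huv.qu
  have hfV := mem_Vs huv hf
  have hgV := mem_Vs huw hg
  have hfi := inv_mem hfV
  have hgi := inv_mem hgV
  have hph : ph t (f⁻¹ * g⁻¹ * f * g) = 1 := by
    rw [Vs_ph_mul D hu (mul_mem (mul_mem hfi hgi) hfV) hgV, Vs_ph_mul D hu (mul_mem hfi hgi) hfV,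
      Vs_ph_mul D hu hfi hgi, Vs_ph_inv D hu hfV, Vs_ph_inv D hu hgV,
      Ru_comm hu (Ru_inv hu (Vs_ph D hu hfV)) (Ru_inv hu (Vs_ph D hu hgV)),
      inv_mul_cancel_right, inv_mul_cancel]
  obtain ⟨r, hr, e | e⟩ := Vs_fix' D hK hu huv.ne (mul_mem (mul_mem (mul_mem hfi hgi) hfV) hgV) hph
  · rw [e]; exact hr
  · exfalso
    have hX : ∀ {x : G}, x ∈ W u v → ph t x = 1 → x * g = g * x := by
      intro x hx h
      obtain ⟨c, rfl⟩ := D.fix huv hx ((ph_eq_one D.tt).1 h)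
      exact Vs_comm D hu hgV (Ru_mem (by rw [polar_smul_right, huv.perp, smul_zero]))
    have hff : f * f * g = g * (f * f) := by
      apply hX (mul_mem hf hf)
      rw [Vs_ph_mul D hu hfV hfV, Ru_sq hu (Vs_ph D hu hfV)]
    have h1 : f⁻¹ * (f⁻¹ * g⁻¹ * f * g) * f * (f⁻¹ * g⁻¹ * f * g) = 1 := by
      calc f⁻¹ * (f⁻¹ * g⁻¹ * f * g) * f * (f⁻¹ * g⁻¹ * f * g) = (f * f)⁻¹ * g⁻¹ * (f * f * g) := by group
        _ = 1 := by rw [hff]; group
    rw [e, mul_mul_t D hr (Vs_comm D hu hfV hr), Ru_sq hu hr, mul_one] at h1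
    have h2 := hX hf h1
    have h3 : f⁻¹ * g⁻¹ * f * g = 1 := by
      rw [mul_assoc, h2]; group
    rw [h3] at e
    apply t_notin_Ru D (u := u)
    have : t = r⁻¹ := eq_inv_of_mul_eq_one_left e.symm
    rw [this]
    exact Ru_inv hu hr

/-- Commutators in `V*_u` are in `R_u`. -/
theorem comm_Vs [CharP F 2] (hK : KFacts Q) {u : V} (hu : Q u = 0) {f g : G}
    (hf : f ∈ Vs Q W u) (hg : g ∈ Vs Q W u) : f⁻¹ * g⁻¹ * f * g ∈ Ru Q j u := by
  have key : ∀ {x : G}, x ∈ {w | ∃ v, Ln Q u v ∧ w ∈ W u v} → ∀ {y : G}, y ∈ Vs Q W u →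
      x⁻¹ * y⁻¹ * x * y ∈ Ru Q j u := by
    rintro x ⟨v, hv, hx⟩ y hy
    have hxV := mem_Vs hv hx
    have hy' := hy
    rw [Vs] at hy
    induction hy using Subgroup.closure_induction with
    | mem w hw =>
      obtain ⟨v', hv', hw⟩ := hw
      exact comm_gen D hK hv hv' hx hw
    | one => simpa using Ru_one
    | mul a b ha hb iha ihb =>
      have h1 := iha ha
      have h2 := ihb hb
      have e : x⁻¹ * (a * b)⁻¹ * x * (a * b) =
          (x⁻¹ * b⁻¹ * x * b) * (b⁻¹ * ((x⁻¹ * a⁻¹ * x * a) * b)) := by group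
      rw [e, Vs_comm D hu hb h1, inv_mul_cancel_left]
      exact Ru_mul hu h2 h1
    | inv a ha iha =>
      have h1 := Ru_inv hu (iha ha)
      have e : x⁻¹ * a⁻¹⁻¹ * x * a⁻¹ = a * ((x⁻¹ * a⁻¹ * x * a)⁻¹ * a⁻¹) := by group
      rw [e, Vs_comm D hu (inv_mem ha) h1, mul_inv_cancel_left]
      exact h1
  have hf' := hf
  rw [Vs] at hf
  induction hf using Subgroup.closure_induction with
  | mem w hw => exact key hw hg
  | one => simpa using Ru_one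
  | mul a b ha hb iha ihb =>
    have h1 := iha ha
    have h2 := ihb hb
    have e : (a * b)⁻¹ * g⁻¹ * (a * b) * g =
        b⁻¹ * ((a⁻¹ * g⁻¹ * a * g) * b) * (b⁻¹ * g⁻¹ * b * g) := by group
    rw [e, Vs_comm D hu hb h1, inv_mul_cancel_left]
    exact Ru_mul hu h1 h2
  | inv a ha iha =>
    have h1 := Ru_inv hu (iha ha)
    have e : a⁻¹⁻¹ * g⁻¹ * a⁻¹ * g = a * ((a⁻¹ * g⁻¹ * a * g)⁻¹ * a⁻¹) := by group
    rw [e, Vs_comm D hu (inv_mem ha) h1, mul_inv_cancel_left]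
    exact h1

/-- The additivity hypothesis: the product of the doubled root elements of two perpendicular lines
through `u` is a doubled root element of the third line, modulo `R_u` (no factor `t`). -/
def Ad (Q : QuadraticForm F V) (t : G) (j : ↥(E Q) →* G) (W : V → V → Subgroup G) (u : V) : Prop :=
  ∀ {v w : V} {f g h : G}, Ln3 Q u v w → f ∈ W u v → g ∈ W u w → h ∈ W u (v + w) →
    ph t h = ph t f * ph t g → ∃ r ∈ Ru Q j u, h = g * f * r

/-- If `t ∉ V*_u` then `C_{V*_u}(t) = R_u`. -/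
theorem Vs_fix_of (hK : KFacts Q) {u : V} (hu : Q u = 0) (hu0 : u ≠ 0) (ht : t ∉ Vs Q W u) {f : G}
    (hf : f ∈ Vs Q W u) (h : ph t f = 1) : f ∈ Ru Q j u := by
  obtain ⟨r, hr, e | e⟩ := Vs_fix' D hK hu hu0 hf h
  · rw [e]; exact hr
  · exfalso
    apply ht
    have : t = f * r⁻¹ := by rw [e, mul_inv_cancel_right]
    rw [this]
    exact mul_mem hf (inv_mem (Ru_le D hK hu hu0 hr))

theorem ad_of (hK : KFacts Q) {u : V} (ht : t ∉ Vs Q W u) : Ad Q t j W u := by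
  intro v w f g h h3 hf hg hh he
  have hu := h3.uv.qu
  have hvw : Ln Q u (v + w) := by
    refine ⟨hu, ?_, ?_, h3.uv.ne, ?_⟩
    · rw [Q_add, h3.uv.qw, h3.uw.qw, h3.perp]; simp
    · rw [polar_add_right, h3.uv.perp, h3.uw.perp, add_zero]
    · intro c hc
      apply h3.ind
      rw [mem_L]
      exact ⟨c, -1, by rw [← hc]; module⟩
  have hfV := mem_Vs h3.uv hf
  have hgV := mem_Vs h3.uw hg
  have hhV := mem_Vs hvw hh
  refine ⟨(g * f)⁻¹ * h, ?_, by group⟩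
  apply Vs_fix_of D hK hu h3.uv.ne ht (mul_mem (inv_mem (mul_mem hgV hfV)) hhV)
  rw [Vs_ph_mul D hu (inv_mem (mul_mem hgV hfV)) hhV, Vs_ph_inv D hu (mul_mem hgV hfV),
    Vs_ph_mul D hu hgV hfV, he, Ru_comm hu (Vs_ph D hu hgV) (Vs_ph D hu hfV), inv_mul_cancel]

end Cfsg.Agent.OddHalf.Orth.Star
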