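import Cfsg.Agent.OddHalf.Orth.StarAb

/-!
# ODD D7, `K = Ω(V)`, `q > 2`: `t ∉ V*_u`
-/

set_option autoImplicit false

namespace Cfsg.Agent.OddHalf.Orth.Star

open QuadraticMap Cfsg.Agent.LieClassical.OrthCore Cfsg.Agent.LieClassical.OrthTrans
  Cfsg.Agent.ClassicalGeometry.OrthAutBasic Cfsg.Agent.ClassicalGeometry.OrthAutRoot Cfsg.Agent.OddHalf.Orth
  Cfsg.Agent.OddHalf.Orth.Face

variable {F V : Type*} [Field F] [AddCommGroup V] [Module F V] {Q : QuadraticForm F V}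
variable {G : Type*} [Group G] {t : G} {j : ↥(E Q) →* G} {W : V → V → Subgroup G}

theorem ln_add {u v : V} (h : Ln Q u v) (c : F) : Ln Q u (v + c • u) := by
  refine ⟨h.qu, ?_, ?_, h.ne, ?_⟩
  · rw [Q_add, h.qw, QuadraticMap.map_smul, h.qu, polar_smul_right, h.perp']; simp
  · rw [polar_add_right, h.perp, polar_smul_right, polar_self_of_sing h.qu]; simp
  · intro d hd
    exact h.ind (d - c) (by rw [sub_smul, ← hd]; module)

theorem ln_smul_left {u v : V} (h : Ln Q u v) {c : F} (hc : c ≠ 0) : Ln Q (c • u) v :=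
  (h.symm.smul_right hc).symm

variable (D : Dbl Q t j W)
include D

theorem W_left_smul {u v : V} (h : Ln Q u v) {c : F} (hc : c ≠ 0) : W (c • u) v = W u v := by
  rw [D.swap (ln_smul_left h hc), D.smul h.symm hc, D.swap h]

omit D in
/-- The action of a torus element on `u^⊥`. -/
theorem scal_apply {u u' : V} (hH : Hyp Q u u') {κ : F} {h : V → V} (hadd : ∀ x y, h (x + y) = h x + h y)
    (hsm : ∀ (c : F) x, h (c • x) = c • h x) (hu : h u = κ • u)
    (hx : ∀ x, polar Q u x = 0 → polar Q u' x = 0 → h x = x) {x : V} (hux : polar Q u x = 0) :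
    h x = x + ((κ - 1) * polar Q u' x) • u := by
  have e : x = (x + (-polar Q u' x) • u) + polar Q u' x • u := by module
  have h1 : polar Q u (x + (-polar Q u' x) • u) = 0 := by
    rw [polar_add_right, hux, polar_smul_right, polar_self_of_sing hH.left]; simp
  have h2 : polar Q u' (x + (-polar Q u' x) • u) = 0 := by
    rw [polar_add_right, polar_smul_right, hH.pair']; simp
  conv_lhs => rw [e]
  rw [hadd, hx _ h1 h2, hsm, hu]
  module

/-- the torus elements normalise `W u v` and multiply `φ` by `κ` -/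
theorem scal_W {u u' v : V} (hH : Hyp Q u u') {κ : F} (hκ : κ ≠ 0) {h : ↥(E Q)}
    (hu : (h : V ≃ₗ[F] V) u = κ • u)
    (hx : ∀ x, polar Q u x = 0 → polar Q u' x = 0 → (h : V ≃ₗ[F] V) x = x) (hv : Ln Q u v) {f : G} {c : F}
    (hf : f ∈ W u v) (hc : ph t f = j (tE Q u (c • v))) :
    j h * f * (j h)⁻¹ ∈ W u v ∧ ph t (j h * f * (j h)⁻¹) = j (tE Q u ((κ * c) • v)) := by
  have h1 := D.conj h hv hf
  have h2 := ph_W_conj D hc h
  have e := scal_apply (h := fun x => (h : V ≃ₗ[F] V) x) hH (fun x y => map_add _ x y)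
    (fun c x => map_smul _ c x) hu hx hv.perp

  rw [hu, e] at h1 h2
  have hv' := ln_add hv ((κ - 1) * polar Q u' v)
  rw [W_left_smul D hv' hκ, D.add _ hv] at h1
  refine ⟨h1, ?_⟩
  have hp : polar Q u (c • (v + ((κ - 1) * polar Q u' v) • u)) = 0 := by
    rw [polar_smul_right, hv'.perp, smul_zero]
  have hp2 : polar Q u ((κ * c) • v) = 0 := by rw [polar_smul_right, hv.perp, smul_zero]
  rw [h2, tE_smul_left κ hv.qu hp]
  have e2 : κ • c • (v + ((κ - 1) * polar Q u' v) • u) =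
      (κ * c) • v + (κ * c * ((κ - 1) * polar Q u' v)) • u := by
    rw [smul_add, smul_add, smul_smul, smul_smul, smul_smul]
  rw [e2, tE_add_smul hv.qu hp2]

theorem t_notin_big [CharP F 2] (hK : KFacts Q) {u : V} (hu : Q u = 0) (hu0 : u ≠ 0)
    (hq : ∃ κ : F, κ ≠ 0 ∧ κ ≠ 1) : t ∉ Vs Q W u := by
  obtain ⟨κ, hκ0, hκ1⟩ := hq
  obtain ⟨u', hH⟩ := exists_hyp hK.nondeg hu hu0
  have hκ' : 1 + κ ≠ 0 := by
    intro h
    exact hκ1 (by rw [← CharTwo.neg_eq (1 : F)]; exact (neg_eq_of_add_eq_zero_right h).symm)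
  obtain ⟨h1, a1, -, a2⟩ := hK.scal hH hκ0
  obtain ⟨h2, b1, -, b2⟩ := hK.scal hH hκ'
  have hst : ∀ {k : ↥(E Q)} {c : F}, c ≠ 0 → (k : V ≃ₗ[F] V) u = c • u →
      ∀ {x}, x ∈ Vs Q W u → j k * x * (j k)⁻¹ ∈ Vs Q W u := by
    intro k c hc hk x hx
    have h3 := Vs_conj D k hx
    rw [hk] at h3
    have : Vs Q W (c • u) ≤ Vs Q W u := by
      rw [Vs, Subgroup.closure_le]
      rintro w ⟨v, hv, hw⟩
      have hv' : Ln Q u v := by
        have := ln_smul_left hv (inv_ne_zero hc)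
        rwa [smul_smul, inv_mul_cancel₀ hc, one_smul] at this
      rw [W_left_smul D hv' hc] at hw
      exact mem_Vs hv' hw
    exact this h3
  have key : ∀ a ∈ Vs Q W u, a * (j h1 * a * (j h1)⁻¹) * (j h2 * a * (j h2)⁻¹) ∈ Ru Q j u := by
    intro a ha
    have ha' := ha
    rw [Vs] at ha
    induction ha using Subgroup.closure_induction with
    | mem w hw =>
      obtain ⟨v, hv, hw⟩ := hw
      obtain ⟨c, hc⟩ := ph_W D hv hw
      obtain ⟨m1, p1⟩ := scal_W D hH hκ0 a1 a2 hv hw hc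
      obtain ⟨m2, p2⟩ := scal_W D hH hκ' b1 b2 hv hw hc
      apply W_fix D hv (mul_mem (mul_mem hw m1) m2)
      have q0 : ∀ d : F, polar Q u (d • v) = 0 := fun d => by rw [polar_smul_right, hv.perp, smul_zero]
      rw [Vs_ph_mul D hu (mem_Vs hv (mul_mem hw m1)) (mem_Vs hv m2), Vs_ph_mul D hu (mem_Vs hv hw) (mem_Vs hv m1),
        p1, p2, hc, D.rmul hu (q0 _) (q0 _), ← add_smul, D.rmul hu (q0 _) (q0 _), ← add_smul]
      have : c + κ * c + (1 + κ) * c = 0 := by
        have h2 : (2 : F) = 0 := CharTwo.two_eq_zero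
        linear_combination (c + κ * c) * h2
      rw [this, zero_smul, tE_zero_right, map_one]
    | one => simpa using Ru_one
    | mul a b ha hb iha ihb =>
      have h3 := iha ha
      have h4 := ihb hb
      have ca1 := hst hκ0 a1 ha
      have ca2 := hst hκ' b1 ha
      have cb1 := hst hκ0 a1 hb
      have cb2 := hst hκ' b1 hb
      generalize e1 : j h1 * a * (j h1)⁻¹ = x1 at *
      generalize e2 : j h2 * a * (j h2)⁻¹ = x2 at *
      generalize e3 : j h1 * b * (j h1)⁻¹ = y1 at *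
      generalize e4 : j h2 * b * (j h2)⁻¹ = y2 at *
      have f1 : j h1 * (a * b) * (j h1)⁻¹ = x1 * y1 := by rw [← e1, ← e3]; group
      have f2 : j h2 * (a * b) * (j h2)⁻¹ = x2 * y2 := by rw [← e2, ← e4]; group
      have r1 := comm_Vs D hK hu hb ca1
      have r2 := comm_Vs D hK hu (mul_mem hb cb1) ca2
      have g1 : b * x1 = x1 * b * (b⁻¹ * x1⁻¹ * b * x1) := by group
      have g2 : b * y1 * x2 = x2 * (b * y1) * ((b * y1)⁻¹ * x2⁻¹ * (b * y1) * x2) := by group
      generalize b⁻¹ * x1⁻¹ * b * x1 = s1 at *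
      generalize (b * y1)⁻¹ * x2⁻¹ * (b * y1) * x2 = s2 at *
      have e : a * b * (j h1 * (a * b) * (j h1)⁻¹) * (j h2 * (a * b) * (j h2)⁻¹) =
          (a * x1 * x2) * (b * y1 * y2) * (s2 * s1) := by
        rw [f1, f2]
        calc a * b * (x1 * y1) * (x2 * y2) = a * (b * x1) * y1 * x2 * y2 := by group
          _ = a * x1 * b * (s1 * (y1 * x2 * y2)) := by rw [g1]; group
          _ = a * x1 * b * ((y1 * x2 * y2) * s1) := by rw [Vs_comm D hu (mul_mem (mul_mem cb1 ca2) cb2) r1]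
          _ = a * x1 * (b * y1 * x2) * y2 * s1 := by group
          _ = a * x1 * x2 * (b * y1) * (s2 * y2) * s1 := by rw [g2]; group
          _ = a * x1 * x2 * (b * y1) * (y2 * s2) * s1 := by rw [Vs_comm D hu cb2 r2]
          _ = _ := by group
      rw [e]
      exact Ru_mul hu (Ru_mul hu h3 h4) (Ru_mul hu r2 r1)
    | inv a ha iha =>
      have h3 := iha ha
      have ca1 := hst hκ0 a1 ha
      have ca2 := hst hκ' b1 ha
      generalize e1 : j h1 * a * (j h1)⁻¹ = x1 at *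
      generalize e2 : j h2 * a * (j h2)⁻¹ = x2 at *
      have f1 : j h1 * a⁻¹ * (j h1)⁻¹ = x1⁻¹ := by rw [← e1]; group
      have f2 : j h2 * a⁻¹ * (j h2)⁻¹ = x2⁻¹ := by rw [← e2]; group
      have r1 := comm_Vs D hK hu (mul_mem ha ca1) ca2
      have r2 := comm_Vs D hK hu ha ca1
      have g1 : a * x1 * x2 = x2 * (a * x1) * ((a * x1)⁻¹ * x2⁻¹ * (a * x1) * x2) := by group
      have g2 : a * x1 = x1 * a * (a⁻¹ * x1⁻¹ * a * x1) := by group
      generalize (a * x1)⁻¹ * x2⁻¹ * (a * x1) * x2 = s1 at *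
      generalize a⁻¹ * x1⁻¹ * a * x1 = s2 at *
      have e : x2 * x1 * a = (a * x1 * x2) * (s1⁻¹ * s2⁻¹) := by
        rw [g1]
        have g3 : x2 * (a * x1) * s1 * (s1⁻¹ * s2⁻¹) = x2 * ((a * x1) * s2⁻¹) := by group
        rw [g3, g2]; group
      rw [f1, f2]
      have e' : a⁻¹ * x1⁻¹ * x2⁻¹ = (x2 * x1 * a)⁻¹ := by group
      rw [e', e]
      exact Ru_inv hu (Ru_mul hu h3 (Ru_mul hu (Ru_inv hu r1) (Ru_inv hu r2)))
  intro ht
  have h3 := key t ht
  rw [← D.tj h1, ← D.tj h2, mul_inv_cancel_right, mul_inv_cancel_right, D.tt, one_mul] at h3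
  exact t_notin_Ru D h3

/-- `q > 2`: `V*_u` is additive. -/
theorem ad_big [CharP F 2] (hK : KFacts Q) (hq : ∃ κ : F, κ ≠ 0 ∧ κ ≠ 1) (u : V) : Ad Q t j W u := by
  intro v w f g h h3
  exact ad_of D hK (t_notin_big D hK h3.uv.qu h3.uv.ne hq) h3

end Cfsg.Agent.OddHalf.Orth.Star
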