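import Cfsg.Agent.OddHalf.Orth.StarBig

/-!
# ODD D7, `K = Ω(V)`, `q = 2`: `V*_u` is additive
-/

set_option autoImplicit false

namespace Cfsg.Agent.OddHalf.Orth.Star

open QuadraticMap Cfsg.Agent.LieClassical.OrthCore Cfsg.Agent.LieClassical.OrthTrans
  Cfsg.Agent.ClassicalGeometry.OrthAutBasic Cfsg.Agent.ClassicalGeometry.OrthAutRoot Cfsg.Agent.OddHalf.Orth
  Cfsg.Agent.OddHalf.Orth.Face

variable {F V : Type*} [Field F] [AddCommGroup V] [Module F V] {Q : QuadraticForm F V}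
variable {G : Type*} [Group G] {t : G} {j : ↥(E Q) →* G} {W : V → V → Subgroup G}

/-- The bad alternative for `q = 2`. -/
def TAd (Q : QuadraticForm F V) (t : G) (j : ↥(E Q) →* G) (W : V → V → Subgroup G) : Prop :=
  ∀ {u v w : V} {f g h : G}, Ln3 Q u v w → f ∈ W u v → g ∈ W u w → h ∈ W u (v + w) →
    ph t f = j (tE Q u v) → ph t g = j (tE Q u w) → ph t h = j (tE Q u (v + w)) →
    ∃ r ∈ Ru Q j u, h = g * f * (t * r)

variable (D : Dbl Q t j W)
include D

/-- two elements of `W u v` with the same `φ` differ by an element of `R_u` -/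
theorem W_same (hK : KFacts Q) {u v : V} (hv : Ln Q u v) {f g : G} (hf : f ∈ W u v) (hg : g ∈ W u v)
    (h : ph t f = ph t g) : ∃ r ∈ Ru Q j u, g = f * r := by
  have := hK.nondeg
  refine ⟨f⁻¹ * g, ?_, by group⟩
  apply W_fix D hv (mul_mem (inv_mem hf) hg)
  rw [Vs_ph_mul D hv.qu (inv_mem (mem_Vs hv hf)) (mem_Vs hv hg), Vs_ph_inv D hv.qu (mem_Vs hv hf), h,
    inv_mul_cancel]

theorem dich [CharP F 2] (hK : KFacts Q) (h2 : ∀ c : F, c = 0 ∨ c = 1) :
    (∀ u, Ad Q t j W u) ∨ TAd Q t j W := by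
  by_cases hA : ∀ u, Ad Q t j W u
  · exact Or.inl hA
  right
  push Not at hA
  obtain ⟨u, hA⟩ := hA
  rw [Ad] at hA
  push Not at hA
  obtain ⟨v, w, f, g, h, h3, hf, hg, hh, he, hne⟩ := hA
  have hu := h3.uv.qu
  have hfV := mem_Vs h3.uv hf
  have hgV := mem_Vs h3.uw hg
  have hhV := mem_Vs h3.add hh
  have hgf := mul_mem hgV hfV
  have hfix : ph t ((g * f)⁻¹ * h) = 1 := by
    rw [Vs_ph_mul D hu (inv_mem hgf) hhV, Vs_ph_inv D hu hgf, Vs_ph_mul D hu hgV hfV, he,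
      Ru_comm hu (Vs_ph D hu hfV) (Vs_ph D hu hgV), inv_mul_cancel]
  obtain ⟨r, hr, e | e⟩ := Vs_fix' D hK hu h3.uv.ne (mul_mem (inv_mem hgf) hhV) hfix
  · exact (hne r hr (inv_mul_eq_iff_eq_mul.1 e)).elim
  have e' : h = g * f * (t * r) := inv_mul_eq_iff_eq_mul.1 e
  -- `φ f`, `φ g` are not trivial
  obtain ⟨cf, hcf⟩ := ph_W D h3.uv hf
  obtain ⟨cg, hcg⟩ := ph_W D h3.uw hg
  obtain ⟨ch, hch⟩ := ph_W D h3.add hh
  have pv : ∀ c : F, polar Q u (c • v) = 0 := fun c => by rw [polar_smul_right, h3.uv.perp, smul_zero]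
  have pw : ∀ c : F, polar Q u (c • w) = 0 := fun c => by rw [polar_smul_right, h3.uw.perp, smul_zero]
  have pvw : ∀ c : F, polar Q u (c • (v + w)) = 0 := fun c => by
    rw [polar_smul_right, h3.add.perp, smul_zero]
  have hcc : cf = ch ∧ cg = ch := by
    rw [hch, hcf, hcg, D.rmul hu (pv _) (pw _)] at he
    obtain ⟨c, hc⟩ := r_inj D hK hu h3.uv.ne (pvw ch)
      (by rw [polar_add_right, pv, pw, add_zero]) he
    have := h3.coeff (a := -c) (b := cf - ch) (c := cg - ch) (by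
      have : cf • v + cg • w - (ch • (v + w) + c • u) = 0 := by rw [hc, sub_self]
      rw [← this]; module)
    exact ⟨sub_eq_zero.1 this.2.1, sub_eq_zero.1 this.2.2⟩
  have hc1 : ch = 1 := by
    rcases h2 ch with h0 | h1
    · exfalso
      rw [hcc.1, h0, zero_smul, tE_zero_right, map_one] at hcf
      rw [hcc.2, h0, zero_smul, tE_zero_right, map_one] at hcg
      rw [h0, zero_smul, tE_zero_right, map_one] at hch
      have r1 := W_fix D h3.uv hf hcf
      have r2 := W_fix D h3.uw hg hcg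
      have r3 := W_fix D h3.add hh hch
      exact hne ((g * f)⁻¹ * h) (Ru_mul hu (Ru_inv hu (Ru_mul hu r2 r1)) r3) (by group)
    · exact h1
  rw [hcc.1, hc1, one_smul] at hcf
  rw [hcc.2, hc1, one_smul] at hcg
  rw [hc1, one_smul] at hch
  intro u' v' w' f' g' h' h3' hf' hg' hh' pf' pg' ph'
  have hu' := h3'.uv.qu
  obtain ⟨k, k1, k2, k3⟩ := hK.trans3 h3 h3'
  have mf := D.conj k h3.uv hf
  have mg := D.conj k h3.uw hg
  have mh := D.conj k h3.add hh
  rw [k1, k2] at mf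
  rw [k1, k3] at mg
  rw [k1, map_add, k2, k3] at mh
  obtain ⟨r1, m1, e1⟩ := W_same D hK h3'.uv mf hf' (by
    rw [ph_conj (D.tj k), hcf, D.rconj, k1, k2, pf'])
  obtain ⟨r2, m2, e2⟩ := W_same D hK h3'.uw mg hg' (by
    rw [ph_conj (D.tj k), hcg, D.rconj, k1, k3, pg'])
  obtain ⟨r3, m3, e3⟩ := W_same D hK h3'.add mh hh' (by
    rw [ph_conj (D.tj k), hch, D.rconj, k1, map_add, k2, k3, ph'])
  obtain ⟨x, hx, rfl⟩ := hr
  have mr : j k * j (tE Q u x) * (j k)⁻¹ ∈ Ru Q j u' := by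
    rw [D.rconj, k1]
    exact Ru_mem (by rw [← k1, polar_map']; exact hx)
  generalize hr' : j k * j (tE Q u x) * (j k)⁻¹ = r at mr
  have e4 : j k * h * (j k)⁻¹ = (j k * g * (j k)⁻¹) * (j k * f * (j k)⁻¹) * (t * r) := by
    rw [← hr', e']
    calc j k * (g * f * (t * j (tE Q u x))) * (j k)⁻¹
        = (j k * g * (j k)⁻¹) * (j k * f * (j k)⁻¹) * (j k * t) * j (tE Q u x) * (j k)⁻¹ := by group
      _ = (j k * g * (j k)⁻¹) * (j k * f * (j k)⁻¹) * (t * j k) * j (tE Q u x) * (j k)⁻¹ := by rw [D.tj k]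
      _ = _ := by group
  have mfV := mem_Vs h3'.uv mf
  have mgV := mem_Vs h3'.uw mg
  rw [e3, e4]
  generalize j k * f * (j k)⁻¹ = f1 at *
  generalize j k * g * (j k)⁻¹ = g1 at *
  have ef : f1 = f' * r1⁻¹ := by rw [e1]; group
  have eg : g1 = g' * r2⁻¹ := by rw [e2]; group
  have hr1i := Ru_inv hu' m1
  have hr2i := Ru_inv hu' m2
  refine ⟨r1⁻¹ * r2⁻¹ * r * r3, Ru_mul hu' (Ru_mul hu' (Ru_mul hu' hr1i hr2i) mr) m3, ?_⟩
  have hf'V := mem_Vs h3'.uv hf'
  rw [ef, eg]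
  calc g' * r2⁻¹ * (f' * r1⁻¹) * (t * r) * r3 = g' * (r2⁻¹ * f') * r1⁻¹ * t * r * r3 := by group
    _ = g' * f' * r2⁻¹ * (r1⁻¹ * t) * r * r3 := by rw [Vs_comm D hu' hf'V hr2i]; group
    _ = g' * f' * (r2⁻¹ * t) * r1⁻¹ * r * r3 := by rw [← Ru_t D hr1i]; group
    _ = g' * f' * t * (r2⁻¹ * r1⁻¹) * r * r3 := by rw [← Ru_t D hr2i]; group
    _ = g' * f' * t * (r1⁻¹ * r2⁻¹) * r * r3 := by rw [Ru_comm hu' hr2i hr1i]
    _ = _ := by group

/-- the variant of `step` with a factor `t` -/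
theorem stepT [CharP F 2] (hK : KFacts Q) {u v s : V} (h3 : Ln3 Q u v s) {f g r : G}
    (hf : f ∈ W u v) (hg : g ∈ Vs Q W u) (hr : r ∈ Ru Q j u) (hpf : ph t f = j (tE Q u v))
    (hgx : j (tE Q v s) * g * (j (tE Q v s))⁻¹ = g * f * (t * r))
    {y : V} (hy : polar Q u y = 0) (hc : f⁻¹ * g⁻¹ * f * g = j (tE Q u y)) :
    polar Q v y = 0 ∧ polar Q s y = 1 := by
  have hu := h3.uv.qu
  have hfV := mem_Vs h3.uv hf
  have hfx : j (tE Q v s) * f * (j (tE Q v s))⁻¹ = f := by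
    rw [D.cent h3.uv hf (k := tE Q v s), mul_inv_cancel_right]
    rw [tE_swap h3.uv.qu h3.uv.qw h3.uv.perp]
    exact tE_comm h3.uv.qw h3.perp h3.uv.perp'
  have htr := Ru_t D hr
  have hti := D.t_inv
  have h1 : j (tE Q v s) * j (tE Q u y) * (j (tE Q v s))⁻¹ = j (tE Q u (v + y)) := by
    have hcc := Vs_comm D hu hfV (Ru_mem (j := j) hy)
    have hmem : f⁻¹ * g⁻¹ * f * g * f ∈ Vs Q W u :=
      mul_mem (mul_mem (mul_mem (mul_mem (inv_mem hfV) (inv_mem hg)) hfV) hg) hfV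
    calc j (tE Q v s) * j (tE Q u y) * (j (tE Q v s))⁻¹
        = (j (tE Q v s) * f * (j (tE Q v s))⁻¹)⁻¹ * (j (tE Q v s) * g * (j (tE Q v s))⁻¹)⁻¹ *
          (j (tE Q v s) * f * (j (tE Q v s))⁻¹) * (j (tE Q v s) * g * (j (tE Q v s))⁻¹) := by
          rw [← hc]; group
      _ = f⁻¹ * (t * r)⁻¹ * (f⁻¹ * g⁻¹ * f * g * f) * (t * r) := by rw [hfx, hgx]; group
      _ = f⁻¹ * (t * r)⁻¹ * (f⁻¹ * g⁻¹ * f * g * f) * (r * t) := by rw [htr]
      _ = f⁻¹ * (t * r)⁻¹ * ((f⁻¹ * g⁻¹ * f * g * f) * r) * t := by group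
      _ = f⁻¹ * (t * r)⁻¹ * (r * (f⁻¹ * g⁻¹ * f * g * f)) * t := by rw [Vs_comm D hu hmem hr]
      _ = f⁻¹ * (r⁻¹ * t⁻¹ * r) * (f⁻¹ * g⁻¹ * f * g * f) * t := by group
      _ = f⁻¹ * (r⁻¹ * (t * r)) * (f⁻¹ * g⁻¹ * f * g * f) * t := by rw [hti]; group
      _ = f⁻¹ * (r⁻¹ * (r * t)) * (f⁻¹ * g⁻¹ * f * g * f) * t := by rw [htr]
      _ = f⁻¹ * t * ((f⁻¹ * g⁻¹ * f * g) * f) * t := by group
      _ = f⁻¹ * t * (j (tE Q u y) * f) * t := by rw [hc]
      _ = f⁻¹ * t * f * (j (tE Q u y) * t) := by rw [hcc]; group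
      _ = f⁻¹ * (t * f * t) * j (tE Q u y) := by rw [← D.tj]; group
      _ = ph t f * j (tE Q u y) := rfl
      _ = _ := by rw [hpf, D.rmul hu h3.uv.perp hy]
  rw [D.rconj, coe_tE] at h1
  have h2 : T Q v s u = u := by
    rw [T_apply2 h3.uv.qw h3.perp, h3.uv.perp', polar_comm Q s u, h3.uw.perp]; simp
  have h4 : T Q v s y = y + polar Q v y • s + polar Q s y • v := by
    rw [T_apply2 h3.uv.qw h3.perp, h3.uw.qw, zero_mul, add_zero]
  have h5 : polar Q u (T Q v s y) = 0 := by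
    rw [h4, polar_add_right, polar_add_right, polar_smul_right, polar_smul_right, h3.uw.perp, h3.uv.perp, hy]
    simp
  rw [h2] at h1
  obtain ⟨c, e⟩ := r_inj D hK hu h3.uv.ne h5 (by rw [polar_add_right, h3.uv.perp, hy, add_zero]) h1
  rw [h4] at e
  have h6 : c • u + (polar Q s y - 1) • v + polar Q v y • s = 0 := by
    have e2 : v + y = (v + y) + (c • u + (polar Q s y - 1) • v + polar Q v y • s) := by
      conv_lhs => rw [e]
      module
    exact left_eq_add.1 e2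
  exact ⟨(h3.coeff h6).2.2, sub_eq_zero.1 (h3.coeff h6).2.1⟩

theorem comm_TAd_aux [CharP F 2] (hK : KFacts Q) (h2 : ∀ c : F, c = 0 ∨ c = 1) (hT : TAd Q t j W) {u v w : V}
    (h3 : Ln3 Q u v w) {f g : G} (hf : f ∈ W u v) (hg : g ∈ W u w) (pf : ph t f = j (tE Q u v))
    (pg : ph t g = j (tE Q u w)) : ∃ b : F, f⁻¹ * g⁻¹ * f * g = j (tE Q u (w + b • v)) := by
  have hu := h3.uv.qu
  have hgV := mem_Vs h3.uw hg
  obtain ⟨y, hy, hc⟩ := comm_gen D hK h3.uv h3.uw hf hg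
  have key : ∀ s, Ln3 Q u v s → polar Q (y + w) s = 0 := by
    intro s hs
    have e2 : T Q v s u = u := by
      rw [T_apply2 hs.uv.qw hs.perp, hs.uv.perp', polar_comm Q s u, hs.uw.perp]; simp
    have e4 : T Q v s w = polar Q s w • v + w := by
      rw [T_apply2 hs.uv.qw hs.perp, hs.uw.qw, zero_mul, add_zero, h3.perp, zero_smul, add_zero, add_comm]
    have hm := D.conj (tE Q v s) h3.uw hg
    have hp := ph_conj (D.tj (tE Q v s)) g
    rw [pg, D.rconj] at hp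
    rw [coe_tE, e2, e4] at hm hp
    rw [polar_add_left, polar_comm Q y s, polar_comm Q w s]
    rcases h2 (polar Q s w) with hγ | hγ
    · rw [hγ, zero_smul, zero_add] at hm hp
      obtain ⟨r, hr, e⟩ := W_same D hK h3.uw hg hm (by rw [pg, hp])
      rw [(step D hK hs hf hgV (one_mem _) hr (by rw [one_mul, mul_one]) (by rw [e]; group) hy hc).2, hγ,
        add_zero]
    · rw [hγ, one_smul] at hm hp
      obtain ⟨r, hr, e⟩ := hT h3 hf hg hm pf pg hp
      rw [(stepT D hK hs hf hgV hr pf e hy hc).2, hγ]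
      exact CharTwo.add_self_eq_zero 1
  obtain ⟨a, b, e⟩ := hK.perp2 h3.uv key
  refine ⟨b, ?_⟩
  have e' : y = (w + b • v) + a • u := by
    have : y = (y + w) + w := by rw [add_assoc, add_self' (F := F), add_zero]
    rw [this, e]; abel
  rw [hc, e', tE_add_smul hu (by rw [polar_add_right, polar_smul_right, h3.uv.perp, h3.uw.perp]; simp)]

theorem comm_TAd [CharP F 2] (hK : KFacts Q) (h2 : ∀ c : F, c = 0 ∨ c = 1) (hT : TAd Q t j W) {u v w : V}
    (h3 : Ln3 Q u v w) {f g : G} (hf : f ∈ W u v) (hg : g ∈ W u w) (pf : ph t f = j (tE Q u v))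
    (pg : ph t g = j (tE Q u w)) : f⁻¹ * g⁻¹ * f * g = j (tE Q u v) * j (tE Q u w) := by
  have hu := h3.uv.qu
  obtain ⟨b, hb⟩ := comm_TAd_aux D hK h2 hT h3 hf hg pf pg
  obtain ⟨b', hb'⟩ := comm_TAd_aux D hK h2 hT h3.symm hg hf pg pf
  have p1 : polar Q u (w + b • v) = 0 := by
    rw [polar_add_right, polar_smul_right, h3.uv.perp, h3.uw.perp]; simp
  have p2 : polar Q u (v + b' • w) = 0 := by
    rw [polar_add_right, polar_smul_right, h3.uv.perp, h3.uw.perp]; simp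
  have e : j (tE Q u (w + b • v)) = j (tE Q u (v + b' • w)) := by
    have h1 : j (tE Q u (v + b' • w)) = (j (tE Q u (w + b • v)))⁻¹ := by rw [← hb, ← hb']; group
    rw [h1, ← map_inv, tE_inv hu p1]
  obtain ⟨c, hc⟩ := r_inj D hK hu h3.uv.ne p1 p2 e
  have h0 := h3.coeff (a := -c) (b := 1 - b) (c := b' - 1) (by
    have : v + b' • w - (w + b • v + c • u) = 0 := by rw [hc, sub_self]
    rw [← this]; module)
  have hb1 : b = 1 := (sub_eq_zero.1 h0.2.1).symm
  rw [hb, hb1, one_smul, D.rmul hu h3.uv.perp h3.uw.perp, add_comm]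

theorem zz_comm [CharP F 2] (hK : KFacts Q) (h2 : ∀ c : F, c = 0 ∨ c = 1) (hT : TAd Q t j W) {u v w : V}
    (h3 : Ln3 Q u v w) {f g : G} (hf : f ∈ W u v) (hg : g ∈ W u w) (pf : ph t f = j (tE Q u v))
    (pg : ph t g = j (tE Q u w)) : (f * t) * (g * t) = (g * t) * (f * t) := by
  have h1 := comm_TAd D hK h2 hT h3 hf hg pf pg
  have e1 : t * g * t = g * ph t g := by rw [ph_def]; group
  have e2 : t * f * t = f * ph t f := by rw [ph_def]; group
  have e3 : f * g = g * f * (f⁻¹ * g⁻¹ * f * g) := by group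
  have e4 : j (tE Q u w) * j (tE Q u w) = 1 := by rw [← map_mul, tE_mul_self h3.uw.qu h3.uw.perp, map_one]
  calc (f * t) * (g * t) = f * (t * g * t) := by group
    _ = f * g * ph t g := by rw [e1]; group
    _ = g * f * (j (tE Q u v) * (j (tE Q u w) * j (tE Q u w))) := by rw [e3, h1, pg]; group
    _ = g * (f * ph t f) := by rw [e4, pf, mul_one, mul_assoc]
    _ = (g * t) * (f * t) := by rw [← e2]; group

theorem zz_sq [CharP F 2] (h2 : ∀ c : F, c = 0 ∨ c = 1) {u v : V} (hv : Ln Q u v) {f : G} (hf : f ∈ W u v) :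
    (f * t) * (f * t) = ph t f := by
  have e2 : t * f * t = f * ph t f := by rw [ph_def]; group
  calc (f * t) * (f * t) = f * (t * f * t) := by group
    _ = f * f * ph t f := by rw [e2]; group
    _ = ph t f := by rw [D.sq h2 hv hf, one_mul]

/-- the image of a line coordinate under a transvection: `k` fixes `u, w`, `v ↦ v + w` -/
theorem lemA [CharP F 2] [FiniteDimensional F V] (hK : KFacts Q) (h2 : ∀ c : F, c = 0 ∨ c = 1)
    (hT : TAd Q t j W) {u v w : V}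
    (h3 : Ln3 Q u v w) {f g : G} (hf : f ∈ W u v) (hg : g ∈ W u w) (pf : ph t f = j (tE Q u v))
    (pg : ph t g = j (tE Q u w)) {k : ↥(E Q)} (ku : (k : V ≃ₗ[F] V) u = u) (kv : (k : V ≃ₗ[F] V) v = v + w)
    (kw : (k : V ≃ₗ[F] V) w = w) (kk : k * k = 1) :
    ∃ m : ℤ, Odd m ∧ j k * (f * t) * (j k)⁻¹ = (f * t)⁻¹ * (g * t) ^ m := by
  have hu := h3.uv.qu
  have hm := D.conj k h3.uv hf
  have hp := ph_conj (D.tj k) f
  rw [pf, D.rconj] at hp
  rw [ku, kv] at hm hp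
  obtain ⟨r, ⟨y, hy, rfl⟩, e⟩ := hT h3 hf hg hm pf pg hp
  -- `r` commutes with `T v x`, `x ⊥ u, v, w`
  have hfx : ∀ x, polar Q u x = 0 → polar Q v x = 0 → polar Q w x = 0 → polar Q v y • x +
      (polar Q x y + Q x * polar Q v y) • v ∈ Submodule.span F {u} := by
    intro x hux hvx hwx
    have e1 : T Q v x u = u := by
      rw [T_apply2 h3.uv.qw hvx, h3.uv.perp', polar_comm Q x u, hux]; simp
    have e2 : T Q v x v = v := by
      rw [T_apply2 h3.uv.qw hvx, polar_self2, polar_comm Q x v, hvx]; simp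
    have e3 : T Q v x w = w := by
      rw [T_apply2 h3.uv.qw hvx, h3.perp, polar_comm Q x w, hwx]; simp
    have c1 := D.cent h3.uv hf (k := tE Q v x) (tE_comm_of e1 e2)
    have c2 := D.cent h3.uw hg (k := tE Q v x) (tE_comm_of e1 e3)
    have c3 := D.cent h3.add hm (k := tE Q v x) (tE_comm_of e1 (by rw [map_add, e2, e3]))
    have c4 := D.tj (tE Q v x)
    have er : j (tE Q u y) = t⁻¹ * (f⁻¹ * g⁻¹) * (j k * f * (j k)⁻¹) := by rw [e]; group
    have c5 : j (tE Q v x) * j (tE Q u y) = j (tE Q u y) * j (tE Q v x) := by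
      rw [er]
      generalize j (tE Q v x) = z at *
      have k1 : z * t⁻¹ = t⁻¹ * z := by rw [D.t_inv, c4]
      have k2 : z * (f⁻¹ * g⁻¹) = (f⁻¹ * g⁻¹) * z := by
        have a1 : z * f⁻¹ = f⁻¹ * z := by rw [eq_inv_mul_iff_mul_eq, ← mul_assoc, ← c1, mul_inv_cancel_right]
        have a2 : z * g⁻¹ = g⁻¹ * z := by rw [eq_inv_mul_iff_mul_eq, ← mul_assoc, ← c2, mul_inv_cancel_right]
        rw [← mul_assoc, a1, mul_assoc, a2, mul_assoc]
      calc z * (t⁻¹ * (f⁻¹ * g⁻¹) * (j k * f * (j k)⁻¹))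
          = (z * t⁻¹) * (f⁻¹ * g⁻¹) * (j k * f * (j k)⁻¹) := by group
        _ = t⁻¹ * (z * (f⁻¹ * g⁻¹)) * (j k * f * (j k)⁻¹) := by rw [k1]; group
        _ = t⁻¹ * (f⁻¹ * g⁻¹) * (z * (j k * f * (j k)⁻¹)) := by rw [k2]; group
        _ = _ := by rw [c3]; group
    have c6 : j (tE Q u (T Q v x y)) = j (tE Q u y) := by
      have := D.rconj (tE Q v x) u y
      rw [c5, mul_inv_cancel_right, coe_tE, e1] at this
      exact this.symm
    have e4 : T Q v x y = y + (polar Q v y • x + (polar Q x y + Q x * polar Q v y) • v) := by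
      rw [T_apply2 h3.uv.qw hvx]; abel
    rw [e4] at c6
    obtain ⟨c, hc⟩ := r_inj D hK hu h3.uv.ne (by
      rw [polar_add_right, polar_add_right, polar_smul_right, polar_smul_right, hux, h3.uv.perp, hy]; simp) hy c6
    rw [Submodule.mem_span_singleton]
    refine ⟨-c, ?_⟩
    have e5 : y = y + ((polar Q v y • x + (polar Q x y + Q x * polar Q v y) • v) + c • u) := by
      conv_lhs => rw [hc]
      abel
    have e6 := left_eq_add.1 e5
    rw [neg_smul]
    exact (eq_neg_of_add_eq_zero_left e6).symm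
  have hvy : polar Q v y = 0 := by
    have h1 := hfx w h3.uw.perp h3.perp (polar_self2 w)
    rw [h3.uw.qw, zero_mul, add_zero] at h1
    obtain ⟨c, hc⟩ := Submodule.mem_span_singleton.1 h1
    exact (h3.coeff (a := -c) (b := polar Q w y) (c := polar Q v y) (by rw [neg_smul, hc]; abel)).2.2
  have hmem : y ∈ Submodule.span F ({u, v, w} : Set V) := by
    by_contra hn
    obtain ⟨z, hz1, hz2⟩ := exists_sep_sub hK.nondeg hn
    have hz3 : ∀ s ∈ ({u, v, w} : Set V), polar Q s z = 0 := fun s hs => hz2 s (Submodule.subset_span hs)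
    have h1 := hfx z (hz3 u (by simp)) (hz3 v (by simp)) (hz3 w (by simp))
    rw [hvy, zero_smul, zero_add, mul_zero, add_zero] at h1
    obtain ⟨c, hc⟩ := Submodule.mem_span_singleton.1 h1
    have h4 := (h3.uv.coeff (a := -c) (b := polar Q z y) (by rw [neg_smul, hc]; abel)).2
    rw [polar_comm, hz1] at h4
    exact one_ne_zero h4
  obtain ⟨a0, b0, c0, hy0⟩ : ∃ a b c : F, y = a • u + b • v + c • w := by
    rw [Submodule.mem_span_insert] at hmem
    obtain ⟨a, z, hz, rfl⟩ := hmem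
    obtain ⟨b, c, rfl⟩ := Submodule.mem_span_pair.1 hz
    exact ⟨a, b, c, by abel⟩
  have pv : ∀ c : F, polar Q u (c • v) = 0 := fun c => by rw [polar_smul_right, h3.uv.perp, smul_zero]
  have pw : ∀ c : F, polar Q u (c • w) = 0 := fun c => by rw [polar_smul_right, h3.uw.perp, smul_zero]
  have er : j (tE Q u y) = j (tE Q u (b0 • v)) * j (tE Q u (c0 • w)) := by
    have : y = (b0 • v + c0 • w) + a0 • u := by rw [hy0]; abel
    rw [this, tE_add_smul hu (by rw [polar_add_right, pv, pw, add_zero]), D.rmul hu (pv _) (pw _)]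
  -- notation
  have hab := zz_comm D hK h2 hT h3 hf hg pf pg
  have ha2 : (f * t) * (f * t) = j (tE Q u v) := by rw [zz_sq D h2 h3.uv hf, pf]
  have hb2 : (g * t) * (g * t) = j (tE Q u w) := by rw [zz_sq D h2 h3.uw hg, pg]
  have hA2 : j (tE Q u v) * j (tE Q u v) = 1 := by rw [← map_mul, tE_mul_self hu h3.uv.perp, map_one]
  have hB2 : j (tE Q u w) * j (tE Q u w) = 1 := by rw [← map_mul, tE_mul_self hu h3.uw.perp, map_one]
  have hB1 : j (tE Q u w) ≠ 1 := by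
    intro h
    have h5 : j (tE Q u 0) = j (tE Q u w) := by rw [tE_zero_right, map_one, h]
    obtain ⟨c, hc⟩ := r_inj D hK hu h3.uv.ne (polar_zero_right _ _) h3.uw.perp h5
    exact h3.uw.ind c (by rw [hc, zero_add])
  have hti := D.t_inv
  have htk := D.tj k
  have hA := D.tj (tE Q u v)
  have hrr := D.tj (tE Q u y)
  have hgf : g * f = (g * t) * (f * t) * j (tE Q u v) := by
    have e2 : t * f * t = f * ph t f := by rw [ph_def]; group
    calc g * f = g * (f * ph t f) * j (tE Q u v) := by rw [pf, mul_assoc g, mul_assoc f, hA2, mul_one]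
      _ = _ := by rw [← e2]; group
  have hka : j k * (f * t) * (j k)⁻¹ = (g * t) * (f * t) * j (tE Q u v) * j (tE Q u y) := by
    have h5 : t * (j k)⁻¹ = (j k)⁻¹ * t := by
      rw [eq_inv_mul_iff_mul_eq, ← mul_assoc, ← htk, mul_inv_cancel_right]
    calc j k * (f * t) * (j k)⁻¹ = j k * f * (t * (j k)⁻¹) := by group
      _ = (j k * f * (j k)⁻¹) * t := by rw [h5]; group
      _ = g * f * (t * (j (tE Q u y) * t)) := by rw [e]; group
      _ = g * f * (t * t * j (tE Q u y)) := by rw [← hrr]; group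
      _ = _ := by rw [D.tt, one_mul, hgf]
  rw [er] at hka
  generalize hga : f * t = a at *
  generalize hgb : g * t = b at *
  have hab' : Commute a b := hab
  obtain ⟨m, hm1, hm2, hm3⟩ : ∃ m : ℤ, Odd m ∧ b * j (tE Q u (c0 • w)) = b ^ m ∧ b ^ m * b ^ m = j (tE Q u w) := by
    rcases h2 c0 with h | h
    · exact ⟨1, odd_one, by rw [h, zero_smul, tE_zero_right, map_one, mul_one, zpow_one], by
        rw [zpow_one, hb2]⟩
    · have hb3 : b ^ (3 : ℤ) = b * (b * b) := by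
        have h := zpow_natCast b 3
        push_cast at h
        rw [h, pow_succ, pow_succ, pow_one, mul_assoc]
      refine ⟨3, by decide, ?_, ?_⟩
      · rw [h, one_smul, ← hb2, hb3]
      · have : b ^ (3 : ℤ) * b ^ (3 : ℤ) = (b * b) * ((b * b) * (b * b)) := by
          rw [hb3]; simp only [mul_assoc]
        rw [this, hb2, hB2, mul_one]
  have hAb : ∀ c : F, j (tE Q u (c • w)) * a = a * j (tE Q u (c • w)) := by
    intro c
    have h5 := Vs_comm D hu (mem_Vs h3.uv hf) (Ru_mem (j := j) (pw c))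
    rw [← hga, ← mul_assoc, h5, mul_assoc, ← D.tj, mul_assoc]
  rcases h2 b0 with h | h
  · refine ⟨m, hm1, ?_⟩
    have ha4 : a * j (tE Q u v) = a⁻¹ := by
      rw [eq_inv_iff_mul_eq_one]
      have h6 : j (tE Q u v) * a = a * j (tE Q u v) := by rw [← ha2]; group
      rw [mul_assoc, h6, ← mul_assoc, ha2, hA2]
    have h7 : a⁻¹ * j (tE Q u (c0 • w)) = j (tE Q u (c0 • w)) * a⁻¹ := by
      rw [inv_mul_eq_iff_eq_mul, ← mul_assoc, ← hAb c0, mul_inv_cancel_right]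
    rw [hka, h, zero_smul, tE_zero_right, map_one, one_mul, mul_assoc b a, ha4, mul_assoc, h7, ← mul_assoc, hm2]
    exact ((hab'.zpow_right m).inv_left).eq.symm
  · exfalso
    have h8 : j k * a * (j k)⁻¹ = a * b ^ m := by
      rw [hka, h, one_smul, ← mul_assoc, mul_assoc (b * a), hA2, mul_one, mul_assoc b, ← hAb c0, ← mul_assoc, hm2]
      exact (hab'.zpow_right m).eq.symm
    have h9 : j k * b * (j k)⁻¹ = b := by
      have h10 := D.cent h3.uw hg (k := k) (by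
        have := tE_conj k u w
        rw [ku, kw] at this
        exact mul_inv_eq_iff_eq_mul.1 this)
      rw [← hgb, ← mul_assoc, h10, mul_assoc g, ← htk]
      group
    have h10 : j k * j k = 1 := by rw [← map_mul, kk, map_one]
    have h11 : a = (j k * a * (j k)⁻¹) * (j k * b * (j k)⁻¹) ^ m := by
      have h12 : j k * (j k * a * (j k)⁻¹) * (j k)⁻¹ = a := by
        have : j k * (j k * a * (j k)⁻¹) * (j k)⁻¹ = (j k * j k) * a * (j k * j k)⁻¹ := by group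
        rw [this, h10, one_mul, inv_one, mul_one]
      have h13 : j k * (a * b ^ m) * (j k)⁻¹ = (j k * a * (j k)⁻¹) * (j k * b * (j k)⁻¹) ^ m := by
        rw [conj_zpow]; group
      rw [← h13, ← h8, h12]
    rw [h9, h8, mul_assoc, hm3] at h11
    exact hB1 (left_eq_mul.1 h11)

/-- the bad alternative is impossible -/
theorem not_TAd [CharP F 2] [FiniteDimensional F V] (hK : KFacts Q) (h2 : ∀ c : F, c = 0 ∨ c = 1)
    {e1 e2 e3 : V} (h3 : Ln3 Q e1 e2 e3) : ¬ TAd Q t j W := by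
  intro hT
  -- dual vectors
  obtain ⟨f1, a1, a2⟩ : ∃ y, polar Q e1 y = 1 ∧ ∀ s ∈ Submodule.span F ({e2, e3} : Set V), polar Q s y = 0 := by
    apply exists_sep_sub hK.nondeg
    exact h3.rot.symm.ind
  have a3 : polar Q e2 f1 = 0 := a2 _ (Submodule.subset_span (by simp))
  have a4 : polar Q e3 f1 = 0 := a2 _ (Submodule.subset_span (by simp))
  obtain ⟨g2, b1, b2⟩ : ∃ y, polar Q e2 y = 1 ∧ ∀ s ∈ Submodule.span F ({e1, e3, f1} : Set V), polar Q s y = 0 := by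
    apply exists_sep_sub hK.nondeg
    intro hmem
    rw [Submodule.mem_span_insert] at hmem
    obtain ⟨a, z, hz, e⟩ := hmem
    obtain ⟨b, c, rfl⟩ := Submodule.mem_span_pair.1 hz
    have hc : polar Q e1 e2 = 0 := h3.uv.perp
    rw [e, polar_add_right, polar_add_right, polar_smul_right, polar_smul_right, polar_smul_right, a1,
      h3.uw.perp, polar_self2] at hc
    have hc0 : c = 0 := by simpa using hc
    rw [hc0, zero_smul, add_zero] at e
    have := (h3.coeff (a := a) (b := -1) (c := b) (by rw [neg_smul, one_smul, e]; abel)).2.1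
    simp at this
  have b3 : polar Q e1 g2 = 0 := b2 _ (Submodule.subset_span (by simp))
  have b4 : polar Q e3 g2 = 0 := b2 _ (Submodule.subset_span (by simp))
  have b5 : polar Q f1 g2 = 0 := b2 _ (Submodule.subset_span (by simp))
  obtain ⟨f2, c1, c2, c3, c4, c5⟩ : ∃ y, polar Q e2 y = 1 ∧ polar Q e1 y = 0 ∧ polar Q e3 y = 0 ∧
      polar Q f1 y = 0 ∧ Q y = 0 := by
    refine ⟨g2 + Q g2 • e2, ?_, ?_, ?_, ?_, ?_⟩
    · rw [polar_add_right, polar_smul_right, polar_self2, b1]; simp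
    · rw [polar_add_right, polar_smul_right, h3.uv.perp, b3]; simp
    · rw [polar_add_right, polar_smul_right, polar_comm Q e3 e2, h3.perp, b4]; simp
    · rw [polar_add_right, polar_smul_right, polar_comm Q f1 e2, a3, b5]; simp
    · rw [Q_add, QuadraticMap.map_smul, h3.uv.qw, polar_smul_right, polar_comm Q g2 e2, b1, smul_zero, add_zero,
        smul_eq_mul, mul_one]
      exact CharTwo.add_self_eq_zero _
  -- the three transvections
  have q1 := h3.uv.qu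
  have q2 := h3.uv.qw
  have q3 := h3.uw.qw
  have p12 := h3.uv.perp
  have p13 := h3.uw.perp
  have p23 := h3.perp
  have p21 : polar Q e2 e1 = 0 := h3.uv.perp'
  have p31 : polar Q e3 e1 = 0 := h3.uw.perp'
  have p32 : polar Q e3 e2 = 0 := by rw [polar_comm]; exact h3.perp
  have a1' : polar Q f1 e1 = 1 := by rw [polar_comm]; exact a1
  have a3' : polar Q f1 e2 = 0 := by rw [polar_comm]; exact a3
  have a4' : polar Q f1 e3 = 0 := by rw [polar_comm]; exact a4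
  have c1' : polar Q f2 e2 = 1 := by rw [polar_comm]; exact c1
  have c2' : polar Q f2 e1 = 0 := by rw [polar_comm]; exact c2
  have c3' : polar Q f2 e3 = 0 := by rw [polar_comm]; exact c3
  have c4' : polar Q f2 f1 = 0 := by rw [polar_comm]; exact c4
  have k1a : T Q e3 f1 e1 = e1 + e3 := by rw [T_apply2 q3 a4, p31, a1']; simp
  have k1b : T Q e3 f1 e2 = e2 := by rw [T_apply2 q3 a4, p32, a3']; simp
  have k1c : T Q e3 f1 e3 = e3 := by rw [T_apply2 q3 a4, polar_self2, a4']; simp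
  have k2a : T Q e1 f2 e1 = e1 := by rw [T_apply2 q1 c2, polar_self2, c2']; simp
  have k2b : T Q e1 f2 e2 = e2 + e1 := by rw [T_apply2 q1 c2, p12, c1']; simp
  have k2c : T Q e1 f2 e3 = e3 := by rw [T_apply2 q1 c2, p13, c3']; simp
  have k3a : T Q e3 f2 e1 = e1 := by rw [T_apply2 q3 c3, p31, c2']; simp
  have k3b : T Q e3 f2 e2 = e2 + e3 := by rw [T_apply2 q3 c3, p32, c1']; simp
  have k3c : T Q e3 f2 e3 = e3 := by rw [T_apply2 q3 c3, polar_self2, c3']; simp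
  have hrel : tE Q e1 f2 * tE Q e3 f1 * (tE Q e1 f2)⁻¹ = tE Q e3 f1 * tE Q e3 f2 := by
    rw [tE_conj, coe_tE, k2c, tE_mul q3 a4 c3]
    congr 1
    rw [T_apply2 q1 c2, a1, c4', c5]; simp
  -- the elements
  obtain ⟨f12, m12, s12⟩ := surj_W D h3.uv 1
  obtain ⟨f13, m13, s13⟩ := surj_W D h3.uw 1
  obtain ⟨f23, m23, s23⟩ := surj_W D h3.vw 1
  rw [one_smul] at s12 s13 s23
  have m21 : f12 ∈ W e2 e1 := by rw [← D.swap h3.uv]; exact m12
  have m32 : f23 ∈ W e3 e2 := by rw [← D.swap h3.vw]; exact m23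
  have m31 : f13 ∈ W e3 e1 := by rw [← D.swap h3.uw]; exact m13
  have s21 : ph t f12 = j (tE Q e2 e1) := by rw [s12, tE_swap q1 q2 p12]
  have s32 : ph t f23 = j (tE Q e3 e2) := by rw [s23, tE_swap q2 q3 p23]
  have s31 : ph t f13 = j (tE Q e3 e1) := by rw [s13, tE_swap q1 q3 p13]
  have n213 : Ln3 Q e2 e1 e3 := h3.rot
  have n321 : Ln3 Q e3 e2 e1 := h3.symm.rot.symm
  have hab : Commute (f12 * t) (f23 * t) := zz_comm D hK h2 hT n213 m21 m23 s21 s23
  have hac : Commute (f12 * t) (f13 * t) := zz_comm D hK h2 hT h3 m12 m13 s12 s13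
  have hbc : Commute (f23 * t) (f13 * t) := zz_comm D hK h2 hT n321 m32 m31 s32 s31
  have sq (x : V) {y : V} (hx : Q x = 0) (hy : polar Q x y = 0) : tE Q x y * tE Q x y = 1 := tE_mul_self hx hy
  obtain ⟨m, hm, r1⟩ := lemA D hK h2 hT n213 m21 m23 s21 s23 (k := tE Q e3 f1) k1b k1a k1c (sq _ q3 a4)
  obtain ⟨n, hn, r3⟩ := lemA D hK h2 hT h3 m12 m13 s12 s13 (k := tE Q e3 f2) k3a k3b k3c (sq _ q3 c3)
  obtain ⟨l, hl, r2⟩ := lemA D hK h2 hT n321 m32 m31 s32 s31 (k := tE Q e1 f2) k2c k2b k2a (sq _ q1 c2)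
  have hA2 : (f12 * t) * (f12 * t) = j (tE Q e1 e2) := by rw [zz_sq D h2 h3.uv m12, s12]
  have hC2 : (f13 * t) * (f13 * t) = j (tE Q e1 e3) := by rw [zz_sq D h2 h3.uw m13, s13]
  -- commuting
  have hz {k : ↥(E Q)} {u v : V} {f : G} (hv : Ln Q u v) (hf : f ∈ W u v) (h : k * tE Q u v = tE Q u v * k) :
      j k * (f * t) * (j k)⁻¹ = f * t := by
    have h10 := D.cent hv hf h
    rw [← mul_assoc, h10, mul_assoc f, ← D.tj k]
    group
  have v2a : j (tE Q e1 f2) * (f12 * t) * (j (tE Q e1 f2))⁻¹ = f12 * t := hz h3.uv m12 (tE_comm q1 c2 p12)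
  have v1c : j (tE Q e3 f1) * (f13 * t) * (j (tE Q e3 f1))⁻¹ = f13 * t :=
    hz h3.uw.symm m31 (tE_comm q3 a4 p31)
  generalize f12 * t = a at *
  generalize f23 * t = b at *
  generalize f13 * t = c at *
  have hrel' : j (tE Q e1 f2) * j (tE Q e3 f1) * (j (tE Q e1 f2))⁻¹ = j (tE Q e3 f1) * j (tE Q e3 f2) := by
    rw [← map_mul, ← map_inv, ← map_mul, hrel, map_mul]
  generalize j (tE Q e1 f2) = x2 at *
  generalize j (tE Q e3 f1) = x1 at *
  generalize j (tE Q e3 f2) = x3 at *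
  have L1 : (x1 * x3) * a * (x1 * x3)⁻¹ = (a⁻¹ * b ^ m)⁻¹ * c ^ n := by
    have : (x1 * x3) * a * (x1 * x3)⁻¹ = x1 * (x3 * a * x3⁻¹) * x1⁻¹ := by group
    rw [this, r3]
    have e1 : x1 * (a⁻¹ * c ^ n) * x1⁻¹ = (x1 * a * x1⁻¹)⁻¹ * (x1 * c * x1⁻¹) ^ n := by rw [conj_zpow]; group
    rw [e1, r1, v1c]
  have L2 : (x2 * x1 * x2⁻¹) * a * (x2 * x1 * x2⁻¹)⁻¹ = a⁻¹ * (b⁻¹ * c ^ l) ^ m := by
    have e0 : x2⁻¹ * a * x2 = a := by
      have : a = x2⁻¹ * (x2 * a * x2⁻¹) * x2 := by group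
      rw [v2a] at this
      exact this.symm
    have : (x2 * x1 * x2⁻¹) * a * (x2 * x1 * x2⁻¹)⁻¹ = x2 * (x1 * (x2⁻¹ * a * x2) * x1⁻¹) * x2⁻¹ := by group
    rw [this, e0, r1]
    have e1 : x2 * (a⁻¹ * b ^ m) * x2⁻¹ = (x2 * a * x2⁻¹)⁻¹ * (x2 * b * x2⁻¹) ^ m := by rw [conj_zpow]; group
    rw [e1, v2a, r2]
  rw [hrel', L1] at L2
  have hcb : Commute b⁻¹ (c ^ l) := (hbc.zpow_right l).inv_left
  rw [hcb.mul_zpow, mul_inv_rev, inv_inv, ← zpow_mul] at L2
  -- `b^{-m} a c^n = a⁻¹ b^{-m} c^{lm}`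
  have e5 : a * a = c ^ (l * m - n) := by
    have hbm : Commute a (b ^ m) := hab.zpow_right m
    have hbm' : (b ^ m)⁻¹ * a = a * (b ^ m)⁻¹ := (hbm.inv_right).eq.symm
    have hcn : Commute c (c ^ n) := Commute.self_zpow c n
    have e6 : a⁻¹ * (b⁻¹ ^ m * c ^ (l * m)) = a⁻¹ * (b ^ m)⁻¹ * c ^ (l * m) := by rw [inv_zpow]; group
    rw [e6, hbm'] at L2
    have e7 : a⁻¹ * (b ^ m)⁻¹ = (b ^ m)⁻¹ * a⁻¹ := ((hbm.inv_right).inv_left).eq
    rw [e7] at L2
    have e8 : a * a = (b ^ m) * (a * (b ^ m)⁻¹ * c ^ n) * (c ^ n)⁻¹ * a := by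
      rw [← hbm']; group
    rw [e8, L2]
    have hca : Commute (c ^ (l * m) * (c ^ n)⁻¹) a :=
      ((hac.zpow_right (l * m)).mul_right ((hac.zpow_right n).inv_right)).symm
    calc b ^ m * ((b ^ m)⁻¹ * a⁻¹ * c ^ (l * m)) * (c ^ n)⁻¹ * a = a⁻¹ * ((c ^ (l * m) * (c ^ n)⁻¹) * a) := by group
      _ = a⁻¹ * (a * (c ^ (l * m) * (c ^ n)⁻¹)) := by rw [hca.eq]
      _ = _ := by rw [zpow_sub]; group
  obtain ⟨i, hi⟩ : Even (l * m - n) := (hl.mul hm).sub_odd hn
  rw [hi, hA2, ← two_mul, zpow_mul, zpow_two, hC2] at e5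
  -- `j (tE e1 e2) = j (tE e1 e3) ^ i`
  have e9 : ∀ i : ℤ, ∃ d : F, j (tE Q e1 e3) ^ i = j (tE Q e1 (d • e3)) := by
    intro i
    have hsq : j (tE Q e1 e3) * j (tE Q e1 e3) = 1 := by rw [← map_mul, tE_mul_self q1 p13, map_one]
    rcases Int.even_or_odd' i with ⟨i', rfl | rfl⟩
    · exact ⟨0, by rw [zpow_mul, zpow_two, hsq, one_zpow, zero_smul, tE_zero_right, map_one]⟩
    · exact ⟨1, by rw [zpow_add, zpow_mul, zpow_two, hsq, one_zpow, one_mul, zpow_one, one_smul]⟩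
  obtain ⟨d, hd⟩ := e9 i
  rw [hd] at e5
  obtain ⟨c', hc'⟩ := r_inj D hK q1 h3.uv.ne p12 (by rw [polar_smul_right, p13, smul_zero]) e5
  have := (h3.coeff (a := c') (b := 1) (c := -d) (by rw [neg_smul, hc']; module)).2.1
  exact one_ne_zero this

/-- `q = 2`: `V*_u` is additive. -/
theorem ad_two [CharP F 2] [FiniteDimensional F V] (hK : KFacts Q) (h2 : ∀ c : F, c = 0 ∨ c = 1)
    {e1 e2 e3 : V} (h3 : Ln3 Q e1 e2 e3) (u : V) : Ad Q t j W u := by
  rcases dich D hK h2 with h | h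
  · exact h u
  · exact (not_TAd D hK h2 h3 h).elim

/-- all `q` -/
theorem ad_all [CharP F 2] [FiniteDimensional F V] (hK : KFacts Q)
    {e1 e2 e3 : V} (h3 : Ln3 Q e1 e2 e3) (u : V) : Ad Q t j W u := by
  by_cases h2 : ∀ c : F, c = 0 ∨ c = 1
  · exact ad_two D hK h2 h3 u
  · push Not at h2
    exact ad_big D hK h2 u

end Cfsg.Agent.OddHalf.Orth.Star
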